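import Cfsg.Agent.LargeFischer.Orbits
import Cfsg.Agent.LargeExtra.OutExtra
import Cfsg.Agent.LargeExtra.FittingSetting
import Cfsg.Agent.LargeExtra.Symmetry
import Cfsg.Agent.Components.Misc.ExtraAction
import Cfsg.Prelude.Def_MonsterType

/-!
Orbits on the involutions of the large extraspecial subgroup in a group of large Fischer type.
-/

set_option autoImplicit false
set_option maxRecDepth 100000
set_option maxHeartbeats 1000000
set_option linter.unusedSectionVars false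
set_option linter.style.haveILetI false

namespace Cfsg.Lib.LargeFischer

open Subgroup Matrix QuadraticMap
open Cfsg.Lib.LargeExtra (X2 fitting_setting conj_norm mem_map_conj mem_conj_of_mem mem_zpowers_two exists_x2)
open Cfsg.Lib.LargeExtra.OutExtra
open scoped commutatorElement

universe u w

/-- A kernel of order three of a map onto a large simple group is central. -/
theorem central_of_card_three {X : Type u} [Group X] [Finite X] {S : Type w} [Group S] (ψ : X →* S)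
    (hψ : Function.Surjective ψ) [IsSimpleGroup S] (h3 : Nat.card ψ.ker = 3) (hX : 18 < Nat.card X) :
    ψ.ker ≤ center X := by
  haveI := Fintype.ofFinite ψ.ker
  let f : X →* MulAut ψ.ker := MulAut.conjNormal
  have hle : Nat.card (MulAut ψ.ker) ≤ 6 := by
    have h : Nat.card (MulAut ψ.ker) ≤ Nat.card (Equiv.Perm ψ.ker) :=
      Nat.card_le_card_of_injective (fun e : MulAut ψ.ker => e.toEquiv) fun a b h => MulEquiv.ext fun x => congrArg (fun e : Equiv.Perm ψ.ker => e x) h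
    rw [Nat.card_perm, h3] at h
    exact h.trans (by decide)
  haveI : (f.ker.map ψ).Normal := Subgroup.Normal.map inferInstance _ hψ
  rcases IsSimpleGroup.eq_bot_or_eq_top_of_normal (f.ker.map ψ) inferInstance with hb | ht
  · exfalso
    have h1 : Nat.card f.ker ≤ 3 := by
      rw [← h3]; exact card_le_of_le ((Subgroup.map_eq_bot_iff _).mp hb)
    have h2 : f.ker.index ≤ 6 := by
      rw [index_ker]; exact le_trans (Finite.card_subtype_le _) hle
    have h := f.ker.card_mul_index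
    have h12 := Nat.mul_le_mul h1 h2
    omega
  · intro k hk
    have hcomm : ∀ a ∈ ψ.ker, a * k = k * a := fun a ha => by
      haveI : IsCyclic ψ.ker := by
        haveI : Fact (Nat.Prime 3) := ⟨by norm_num⟩
        exact isCyclic_of_prime_card h3
      letI := IsCyclic.commGroup (α := ψ.ker)
      exact congrArg Subtype.val (mul_comm (⟨a, ha⟩ : ψ.ker) ⟨k, hk⟩)
    refine mem_center_iff.mpr fun g => ?_
    obtain ⟨c, hc, hcg⟩ := (ht ▸ mem_top (ψ g) : ψ g ∈ f.ker.map ψ)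
    have hck : c * k * c⁻¹ = k := congrArg (fun e : MulAut ψ.ker => ((e ⟨k, hk⟩ : ψ.ker) : X)) (MonoidHom.mem_ker.mp hc)
    have ha : c⁻¹ * g ∈ ψ.ker := by rw [MonoidHom.mem_ker, map_mul, map_inv, hcg, inv_mul_cancel]
    rw [show g = c * (c⁻¹ * g) by group, mul_assoc, hcomm _ ha, ← mul_assoc, mul_inv_eq_iff_eq_mul.mp hck, mul_assoc]

theorem isExtraspecial_congr {A B : Type u} [Group A] [Group B] (f : A ≃* B) (h : Cfsg.IsExtraspecial 2 A) :
    Cfsg.IsExtraspecial 2 B := by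
  obtain ⟨⟨hp, hf, hd⟩, hc⟩ := h
  have hcen : (center A).map f.toMonoidHom = center B := by
    ext x
    obtain ⟨a, rfl⟩ := f.surjective x
    rw [show (f a ∈ (center A).map f.toMonoidHom) ↔ a ∈ center A from
      Subgroup.mem_map_iff_mem (f := f.toMonoidHom) f.injective, mem_center_iff, mem_center_iff]
    refine ⟨fun h y => ?_, fun h y => f.injective ?_⟩
    · obtain ⟨b, rfl⟩ := f.surjective y
      rw [← map_mul, ← map_mul, h b]
    · rw [map_mul, map_mul, h (f y)]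
  have hder : (_root_.commutator A).map f.toMonoidHom = _root_.commutator B := by
    rw [_root_.commutator_def, _root_.commutator_def, Subgroup.map_commutator,
      Subgroup.map_top_of_surjective f.toMonoidHom f.surjective]
  have hfr : (frattini A).map f.toMonoidHom = frattini B := by
    refine le_antisymm (Subgroup.map_le_iff_le_comap.2 (frattini_le_comap_frattini_of_surjective f.surjective)) ?_
    have h := frattini_le_comap_frattini_of_surjective (φ := f.symm.toMonoidHom) f.symm.surjective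
    intro x hx
    exact ⟨f.symm x, h hx, f.apply_symm_apply x⟩
  refine ⟨⟨hp.of_equiv f, by rw [← hfr, hf, hcen], by rw [← hder, hd, hcen]⟩, ?_⟩
  rw [← hcen, ← hc]
  exact (Nat.card_congr (f.subgroupMap (center A)).toEquiv).symm

theorem zmod2_dbl : ∀ r : ZMod 2, r + r = 0 := by decide

variable {G : Type u} [Group G] [Finite G]

section Rep

variable {C : Type u} [Group C] [Finite C] (Q : Subgroup C) [Q.Normal] {zq : ↥Q} {ι : Type} [Fintype ι] [DecidableEq ι]
  {T : QuadraticForm (ZMod 2) (ι → ZMod 2)} (D : Coord zq T)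

/-- The action on `Q` modulo its centre. -/
noncomputable def rep : C →* Equiv.Perm (ι → ZMod 2) :=
  MonoidHom.mk' (fun c =>
    { toFun := D.lin (MulAut.conjNormal c)
      invFun := D.lin (MulAut.conjNormal c⁻¹)
      left_inv := fun v => by
        obtain ⟨x, rfl⟩ := D.surj v
        rw [D.lin_apply, D.lin_apply, ← MulAut.mul_apply, ← map_mul, inv_mul_cancel, map_one]; rfl
      right_inv := fun v => by
        obtain ⟨x, rfl⟩ := D.surj v
        rw [D.lin_apply, D.lin_apply, ← MulAut.mul_apply, ← map_mul, mul_inv_cancel, map_one]; rfl })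
    fun a b => Equiv.ext fun v => by
      obtain ⟨x, rfl⟩ := D.surj v
      show D.lin (MulAut.conjNormal (a * b)) (D.π x) = D.lin _ (D.lin _ (D.π x))
      rw [D.lin_apply, D.lin_apply, D.lin_apply, map_mul]; rfl

theorem rep_apply (c : C) (x : ↥Q) : rep Q D c (D.π x) = D.π (MulAut.conjNormal c x) := D.lin_apply _ _

theorem rep_add (c : C) (a b : ι → ZMod 2) : rep Q D c (a + b) = rep Q D c a + rep Q D c b := map_add (D.lin _) a b

theorem rep_q (c : C) (a : ι → ZMod 2) : T (rep Q D c a) = T a := by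
  obtain ⟨x, rfl⟩ := D.surj a
  rw [rep_apply, D.hT, D.hT, D.sq_aut]

theorem rep_ker (hC : centralizer (Q : Set C) ≤ Q) : (rep Q D).ker = Q := by
  ext c
  constructor
  · intro hc
    have h : MulAut.conjNormal c ∈ D.toIso.ker := by
      refine MonoidHom.mem_ker.mpr (Subtype.ext (Units.ext (Matrix.toLin'.injective (LinearMap.ext fun v => ?_))))
      obtain ⟨x, rfl⟩ := D.surj v
      rw [Matrix.toLin'_apply, Matrix.toLin'_apply]
      refine (D.mulVec_eq _ x).trans ?_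
      rw [← rep_apply, MonoidHom.mem_ker.mp hc]
      simp
    rw [D.toIso_ker] at h
    obtain ⟨a, ha⟩ := h
    have h2 : (a : C)⁻¹ * c ∈ Q := hC (mem_centralizer_iff.mpr fun x hx => by
      have e := congrArg (fun e : MulAut ↥Q => ((e ⟨x, hx⟩ : ↥Q) : C)) ha
      simp [MulAut.conjNormal_apply] at e
      have : x = (a : C)⁻¹ * c * x * ((a : C)⁻¹ * c)⁻¹ := by
        rw [show (a : C)⁻¹ * c * x * ((a : C)⁻¹ * c)⁻¹ = (a : C)⁻¹ * (c * x * c⁻¹) * a by group, ← e]; group
      exact (eq_mul_inv_iff_mul_eq.mp this))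
    have h3 := mul_mem a.2 h2
    rwa [mul_inv_cancel_left] at h3
  · intro hc
    refine MonoidHom.mem_ker.mpr (Equiv.ext fun v => ?_)
    obtain ⟨x, rfl⟩ := D.surj v
    rw [rep_apply, show MulAut.conjNormal c x = (⟨c, hc⟩ : ↥Q) * x * (⟨c, hc⟩ : ↥Q)⁻¹ from
      Subtype.ext (by rw [MulAut.conjNormal_apply]; rfl), D.mul, D.mul, D.π_inv]
    simp

include D in
theorem card_coord (h13 : Nat.card ↥Q = 2 ^ 13) : Nat.card (ι → ZMod 2) = 4096 := by
  let f : ↥Q →* Multiplicative (ι → ZMod 2) := MonoidHom.mk' (fun x => Multiplicative.ofAdd (D.π x)) fun x y => by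
    rw [D.mul]; rfl
  have hk : f.ker = center ↥Q := by ext x; exact D.ker x
  have hs : Function.Surjective f := fun v => by
    obtain ⟨x, hx⟩ := D.surj v.toAdd
    exact ⟨x, congrArg Multiplicative.ofAdd hx⟩
  have h := Nat.card_congr (QuotientGroup.quotientKerEquivOfSurjective f hs).toEquiv
  have h2 := card_eq_card_quotient_mul_card_subgroup f.ker
  rw [h, h13, hk, D.es.cen, Nat.card_zpowers, D.es.ord] at h2
  rw [← Nat.card_congr Multiplicative.toAdd]
  omega

end Rep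

theorem card_centralizing {P : Subgroup G} {z z' : G} (h : X2 P z') (hz : z ∈ P) :
    Nat.card ↥P ≤ 2 * Nat.card ↥(P ⊓ centralizer ({z} : Set G)) := by
  classical
  by_cases hall : ∀ q ∈ P, Commute q z
  · rw [inf_of_le_left fun q hq => mem_centralizer_singleton_iff.mpr (hall q hq).eq]; omega
  push Not at hall
  obtain ⟨q₀, hq₀, hq₀z⟩ := hall
  let f : ↥P → ↥(P ⊓ centralizer ({z} : Set G)) × Bool := fun q =>
    if hc : Commute (q : G) z then (⟨q, q.2, mem_centralizer_singleton_iff.mpr hc.eq⟩, true)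
    else (⟨q * q₀, mul_mem q.2 hq₀, mem_centralizer_singleton_iff.mpr (h.commute_mul q.2 hq₀ hz hc hq₀z).eq⟩, false)
  have hf : Function.Injective f := fun a b e => by
    simp only [f] at e
    split_ifs at e with ha hb hb <;> simp only [Prod.mk.injEq, Bool.true_eq_false, Bool.false_eq_true, and_false, and_true] at e
    · exact Subtype.ext (congrArg (fun w : ↥(P ⊓ centralizer ({z} : Set G)) => (w : G)) e)
    · exact Subtype.ext (mul_right_cancel (congrArg (fun w : ↥(P ⊓ centralizer ({z} : Set G)) => (w : G)) e))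
  have := Nat.card_le_card_of_injective f hf
  rw [Nat.card_prod] at this
  simpa [mul_comm] using this

theorem abelian_bound {C : Type u} [Group C] [Finite C] {Q : Subgroup C} (hE : Cfsg.IsExtraspecial 2 ↥Q)
    (hcard : Nat.card ↥Q = 2 ^ 13) {D : Subgroup C} (hD : D ≤ Q) (hcomm : ∀ a ∈ D, ∀ b ∈ D, a * b = b * a) :
    Nat.card ↥D ≤ 2 ^ 7 := by
  haveI : Fact (Nat.Prime 2) := ⟨Nat.prime_two⟩
  set D' := D.subgroupOf Q
  have h1 := Cfsg.Lib.ExtraAction.mul_card_mono hE _ D' ⊤ le_top le_rfl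
  rw [coe_top, centralizer_univ, card_top, hE.2, hcard] at h1
  have h2 : D' ≤ centralizer (D' : Set ↥Q) := fun a ha => mem_centralizer_iff.mpr fun b hb =>
    Subtype.ext (hcomm _ hb _ ha)
  have h3 := (Nat.mul_le_mul_left (Nat.card D') (card_le_of_le h2)).trans h1
  rw [Nat.card_congr (subgroupOfEquivOfLe hD).toEquiv] at h3
  by_contra hlt
  push Not at hlt
  have := Nat.mul_lt_mul_of_lt_of_lt hlt hlt
  norm_num at this h3
  omega

/-- A two-subgroup normalised by a copy of the alternating group of degree six meets it trivially. -/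
theorem disjoint_alt {P : Type u} [Group P] [Finite P] (R L : Subgroup P) (h2 : IsPGroup 2 ↥R)
    (hL : Nonempty (↥L ≃* alternatingGroup (Fin 6))) (hn : L ≤ normalizer (R : Set P)) :
    R ⊓ L = ⊥ ∧ Nat.card ↥(R ⊔ L) = Nat.card ↥R * 360 := by
  haveI : Fact (Nat.Prime 2) := ⟨Nat.prime_two⟩
  obtain ⟨eA⟩ := hL
  haveI hLs : IsSimpleGroup ↥L := by
    haveI : IsSimpleGroup (alternatingGroup (Fin 6)) := alternatingGroup.isSimpleGroup (by simp)
    exact eA.isSimpleGroup
  have hLc : Nat.card ↥L = 360 := by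
    rw [Nat.card_congr eA.toEquiv, nat_card_alternatingGroup, Nat.card_fin]; rfl
  have hbot : R ⊓ L = ⊥ := by
    haveI : ((R ⊓ L).subgroupOf L).Normal := ⟨fun a ha l => by
      rw [mem_subgroupOf] at ha ⊢
      exact ⟨(mem_normalizer_iff.mp (hn l.2) _).mp ha.1, (l * a * l⁻¹).2⟩⟩
    rcases IsSimpleGroup.eq_bot_or_eq_top_of_normal ((R ⊓ L).subgroupOf L) inferInstance with h | h
    · rwa [subgroupOf_eq_bot, disjoint_iff, inf_assoc, inf_idem] at h
    · exfalso
      have hle : L ≤ R := (subgroupOf_eq_top.mp h).trans inf_le_left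
      obtain ⟨n, hn'⟩ := IsPGroup.iff_card.mp (h2.to_le hle)
      have h5 : (5 : ℕ) ∣ 2 ^ n := by rw [← hn', hLc]; norm_num
      exact absurd ((Nat.prime_dvd_prime_iff_eq Nat.prime_five Nat.prime_two).mp (Nat.prime_five.dvd_of_dvd_pow h5))
        (by norm_num)
  refine ⟨hbot, ?_⟩
  let f : ↥R × ↥L → ↥(R ⊔ L) := fun p => ⟨p.1 * p.2, mul_mem (mem_sup_left p.1.2) (mem_sup_right p.2.2)⟩
  have hf : Function.Bijective f := by
    constructor
    · intro a b e
      exact mul_injective_of_disjoint (disjoint_iff.mpr hbot) (congrArg Subtype.val e)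
    · rintro ⟨x, hx⟩
      rw [sup_comm, ← SetLike.mem_coe, coe_mul_of_left_le_normalizer_right L R hn] at hx
      obtain ⟨l, hl, r, hr, rfl⟩ := hx
      exact ⟨(⟨l * r * l⁻¹, (mem_normalizer_iff.mp (hn hl) r).mp hr⟩, ⟨l, hl⟩), Subtype.ext (inv_mul_cancel_right _ _)⟩
  rw [← Nat.card_eq_of_bijective f hf, Nat.card_prod, hLc]

variable (z : G) (Q : Subgroup (centralizer ({z} : Set G))) [Q.Normal]

/-- The data attached to a group of large Fischer type. -/
structure Ctx where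
  ι : Type
  [fι : Fintype ι]
  [dι : DecidableEq ι]
  zq : ↥Q
  T : QuadraticForm (ZMod 2) (ι → ZMod 2)
  D : Coord zq T
  M : Subgroup ↥(centralizer ({z} : Set G))
  Mn : M.Normal
  QM : Q ≤ M
  Mi : M.index = 2
  Mcard : Nat.card ↥M = 3 * 2 ^ 13 * 3265920
  X2g : X2 (Q.map (centralizer ({z} : Set G)).subtype) z
  CQ : centralizer ((Q.map (centralizer ({z} : Set G)).subtype : Subgroup G) : Set G) ≤
    Q.map (centralizer ({z} : Set G)).subtype
  CN : centralizer ({z} : Set G) ≤ normalizer ((Q.map (centralizer ({z} : Set G)).subtype : Subgroup G) : Set G)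
  hE : Cfsg.IsExtraspecial 2 ↥Q
  card : Nat.card ↥Q = 2 ^ 13
  zv : ((zq : ↥(centralizer ({z} : Set G))) : G) = z
  ker : (rep Q D).ker = Q
  S : Type
  [gS : Group S]
  F : FSetting ↥((rep Q D).comp M.subtype).range S (ι → ZMod 2)
  Fq : F.q = ⇑T
  Fρ : F.ρ = ((rep Q D).comp M.subtype).range.subtype
  Ssimple : IsSimpleGroup S
  Scard : Nat.card S = 3265920

attribute [instance] Ctx.fι Ctx.dι Ctx.gS

variable {z Q}

/-- The data exist. -/
theorem exists_ctx (hF : Cfsg.IsOfLargeFischerTypeAt z Q) : Nonempty (Ctx z Q) := by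
  classical
  obtain ⟨⟨hz, hFQ, hE, hcard, -⟩, N, M, hNn, hMn, hQN, hNM, hN, ⟨K, _, _, hK, ⟨e⟩⟩, hM⟩ := hF
  haveI := hNn
  haveI := hMn
  obtain ⟨⟨R0⟩, hS, hScard⟩ := exists_radical hK
  haveI := hS
  set Qg := Q.map (centralizer ({z} : Set G)).subtype with hQg
  have eQg : ↥Q ≃* ↥Qg := Q.equivMapOfInjective (centralizer ({z} : Set G)).subtype (centralizer ({z} : Set G)).subtype_injective
  have hEg : Cfsg.IsExtraspecial 2 ↥Qg := isExtraspecial_congr eQg hE
  obtain ⟨hX, hCQ, hCN, -⟩ := fitting_setting hz (Q := Qg) (map_subtype_le Q) (by rw [hFQ]) hEg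
  have hcardg : Nat.card ↥Qg = 2 ^ 13 := by rw [← Nat.card_congr eQg.toEquiv, hcard]
  have hCQ' : centralizer (Q : Set (centralizer ({z} : Set G))) ≤ Q := hFQ ▸ Cfsg.Lib.Components.centralizer_genFitting_le (G := ↥(centralizer ({z} : Set G)))
  obtain ⟨zq, hzq⟩ := exists_coord hE hcard
  obtain ⟨ι, _, _, T, ⟨D⟩⟩ : ∃ (ι : Type) (_ : Fintype ι) (_ : DecidableEq ι) (T : QuadraticForm (ZMod 2) (ι → ZMod 2)),
      Nonempty (Coord zq T) := by
    rcases hzq with h | ⟨-, h⟩ <;> exact ⟨_, _, _, _, h⟩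
  have hzv : ((zq : (centralizer ({z} : Set G))) : G) = z := by
    refine (hX.cen _ ⟨_, zq.2, rfl⟩ fun a ha => ?_).resolve_left fun e => D.es.z_ne_one (Subtype.ext (Subtype.ext e))
    obtain ⟨a', ha', rfl⟩ := ha
    have h := mem_center_iff.mp (D.es.cen.symm ▸ mem_zpowers zq : zq ∈ center ↥Q) ⟨a', ha'⟩
    exact congrArg (fun x : ↥Q => ((x : (centralizer ({z} : Set G))) : G)) h
  haveI : Fact (Nat.Prime 2) := ⟨Nat.prime_two⟩
  -- the representation
  set ρ := rep Q D with hρ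
  have hker : ρ.ker = Q := rep_ker Q D hCQ'
  let ψ0 : ↥M →* Cfsg.PSU 4 K 3 := e.toMonoidHom.comp (QuotientGroup.mk' (N.subgroupOf M))
  have hψ0 : Function.Surjective ψ0 := e.surjective.comp (QuotientGroup.mk'_surjective _)
  let ρM : ↥M →* Equiv.Perm (ι → ZMod 2) := ρ.comp M.subtype
  let X := ρM.range
  have hkM : ρM.rangeRestrict.ker ≤ ψ0.ker := fun m hm => by
    have : (m : (centralizer ({z} : Set G))) ∈ Q := hker ▸ (congrArg Subtype.val hm : ρ (m : (centralizer ({z} : Set G))) = 1)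
    show e (QuotientGroup.mk m) = 1
    rw [(QuotientGroup.eq_one_iff m).mpr (show (m : (centralizer ({z} : Set G))) ∈ N from hQN this), map_one]
  let ψ : ↥X →* Cfsg.PSU 4 K 3 := ρM.rangeRestrict.liftOfSurjective ρM.rangeRestrict_surjective ⟨ψ0, hkM⟩
  have hψm : ∀ m, ψ (ρM.rangeRestrict m) = ψ0 m := fun m => ρM.rangeRestrict.liftOfRightInverse_comp_apply _ _ _ m
  have hψ : Function.Surjective ψ := fun y => by
    obtain ⟨m, rfl⟩ := hψ0 y
    exact ⟨_, hψm m⟩
  have hMcard : Nat.card ↥M = 3 * 2 ^ 13 * 3265920 := by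
    have h := card_eq_card_quotient_mul_card_subgroup (N.subgroupOf M)
    rw [Nat.card_congr (subgroupOfEquivOfLe hNM).toEquiv, hN, hcard, Nat.card_congr e.toEquiv, hScard] at h
    rw [h, mul_comm]
  have hXcard : Nat.card ↥X = 9797760 := by
    have hk : ρM.ker = Q.subgroupOf M := by rw [← MonoidHom.comap_ker, hker]; rfl
    have h := card_eq_card_quotient_mul_card_subgroup ρM.ker
    rw [Nat.card_congr (QuotientGroup.quotientKerEquivRange ρM).toEquiv, hMcard, hk,
      Nat.card_congr (subgroupOfEquivOfLe (hQN.trans hNM)).toEquiv, hcard] at h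
    refine Nat.eq_of_mul_eq_mul_right (Nat.two_pow_pos 13) (h.symm.trans ?_)
    norm_num
  have hψker : Nat.card ψ.ker = 3 := by
    have h := card_eq_card_quotient_mul_card_subgroup ψ.ker
    rw [Nat.card_congr (QuotientGroup.quotientKerEquivOfSurjective ψ hψ).toEquiv, hScard, hXcard] at h
    exact Nat.eq_of_mul_eq_mul_left (by norm_num : (0 : ℕ) < 3265920) (h.symm.trans (by norm_num))
  let E : CentralThree ↥X (Cfsg.PSU 4 K 3) :=
    { ψ := ψ, surj := hψ, card := hψker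
      central := central_of_card_three ψ hψ hψker (by rw [hXcard]; norm_num)
      R := R0 }
  let F : FSetting ↥X (Cfsg.PSU 4 K 3) (ι → ZMod 2) :=
    { E := E
      q := T
      B := fun a b => polar (⇑T) a b
      dbl := fun v => funext fun i => zmod2_dbl (v i)
      q_add := fun a b => by simp [polar]
      B_add := fun a b c => QuadraticMap.polar_add_left T a b c
      nondeg := fun a ha => D.nondeg.1 a ha
      ρ := X.subtype
      ρ_add := by
        rintro ⟨g, m, rfl⟩ a b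
        exact rep_add Q D (m : (centralizer ({z} : Set G))) a b
      ρ_q := by
        rintro ⟨g, m, rfl⟩ a
        exact rep_q Q D (m : (centralizer ({z} : Set G))) a
      ρ_inj := X.subtype_injective
      cardV := card_coord Q D hcard
      cardX := hXcard }
  exact ⟨{
    ι := ι, zq := zq, T := T, D := D, M := M, Mn := hMn, QM := hQN.trans hNM, Mi := hM, Mcard := hMcard
    X2g := hX, CQ := hCQ, CN := hCN, hE := hE, card := hcard, zv := hzv, ker := hker
    S := Cfsg.PSU 4 K 3, F := F, Fq := rfl, Fρ := rfl, Ssimple := hS, Scard := hScard }⟩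

namespace Ctx

variable (c : Ctx z Q)


/-- The image of an element of `Q`. -/
def pt (x : ↥Q) : c.ι → ZMod 2 := c.D.π x

theorem act (g : ↥(centralizer ({z} : Set G))) (x : ↥Q) : rep Q c.D g (c.pt x) = c.pt (MulAut.conjNormal g x) := rep_apply Q c.D g x

theorem lift (v : c.ι → ZMod 2) (hv : c.F.q v = 0) (hv0 : v ≠ 0) :
    ∃ x : ↥Q, c.pt x = v ∧ orderOf (x : ↥(centralizer ({z} : Set G))) = 2 ∧ ((x : ↥(centralizer ({z} : Set G))) : G) ≠ z := by
  haveI : Fact (Nat.Prime 2) := ⟨Nat.prime_two⟩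
  obtain ⟨x, rfl⟩ := c.D.surj v
  rw [c.Fq] at hv
  have hx1 : x * x = 1 := by rw [mul_self_eq c.D.es, ← c.D.hT, hv, Cfsg.Lib.ExtraOut.pw_zero]
  refine ⟨x, rfl, orderOf_eq_prime (by rw [pow_two]; exact congrArg Subtype.val hx1) fun e => hv0 ?_, fun e => hv0 ?_⟩
  · rw [show x = 1 from Subtype.ext e, c.D.π_one]
  · rw [show x = c.zq from Subtype.ext (Subtype.ext (e.trans c.zv.symm)), c.D.π_z]

theorem sing {x : ↥(centralizer ({z} : Set G))} (hxQ : x ∈ Q) (hx2 : orderOf x = 2) (hxz : (x : G) ≠ z) :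
    c.F.q (c.pt ⟨x, hxQ⟩) = 0 ∧ c.pt ⟨x, hxQ⟩ ≠ 0 := by
  have hx1 : x ≠ 1 := fun e => by rw [e, orderOf_one] at hx2; norm_num at hx2
  refine ⟨?_, fun e => ?_⟩
  · rw [c.Fq, pt, c.D.hT]
    exact if_pos (Subtype.ext (by show x * x = 1; rw [← pow_two, ← hx2, pow_orderOf_eq_one]))
  · rcases center_cases c.D.es ((c.D.ker ⟨x, hxQ⟩).mp e) with r | r
    · exact hx1 (congrArg Subtype.val r)
    · exact hxz ((congrArg (fun w : ↥Q => ((w : ↥(centralizer ({z} : Set G))) : G)) r).trans c.zv)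

theorem swap (x y : ↥Q) (he : c.pt x = c.pt y) (hxz : ((x : ↥(centralizer ({z} : Set G))) : G) ≠ z) (hx1 : (x : ↥(centralizer ({z} : Set G))) ≠ 1) :
    ∃ q : ↥(centralizer ({z} : Set G)), q ∈ Q ∧ q * x * q⁻¹ = y := by
  rcases center_cases c.D.es (c.D.eq_iff.mp he) with h | h
  · exact ⟨1, one_mem _, by rw [one_mul, inv_one, mul_one, inv_mul_eq_one.mp h]⟩
  · obtain ⟨q, ⟨q', hq', rfl⟩, hqx⟩ := c.X2g.exists_swap (x := ((x : ↥(centralizer ({z} : Set G))) : G)) ⟨_, x.2, rfl⟩ (fun hx => by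
      rcases (mem_zpowers_two c.X2g.zz).mp hx with e | e
      · exact hx1 (Subtype.ext e)
      · exact hxz e)
    refine ⟨q', hq', Subtype.ext (hqx.trans ?_)⟩
    rw [inv_mul_eq_iff_eq_mul] at h
    rw [h, Subgroup.coe_mul, Subgroup.coe_mul, c.zv]
    exact (c.X2g.central _ ⟨_, x.2, rfl⟩).eq.symm

include c in
theorem conj_ne (g : ↥(centralizer ({z} : Set G))) {x : ↥Q} (hxz : ((x : ↥(centralizer ({z} : Set G))) : G) ≠ z) (hx1 : (x : ↥(centralizer ({z} : Set G))) ≠ 1) :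
    ((MulAut.conjNormal g x : ↥Q) : ↥(centralizer ({z} : Set G))) ≠ 1 ∧ (((MulAut.conjNormal g x : ↥Q) : ↥(centralizer ({z} : Set G))) : G) ≠ z := by
  refine ⟨fun e => hx1 ?_, fun e => hxz ?_⟩
  · rw [MulAut.conjNormal_apply] at e
    exact conj_eq_one_iff.mp e
  · have h := congrArg (fun w : G => (g : G)⁻¹ * w * (g : G)) e
    simp [MulAut.conjNormal_apply, mul_assoc] at h
    rw [h, ← mem_centralizer_singleton_iff.mp g.2, inv_mul_cancel_left]

theorem conj_of_rep (g : ↥(centralizer ({z} : Set G))) (x y : ↥Q) (he : rep Q c.D g (c.pt x) = c.pt y) (hxz : ((x : ↥(centralizer ({z} : Set G))) : G) ≠ z)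
    (hx1 : (x : ↥(centralizer ({z} : Set G))) ≠ 1) : ∃ h : ↥(centralizer ({z} : Set G)), h * x * h⁻¹ = y ∧ rep Q c.D h = rep Q c.D g ∧ (g ∈ c.M → h ∈ c.M) := by
  obtain ⟨q, hq, hq'⟩ := c.swap _ _ ((c.act g x).symm.trans he) (c.conj_ne g hxz hx1).2 (c.conj_ne g hxz hx1).1
  refine ⟨q * g, by rw [← hq', MulAut.conjNormal_apply]; group, ?_, fun hg => mul_mem (c.QM hq) hg⟩
  rw [map_mul, MonoidHom.mem_ker.mp (c.ker.symm ▸ hq : q ∈ (rep Q c.D).ker), one_mul]

theorem conj_of_orb {x y : ↥Q} (h : c.pt y ∈ c.F.orb (c.pt x)) (hxz : ((x : ↥(centralizer ({z} : Set G))) : G) ≠ z) (hx1 : (x : ↥(centralizer ({z} : Set G))) ≠ 1) :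
    ∃ g : ↥(centralizer ({z} : Set G)), g * x * g⁻¹ = y := by
  obtain ⟨⟨_, m, rfl⟩, hg⟩ := h
  rw [c.Fρ] at hg
  obtain ⟨g, hg', -⟩ := c.conj_of_rep (m : ↥(centralizer ({z} : Set G))) x y hg hxz hx1
  exact ⟨g, hg'⟩

/-- The part of a conjugate of `Q` inside the centralizer. -/
def RC (_ : Ctx z Q) (g : G) : Subgroup ↥(centralizer ({z} : Set G)) :=
  ((Q.map (centralizer ({z} : Set G)).subtype).map (MulAut.conj g).toMonoidHom ⊓ centralizer ({z} : Set G)).subgroupOf
    (centralizer ({z} : Set G))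

theorem mem_RC {g : G} {r : ↥(centralizer ({z} : Set G))} (hr : r ∈ c.RC g) :
    (r : G) ∈ (Q.map (centralizer ({z} : Set G)).subtype).map (MulAut.conj g).toMonoidHom := hr.1

theorem RC_card {g : G} {x : ↥Q} (hg : g * z * g⁻¹ = ((x : ↥(centralizer ({z} : Set G))) : G)) (hxz : ((x : ↥(centralizer ({z} : Set G))) : G) ≠ z) :
    Nat.card ↥(c.RC g) = 2 ^ 12 := by
  haveI : Fact (Nat.Prime 2) := ⟨Nat.prime_two⟩
  set Qg := Q.map (centralizer ({z} : Set G)).subtype with hQg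
  have hcardg : Nat.card ↥Qg = 2 ^ 13 := by
    rw [hQg, card_map_of_injective (centralizer ({z} : Set G)).subtype_injective, c.card]
  have hzQ' : g⁻¹ * z * g ∈ Qg := mem_conj_of_mem c.X2g c.CQ c.CN (by rw [hcardg]; norm_num)
    (by rw [hg]; exact ⟨_, x.2, rfl⟩) (by rw [hg]; exact hxz)
  have hX' : X2 (Qg.map (MulAut.conj g).toMonoidHom) ((x : ↥(centralizer ({z} : Set G))) : G) := hg ▸ c.X2g.conj g
  set Q' := Qg.map (MulAut.conj g).toMonoidHom with hQ'
  have hQ'card : Nat.card ↥Q' = 2 ^ 13 := by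
    rw [hQ', card_map_of_injective (MulAut.conj g).injective, hcardg]
  have hge := card_centralizing hX' (mem_map_conj.mpr hzQ')
  have hne : Q' ⊓ centralizer ({z} : Set G) ≠ Q' := fun e => by
    rcases hX'.cen z (mem_map_conj.mpr hzQ') (fun a ha => mem_centralizer_singleton_iff.mp (e.ge ha).2) with h | h
    · exact c.X2g.ne h
    · exact hxz h.symm
  have hd := card_dvd_of_le (inf_le_left : Q' ⊓ centralizer ({z} : Set G) ≤ Q')
  rw [hQ'card] at hd hge
  obtain ⟨n, hn, hn'⟩ := (Nat.dvd_prime_pow Nat.prime_two).mp hd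
  show Nat.card ↥((Q' ⊓ centralizer ({z} : Set G)).subgroupOf (centralizer ({z} : Set G))) = _
  rw [Nat.card_congr (subgroupOfEquivOfLe (inf_le_right : Q' ⊓ centralizer ({z} : Set G) ≤ _)).toEquiv, hn']
  rw [hn'] at hge
  have h13 : n ≠ 13 := fun e => hne (eq_of_le_of_card_ge inf_le_left (by rw [hQ'card, hn', e]))
  congr 1
  interval_cases n <;> first | omega | norm_num at hge

theorem RC_inter {g : G} {x : ↥Q} (hg : g * z * g⁻¹ = ((x : ↥(centralizer ({z} : Set G))) : G)) (hxz : ((x : ↥(centralizer ({z} : Set G))) : G) ≠ z) :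
    Nat.card ↥(c.RC g ⊓ Q) ≤ 2 ^ 7 ∧ ∀ a ∈ c.RC g ⊓ Q, ∀ b ∈ c.RC g ⊓ Q, a * b = b * a := by
  have hX' : X2 ((Q.map (centralizer ({z} : Set G)).subtype).map (MulAut.conj g).toMonoidHom) ((x : ↥(centralizer ({z} : Set G))) : G) :=
    hg ▸ c.X2g.conj g
  have hcomm : ∀ a ∈ c.RC g ⊓ Q, ∀ b ∈ c.RC g ⊓ Q, a * b = b * a := fun a ha b hb => Subtype.ext (by
    show (a : G) * (b : G) = (b : G) * (a : G)
    have h1 := c.X2g.comm _ ⟨a, ha.2, rfl⟩ _ ⟨b, hb.2, rfl⟩
    have h2 := hX'.comm _ (c.mem_RC ha.1) _ (c.mem_RC hb.1)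
    refine commutatorElement_eq_one_iff_mul_comm.mp (h1.resolve_right fun e1 => ?_)
    rcases h2 with e2 | e2
    · exact c.X2g.ne (e1.symm.trans e2)
    · exact hxz (e2.symm.trans e1))
  exact ⟨abelian_bound c.hE c.card inf_le_right hcomm, hcomm⟩

theorem RC_isP (g : G) : IsPGroup 2 ↥(c.RC g) :=
  (((c.X2g.conj g).isP).to_le inf_le_left).comap_subtype

theorem RC_conj {g : G} {x : ↥Q} (hg : g * z * g⁻¹ = ((x : ↥(centralizer ({z} : Set G))) : G)) {h r : ↥(centralizer ({z} : Set G))} (hh : h * (x : ↥(centralizer ({z} : Set G))) * h⁻¹ = (x : ↥(centralizer ({z} : Set G))))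
    (hr : r ∈ c.RC g) : h * r * h⁻¹ ∈ c.RC g := by
  have hcs : (h : G) ∈ centralizer ({((x : ↥(centralizer ({z} : Set G))) : G)} : Set G) :=
    mem_centralizer_singleton_iff.mpr (congrArg Subtype.val (mul_inv_eq_iff_eq_mul.mp hh))
  rw [← hg] at hcs
  exact ⟨(mem_normalizer_iff.mp (conj_norm c.CN g hcs) _).mp hr.1, (h * r * h⁻¹ : ↥(centralizer ({z} : Set G))).2⟩

theorem RC_fix {g : G} {x : ↥Q} (hg : g * z * g⁻¹ = ((x : ↥(centralizer ({z} : Set G))) : G)) {r : ↥(centralizer ({z} : Set G))} (hr : r ∈ c.RC g) :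
    r * (x : ↥(centralizer ({z} : Set G))) * r⁻¹ = (x : ↥(centralizer ({z} : Set G))) := by
  have hX' : X2 ((Q.map (centralizer ({z} : Set G)).subtype).map (MulAut.conj g).toMonoidHom) ((x : ↥(centralizer ({z} : Set G))) : G) :=
    hg ▸ c.X2g.conj g
  exact Subtype.ext (mul_inv_eq_iff_eq_mul.mpr (hX'.central _ (c.mem_RC hr)).eq)

/-- The image of a group fixing a point normalises the image of `RC`. -/
theorem normalises {g : G} {x : ↥Q} (hg : g * z * g⁻¹ = ((x : ↥(centralizer ({z} : Set G))) : G)) (hxz : ((x : ↥(centralizer ({z} : Set G))) : G) ≠ z)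
    (hx1 : (x : ↥(centralizer ({z} : Set G))) ≠ 1) {m : ↥(centralizer ({z} : Set G))} (hm : m ∈ c.M) (hfix : rep Q c.D m (c.pt x) = c.pt x) :
    rep Q c.D m ∈ normalizer (((c.RC g).map (rep Q c.D) : Subgroup (Equiv.Perm (c.ι → ZMod 2))) : Set _) ∧
      rep Q c.D m ∈ normalizer (((c.RC g ⊓ c.M).map (rep Q c.D) : Subgroup (Equiv.Perm (c.ι → ZMod 2))) : Set _) := by
  haveI := c.Mn
  obtain ⟨h, hh, hρ, -⟩ := c.conj_of_rep m x x hfix hxz hx1
  rw [← hρ]
  have hh' : h⁻¹ * (x : ↥(centralizer ({z} : Set G))) * h⁻¹⁻¹ = (x : ↥(centralizer ({z} : Set G))) := by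
    rw [inv_inv]; conv_lhs => rw [← hh]
    group
  constructor
  · refine Cfsg.Lib.Coprime.mem_normalizer_of_conj_mem ?_ ?_
    · rintro _ ⟨r, hr, rfl⟩
      exact ⟨_, c.RC_conj hg hh hr, by rw [map_mul, map_mul, map_inv]⟩
    · rintro _ ⟨r, hr, rfl⟩
      exact ⟨_, c.RC_conj hg hh' hr, by simp only [map_mul, map_inv, inv_inv]⟩
  · refine Cfsg.Lib.Coprime.mem_normalizer_of_conj_mem ?_ ?_
    · rintro _ ⟨r, hr, rfl⟩
      exact ⟨_, ⟨c.RC_conj hg hh hr.1, c.Mn.conj_mem r hr.2 h⟩, by rw [map_mul, map_mul, map_inv]⟩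
    · rintro _ ⟨r, hr, rfl⟩
      exact ⟨_, ⟨c.RC_conj hg hh' hr.1, c.Mn.conj_mem r hr.2 h⁻¹⟩, by simp only [map_mul, map_inv, inv_inv]⟩

theorem card_map_rep (K : Subgroup ↥(centralizer ({z} : Set G))) :
    Nat.card ↥K = Nat.card ↥(K.map (rep Q c.D)) * Nat.card ↥(K ⊓ Q) := by
  have h := card_eq_card_quotient_mul_card_subgroup ((rep Q c.D).comp K.subtype).ker
  rw [Nat.card_congr (QuotientGroup.quotientKerEquivRange _).toEquiv, MonoidHom.range_comp, range_subtype,
    ← MonoidHom.comap_ker, c.ker] at h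
  rw [h]
  congr 1
  rw [← card_map_of_injective K.subtype_injective]
  exact congrArg (fun H : Subgroup ↥(centralizer ({z} : Set G)) => Nat.card ↥H) (map_comap_eq _ _ |>.trans (by rw [range_subtype]))

/-- The counting data at a point with stabiliser containing an alternating group of degree six. -/
theorem local_bound {g : G} {x : ↥Q} (hg : g * z * g⁻¹ = ((x : ↥(centralizer ({z} : Set G))) : G)) (hxz : ((x : ↥(centralizer ({z} : Set G))) : G) ≠ z)
    (hx1 : (x : ↥(centralizer ({z} : Set G))) ≠ 1) (L : Subgroup ↥((rep Q c.D).comp c.M.subtype).range)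
    (hL : ∀ l ∈ L, c.F.ρ l (c.pt x) = c.pt x) (hLA : Nonempty (↥L ≃* alternatingGroup (Fin 6))) :
    32 ≤ Nat.card ↥((c.RC g).map (rep Q c.D)) ∧
      Nat.card ↥((c.RC g).map (rep Q c.D)) ≤ 2 * Nat.card ↥((c.RC g ⊓ c.M).map (rep Q c.D)) ∧
      (c.RC g).map (rep Q c.D) ⊓ L.map ((rep Q c.D).comp c.M.subtype).range.subtype = ⊥ ∧
      Nat.card ↥((c.RC g ⊓ c.M).map (rep Q c.D)) * 360 * Nat.card ↥(c.F.orb (c.pt x)) ∣ 9797760 := by
  haveI := c.Mn
  set LP := L.map ((rep Q c.D).comp c.M.subtype).range.subtype with hLP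
  have hLP' : Nonempty (↥LP ≃* alternatingGroup (Fin 6)) := by
    obtain ⟨e⟩ := hLA
    exact ⟨(L.equivMapOfInjective _ ((rep Q c.D).comp c.M.subtype).range.subtype_injective).symm.trans e⟩
  have hn : ∀ y ∈ LP, ∃ m : ↥(centralizer ({z} : Set G)), m ∈ c.M ∧ (rep Q c.D) m = y ∧ (rep Q c.D) m (c.pt x) = c.pt x := by
    rintro _ ⟨⟨_, m, rfl⟩, hl, rfl⟩
    refine ⟨(m : ↥(centralizer ({z} : Set G))), m.2, rfl, ?_⟩
    have h := hL _ hl
    rw [c.Fρ] at h
    exact h
  have hP : IsPGroup 2 ↥((c.RC g).map (rep Q c.D)) := (c.RC_isP g).map (rep Q c.D)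
  have hPM : IsPGroup 2 ↥((c.RC g ⊓ c.M).map (rep Q c.D)) := hP.to_le (map_mono inf_le_left)
  obtain ⟨hbot, -⟩ := disjoint_alt _ LP hP hLP' (fun y hy => by
    obtain ⟨m, hm, rfl, hfix⟩ := hn y hy
    exact (c.normalises hg hxz hx1 hm hfix).1)
  obtain ⟨-, hcard⟩ := disjoint_alt _ LP hPM hLP' (fun y hy => by
    obtain ⟨m, hm, rfl, hfix⟩ := hn y hy
    exact (c.normalises hg hxz hx1 hm hfix).2)
  have h1 := c.card_map_rep (c.RC g)
  rw [c.RC_card hg hxz] at h1
  have hint := (c.RC_inter hg hxz).1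
  refine ⟨?_, ?_, hbot, ?_⟩
  · have h2 := Nat.mul_le_mul_left (Nat.card ↥((c.RC g).map (rep Q c.D))) hint
    rw [← h1] at h2
    omega
  · have h2 := c.card_map_rep (c.RC g ⊓ c.M)
    rw [show c.RC g ⊓ c.M ⊓ Q = c.RC g ⊓ Q by rw [inf_assoc, inf_of_le_right c.QM]] at h2
    have h3 := relIndex_mul_relIndex ⊥ (c.RC g ⊓ c.M) (c.RC g) bot_le inf_le_left
    rw [relIndex_bot_left, relIndex_bot_left, inf_relIndex_left, c.RC_card hg hxz] at h3
    have h4 : c.M.relIndex (c.RC g) ≤ 2 := by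
      rw [← c.Mi, ← relIndex_top_right c.M]
      exact relIndex_le_of_le_right le_top (by rw [relIndex_top_right, c.Mi]; norm_num)
    refine Nat.le_of_mul_le_mul_right ?_ (Nat.card_pos (α := ↥(c.RC g ⊓ Q)))
    rw [← h1, mul_assoc, ← h2, ← h3, mul_comm 2]
    exact Nat.mul_le_mul_left _ h4
  · let St := ((rep Q c.D).comp c.M.subtype).range ⊓ MulAction.stabilizer (Equiv.Perm (c.ι → ZMod 2)) (c.pt x)
    have hle : (c.RC g ⊓ c.M).map (rep Q c.D) ⊔ LP ≤ St := by
      refine sup_le ?_ ?_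
      · rintro _ ⟨r, ⟨hr, hrM⟩, rfl⟩
        refine ⟨⟨⟨r, hrM⟩, rfl⟩, ?_⟩
        show (rep Q c.D) r (c.pt x) = c.pt x
        rw [c.act]
        refine congrArg c.pt (Subtype.ext ?_)
        rw [MulAut.conjNormal_apply]
        exact c.RC_fix hg hr
      · rintro _ ⟨l, hl, rfl⟩
        refine ⟨l.2, ?_⟩
        have h := hL l hl
        rw [c.Fρ] at h
        exact h
    have hd := card_dvd_of_le hle
    rw [hcard] at hd
    letI : MulAction ↥((rep Q c.D).comp c.M.subtype).range (c.ι → ZMod 2) := MulAction.compHom _ c.F.ρ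
    have e1 : MulAction.orbit ↥((rep Q c.D).comp c.M.subtype).range (c.pt x) = c.F.orb (c.pt x) := rfl
    have h := card_eq_card_quotient_mul_card_subgroup (MulAction.stabilizer ↥((rep Q c.D).comp c.M.subtype).range (c.pt x))
    have e2 : MulAction.stabilizer ↥((rep Q c.D).comp c.M.subtype).range (c.pt x) = St.subgroupOf ((rep Q c.D).comp c.M.subtype).range := by
      ext y
      rw [MulAction.mem_stabilizer_iff, mem_subgroupOf]
      show c.F.ρ y (c.pt x) = c.pt x ↔ _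
      rw [c.Fρ]
      exact ⟨fun h => ⟨y.2, h⟩, fun h => h.2⟩
    rw [← Nat.card_congr (MulAction.orbitEquivQuotientStabilizer ↥((rep Q c.D).comp c.M.subtype).range (c.pt x)), e1, e2,
      Nat.card_congr (subgroupOfEquivOfLe (inf_le_left : St ≤ ((rep Q c.D).comp c.M.subtype).range)).toEquiv, c.F.cardX, mul_comm] at h
    rw [h]
    exact mul_dvd_mul_right hd _

/-- The orbit facts. -/
theorem exists_points : ∃ (s t : ↥Q) (Lt : Subgroup ↥((rep Q c.D).comp c.M.subtype).range),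
    orderOf (s : ↥(centralizer ({z} : Set G))) = 2 ∧ orderOf (t : ↥(centralizer ({z} : Set G))) = 2 ∧ ((s : ↥(centralizer ({z} : Set G))) : G) ≠ z ∧ ((t : ↥(centralizer ({z} : Set G))) : G) ≠ z ∧
    (¬ ∃ h : ↥(centralizer ({z} : Set G)), h * s * h⁻¹ = t) ∧
    (∀ x : ↥(centralizer ({z} : Set G)), x ∈ Q → orderOf x = 2 → (x : G) ≠ z → (∃ h : ↥(centralizer ({z} : Set G)), h * s * h⁻¹ = x) ∨ ∃ h : ↥(centralizer ({z} : Set G)), h * t * h⁻¹ = x) ∧
    ¬ IsConj z ((s : ↥(centralizer ({z} : Set G))) : G) ∧ Nat.card ↥(c.F.orb (c.pt t)) = 1701 ∧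
    (∀ l ∈ Lt, c.F.ρ l (c.pt t) = c.pt t) ∧ Nonempty (↥Lt ≃* alternatingGroup (Fin 6)) ∧
    (∀ v, c.F.q v = 0 → v ≠ 0 → v ∈ c.F.orb (c.pt s) ∨ v ∈ c.F.orb (c.pt t)) ∧
    ∀ g : ↥(centralizer ({z} : Set G)), rep Q c.D g (c.pt s) ≠ c.pt t := by
  classical
  obtain ⟨a, b, ha, hb, hnot, h378, h1701, hall, ⟨La, hLa, hLaA⟩, Lb, hLb, hLbA⟩ := c.F.two_points
  obtain ⟨s, hs, hs2, hsz⟩ := c.lift a ha.1 ha.2
  obtain ⟨t, ht, ht2, htz⟩ := c.lift b hb.1 hb.2
  subst hs ht
  have hne : ∀ {y : ↥(centralizer ({z} : Set G))}, orderOf y = 2 → y ≠ 1 := fun {y} hy e => by rw [e, orderOf_one] at hy; norm_num at hy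
  have hsep : ∀ g : ↥(centralizer ({z} : Set G)), rep Q c.D g (c.pt s) ≠ c.pt t := fun g hg => by
    letI : MulAction ↥(centralizer ({z} : Set G)) (c.ι → ZMod 2) := MulAction.compHom _ (rep Q c.D)
    have horb : MulAction.orbit ↥(centralizer ({z} : Set G)) (c.pt s) = {v | c.F.q v = 0 ∧ v ≠ 0} := by
      have hb' : c.pt t ∈ MulAction.orbit ↥(centralizer ({z} : Set G)) (c.pt s) := ⟨g, hg⟩
      ext v
      constructor
      · rintro ⟨d, rfl⟩
        show c.F.q (rep Q c.D d (c.pt s)) = 0 ∧ rep Q c.D d (c.pt s) ≠ 0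
        refine ⟨by rw [c.Fq, rep_q, ← c.Fq]; exact ha.1, fun e => ha.2 ((rep Q c.D d).injective (e.trans ?_))⟩
        exact (map_zero (c.D.lin (MulAut.conjNormal d))).symm
      · rintro ⟨h1, h2⟩
        rcases hall v h1 h2 with ⟨⟨_, m, rfl⟩, hm⟩ | ⟨⟨_, m, rfl⟩, hm⟩ <;> rw [c.Fρ] at hm <;> subst hm
        · exact ⟨(m : ↥(centralizer ({z} : Set G))), rfl⟩
        · exact MulAction.orbit_eq_iff.mpr hb' ▸ ⟨(m : ↥(centralizer ({z} : Set G))), rfl⟩
    have hd : Nat.card (MulAction.orbit ↥(centralizer ({z} : Set G)) (c.pt s)) ∣ Nat.card ↥(centralizer ({z} : Set G)) :=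
      Dvd.intro _ ((Nat.card_congr (MulAction.orbitEquivQuotientStabilizer ↥(centralizer ({z} : Set G)) (c.pt s))).symm ▸
        (card_eq_card_quotient_mul_card_subgroup (MulAction.stabilizer ↥(centralizer ({z} : Set G)) (c.pt s))).symm)
    rw [horb, show Nat.card ↥{v : c.ι → ZMod 2 | c.F.q v = 0 ∧ v ≠ 0} = 2079 from c.F.card_singular,
      ← c.M.card_mul_index, c.Mi, c.Mcard] at hd
    norm_num at hd
  refine ⟨s, t, Lb, hs2, ht2, hsz, htz, ?_, ?_, ?_, h1701, hLb, hLbA, hall, hsep⟩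
  · rintro ⟨h, hh⟩
    refine hsep h ?_
    rw [c.act]
    exact congrArg c.pt (Subtype.ext (by rw [MulAut.conjNormal_apply]; exact hh))
  · intro x hxQ hx2 hxz
    obtain ⟨h1, h2⟩ := c.sing hxQ hx2 hxz
    rcases hall _ h1 h2 with h | h
    · exact Or.inl (c.conj_of_orb h hsz (hne hs2))
    · exact Or.inr (c.conj_of_orb h htz (hne ht2))
  · intro hcj
    obtain ⟨g, hg⟩ := isConj_iff.mp hcj
    obtain ⟨h32, h2, -, hd⟩ := c.local_bound hg hsz (hne hs2) La hLa hLaA
    rw [h378] at hd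
    obtain ⟨n, hn⟩ := IsPGroup.iff_card.mp (((c.RC_isP g).to_le inf_le_left).map (rep Q c.D) :
      IsPGroup 2 ↥((c.RC g ⊓ c.M).map (rep Q c.D)))
    rw [hn] at h2 hd
    have h3 : 2 ^ 4 ∣ 2 ^ n := by
      refine pow_dvd_pow 2 ?_
      by_contra hlt
      have : 2 ^ n ≤ 2 ^ 3 := Nat.pow_le_pow_right (by norm_num) (by omega)
      omega
    have h4 : 2 ^ 4 * 360 * 378 ∣ 9797760 :=
      (mul_dvd_mul_right (mul_dvd_mul_right h3 360) 378).trans hd
    norm_num at h4

end Ctx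

/-- The orbit facts for a group of large Fischer type. -/
theorem main (hF : Cfsg.IsOfLargeFischerTypeAt z Q) :
    ∃ s t : centralizer ({z} : Set G), s ∈ Q ∧ t ∈ Q ∧ orderOf s = 2 ∧ orderOf t = 2 ∧ (s : G) ≠ z ∧ (t : G) ≠ z ∧
      (¬ ∃ h : centralizer ({z} : Set G), h * s * h⁻¹ = t) ∧
      (∀ x : centralizer ({z} : Set G), x ∈ Q → orderOf x = 2 → (x : G) ≠ z →
        (∃ h : centralizer ({z} : Set G), h * s * h⁻¹ = x) ∨ ∃ h : centralizer ({z} : Set G), h * t * h⁻¹ = x) ∧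
      ¬ IsConj z (s : G) := by
  obtain ⟨c⟩ := exists_ctx hF
  obtain ⟨s, t, L, h1, h2, h3, h4, h5, h6, h7, -⟩ := c.exists_points
  exact ⟨s, t, s.2, t.2, h1, h2, h3, h4, h5, h6, h7⟩

end Cfsg.Lib.LargeFischer
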