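import Cfsg.Agent.LargeFischer.Classes

/-!
Exactly two orbits on the non-zero singular vectors.
-/

set_option autoImplicit false
set_option maxRecDepth 100000
set_option maxHeartbeats 1000000
set_option linter.unusedSectionVars false
set_option linter.style.haveILetI false

namespace Cfsg.Lib.LargeFischer

open Matrix Finset

universe u v w

theorem card_modEq_fixed {α : Type*} [Finite α] {p : ℕ} [Fact p.Prime] (σ : Equiv.Perm α) (h : σ ^ p = 1) :
    Nat.card α % p = Nat.card {a : α // σ a = a} % p := by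
  have hp : IsPGroup p (Subgroup.zpowers σ) := fun x => ⟨1, by
    obtain ⟨i, hi⟩ := Subgroup.mem_zpowers_iff.mp x.2
    refine Subtype.ext ?_
    rw [pow_one, SubmonoidClass.coe_pow, ← hi, Subgroup.coe_one, ← zpow_natCast, ← _root_.zpow_mul, mul_comm,
      _root_.zpow_mul, zpow_natCast, h, _root_.one_zpow]⟩
  refine Eq.trans (hp.card_modEq_card_fixedPoints α) ?_
  refine congrArg (· % p) (Nat.card_congr (Equiv.subtypeEquivRight fun a => ?_))
  constructor
  · intro ha; exact ha ⟨σ, Subgroup.mem_zpowers σ⟩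
  · intro ha x
    obtain ⟨i, hi⟩ := Subgroup.mem_zpowers_iff.mp x.2
    show (x : Equiv.Perm α) a = a
    rw [← hi]
    exact (show (σ ^ i : Equiv.Perm α) ∈ MulAction.stabilizer (Equiv.Perm α) a from zpow_mem ha i)

theorem classify : ∀ r : Fin 5 → Fin 5, (∀ i, r (r i) = r i) →
    (∀ j, (∑ i, if r i = r j then size5 i else 0) % 7 = 0) →
    (∀ j, (∑ i, if r i = r j then size5 i else 0) ≠ 2079) →
    ∃ k : Fin 5, k ≠ 0 ∧ k ≠ 1 ∧ r k = r 0 ∧ r 1 ≠ r 0 ∧ (∀ i, i ≠ 0 → i ≠ k → r i = r 1) ∧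
      (∑ i, if r i = r k then size5 i else 0) = 378 := by
  decide +kernel

namespace FSetting

variable {X : Type u} [Group X] {S : Type w} [Group S] {V : Type v} [AddCommGroup V] [Finite V]
  (F : FSetting X S V)

include F in
theorem finiteX : Finite X := Nat.finite_of_card_ne_zero (by rw [F.cardX]; decide)

/-- The orbit. -/
def orb (a : V) : Set V := {b | ∃ g : X, F.ρ g a = b}

theorem mem_orb {a b : V} : b ∈ F.orb a ↔ ∃ g : X, F.ρ g a = b := Iff.rfl

theorem orb_self (a : V) : a ∈ F.orb a := ⟨1, by rw [map_one]; rfl⟩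

theorem orb_eq {a b : V} (h : b ∈ F.orb a) : F.orb b = F.orb a := by
  obtain ⟨g, rfl⟩ := h
  ext x
  constructor
  · rintro ⟨k, rfl⟩; exact ⟨k * g, by rw [map_mul]; rfl⟩
  · rintro ⟨k, rfl⟩
    exact ⟨k * g⁻¹, by rw [← Equiv.Perm.mul_apply, ← map_mul, inv_mul_cancel_right]⟩

theorem orb_dvd (a : V) : Nat.card (F.orb a) ∣ Nat.card X := by
  letI : MulAction X V := MulAction.compHom V F.ρ
  have e : MulAction.orbit X a = F.orb a := rfl
  rw [← e]
  exact Dvd.intro _ ((Nat.card_congr (MulAction.orbitEquivQuotientStabilizer X a)).symm ▸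
    (Subgroup.card_eq_card_quotient_mul_card_subgroup (MulAction.stabilizer X a)).symm)

theorem central_fpf {a : V} (h : F.W.t (Pi.single 0 1) a = a) : a = 0 := by
  refine F.bijective.1.1 (funext fun i => Subtype.ext ?_)
  show F.W.proj (F.cs i) a = F.W.proj (F.cs i) 0
  rw [map_zero]
  exact F.W.fixed_space (F.cs_e0 i) ⟨a, rfl⟩ (by rw [F.W.t_proj, h])

/-- The fixed vectors of an element. -/
def fix (g : X) : AddSubgroup V where
  carrier := {a | F.ρ g a = a}
  zero_mem' := map_zero (F.rho g)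
  add_mem' := fun {a b} (ha : _ = _) (hb : _ = _) => by show F.ρ g (a + b) = _; rw [F.ρ_add, ha, hb]
  neg_mem' := fun {a} (ha : _ = _) => by
    show F.rho g (-a) = -a
    rw [map_neg]; exact congrArg Neg.neg ha

theorem card_fix_cases (g : X) : ∃ a ≤ 12, Nat.card (F.fix g) = 2 ^ a := by
  have hd : Nat.card (F.fix g) ∣ 2 ^ 12 := by
    have := (F.fix g).card_addSubgroup_dvd_card
    rwa [F.cardV] at this
  exact (Nat.dvd_prime_pow Nat.prime_two).mp hd

theorem sum_sq_eq (g : X) (hg : ∀ a : V, (∀ b ∈ F.fix g, F.B a b = 0) → a ∈ F.fix g → a = 0) :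
    (2 * (Nat.card {a : F.fix g // F.q a.1 = 0} : ℤ) - Nat.card (F.fix g)) ^ 2 = Nat.card (F.fix g) := by
  classical
  haveI := Fintype.ofFinite V
  let χ : ZMod 2 → ℤ := fun r => if r = 0 then 1 else -1
  have hχ : ∀ r s, χ (r + s) = χ r * χ s := by decide
  have hS : ∑ a : F.fix g, χ (F.q a.1) =
      2 * (Nat.card {a : F.fix g // F.q a.1 = 0} : ℤ) - Nat.card (F.fix g) := by
    rw [Nat.card_eq_fintype_card, Nat.card_eq_fintype_card, Fintype.card_subtype, ← card_univ,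
      ← card_filter_add_card_filter_not (s := (univ : Finset (F.fix g))) fun a => F.q a.1 = 0]
    simp only [χ, sum_ite, sum_const, nsmul_eq_mul, mul_one, mul_neg]
    push_cast
    ring
  have hzero : ∀ d : F.fix g, d ≠ 0 → ∑ a : F.fix g, χ (F.B a.1 d.1) = 0 := by
    intro d hd
    obtain ⟨e, he⟩ : ∃ e : F.fix g, F.B e.1 d.1 = 1 := by
      by_contra h
      push Not at h
      refine hd (Subtype.ext (hg d.1 (fun b hb => ?_) d.2))
      rw [F.B_symm]
      exact (show ∀ r : ZMod 2, r ≠ 1 → r = 0 by decide) _ (h ⟨b, hb⟩)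
    have h := Equiv.sum_comp (Equiv.addRight e) fun a : F.fix g => χ (F.B a.1 d.1)
    simp only [Equiv.coe_addRight, AddSubgroup.coe_add, F.B_add, hχ, he, ← sum_mul] at h
    have : χ 1 = -1 := rfl
    rw [this] at h
    linarith
  rw [← hS, sq, sum_mul_sum]
  calc ∑ a : F.fix g, ∑ b : F.fix g, χ (F.q a.1) * χ (F.q b.1)
      = ∑ a : F.fix g, ∑ d : F.fix g, χ (F.q a.1) * χ (F.q (a + d : F.fix g).1) :=
        sum_congr rfl fun a _ => (Equiv.sum_comp (Equiv.addLeft a) fun b : F.fix g => χ (F.q a.1) * χ (F.q b.1)).symm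
    _ = ∑ d : F.fix g, χ (F.q d.1) * ∑ a : F.fix g, χ (F.B a.1 d.1) := by
        rw [sum_comm]
        refine sum_congr rfl fun d _ => ?_
        rw [mul_sum]
        refine sum_congr rfl fun a _ => ?_
        rw [AddSubgroup.coe_add, F.q_add, hχ, hχ]
        have h1 : ∀ r : ZMod 2, χ r * χ r = 1 := by decide
        linear_combination (χ (F.q d.1) * χ (F.B a.1 d.1)) * h1 (F.q a.1)
    _ = _ := by
        rw [sum_eq_single (0 : F.fix g) (fun d _ hd => by rw [hzero d hd, mul_zero]) (by simp)]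
        simp only [AddSubgroup.coe_zero, F.q_zero]
        rw [Nat.card_eq_fintype_card]
        simp [χ, fun a : V => (F.B_symm a 0).trans (F.B_zero a)]

include F in
theorem exists_seven : ∃ g : X, g ^ 7 = 1 ∧ g ≠ 1 := by
  haveI := F.finiteX
  haveI : Fact (Nat.Prime 7) := ⟨by norm_num⟩
  obtain ⟨g, hg⟩ := exists_prime_orderOf_dvd_card' (G := X) 7 (by rw [F.cardX]; norm_num)
  exact ⟨g, by rw [← hg]; exact pow_orderOf_eq_one g, fun e => by rw [e, orderOf_one] at hg; norm_num at hg⟩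

/-- An element of order seven fixes no non-zero vector. -/
theorem seven_fpf {g : X} (h7 : g ^ 7 = 1) (h1 : g ≠ 1) {a : V} (ha : F.ρ g a = a) : a = 0 := by
  classical
  haveI : Fact (Nat.Prime 7) := ⟨by norm_num⟩
  haveI : Fact (Nat.Prime 3) := ⟨by norm_num⟩
  set W7 := F.fix g with hW7
  have hnd : ∀ a : V, (∀ b ∈ W7, F.B a b = 0) → a ∈ W7 → a = 0 := by
    intro a hb ha
    refine F.nondeg a fun b => ?_
    have hp : ∀ n : ℕ, F.ρ (g ^ n) a = a := by
      intro n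
      induction n with
      | zero => rw [pow_zero, map_one]; rfl
      | succ n ih => rw [pow_succ, map_mul, Equiv.Perm.mul_apply, show F.ρ g a = a from ha, ih]
    have hmem : (∑ i : Fin 7, F.rho (g ^ (i : ℕ)) b) ∈ W7 := by
      show F.rho g _ = _
      rw [map_sum]
      refine Fintype.sum_equiv (Equiv.addRight (1 : Fin 7)) _ _ fun i => ?_
      show F.ρ g (F.ρ (g ^ (i : ℕ)) b) = F.ρ (g ^ ((i + 1 : Fin 7) : ℕ)) b
      rw [← Equiv.Perm.mul_apply, ← map_mul, ← pow_succ', Fin.val_add, pow_eq_pow_mod ((i : ℕ) + 1) h7]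
      simp
    have h := hb _ hmem
    rw [B_symm, B_sum, sum_congr rfl fun (i : Fin 7) _ => show F.B (F.rho (g ^ (i : ℕ)) b) a = F.B b a by
      conv_lhs => rw [← hp i]
      exact F.B_inv _ _ _, sum_const, card_univ, Fintype.card_fin] at h
    rw [F.B_symm]
    generalize F.B b a = r at h ⊢
    revert h
    revert r
    decide
  have hω : F.W.t (Pi.single 0 1) = F.rho F.E.ω := by
    refine AddMonoidHom.ext fun v => ?_
    rw [W_t, F.E.α_e, pw3_one]; rfl
  have hωW : ∀ v : V, v ∈ W7 ↔ F.ρ F.E.ω v ∈ W7 := fun v => by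
    show F.ρ g v = v ↔ F.ρ g (F.ρ F.E.ω v) = F.ρ F.E.ω v
    rw [← Equiv.Perm.mul_apply, ← map_mul, Subgroup.mem_center_iff.mp (F.E.central F.E.ω_mem) g, map_mul,
      Equiv.Perm.mul_apply, (F.ρ F.E.ω).injective.eq_iff]
  let σ : Equiv.Perm W7 := (F.ρ F.E.ω).subtypePerm fun v => (hωW v).symm
  have hsp : ∀ {α : Type v} {p : α → Prop} (e : Equiv.Perm α) (he : ∀ x, p (e x) ↔ p x) (n : ℕ),
      e ^ n = 1 → e.subtypePerm he ^ n = 1 := fun e he n hn => Equiv.ext fun v => Subtype.ext (by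
    rw [Equiv.Perm.subtypePerm_pow, Equiv.Perm.subtypePerm_apply]
    exact congrArg (fun f : Equiv.Perm _ => f v.1) hn)
  have hσ : σ ^ 3 = 1 := hsp _ _ 3 (by rw [← map_pow, F.E.ω_three, map_one])
  have hσfix : ∀ v : W7, σ v = v → v = 0 := fun v hv => Subtype.ext (F.central_fpf (by
    rw [hω]; exact congrArg Subtype.val hv))
  have e3 : Nat.card W7 % 3 = 1 := by
    rw [card_modEq_fixed σ hσ]
    haveI : Unique {v : W7 // σ v = v} :=
      { default := ⟨0, Subtype.ext (map_zero (F.rho F.E.ω))⟩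
        uniq := fun v => Subtype.ext (hσfix v.1 v.2) }
    simp
  let σ0 : Equiv.Perm {v : W7 // F.q v.1 = 0} := σ.subtypePerm fun v => by
    show F.q (F.ρ F.E.ω v.1) = 0 ↔ _
    rw [F.ρ_q]
  have e3' : Nat.card {v : W7 // F.q v.1 = 0} % 3 = 1 := by
    rw [card_modEq_fixed σ0 (hsp σ _ 3 hσ)]
    haveI : Unique {v : {v : W7 // F.q v.1 = 0} // σ0 v = v} :=
      { default := ⟨⟨0, F.q_zero⟩, Subtype.ext (Subtype.ext (map_zero (F.rho F.E.ω)))⟩
        uniq := fun v => Subtype.ext (Subtype.ext (hσfix v.1.1 (congrArg Subtype.val v.2))) }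
    simp
  have hρ7 : F.ρ g ^ 7 = 1 := by rw [← map_pow, h7, map_one]
  have e7 : Nat.card V % 7 = Nat.card W7 % 7 := card_modEq_fixed (F.ρ g) hρ7
  let g0 : Equiv.Perm {v : V // F.q v = 0} := (F.ρ g).subtypePerm fun v => by rw [F.ρ_q]
  have e7' : Nat.card {v : V // F.q v = 0} % 7 = Nat.card {v : W7 // F.q v.1 = 0} % 7 := by
    rw [card_modEq_fixed g0 (hsp (F.ρ g) _ 7 hρ7)]
    exact congrArg (· % 7) (Nat.card_congr
      { toFun := fun v => ⟨⟨v.1.1, congrArg Subtype.val v.2⟩, v.1.2⟩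
        invFun := fun v => ⟨⟨v.1.1, v.2⟩, Subtype.ext v.1.2⟩
        left_inv := fun _ => rfl
        right_inv := fun _ => rfl })
  have e2080 : Nat.card {v : V // F.q v = 0} = 2080 := by
    haveI := Fintype.ofFinite V
    have h := F.card_singular
    rw [Nat.card_eq_fintype_card, Fintype.card_subtype] at h ⊢
    have hins : (univ.filter fun v : V => F.q v = 0) = insert 0 (univ.filter fun v : V => F.q v = 0 ∧ v ≠ 0) := by
      ext v
      simp only [mem_filter, mem_univ, true_and, mem_insert]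
      constructor
      · intro hv; by_cases hv0 : v = 0 <;> tauto
      · rintro (rfl | ⟨hv, -⟩)
        · exact F.q_zero
        · exact hv
    rw [hins, card_insert_of_notMem (by simp), h]
  have hsq := F.sum_sq_eq g hnd
  obtain ⟨k, hk, hcard⟩ := F.card_fix_cases g
  rw [← hW7] at hsq hcard
  rw [hcard] at e3 e7 hsq
  rw [F.cardV] at e7
  rw [e2080] at e7'
  by_contra ha0
  have hk0 : k ≠ 0 := fun e => by
    rw [e, pow_zero] at hcard
    haveI := (Nat.card_eq_one_iff_unique.mp hcard).1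
    exact ha0 (congrArg Subtype.val (Subsingleton.elim (⟨a, ha⟩ : W7) 0))
  have hk12 : k ≠ 12 := fun e => by
    rw [e] at hcard
    have htop : W7 = ⊤ := AddSubgroup.eq_top_of_card_eq _ (by rw [hcard, F.cardV]; norm_num)
    refine h1 (F.ρ_inj (Equiv.ext fun v => ?_))
    rw [map_one]
    exact (show v ∈ W7 from htop ▸ AddSubgroup.mem_top v)
  interval_cases k <;> first | (norm_num at e3; done) | (norm_num at e7; done) | exact absurd rfl hk0 | exact absurd rfl hk12 | skip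
  generalize Nat.card {v : W7 // F.q v.1 = 0} = s at hsq e3' e7'
  have hs : (2 * (s : ℤ) - 64) * (2 * (s : ℤ) - 64) = 8 * 8 := by push_cast at hsq; linarith
  rcases mul_self_eq_mul_self_iff.mp hs with h | h
  · have : s = 36 := by omega
    subst this; norm_num at e3'
  · have : s = 28 := by omega
    subst this; norm_num at e7'

theorem orb_seven (a : V) (ha : a ≠ 0) : Nat.card (F.orb a) % 7 = 0 := by
  haveI : Fact (Nat.Prime 7) := ⟨by norm_num⟩
  obtain ⟨g, h7, h1⟩ := F.exists_seven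
  let σ : Equiv.Perm (F.orb a) := (F.ρ g).subtypePerm fun v => by
    constructor
    · intro hv
      have : v = F.ρ g⁻¹ (F.ρ g v) := by rw [← Equiv.Perm.mul_apply, ← map_mul, inv_mul_cancel, map_one]; rfl
      rw [this]
      exact F.orb_eq hv ▸ ⟨g⁻¹, rfl⟩
    · intro hv
      exact F.orb_eq hv ▸ ⟨g, rfl⟩
  rw [card_modEq_fixed σ (Equiv.ext fun v => Subtype.ext (by
    rw [Equiv.Perm.subtypePerm_pow, Equiv.Perm.subtypePerm_apply]
    exact congrArg (fun f : Equiv.Perm V => f v.1) (show F.ρ g ^ 7 = 1 by rw [← map_pow, h7, map_one]) ))]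
  haveI : IsEmpty {v : F.orb a // σ v = v} := ⟨fun ⟨⟨v, hv⟩, he⟩ => by
    have h0 : v = 0 := F.seven_fpf h7 h1 (congrArg Subtype.val he)
    subst h0
    obtain ⟨k, hk⟩ := hv
    exact ha ((F.ρ k).injective (hk.trans (map_zero (F.rho k)).symm))⟩
  simp

theorem orb_sing {a b : V} (h : F.q a = 0 ∧ a ≠ 0) (hb : b ∈ F.orb a) : F.q b = 0 ∧ b ≠ 0 := by
  obtain ⟨g, rfl⟩ := hb
  exact ⟨by rw [F.ρ_q]; exact h.1, fun e => h.2 ((F.ρ g).injective (e.trans (map_zero (F.rho g)).symm))⟩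

theorem exists_rep (c : Fin 5) : ∃ f : Cd, Sing6 f ∧ cls f = c := by
  have h := cls_card c
  obtain ⟨f, hf⟩ := card_pos.mp (h ▸ (by revert c; decide : 0 < size5 c))
  exact ⟨f, (mem_filter.mp hf).2⟩

/-- A representative of a class. -/
noncomputable def rep (c : Fin 5) : V := F.dec (exists_rep c).choose

theorem rep_sing (c : Fin 5) : F.q (F.rep c) = 0 ∧ F.rep c ≠ 0 :=
  (F.sing_iff _).mpr (exists_rep c).choose_spec.1

theorem mem_orb_rep {f : Cd} (hf : Sing6 f) : F.dec f ∈ F.orb (F.rep (cls f)) :=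
  F.link (exists_rep (cls f)).choose_spec.1 hf (exists_rep (cls f)).choose_spec.2

theorem orb_card (c : Fin 5) (r : Fin 5 → Fin 5) (hr : ∀ i j, r i = r j ↔ F.orb (F.rep i) = F.orb (F.rep j)) :
    Nat.card (F.orb (F.rep c)) = ∑ i, if r i = r c then size5 i else 0 := by
  classical
  have e : Nat.card (F.orb (F.rep c)) = Nat.card {f : Cd // Sing6 f ∧ r (cls f) = r c} := by
    refine (Nat.card_congr ((Equiv.ofBijective _ F.dec_bijective).subtypeEquiv fun f => ?_)).symm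
    show _ ↔ F.dec f ∈ F.orb (F.rep c)
    constructor
    · rintro ⟨hf, he⟩
      exact (hr _ _).mp he ▸ F.mem_orb_rep hf
    · intro h
      have hf := (F.sing_iff f).mp (F.orb_sing (F.rep_sing c) h)
      exact ⟨hf, (hr _ _).mpr ((F.orb_eq (F.mem_orb_rep hf)).symm.trans (F.orb_eq h))⟩
  rw [e, Nat.card_eq_fintype_card, Fintype.card_subtype,
    card_eq_sum_card_fiberwise (f := cls) (t := univ) fun _ _ => mem_univ _]
  refine sum_congr rfl fun i _ => ?_
  split_ifs with h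
  · rw [← cls_card i, filter_filter]
    exact congrArg card (filter_congr fun f _ => ⟨fun hh => ⟨hh.1.1, hh.2⟩, fun hh => ⟨⟨hh.1, by rw [hh.2, h]⟩, hh.2⟩⟩)
  · rw [filter_filter, card_eq_zero, filter_eq_empty_iff]
    exact fun f _ hh => h (hh.2 ▸ hh.1.2)

/-- The two orbits. -/
theorem two_orbits : ∃ k : Fin 5, k ≠ 0 ∧ k ≠ 1 ∧ F.rep 1 ∉ F.orb (F.rep k) ∧
    Nat.card (F.orb (F.rep k)) = 378 ∧
    (∀ a, F.q a = 0 → a ≠ 0 → a ∈ F.orb (F.rep k) ∨ a ∈ F.orb (F.rep 1)) ∧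
    ∀ f, Sing6 f → F.dec f ∈ F.orb (F.rep k) → cls f = 0 ∨ cls f = k := by
  classical
  let r : Fin 5 → Fin 5 := fun i => (univ.filter fun j => F.orb (F.rep j) = F.orb (F.rep i)).min'
    ⟨i, by simp⟩
  have hr' : ∀ i, F.orb (F.rep (r i)) = F.orb (F.rep i) := fun i =>
    (mem_filter.mp (min'_mem (univ.filter fun j => F.orb (F.rep j) = F.orb (F.rep i)) _)).2
  have hr : ∀ i j, r i = r j ↔ F.orb (F.rep i) = F.orb (F.rep j) := fun i j =>
    ⟨fun h => by rw [← hr' i, h, hr'], fun h => by simp only [r, h]⟩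
  have h7 : ∀ j, (∑ i, if r i = r j then size5 i else 0) % 7 = 0 := fun j => by
    rw [← F.orb_card j r hr]
    exact F.orb_seven _ (F.rep_sing j).2
  have h2079 : ∀ j, (∑ i, if r i = r j then size5 i else 0) ≠ 2079 := fun j h => by
    have hd := F.orb_dvd (F.rep j)
    rw [F.orb_card j r hr, h, F.cardX] at hd
    norm_num at hd
  obtain ⟨k, hk0, hk1, hk, h10, hrest, h378⟩ := classify r (fun i => by simp only [r]; exact (hr _ _).mpr (hr' i)) h7 h2079
  refine ⟨k, hk0, hk1, fun h => h10 (((hr 1 k).mpr (F.orb_eq h)).trans hk), by rw [F.orb_card k r hr, h378],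
    fun a ha ha0 => ?_, fun f hf hmem => ?_⟩
  · obtain ⟨f, rfl⟩ := F.dec_bijective.2 a
    have hf := (F.sing_iff f).mp ⟨ha, ha0⟩
    have hm := F.mem_orb_rep hf
    by_cases h0 : cls f = 0
    · rw [h0, ← (hr k 0).mp hk] at hm; exact Or.inl hm
    by_cases hfk : cls f = k
    · rw [hfk] at hm; exact Or.inl hm
    · rw [(hr _ 1).mp (hrest _ h0 hfk)] at hm; exact Or.inr hm
  · by_contra hne
    push Not at hne
    refine h10 ((hrest _ hne.1 hne.2).symm.trans (((hr _ k).mpr ?_).trans hk))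
    rw [← F.orb_eq (F.mem_orb_rep hf), F.orb_eq hmem]

theorem full_of_cls {f : Cd} (hf : Sing6 f) (h0 : cls f ≠ 0) (h1 : cls f ≠ 1) : supp6 f = univ := by
  rcases sing_cases hf with ⟨e, -⟩ | ⟨e, -⟩ | ⟨-, h⟩
  · exact absurd e h0
  · exact absurd e h1
  · exact eq_univ_of_card _ (h.trans (Fintype.card_fin 6).symm)

/-- Elements of the normaliser act monomially on the coordinates. -/
theorem monomial (g : F.Nh) : ∃ e : Fin 6 → ZMod 3, ∀ f f' : Cd, F.ρ (g : X) (F.dec f) = F.dec f' →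
    ∀ i, f' (F.π g i) = (f i).map (· + e i) := by
  have hm : ∀ i, ∀ a ∈ F.W.space (F.cs i), F.ρ (g : X) a ∈ F.W.space (F.cs (F.π g i)) := fun i a ha => by
    obtain ⟨v, rfl⟩ := ha
    exact ⟨F.ρ (g : X) v, by rw [← F.proj_transfer g, F.cs_π]⟩
  have he : ∀ i, ∃ e : ZMod 3, F.pl (F.π g i) (some e) = F.ρ (g : X) (F.base i) := fun i => by
    obtain ⟨o, ho⟩ := F.pl_surj _ (hm i _ (F.base_mem i))
    cases o with
    | none => exact absurd ((F.ρ (g : X)).injective (ho.symm.trans (map_zero (F.rho g)).symm)) (F.base_ne i)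
    | some e => exact ⟨e, ho⟩
  choose e he using he
  refine ⟨e, fun f f' h i => F.pl_injective (F.π g i) ?_⟩
  have h1 := congrArg (F.W.proj (F.cs (F.π g i))) h
  rw [← F.proj_transfer g, F.cs_π, F.proj_dec, F.proj_dec] at h1
  rw [← h1]
  cases f i with
  | none => exact map_zero (F.rho g)
  | some j =>
    show F.ρ (g : X) (F.W.t (j • Pi.single 0 1) (F.base i)) = F.W.t ((j + e i) • Pi.single 0 1) (F.base (F.π g i))
    rw [add_smul, F.W.t_comp, W_t, W_t, show (j • (Pi.single 0 1 : C5)) = Pi.single 0 j by rw [← Pi.single_smul', smul_eq_mul, mul_one],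
      F.E.α_e, ← Equiv.Perm.mul_apply, ← map_mul, F.E.pw_comm, map_mul, Equiv.Perm.mul_apply, ← he]
    rfl

theorem tot_shift (g : F.Nh) (e : Fin 6 → ZMod 3) {f f' : Cd} (hu : supp6 f = univ)
    (h : ∀ i, f' (F.π g i) = (f i).map (· + e i)) : supp6 f' = univ ∧ tot f' = tot f + ∑ i, e i := by
  have hj : ∀ i, ∃ j, f i = some j := fun i =>
    Option.ne_none_iff_exists'.mp (mem_supp6.mp (hu ▸ mem_univ i))
  refine ⟨eq_univ_iff_forall.mpr fun y => mem_supp6.mpr ?_, ?_⟩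
  · obtain ⟨i, rfl⟩ := (F.π g).surjective y
    obtain ⟨j, hji⟩ := hj i
    rw [h, hji]; simp
  · rw [tot, tot, ← sum_add_distrib, ← Equiv.sum_comp (F.π g) fun y => (f' y).getD 0]
    refine sum_congr rfl fun i _ => ?_
    obtain ⟨j, hji⟩ := hj i
    rw [h, hji]; rfl

/-- The Levi preimage fixes the classes of vectors with full support. -/
theorem tot_invariant {g : X} (hg : g ∈ F.Lhat) {f f' : Cd} (hu : supp6 f = univ)
    (h : F.ρ g (F.dec f) = F.dec f') : supp6 f' = univ ∧ tot f' = tot f := by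
  obtain ⟨k, hk0, hk1, -, -, -, hcl⟩ := F.two_orbits
  obtain ⟨e, he⟩ := F.monomial (Subgroup.inclusion F.Lhat_le ⟨g, hg⟩)
  obtain ⟨f₀, hf₀, hf₀k⟩ : ∃ f₀, Sing6 f₀ ∧ cls f₀ = k ∧ F.rep k = F.dec f₀ :=
    ⟨_, (exists_rep k).choose_spec.1, (exists_rep k).choose_spec.2, rfl⟩
  obtain ⟨f₁, hf₁⟩ := F.dec_bijective.2 (F.ρ g (F.dec f₀))
  have hu0 := full_of_cls hf₀ (hf₀k.1 ▸ hk0) (hf₀k.1 ▸ hk1)
  obtain ⟨hu1, ht1⟩ := F.tot_shift _ e hu0 (he f₀ f₁ hf₁.symm)
  have hmem : F.dec f₁ ∈ F.orb (F.rep k) := ⟨g, by rw [hf₀k.2, hf₁]⟩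
  have hs := (F.sing_iff f₁).mp (F.orb_sing (F.rep_sing k) hmem)
  have hne : cls f₁ ≠ 0 := fun h0 => by
    rcases sing_cases hs with ⟨-, h⟩ | ⟨e, -⟩ | ⟨⟨e, -⟩, -⟩
    · rw [hu1] at h; simp at h
    · exact absurd (h0.symm.trans e) (by decide)
    · exact e h0
  have hk := ((hcl f₁ hs hmem).resolve_left hne).trans hf₀k.1.symm
  simp only [cls, hu0, hu1, card_univ, Fintype.card_fin, ht1] at hk
  have hzero : ∑ i, e i = 0 := by
    generalize tot f₀ = a, ∑ i, e i = b at hk ⊢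
    revert a b
    decide
  obtain ⟨hu', ht'⟩ := F.tot_shift _ e hu (he f f' h)
  exact ⟨hu', by rw [ht', hzero, add_zero]⟩

/-- Point stabilisers of vectors with full support contain a copy of the alternating group of degree six. -/
theorem stab_vec {f : Cd} (hu : supp6 f = univ) :
    ∃ L : Subgroup X, (∀ g ∈ L, F.ρ g (F.dec f) = F.dec f) ∧ Nonempty (L ≃* alternatingGroup (Fin 6)) ∧
      (∀ l ∈ L, ∃ g : F.Nh, (g : X) = l ∧ F.π g ∈ alternatingGroup (Fin 6)) ∧
      ∀ σ ∈ alternatingGroup (Fin 6), ∃ g : F.Nh, (g : X) ∈ L ∧ F.π g = σ := by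
  classical
  have h6 : (supp6 f).card = 6 := by rw [hu]; rfl
  let H : Subgroup F.Nh :=
    { carrier := {g | F.ρ (g : X) (F.dec f) = F.dec f ∧ F.π g ∈ alternatingGroup (Fin 6)}
      one_mem' := ⟨by rw [Subgroup.coe_one, map_one]; rfl, by rw [map_one]; exact one_mem _⟩
      mul_mem' := fun {g h} hg hh => ⟨by rw [Subgroup.coe_mul, map_mul, Equiv.Perm.mul_apply, hh.1, hg.1],
        by rw [map_mul]; exact mul_mem hg.2 hh.2⟩
      inv_mem' := fun {g} hg => ⟨by
        rw [Subgroup.coe_inv]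
        apply (F.ρ (g : X)).injective
        rw [← Equiv.Perm.mul_apply, ← map_mul, mul_inv_cancel, map_one, hg.1]; rfl,
        by rw [map_inv]; exact inv_mem hg.2⟩ }
  let φ : H →* alternatingGroup (Fin 6) := (F.π.comp H.subtype).codRestrict _ fun g => g.2.2
  have hinj : Function.Injective φ := by
    refine (injective_iff_map_eq_one φ).mpr fun g hg => ?_
    have hπ : F.π g.1 = 1 := congrArg Subtype.val hg
    refine Subtype.ext (Subtype.ext (F.ρ_inj ?_))
    rw [Subgroup.coe_one, Subgroup.coe_one, map_one]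
    have hTc : ∀ i, F.Tc g.1 (F.cs i) = F.cs i := fun i => by
      have h := F.cs_π g.1 i
      rwa [hπ, Equiv.Perm.one_apply] at h
    have hb : ∀ i, F.ρ (g.1 : X) (F.base i) = F.base i := by
      intro i
      have h1 : F.ρ (g.1 : X) (F.W.proj (F.cs i) (F.dec f)) = F.W.proj (F.cs i) (F.dec f) := by
        conv_lhs => rw [← hTc i]
        rw [F.proj_transfer, g.2.1]
      rw [F.proj_dec] at h1
      obtain ⟨j, hj⟩ : ∃ j, f i = some j := by
        refine Option.ne_none_iff_exists'.mp (mem_supp6.mp ?_)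
        rw [eq_univ_of_card _ (h6.trans (Fintype.card_fin 6).symm)]; exact mem_univ i
      rw [hj] at h1
      have hc : F.ρ (g.1 : X) (F.W.t (j • Pi.single 0 1) (F.base i)) =
          F.W.t (j • Pi.single 0 1) (F.ρ (g.1 : X) (F.base i)) := by
        rw [W_t, W_t, show (j • (Pi.single 0 1 : C5)) = Pi.single 0 j by rw [← Pi.single_smul', smul_eq_mul, mul_one],
          F.E.α_e, ← Equiv.Perm.mul_apply, ← map_mul, F.E.pw_comm, map_mul, Equiv.Perm.mul_apply]
      exact F.t_inj _ (hc.symm.trans h1)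
    refine Equiv.ext fun v => ?_
    show F.rho (g.1 : X) v = v
    conv_lhs => rw [F.decompose_six v]
    conv_rhs => rw [F.decompose_six v]
    rw [map_sum]
    refine sum_congr rfl fun i _ => ?_
    obtain ⟨o, ho⟩ := F.pl_surj i ⟨v, rfl⟩
    rw [← ho]
    cases o with
    | none => exact map_zero _
    | some j =>
      show F.ρ (g.1 : X) (F.ρ (F.E.α _) (F.base i)) = F.ρ (F.E.α _) (F.base i)
      rw [show (j • (Pi.single 0 1 : C5)) = Pi.single 0 j by rw [← Pi.single_smul', smul_eq_mul, mul_one],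
        F.E.α_e, ← Equiv.Perm.mul_apply, ← map_mul, F.E.pw_comm, map_mul, Equiv.Perm.mul_apply, hb]
  have hA : ∀ x : C5, F.E.α x ∈ F.Nh := fun x => Subgroup.le_normalizer ⟨x, rfl⟩
  have hsurj : Function.Surjective φ := fun π => by
    obtain ⟨g, hg⟩ := F.exists_even π.1 π.2
    obtain ⟨f₁, hf₁⟩ := F.dec_bijective.2 (F.ρ (g : X) (F.dec f))
    obtain ⟨hu1, ht⟩ := F.tot_invariant g.2 hu hf₁.symm
    obtain ⟨x, hx⟩ := F.shift_link (hu1.trans hu.symm) (f' := f) fun _ => ht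
    let n : F.Nh := ⟨F.E.α x, hA x⟩ * Subgroup.inclusion F.Lhat_le g
    have hπn : F.π n = π.1 := by
      rw [map_mul, show F.π ⟨F.E.α x, hA x⟩ = 1 from ?_, one_mul]
      · exact hg
      · refine Equiv.ext fun i => ?_
        rw [F.π_eq, show F.σ ⟨F.E.α x, hA x⟩ = 1 from Equiv.ext fun c => Subtype.ext (F.Tc_of_central (fun y => by
          rw [Subgroup.coe_inv]
          show (F.E.α x)⁻¹ * F.E.α y = F.E.α y * (F.E.α x)⁻¹
          rw [eq_mul_inv_iff_mul_eq, mul_assoc, ← F.E.α_add, inv_mul_eq_iff_eq_mul, ← F.E.α_add, add_comm]) c)]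
        simp
    refine ⟨⟨n, ⟨?_, by rw [hπn]; exact π.2⟩⟩, Subtype.ext hπn⟩
    show F.ρ (F.E.α x * (g : X)) (F.dec f) = F.dec f
    rw [map_mul, Equiv.Perm.mul_apply, ← hf₁]
    exact hx
  let e := MulEquiv.ofBijective φ ⟨hinj, hsurj⟩
  let e' : H ≃* (H.map F.Nh.subtype) := H.equivMapOfInjective _ F.Nh.subtype_injective
  refine ⟨H.map F.Nh.subtype, ?_, ⟨e'.symm.trans e⟩, ?_, fun σ hσ => ?_⟩
  · rintro _ ⟨g, hg, rfl⟩
    exact hg.1
  · rintro _ ⟨g, hg, rfl⟩
    exact ⟨g, rfl, hg.2⟩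
  · obtain ⟨⟨g, hg⟩, he⟩ := hsurj ⟨σ, hσ⟩
    exact ⟨g, ⟨g, hg, rfl⟩, congrArg Subtype.val he⟩

theorem stab_full (k : Fin 5) (hk0 : k ≠ 0) (hk1 : k ≠ 1) :
    ∃ L : Subgroup X, (∀ g ∈ L, F.ρ g (F.rep k) = F.rep k) ∧ Nonempty (L ≃* alternatingGroup (Fin 6)) := by
  obtain ⟨hs, hc⟩ := (exists_rep k).choose_spec
  obtain ⟨L, h1, h2, -⟩ := F.stab_vec (full_of_cls hs (hc.symm ▸ hk0) (hc.symm ▸ hk1))
  exact ⟨L, h1, h2⟩

/-- The two orbits with point stabilisers. -/
theorem two_points : ∃ a b : V, (F.q a = 0 ∧ a ≠ 0) ∧ (F.q b = 0 ∧ b ≠ 0) ∧ b ∉ F.orb a ∧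
    Nat.card (F.orb a) = 378 ∧ Nat.card (F.orb b) = 1701 ∧
    (∀ c, F.q c = 0 → c ≠ 0 → c ∈ F.orb a ∨ c ∈ F.orb b) ∧
    (∃ L : Subgroup X, (∀ g ∈ L, F.ρ g a = a) ∧ Nonempty (L ≃* alternatingGroup (Fin 6))) ∧
    ∃ L : Subgroup X, (∀ g ∈ L, F.ρ g b = b) ∧ Nonempty (L ≃* alternatingGroup (Fin 6)) := by
  classical
  obtain ⟨k, hk0, hk1, hnot, h378, hall, hcl⟩ := F.two_orbits
  obtain ⟨c, hc0, hc1, hck⟩ := (show ∀ k : Fin 5, ∃ c : Fin 5, c ≠ 0 ∧ c ≠ 1 ∧ c ≠ k by decide) k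
  have hc : F.rep c ∉ F.orb (F.rep k) := fun h => by
    rcases hcl _ (exists_rep c).choose_spec.1 h with e | e <;> rw [(exists_rep c).choose_spec.2] at e
    exacts [hc0 e, hck e]
  have hcb : F.orb (F.rep c) = F.orb (F.rep 1) :=
    F.orb_eq ((hall _ (F.rep_sing c).1 (F.rep_sing c).2).resolve_left hc)
  refine ⟨F.rep k, F.rep c, F.rep_sing k, F.rep_sing c, hc, h378, ?_, fun a ha ha0 => hcb ▸ hall a ha ha0,
    F.stab_full k hk0 hk1, F.stab_full c hc0 hc1⟩
  haveI := Fintype.ofFinite V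
  have hdis : Disjoint (F.orb (F.rep k)) (F.orb (F.rep c)) := Set.disjoint_left.mpr fun x hx hx' => by
    refine hc ?_
    rw [← F.orb_eq hx, F.orb_eq hx']
    exact F.orb_self _
  have hun : F.orb (F.rep k) ∪ F.orb (F.rep c) = {x | F.q x = 0 ∧ x ≠ 0} := by
    ext x
    refine ⟨fun h => h.elim (F.orb_sing (F.rep_sing k)) (F.orb_sing (F.rep_sing c)), fun h => ?_⟩
    exact (hcb ▸ hall x h.1 h.2 : x ∈ F.orb (F.rep k) ∨ x ∈ F.orb (F.rep c))
  have h := Set.ncard_union_eq hdis (Set.toFinite _) (Set.toFinite _)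
  rw [hun, ← Nat.card_coe_set_eq, ← Nat.card_coe_set_eq, ← Nat.card_coe_set_eq, h378] at h
  have := F.card_singular
  change Nat.card ↥{x : V | F.q x = 0 ∧ x ≠ 0} = 2079 at this
  omega

end FSetting

end Cfsg.Lib.LargeFischer
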