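import Cfsg.Agent.LargeFischer.OuterSym
import Cfsg.Agent.LargeFischer.Orbits

/-!
The scalar structure around a vector with full support.
-/

set_option autoImplicit false
set_option maxRecDepth 100000
set_option maxHeartbeats 1000000
set_option linter.unusedSectionVars false
set_option linter.style.haveILetI false

namespace Cfsg.Lib.LargeFischer

open Matrix Finset

universe u v w

theorem f4_im_pair : ∀ c : F4, c.im = 0 → (c * w4 ^ 2).im = 0 → c = 0 := by decide +kernel

theorem f4_scalar : ∀ c d : F4, c ≠ 0 → ∃ a : F4, d = a * c := by decide +kernel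

theorem code_wp : ∀ (k : ZMod 3) (a b : F4), code4 b = (code4 a).map (· + k) → b = wp k * a := by decide +kernel

theorem f4_five : ∀ a : F4, a + a + a + a + a = a := by decide +kernel

namespace FSetting

variable {X : Type u} [Group X] {S : Type w} [Group S] {V : Type v} [AddCommGroup V] [Finite V]
  (F : FSetting X S V)

/-- Multiplication by a scalar. -/
noncomputable def sm (a : F4) (u : V) : V := F.mk6 fun i => a * F.co i u

theorem co_sm (a : F4) (u : V) (i : Fin 6) : F.co i (F.sm a u) = a * F.co i u := F.co_mk6 _ _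

theorem sm_zero_left (u : V) : F.sm 0 u = 0 := F.co_ext fun i => by rw [co_sm, co_zero, zero_mul]

theorem sm_one (u : V) : F.sm 1 u = u := F.co_ext fun i => by rw [co_sm, one_mul]

theorem sm_w (u : V) : F.sm w4 u = F.om u := F.co_ext fun i => by rw [co_sm, co_om]

theorem sm_add_left (a b : F4) (u : V) : F.sm (a + b) u = F.sm a u + F.sm b u :=
  F.co_ext fun i => by rw [co_add, co_sm, co_sm, co_sm, add_mul]

theorem sm_add (a : F4) (u w : V) : F.sm a (u + w) = F.sm a u + F.sm a w :=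
  F.co_ext fun i => by rw [co_sm, co_add, co_add, co_sm, co_sm, mul_add]

theorem sm_sm (a b : F4) (u : V) : F.sm a (F.sm b u) = F.sm (a * b) u :=
  F.co_ext fun i => by rw [co_sm, co_sm, co_sm, mul_assoc]

theorem sm_injective {a : F4} {u : V} (hu : u ≠ 0) (h : F.sm a u = 0) : a = 0 := by
  obtain ⟨i, hi⟩ : ∃ i, F.co i u ≠ 0 := by
    by_contra hn
    push Not at hn
    exact hu (F.co_ext fun i => by rw [hn, co_zero])
  have := congrArg (F.co i) h
  rw [co_sm, co_zero, mul_eq_zero] at this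
  exact this.resolve_right hi

theorem map_sm {c : V → V} (hadd : ∀ a b, c (a + b) = c a + c b) (hom : ∀ a, c (F.om a) = F.om (c a))
    (a : F4) (u : V) : c (F.sm a u) = F.sm a (c u) := by
  rcases f4_cases a with rfl | rfl | rfl | rfl
  · rw [sm_zero_left, sm_zero_left]
    have h := hadd 0 0
    rw [add_zero] at h
    simpa using h
  · rw [sm_one, sm_one]
  · rw [sm_w, sm_w, hom]
  · rw [sm_add_left, sm_add_left, hadd, sm_one, sm_one, sm_w, sm_w, hom]

/-- The scalar product. -/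
noncomputable def herm (u w : V) : F4 := ∑ i, F.co i u * F.co i w ^ 2

theorem herm_add (u u' w : V) : F.herm (u + u') w = F.herm u w + F.herm u' w := by
  simp [herm, co_add, add_mul, Finset.sum_add_distrib]

theorem herm_sm (a : F4) (u w : V) : F.herm (F.sm a u) w = a * F.herm u w := by
  simp [herm, co_sm, Finset.mul_sum, mul_assoc]

theorem B_herm (u w : V) : F.B u w = (F.herm u w).im := F.B_co u w

theorem herm_eq_zero {u w : V} (h1 : F.B u w = 0) (h2 : F.B u (F.om w) = 0) : F.herm u w = 0 := by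
  refine f4_im_pair _ (by rw [← B_herm]; exact h1) ?_
  rw [B_herm] at h2
  rw [← h2]
  congr 1
  simp [herm, co_om, Finset.sum_mul, mul_pow]
  exact Finset.sum_congr rfl fun i _ => by ring

theorem perp_iff (u w : V) : F.herm u w = 0 ↔ F.B u w = 0 ∧ F.B u (F.om w) = 0 := by
  refine ⟨fun h => ⟨by rw [B_herm, h]; rfl, ?_⟩, fun h => F.herm_eq_zero h.1 h.2⟩
  rw [B_herm, show F.herm u (F.om w) = F.herm u w * w4 ^ 2 from ?_, h, zero_mul]
  · rfl
  · simp [herm, co_om, Finset.sum_mul, mul_pow]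
    exact Finset.sum_congr rfl fun i _ => by ring

/-- Decomposition along a vector not perpendicular to the given one. -/
theorem exists_perp_split {e w : V} (he : F.herm e w ≠ 0) (u : V) :
    ∃ a u', F.herm u' w = 0 ∧ u = u' + F.sm a e := by
  obtain ⟨a, ha⟩ := f4_scalar _ (F.herm u w) he
  refine ⟨a, u + F.sm a e, ?_, ?_⟩
  · rw [herm_add, herm_sm, ← ha, f4_two]
  · rw [add_assoc, F.dbl, add_zero]

theorem mem_small (k : Fin 5) (hcl : ∀ f, Sing6 f → F.dec f ∈ F.orb (F.rep k) → cls f = 0 ∨ cls f = k)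
    (he : F.orb F.v0 = F.orb (F.rep k)) {x : Fin 6 → F4} (hs : Sing6 fun i => code4 (x i))
    (hx : F.mk6 x ∈ F.orb F.v0) :
    cls (fun i => code4 (x i)) = 0 ∨ cls (fun i => code4 (x i)) = k :=
  hcl _ hs (by rw [F.dec_code, ← he]; exact hx)

theorem q_sm {v : V} (hqv : F.q v = 0) (hBv : F.B v (F.om v) = 0) (a : F4) : F.q (F.sm a v) = 0 := by
  have hw : F.q (F.om v) = 0 := (F.ρ_q _ v).trans hqv
  rcases f4_cases a with rfl | rfl | rfl | rfl
  · rw [sm_zero_left, q_zero]
  · rwa [sm_one]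
  · rwa [sm_w]
  · rw [sm_add_left, sm_one, sm_w, F.q_add, hqv, hw, hBv]; rfl

theorem herm_add_right (u w w' : V) : F.herm u (w + w') = F.herm u w + F.herm u w' := by
  simp only [herm, co_add, ← Finset.sum_add_distrib, ← mul_add]
  refine Finset.sum_congr rfl fun i _ => congrArg _ ?_
  generalize F.co i w = a, F.co i w' = b
  revert a b
  decide +kernel

theorem herm_sm_right (a : F4) (u w : V) : F.herm u (F.sm a w) = a ^ 2 * F.herm u w := by
  simp only [herm, co_sm, Finset.mul_sum]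
  exact Finset.sum_congr rfl fun i _ => by ring

/-- The double perpendicular of the line. -/
theorem perp_perp {v e : V} (he : F.herm e v ≠ 0) (hqv : F.q v = 0) (hBv : F.B v (F.om v) = 0) {d : V}
    (hd : ∀ x, F.herm x v = 0 → F.B x d = 0) : ∃ a, d = F.sm a v := by
  obtain ⟨t, ht⟩ := f4_scalar _ (F.herm e d) he
  refine ⟨t ^ 2, ?_⟩
  have hz : F.herm e (d + F.sm (t ^ 2) v) = 0 := by
    rw [herm_add_right, herm_sm_right, ht, ← pow_mul, show t ^ (2 * 2) = t from (show ∀ t : F4, t ^ (2 * 2) = t by decide +kernel) t, f4_two]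
  have h0 : d + F.sm (t ^ 2) v = 0 := F.nondeg _ fun b => by
    obtain ⟨a, x, hx, rfl⟩ := F.exists_perp_split he b
    rw [F.B_symm, F.B_add, F.B_symm x, F.B_add, F.B_symm d, hd x hx, F.B_symm (F.sm _ _) x, B_herm F x,
      herm_sm_right, hx, mul_zero, B_herm F (F.sm a e), herm_sm, hz, mul_zero]
    rfl
  calc d = d + (F.sm (t ^ 2) v + F.sm (t ^ 2) v) := by rw [F.dbl, add_zero]
    _ = _ := by rw [← add_assoc, h0, zero_add]

/-- A vector with full support whose transvection moves the base point out of its orbit. -/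
theorem exists_line : ∃ v : V, (∀ i, F.co i v ≠ 0) ∧ F.q v = 0 ∧ v ∉ F.orb F.v0 ∧ F.herm F.v0 v ≠ 0 ∧
    F.B v (F.om v) = 0 ∧ ∀ a, a ≠ 0 → F.B F.v0 (F.sm a v) = 0 → F.v0 + F.sm a v ∉ F.orb F.v0 := by
  classical
  obtain ⟨k, he, -, hcl⟩ := F.v0_small
  have key : ∀ k : Fin 5, ∃ a : ZMod 3,
      let x : Fin 6 → F4 := ![1, w4, wp a, 1, 1, 1]
      (∀ i, x i ≠ 0) ∧ Sing6 (fun i => code4 (x i)) ∧ cls (fun i => code4 (x i)) ≠ 0 ∧ cls (fun i => code4 (x i)) ≠ k ∧
      (∑ i, v0c i * x i ^ 2) ≠ 0 ∧ (∑ i, x i * (w4 * x i) ^ 2).im = 0 ∧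
      ∀ b : F4, b ≠ 0 → (∑ i, v0c i * (b * x i) ^ 2).im = 0 →
        Sing6 (fun i => code4 (v0c i + b * x i)) ∧ cls (fun i => code4 (v0c i + b * x i)) ≠ 0 ∧
          cls (fun i => code4 (v0c i + b * x i)) ≠ k := by decide +kernel
  obtain ⟨a, hne, hs, h0, hk, hh, hB, hall⟩ := key k
  set x : Fin 6 → F4 := ![1, w4, wp a, 1, 1, 1]
  refine ⟨F.mk6 x, fun i => by rw [co_mk6]; exact hne i, ?_, fun hm => ?_, ?_, ?_, fun b hb hbB hm => ?_⟩
  · rw [← F.dec_code]; exact ((F.sing_iff _).mpr hs).1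
  · rcases F.mem_small k hcl he hs hm with e | e
    exacts [h0 e, hk e]
  · simpa [herm, co_v0, co_mk6] using hh
  · rw [B_co]; simpa [co_om, co_mk6] using hB
  · rw [B_co] at hbB
    simp only [co_sm, co_v0, co_mk6] at hbB
    obtain ⟨hs', h0', hk'⟩ := hall b hb hbB
    have e : F.v0 + F.sm b (F.mk6 x) = F.mk6 (fun i => v0c i + b * x i) := F.co_ext fun i => by
      rw [co_add, co_v0, co_sm, co_mk6, co_mk6]
    rw [e] at hm
    rcases F.mem_small k hcl he hs' hm with e | e
    exacts [h0' e, hk' e]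

theorem co_nh (g : F.Nh) : ∃ e : Fin 6 → ZMod 3, ∀ u i, F.co (F.π g i) (F.ρ (g : X) u) = wp (e i) * F.co i u := by
  obtain ⟨e, he⟩ := F.monomial g
  refine ⟨e, fun u i => code_wp _ _ _ ?_⟩
  exact he (fun i => code4 (F.co i u)) (fun i => code4 (F.co i (F.ρ (g : X) u)))
    (by rw [dec_code, dec_code, mk6_co, mk6_co]) i

/-- An element of order five in the stabiliser of a vector with full support, and its fixed vectors. -/
theorem exists_five {v : V} (hv : ∀ i, F.co i v ≠ 0) :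
    ∃ (L : Subgroup X) (g : X), (∀ l ∈ L, F.ρ l v = v) ∧ Nonempty (L ≃* alternatingGroup (Fin 6)) ∧ g ∈ L ∧
      g ^ 5 = 1 ∧ ∀ u, F.ρ g u = u → F.herm u v = 0 → ∃ a, u = F.sm a v := by
  classical
  let f : Cd := fun i => code4 (F.co i v)
  have hf : F.dec f = v := by rw [dec_code, mk6_co]
  have hu : supp6 f = univ := eq_univ_iff_forall.mpr fun i => mem_supp6.mpr fun h => hv i
    (code4_bijective.1 (h.trans (show none = code4 0 by decide +kernel)))
  obtain ⟨L, hLfix, ⟨eL⟩, hLpi, hLall⟩ := F.stab_vec hu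
  rw [hf] at hLfix
  set σ : Equiv.Perm (Fin 6) := Equiv.swap 1 2 * Equiv.swap 2 3 * Equiv.swap 3 4 * Equiv.swap 4 5 with hσ
  obtain ⟨n, hn, hnσ⟩ := hLall σ (by rw [hσ, Equiv.Perm.mem_alternatingGroup]; decide +kernel)
  -- the permutation representation of `L` is faithful
  have hLN : L ≤ F.Nh := fun l hl => by
    obtain ⟨g, hg, -⟩ := hLpi l hl
    rw [← hg]; exact g.2
  let φ : L →* alternatingGroup (Fin 6) := (F.π.comp (Subgroup.inclusion hLN)).codRestrict _ fun l => by
    obtain ⟨g, hg, hgA⟩ := hLpi l l.2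
    rwa [MonoidHom.comp_apply, show Subgroup.inclusion hLN l = g from Subtype.ext hg.symm]
  haveI : Finite L := Finite.of_equiv _ eL.symm.toEquiv
  have hφ : Function.Bijective φ := (Nat.bijective_iff_surjective_and_card _).mpr
    ⟨fun τ => by
      obtain ⟨g, hg, hgτ⟩ := hLall τ.1 τ.2
      exact ⟨⟨g, hg⟩, Subtype.ext hgτ⟩, Nat.card_congr eL.toEquiv⟩
  have h5 : (⟨(n : X), hn⟩ : L) ^ 5 = 1 := hφ.1 (Subtype.ext (by
    rw [map_pow, map_one, SubmonoidClass.coe_pow]
    show F.π n ^ 5 = 1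
    rw [hnσ, hσ]; decide +kernel))
  refine ⟨L, n, hLfix, ⟨eL⟩, hn, congrArg Subtype.val h5, fun u hfix hperp => ?_⟩
  obtain ⟨e, he⟩ := F.co_nh n
  rw [hnσ] at he
  have hr : ∀ i, F.co i u * F.co (σ i) v = F.co (σ i) u * F.co i v := fun i => by
    have h1 := he u i
    have h2 := he v i
    rw [hfix] at h1
    rw [hLfix _ hn] at h2
    rw [h1, h2]; ring
  have hr' : ∀ i a, F.co i u = a * F.co i v → F.co (σ i) u = a * F.co (σ i) v := fun i a ha => by
    have h := hr i
    rw [ha] at h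
    exact mul_right_cancel₀ (hv i) (by rw [← h]; ring)
  obtain ⟨a, ha⟩ := f4_scalar _ (F.co 1 u) (hv 1)
  obtain ⟨b, hb⟩ := f4_scalar _ (F.co 0 u) (hv 0)
  have e2 : F.co 2 u = a * F.co 2 v := hr' 1 a ha
  have e3 : F.co 3 u = a * F.co 3 v := hr' 2 a e2
  have e4 : F.co 4 u = a * F.co 4 v := hr' 3 a e3
  have e5 : F.co 5 u = a * F.co 5 v := hr' 4 a e4
  have hsq : ∀ i, F.co i v * F.co i v ^ 2 = 1 := fun i => by rw [← pow_succ', f4_cube _ (hv i)]
  have hab : b = a := by
    rw [herm, Fin.sum_univ_six] at hperp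
    simp only [hb, ha, e2, e3, e4, e5, mul_assoc, hsq, mul_one] at hperp
    rw [add_assoc b, add_assoc b, add_assoc b, add_assoc b, f4_five a] at hperp
    calc b = b + (a + a) := by rw [f4_two, add_zero]
      _ = b + a + a := (add_assoc _ _ _).symm
      _ = a := by rw [hperp, zero_add]
  refine ⟨a, F.co_ext fun i => ?_⟩
  rw [co_sm]
  fin_cases i
  · exact hb.trans (by rw [hab]; rfl)
  · exact ha
  · exact e2
  · exact e3
  · exact e4
  · exact e5

/-- A linear map commuting with an element of order five which moves perpendicular vectors along the line fixes them. -/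
theorem fix_perp {v : V} {g : X} (hgv : F.ρ g v = v) (h5 : g ^ 5 = 1)
    (hfx : ∀ u, F.ρ g u = u → F.herm u v = 0 → ∃ a, u = F.sm a v) {c : V → V}
    (hadd : ∀ a b, c (a + b) = c a + c b) (hom : ∀ a, c (F.om a) = F.om (c a)) (hcv : c v = v)
    (hcg : ∀ a, c (F.ρ g a) = F.ρ g (c a)) (hline : ∀ u, F.herm u v = 0 → ∃ a, c u = u + F.sm a v)
    (u : V) (hu : F.herm u v = 0) : c u = u := by
  obtain ⟨a, ha⟩ := hline u hu
  have hperp : ∀ w, F.herm w v = 0 → F.herm (F.ρ g w) v = 0 := fun w hw => by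
    obtain ⟨h1, h2⟩ := (F.perp_iff w v).mp hw
    refine F.herm_eq_zero ?_ ?_
    · conv_lhs => rw [← hgv]
      rw [F.B_inv, h1]
    · conv_lhs => rw [← hgv, ← F.om_comm]
      rw [F.B_inv, h2]
  have hgs : ∀ b, F.ρ g (F.sm b v) = F.sm b v := fun b => by
    rw [F.map_sm (F.ρ_add g) (F.om_comm g), hgv]
  have hc : ∀ w, c w = w + F.sm a v → c (F.ρ g w) = F.ρ g w + F.sm a v := fun w hw => by
    rw [hcg, hw, F.ρ_add, hgs]
  set u1 := F.ρ g u with hu1
  set u2 := F.ρ g u1 with hu2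
  set u3 := F.ρ g u2 with hu3
  set u4 := F.ρ g u3 with hu4
  have g5 : F.ρ g u4 = u := by
    have h := congrArg (fun x : X => F.ρ x u) h5
    simp only [pow_succ, pow_zero, one_mul, map_mul, map_one, Equiv.Perm.mul_apply, Equiv.Perm.one_apply] at h
    exact h
  set s := u + u1 + u2 + u3 + u4 with hs
  have hsfix : F.ρ g s = s := by
    rw [hs, F.ρ_add, F.ρ_add, F.ρ_add, F.ρ_add, ← hu1, ← hu2, ← hu3, ← hu4, g5]
    abel
  have hsp : F.herm s v = 0 := by
    rw [hs, herm_add, herm_add, herm_add, herm_add, hu, hperp _ hu, hperp _ (hperp _ hu),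
      hperp _ (hperp _ (hperp _ hu)), hperp _ (hperp _ (hperp _ (hperp _ hu)))]
    simp
  obtain ⟨b, hb⟩ := hfx s hsfix hsp
  have hcs : c s = s := by rw [hb, F.map_sm hadd hom, hcv]
  have hc1 := hc u ha
  have hc2 := hc u1 hc1
  have hc3 := hc u2 hc2
  have hc4 := hc u3 hc3
  rw [hs, hadd, hadd, hadd, hadd, ha, hc1, hc2, hc3, hc4, ← hu1, ← hu2, ← hu3, ← hu4] at hcs
  have hz : F.sm a v = 0 := by
    rw [← f4_five a, sm_add_left, sm_add_left, sm_add_left, sm_add_left]
    refine add_left_cancel (a := u + u1 + u2 + u3 + u4) ?_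
    rw [add_zero]
    refine Eq.trans ?_ hcs
    abel
  rw [ha, hz, add_zero]

/-- There is no transvection at the vector. -/
theorem eq_id_of_fix_perp {v : V} (he : F.herm F.v0 v ≠ 0) (hqv : F.q v = 0) (hBv : F.B v (F.om v) = 0)
    (hbad : ∀ a, a ≠ 0 → F.B F.v0 (F.sm a v) = 0 → F.v0 + F.sm a v ∉ F.orb F.v0) {c : V → V}
    (hadd : ∀ a b, c (a + b) = c a + c b) (hq : ∀ a, F.q (c a) = F.q a)
    (hom : ∀ a, c (F.om a) = F.om (c a)) (hfix : ∀ u, F.herm u v = 0 → c u = u)
    (horb : c F.v0 ∈ F.orb F.v0) (u : V) : c u = u := by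
  have hB : ∀ x y, F.B (c x) (c y) = F.B x y := fun x y => by
    have h := F.q_add (c x) (c y)
    rw [← hadd, hq, hq, hq, F.q_add] at h
    exact (add_left_cancel h).symm
  -- the displacement of the base point is perpendicular to every perpendicular vector
  set d := c F.v0 + F.v0 with hd
  have hd0 : ∀ x, F.herm x v = 0 → F.B x d = 0 := fun x hx => by
    rw [hd, F.B_symm, F.B_add, F.B_symm (c F.v0), F.B_symm F.v0]
    conv_lhs => arg 1; rw [← hfix x hx, hB]
    exact F.add_self_zmod _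
  obtain ⟨a, hda⟩ : ∃ a, d = F.sm a v := F.perp_perp he hqv hBv hd0
  have hcv0 : c F.v0 = F.v0 + F.sm a v := by
    rw [← hda, hd, ← add_assoc, add_comm F.v0, add_assoc, F.dbl, add_zero]
  have ha : a = 0 := by
    by_contra ha
    refine hbad a ha ?_ (hcv0 ▸ horb)
    have h := hq F.v0
    rw [hcv0, F.q_add] at h
    have hqs : F.q (F.sm a v) = 0 := F.q_sm hqv hBv a
    rw [hqs, add_zero] at h
    simpa using h
  obtain ⟨b, u', hu', rfl⟩ := F.exists_perp_split he u
  rw [hadd, hfix _ hu', F.map_sm hadd hom, hcv0, ha, sm_zero_left, add_zero]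

end FSetting

end Cfsg.Lib.LargeFischer
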