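import Cfsg.Agent.LargeFischer.Orbits

/-!
No small totally singular subgroup is invariant under an alternating group of degree six fixing a vector of the
long orbit; no transvection-like isometry respects the two orbits; the centre of the cover lies in its derived
subgroup.
-/

set_option autoImplicit false
set_option maxRecDepth 100000
set_option maxHeartbeats 1000000
set_option linter.unusedSectionVars false
set_option linter.style.haveILetI false

namespace Cfsg.Lib.LargeFischer

open Matrix Finset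
open scoped commutatorElement

universe u v w

/-- The three-cycle on the first three points. -/
def cycA : Equiv.Perm (Fin 6) := Equiv.swap 0 1 * Equiv.swap 1 2

/-- The three-cycle on the last three points. -/
def cycB : Equiv.Perm (Fin 6) := Equiv.swap 3 4 * Equiv.swap 4 5

theorem cyc_mem : cycA ∈ alternatingGroup (Fin 6) ∧ cycB ∈ alternatingGroup (Fin 6) := by
  rw [Equiv.Perm.mem_alternatingGroup, Equiv.Perm.mem_alternatingGroup]
  exact ⟨by simp [cycA], by simp [cycB]⟩

namespace FSetting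

variable {X : Type u} [Group X] {S : Type w} [Group S] {V : Type v} [AddCommGroup V] [Finite V]
  (F : FSetting X S V)

/-- The support of a vector. -/
noncomputable def sp (a : V) : Finset (Fin 6) := by
  classical exact univ.filter fun i => F.W.proj (F.cs i) a ≠ 0

theorem mem_sp {a : V} {i : Fin 6} : i ∈ F.sp a ↔ F.W.proj (F.cs i) a ≠ 0 := by
  classical simp [sp]

theorem sp_dec (f : Cd) : F.sp (F.dec f) = supp6 f := by
  ext i
  rw [mem_sp, mem_supp6, ne_eq, F.dec_none_iff]

theorem q_sp (a : V) : F.q a = ((F.sp a).card : ZMod 2) := by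
  obtain ⟨f, rfl⟩ := F.dec_bijective.2 a
  rw [sp_dec, q_dec]

theorem sp_even {a : V} (h : F.q a = 0) : 2 ∣ (F.sp a).card := by
  rwa [q_sp, ZMod.natCast_eq_zero_iff] at h

theorem sp_empty {a : V} : F.sp a = ∅ ↔ a = 0 := by
  constructor
  · intro h
    rw [F.decompose_six a]
    refine sum_eq_zero fun i _ => ?_
    by_contra hne
    exact absurd (F.mem_sp.mpr hne) (by simp [h])
  · rintro rfl
    exact eq_empty_of_forall_notMem fun i hi => F.mem_sp.mp hi (map_zero _)

theorem orb_of_card {a : V} (ha : F.q a = 0) :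
    ((F.sp a).card = 2 → a ∈ F.orb (F.rep 0)) ∧ ((F.sp a).card = 4 → a ∈ F.orb (F.rep 1)) := by
  obtain ⟨f, rfl⟩ := F.dec_bijective.2 a
  rw [sp_dec]
  constructor <;> intro h
  · have hf : Sing6 f := Or.inl h
    have := F.mem_orb_rep hf
    rwa [show cls f = 0 by simp [cls, h]] at this
  · have hf : Sing6 f := Or.inr (Or.inl h)
    have := F.mem_orb_rep hf
    rwa [show cls f = 1 by simp [cls, h]] at this

theorem orb_one_card : Nat.card (F.orb (F.rep 1)) = 1701 := by
  obtain ⟨a, b, -, -, -, h378, h1701, hall, -⟩ := F.two_points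
  rcases hall _ (F.rep_sing 1).1 (F.rep_sing 1).2 with h | h
  · exfalso
    rw [← F.orb_eq h] at h378
    classical
    have hle : Nat.card {f : Cd // Sing6 f ∧ cls f = 1} ≤ Nat.card (F.orb (F.rep 1)) :=
      Nat.card_le_card_of_injective (fun f => ⟨F.dec f.1, by
          have := F.mem_orb_rep f.2.1; rwa [f.2.2] at this⟩)
        fun f f' e => Subtype.ext (F.dec_bijective.1 (congrArg Subtype.val e))
    rw [Nat.card_eq_fintype_card, Fintype.card_subtype, cls_card, h378] at hle
    exact absurd hle (by decide)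
  · rw [F.orb_eq h, h1701]

theorem orb_long {a : V} (ha : F.q a = 0 ∧ a ≠ 0) (hc : Nat.card (F.orb a) = 1701) :
    F.orb a = F.orb (F.rep 1) := by
  obtain ⟨x, y, -, -, -, h378, h1701, hall, -⟩ := F.two_points
  have key : ∀ e, F.q e = 0 → e ≠ 0 → Nat.card (F.orb e) = 1701 → F.orb e = F.orb y := fun e he he0 hec => by
    rcases hall e he he0 with h | h
    · rw [F.orb_eq h, h378] at hec
      exact absurd hec (by decide)
    · exact F.orb_eq h
  rw [key a ha.1 ha.2 hc, key _ (F.rep_sing 1).1 (F.rep_sing 1).2 F.orb_one_card]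

theorem zero_not_long : Nat.card (F.orb (F.rep 0)) ≠ 1701 := fun h => by
  obtain ⟨k, hk0, hk1, hnot, h378, -, hcl⟩ := F.two_orbits
  have he := F.orb_long (F.rep_sing 0) h
  classical
  have hsub : ∀ b : F.orb (F.rep k), ∃ f, F.dec f = (b : V) ∧ Sing6 f ∧ cls f = k := fun b => by
    obtain ⟨f, hf⟩ := F.dec_bijective.2 (b : V)
    have hs := (F.sing_iff f).mp (hf.symm ▸ F.orb_sing (F.rep_sing k) b.2)
    refine ⟨f, hf, hs, (hcl f hs (hf.symm ▸ b.2)).resolve_left fun h0 => hnot ?_⟩
    have h1 := F.mem_orb_rep hs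
    rw [h0, he] at h1
    rw [← F.orb_eq b.2, ← hf, F.orb_eq h1]
    exact F.orb_self _
  choose f hf hfs hfk using hsub
  have hle := Nat.card_le_card_of_injective (fun b => (⟨f b, hfs b, hfk b⟩ : {f : Cd // Sing6 f ∧ cls f = k}))
    fun b b' e => Subtype.ext (by rw [← hf b, ← hf b']; exact congrArg F.dec (congrArg Subtype.val e))
  rw [h378, Nat.card_eq_fintype_card (α := {f : Cd // Sing6 f ∧ cls f = k}), Fintype.card_subtype, cls_card] at hle
  have h243 : ∀ k : Fin 5, k ≠ 0 → k ≠ 1 → size5 k < 378 := by decide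
  have := h243 k hk0 hk1
  omega

theorem not_linked {a b : V} (ha : F.q a = 0) (hb : F.q b = 0) (h2 : (F.sp a).card = 2) (h4 : (F.sp b).card = 4) :
    b ∉ F.orb a := fun h => F.zero_not_long (by
  rw [← F.orb_eq ((F.orb_of_card ha).1 h2), ← F.orb_eq h, F.orb_eq ((F.orb_of_card hb).2 h4), F.orb_one_card])

theorem proj_move (g : F.Nh) (i : Fin 6) (a : V) :
    F.W.proj (F.cs (F.π g i)) (F.ρ (g : X) a) = F.ρ (g : X) (F.W.proj (F.cs i) a) := by
  rw [← F.proj_transfer g, F.cs_π]

theorem proj_fixed {g : F.Nh} {f : Cd} (hu : supp6 f = univ) (hg : F.ρ (g : X) (F.dec f) = F.dec f) {i : Fin 6}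
    (hi : F.π g i = i) (a : V) : F.W.proj (F.cs i) (F.ρ (g : X) a) = F.W.proj (F.cs i) a := by
  have hcomm : ∀ (j : ZMod 3) (b : V), F.ρ (g : X) (F.W.t (j • Pi.single 0 1) b) =
      F.W.t (j • Pi.single 0 1) (F.ρ (g : X) b) := fun j b => by
    rw [W_t, W_t, show (j • (Pi.single 0 1 : C5)) = Pi.single 0 j by rw [← Pi.single_smul', smul_eq_mul, mul_one],
      F.E.α_e, ← Equiv.Perm.mul_apply, ← map_mul, F.E.pw_comm, map_mul, Equiv.Perm.mul_apply]
  obtain ⟨j, hj⟩ : ∃ j, f i = some j :=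
    Option.ne_none_iff_exists'.mp (mem_supp6.mp (hu ▸ mem_univ i))
  have hb : F.ρ (g : X) (F.base i) = F.base i := by
    have h := F.proj_move g i (F.dec f)
    rw [hi, hg, F.proj_dec, hj] at h
    exact F.t_inj _ ((hcomm j _).symm.trans h.symm)
  have h := F.proj_move g i a
  rw [hi] at h
  rw [h]
  obtain ⟨o, ho⟩ := F.pl_surj i (⟨a, rfl⟩ : F.W.proj (F.cs i) a ∈ F.W.space (F.cs i))
  rw [← ho]
  cases o with
  | none => exact map_zero (F.rho (g : X))
  | some k =>
    show F.ρ (g : X) (F.W.t _ (F.base i)) = F.W.t _ (F.base i)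
    rw [hcomm, hb]

/-- Every even permutation is induced fixing a vector with full support. -/
theorem exists_mono {f : Cd} (hu : supp6 f = univ) {π : Equiv.Perm (Fin 6)} (hπ : π ∈ alternatingGroup (Fin 6)) :
    ∃ n : F.Nh, F.ρ (n : X) (F.dec f) = F.dec f ∧ F.π n = π := by
  have hA : ∀ x : C5, F.E.α x ∈ F.Nh := fun x => Subgroup.le_normalizer ⟨x, rfl⟩
  obtain ⟨g, hg⟩ := F.exists_even π hπ
  obtain ⟨f₁, hf₁⟩ := F.dec_bijective.2 (F.ρ (g : X) (F.dec f))
  obtain ⟨hu1, ht⟩ := F.tot_invariant g.2 hu hf₁.symm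
  obtain ⟨x, hx⟩ := F.shift_link (hu1.trans hu.symm) (f' := f) fun _ => ht
  refine ⟨⟨F.E.α x, hA x⟩ * Subgroup.inclusion F.Lhat_le g, ?_, ?_⟩
  · show F.ρ (F.E.α x * (g : X)) (F.dec f) = F.dec f
    rw [map_mul, Equiv.Perm.mul_apply, ← hf₁]
    exact hx
  · rw [map_mul, show F.π ⟨F.E.α x, hA x⟩ = 1 from ?_, one_mul]
    · exact hg
    · refine Equiv.ext fun i => ?_
      rw [F.π_eq, show F.σ ⟨F.E.α x, hA x⟩ = 1 from Equiv.ext fun c => Subtype.ext (F.Tc_of_central (fun y => by
        rw [Subgroup.coe_inv]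
        show (F.E.α x)⁻¹ * F.E.α y = F.E.α y * (F.E.α x)⁻¹
        rw [eq_mul_inv_iff_mul_eq, mul_assoc, ← F.E.α_add, inv_mul_eq_iff_eq_mul, ← F.E.α_add, add_comm]) c)]
      simp

theorem mono_faithful {f : Cd} (hu : supp6 f = univ) {g : F.Nh} (hg : F.ρ (g : X) (F.dec f) = F.dec f)
    (hπ : F.π g = 1) : (g : X) = 1 := by
  refine F.ρ_inj (Equiv.ext fun a => ?_)
  rw [map_one]
  show F.ρ (g : X) a = a
  rw [F.decompose_six (F.ρ (g : X) a)]
  conv_rhs => rw [F.decompose_six a]
  exact sum_congr rfl fun i _ => F.proj_fixed hu hg (by rw [hπ]; rfl) a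

/-- The core of the invariance argument. -/
theorem no_invariant_aux {f : Cd} (hu : supp6 f = univ) (L : Subgroup X)
    (hLA : Nonempty (L ≃* alternatingGroup (Fin 6))) (g₁ g₂ : F.Nh)
    (h₁ : F.ρ (g₁ : X) (F.dec f) = F.dec f) (h₂ : F.ρ (g₂ : X) (F.dec f) = F.dec f)
    (hπ₁ : F.π g₁ = cycA) (hπ₂ : F.π g₂ = cycB) (hL₁ : (g₁ : X) ∈ L) (hL₂ : (g₂ : X) ∈ L)
    (Y : AddSubgroup V) (hY : ∀ l ∈ L, ∀ y ∈ Y, F.ρ l y ∈ Y) (hq : ∀ y ∈ Y, F.q y = 0)
    (hcard : Nat.card Y = 8 ∨ Nat.card Y = 16) : False := by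
  classical
  haveI := F.finiteX
  haveI : IsSimpleGroup L := by
    obtain ⟨e⟩ := hLA
    haveI : IsSimpleGroup (alternatingGroup (Fin 6)) := alternatingGroup.isSimpleGroup (by simp)
    exact e.isSimpleGroup
  have hLc : Nat.card L = 360 := by
    obtain ⟨e⟩ := hLA
    rw [Nat.card_congr e.toEquiv, nat_card_alternatingGroup, Nat.card_fin]; rfl
  let ξ : L →* Equiv.Perm Y :=
    MonoidHom.mk' (fun l =>
      { toFun := fun y => ⟨F.ρ (l : X) y, hY l l.2 y y.2⟩
        invFun := fun y => ⟨F.ρ ((l : X)⁻¹) y, hY _ (inv_mem l.2) y y.2⟩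
        left_inv := fun y => Subtype.ext (by
          show F.ρ ((l : X)⁻¹) (F.ρ (l : X) (y : V)) = y
          rw [← Equiv.Perm.mul_apply, ← map_mul, inv_mul_cancel, map_one]; rfl)
        right_inv := fun y => Subtype.ext (by
          show F.ρ (l : X) (F.ρ ((l : X)⁻¹) (y : V)) = y
          rw [← Equiv.Perm.mul_apply, ← map_mul, mul_inv_cancel, map_one]; rfl) })
      fun l m => Equiv.ext fun y => Subtype.ext (by
        show F.ρ ((l : X) * m) (y : V) = F.ρ (l : X) (F.ρ (m : X) y)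
        rw [map_mul]; rfl)
  have hfixzero : ∀ {g : F.Nh}, F.ρ (g : X) (F.dec f) = F.dec f → ∀ {a : V}, ∀ i, F.π g i = i →
      i ∉ F.sp (a + F.ρ (g : X) a) := fun {g} hg {a} i hi hm => by
    rw [mem_sp, map_add, F.proj_fixed hu hg hi, F.dbl] at hm
    exact hm rfl
  rcases IsSimpleGroup.eq_bot_or_eq_top_of_normal ξ.ker inferInstance with hb | ht
  · -- faithful action
    have hinj : Function.Injective ξ := (MonoidHom.ker_eq_bot_iff ξ).mp hb
    haveI : Fact (Nat.Prime 5) := ⟨by norm_num⟩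
    obtain ⟨h, hh⟩ := exists_prime_orderOf_dvd_card' (G := L) 5 (by rw [hLc]; norm_num)
    have hh5 : h ^ 5 = 1 := by rw [← hh]; exact pow_orderOf_eq_one h
    have h5 : ξ h ^ 5 = 1 := by rw [← map_pow, hh5, map_one]
    let Z := F.fix (h : X) ⊓ Y
    have hZ : Nat.card {y : Y // ξ h y = y} = Nat.card Z := Nat.card_congr
      { toFun := fun y => ⟨y.1.1, congrArg Subtype.val y.2, y.1.2⟩
        invFun := fun y => ⟨⟨y.1, y.2.2⟩, Subtype.ext y.2.1⟩
        left_inv := fun _ => rfl
        right_inv := fun _ => rfl }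
    have hm := card_modEq_fixed (ξ h) h5
    rw [hZ] at hm
    have hd : Nat.card Z ∣ Nat.card Y := AddSubgroup.card_dvd_of_le inf_le_right
    have hne : Nat.card Z ≠ Nat.card Y := fun e => by
      have he : Z = Y := AddSubgroup.eq_of_le_of_card_ge inf_le_right e.ge
      have h1 : ξ h = 1 := Equiv.ext fun y => Subtype.ext (he.ge y.2).1
      rw [hinj (h1.trans (map_one ξ).symm), orderOf_one] at hh
      norm_num at hh
    have h16 : Nat.card Y = 16 ∧ Nat.card Z = 1 := by
      obtain ⟨k, hk, hk'⟩ := (Nat.dvd_prime_pow Nat.prime_two (m := 4)).mp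
        (hd.trans (by rcases hcard with e | e <;> rw [e] <;> norm_num))
      rw [hk'] at hm hne ⊢
      rcases hcard with e | e <;> rw [e] at hm hne ⊢ <;> interval_cases k <;> first | (exfalso; revert hm hne; norm_num; done) | norm_num
    obtain ⟨hY16, hZ1⟩ := h16
    letI : MulAction L V := MulAction.compHom V (F.ρ.comp L.subtype)
    have horbY : ∀ y ∈ Y, ∀ b ∈ MulAction.orbit L y, b ∈ Y := by
      rintro y hy _ ⟨l, rfl⟩
      exact hY l l.2 y hy
    have hne0 : ∀ y : V, y ≠ 0 → ∀ b ∈ MulAction.orbit L y, b ≠ 0 := by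
      rintro y hy _ ⟨l, rfl⟩ e
      exact hy ((F.ρ (l : X)).injective (e.trans (map_zero (F.rho (l : X))).symm))
    have hnz : Nat.card {y : Y // y ≠ 0} = 15 := by
      haveI := Fintype.ofFinite Y
      rw [Nat.card_eq_fintype_card, Fintype.card_subtype, filter_ne', card_erase_of_mem (mem_univ _), card_univ,
        ← Nat.card_eq_fintype_card, hY16]
    have key : ∀ y ∈ Y, y ≠ 0 → Nat.card (MulAction.orbit L y) = 10 ∨ Nat.card (MulAction.orbit L y) = 15 := by
      intro y hy hy0
      have hd : Nat.card (MulAction.orbit L y) ∣ 360 := by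
        rw [← hLc]
        exact Dvd.intro _ ((Nat.card_congr (MulAction.orbitEquivQuotientStabilizer L y)).symm ▸
          (Subgroup.card_eq_card_quotient_mul_card_subgroup (MulAction.stabilizer L y)).symm)
      have h15 : Nat.card (MulAction.orbit L y) ≤ 15 := by
        rw [← hnz]
        exact Nat.card_le_card_of_injective
          (fun b => ⟨⟨b.1, horbY y hy _ b.2⟩, fun e => hne0 y hy0 _ b.2 (congrArg Subtype.val e)⟩)
          fun b b' e => Subtype.ext (congrArg (fun (w : {y : Y // y ≠ 0}) => ((w : Y) : V)) e)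
      have hmod : Nat.card (MulAction.orbit L y) % 5 = 0 := by
        rw [card_modEq_fixed (MulAction.toPermHom L (MulAction.orbit L y) h) (by rw [← map_pow, hh5, map_one])]
        haveI : IsEmpty {b : MulAction.orbit L y // h • b = b} :=
          ⟨fun b => by
            have hbZ : b.1.1 ∈ Z := ⟨congrArg Subtype.val b.2, horbY y hy _ b.1.2⟩
            haveI := (Nat.card_eq_one_iff_unique.mp hZ1).1
            exact hne0 y hy0 _ b.1.2 (congrArg Subtype.val (Subsingleton.elim (⟨_, hbZ⟩ : Z) 0))⟩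
        simp
      have hne5 : Nat.card (MulAction.orbit L y) ≠ 5 := fun e => by
        rcases IsSimpleGroup.eq_bot_or_eq_top_of_normal (MulAction.toPermHom L (MulAction.orbit L y)).ker
          inferInstance with hb' | ht'
        · have := Nat.card_le_card_of_injective _ ((MonoidHom.ker_eq_bot_iff _).mp hb')
          rw [hLc, Nat.card_perm, e] at this
          norm_num [Nat.factorial] at this
        · have h1 : MulAction.toPermHom L (MulAction.orbit L y) h ⟨y, MulAction.mem_orbit_self y⟩ =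
              ⟨y, MulAction.mem_orbit_self y⟩ := by
            rw [MonoidHom.mem_ker.mp (ht' ▸ Subgroup.mem_top h)]; rfl
          haveI := (Nat.card_eq_one_iff_unique.mp hZ1).1
          exact hy0 (congrArg Subtype.val
            (Subsingleton.elim (⟨y, congrArg Subtype.val h1, hy⟩ : Z) 0))
      have hpos : 0 < Nat.card (MulAction.orbit L y) :=
        haveI : Nonempty (MulAction.orbit L y) := ⟨⟨y, MulAction.mem_orbit_self y⟩⟩
        Nat.card_pos
      omega
    have trans : ∀ y ∈ Y, y ≠ 0 → ∀ b ∈ Y, b ≠ 0 → b ∈ F.orb y := by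
      intro y hy hy0 b hb hb0
      suffices b ∈ MulAction.orbit L y by obtain ⟨l, rfl⟩ := this; exact ⟨(l : X), rfl⟩
      by_contra hno
      have hdis : Disjoint (MulAction.orbit L y) (MulAction.orbit L b) := Set.disjoint_left.mpr fun x hx hx' => hno (by
        rw [← MulAction.orbit_eq_iff.mpr hx, MulAction.orbit_eq_iff.mpr hx']
        exact MulAction.mem_orbit_self b)
      have hsum : Nat.card (MulAction.orbit L y) + Nat.card (MulAction.orbit L b) ≤ 15 := by
        rw [← hnz, ← Nat.card_sum]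
        refine Nat.card_le_card_of_injective (Sum.elim
          (fun x => ⟨⟨x.1, horbY y hy _ x.2⟩, fun e => hne0 y hy0 _ x.2 (congrArg Subtype.val e)⟩)
          (fun x => ⟨⟨x.1, horbY b hb _ x.2⟩, fun e => hne0 b hb0 _ x.2 (congrArg Subtype.val e)⟩)) ?_
        intro x x' e
        have e' : Sum.elim (fun x : MulAction.orbit L y => (x : V)) (fun x : MulAction.orbit L b => (x : V)) x =
            Sum.elim (fun x : MulAction.orbit L y => (x : V)) (fun x : MulAction.orbit L b => (x : V)) x' := by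
          cases x <;> cases x' <;> exact congrArg (fun (w : {y : Y // y ≠ 0}) => ((w : Y) : V)) e
        cases x <;> cases x' <;> simp only [Sum.elim_inl, Sum.elim_inr] at e'
        · rw [Subtype.ext e']
        · rename_i a a'
          exact absurd (e' ▸ a'.2 : (a : V) ∈ MulAction.orbit L b) (Set.disjoint_left.mp hdis a.2)
        · rename_i a a'
          exact absurd (e' ▸ a'.2 : (a : V) ∈ MulAction.orbit L y) (Set.disjoint_right.mp hdis a.2)
        · rw [Subtype.ext e']
      rcases key y hy hy0 with e | e <;> rcases key b hb hb0 with e' | e' <;> omega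
    -- a vector of weight two in each block
    have hblock : ∀ (g : F.Nh), F.ρ (g : X) (F.dec f) = F.dec f → (g : X) ∈ L → F.π g ≠ 1 → ∀ T : Finset (Fin 6),
        T.card = 3 → (∀ i ∉ T, F.π g i = i) → ∃ w ∈ Y, w ≠ 0 ∧ F.sp w ⊆ T ∧ (F.sp w).card = 2 := by
      intro g hg hgL hπ T hT hTfix
      obtain ⟨y, hy⟩ : ∃ y : Y, F.ρ (g : X) y ≠ y := by
        by_contra hno
        push Not at hno
        have h1 : (⟨(g : X), hgL⟩ : L) = 1 :=
          hinj ((Equiv.ext fun y => Subtype.ext (hno y)).trans (map_one ξ).symm)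
        exact hπ (by rw [show g = 1 from Subtype.ext (congrArg Subtype.val h1 : _), map_one])
      refine ⟨(y : V) + F.ρ (g : X) y, add_mem y.2 (hY _ hgL _ y.2), fun e => hy ?_, ?_⟩
      · rw [add_eq_zero_iff_neg_eq, F.W.neg_eq] at e
        exact e.symm
      have hsub : F.sp ((y : V) + F.ρ (g : X) y) ⊆ T := fun i hi => by
        by_contra hiT
        exact hfixzero hg i (hTfix i hiT) hi
      refine ⟨hsub, ?_⟩
      have h2 := F.sp_even (hq _ (add_mem y.2 (hY _ hgL _ y.2)))
      have h3 := card_le_card hsub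
      have h0 : F.sp ((y : V) + F.ρ (g : X) y) ≠ ∅ := fun e => hy (by
        have e' := F.sp_empty.mp e
        rw [add_eq_zero_iff_neg_eq, F.W.neg_eq] at e'
        exact e'.symm)
      rw [ne_eq, ← card_eq_zero] at h0
      omega
    obtain ⟨w₁, hw₁, hw₁0, hs₁, hc₁⟩ := hblock g₁ h₁ hL₁ (by rw [hπ₁]; decide) {0, 1, 2} (by decide)
      (by rw [hπ₁]; decide)
    obtain ⟨w₂, hw₂, -, hs₂, hc₂⟩ := hblock g₂ h₂ hL₂ (by rw [hπ₂]; decide) {3, 4, 5} (by decide)
      (by rw [hπ₂]; decide)
    have hdisj : Disjoint (F.sp w₁) (F.sp w₂) := Finset.disjoint_of_subset_left hs₁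
      (Finset.disjoint_of_subset_right hs₂ (by decide))
    have hsp : F.sp (w₁ + w₂) = F.sp w₁ ∪ F.sp w₂ := by
      ext i
      rw [mem_union, mem_sp, mem_sp, mem_sp, map_add]
      by_cases hi : i ∈ F.sp w₁
      · have h0 : F.W.proj (F.cs i) w₂ = 0 := by
          by_contra hne
          exact Finset.disjoint_left.mp hdisj hi (F.mem_sp.mpr hne)
        rw [h0, add_zero]; simp
      · rw [mem_sp, not_not] at hi
        rw [hi, zero_add]; simp
    have hc : (F.sp (w₁ + w₂)).card = 4 := by rw [hsp, card_union_of_disjoint hdisj, hc₁, hc₂]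
    refine F.not_linked (hq _ hw₁) (hq _ (add_mem hw₁ hw₂)) hc₁ hc (trans _ hw₁ hw₁0 _ (add_mem hw₁ hw₂) ?_)
    intro e
    rw [e, F.sp_empty.mpr rfl] at hc
    simp at hc
  · -- trivial action
    have htriv : ∀ l ∈ L, ∀ y ∈ Y, F.ρ l y = y := fun l hl y hy => by
      have h0 : ξ ⟨l, hl⟩ = 1 := MonoidHom.mem_ker.mp (ht ▸ Subgroup.mem_top _)
      have h1 := Equiv.ext_iff.mp h0 ⟨y, hy⟩
      exact congrArg Subtype.val h1
    have hinj : ∀ d ∈ Y, F.W.proj (F.cs 0) d = 0 → d = 0 := fun d hd h0 => by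
      have hmv : ∀ (g : F.Nh), (g : X) ∈ L → ∀ i, (F.π g i ∈ F.sp d ↔ i ∈ F.sp d) := fun g hg i => by
        have h := F.proj_move g i d
        rw [htriv _ hg d hd] at h
        rw [mem_sp, mem_sp, h]
        exact not_congr ⟨fun e => (F.ρ (g : X)).injective (e.trans (map_zero (F.rho (g : X))).symm),
          fun e => by rw [e]; exact map_zero (F.rho (g : X))⟩
      have h1 := hmv g₁ hL₁
      have h2 := hmv g₂ hL₂
      rw [hπ₁] at h1
      rw [hπ₂] at h2
      have hev := F.sp_even (hq d hd)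
      have h0' : (0 : Fin 6) ∉ F.sp d := fun h => F.mem_sp.mp h h0
      refine F.sp_empty.mp ?_
      generalize F.sp d = T at h1 h2 hev h0'
      revert T
      decide
    have hle : Nat.card Y ≤ Nat.card (F.W.space (F.cs 0)) := Nat.card_le_card_of_injective
      (fun y => ⟨F.W.proj (F.cs 0) y, ⟨y, rfl⟩⟩) fun y y' e => Subtype.ext (by
        have h := hinj ((y : V) + y') (add_mem y.2 y'.2)
          (by rw [map_add, show F.W.proj (F.cs 0) (y : V) = F.W.proj (F.cs 0) (y' : V) from congrArg Subtype.val e, F.dbl])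
        rwa [add_eq_zero_iff_neg_eq, F.W.neg_eq] at h)
    rw [F.bijective.2 0] at hle
    omega

/-- An alternating group of degree six fixing a vector of the long orbit leaves no totally singular subgroup of
order `8` or `16` invariant. -/
theorem no_invariant {v : V} (hv : F.q v = 0 ∧ v ≠ 0) (hc : Nat.card (F.orb v) = 1701) (L : Subgroup X)
    (hLA : Nonempty (L ≃* alternatingGroup (Fin 6))) (hL : ∀ l ∈ L, F.ρ l v = v) (Y : AddSubgroup V)
    (hY : ∀ l ∈ L, ∀ y ∈ Y, F.ρ l y ∈ Y) (hq : ∀ y ∈ Y, F.q y = 0) (hcard : Nat.card Y = 8 ∨ Nat.card Y = 16) :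
    False := by
  classical
  haveI := F.finiteX
  haveI : Fact (Nat.Prime 3) := ⟨by norm_num⟩
  obtain ⟨k, hk0, hk1, -, -, hall, hcl⟩ := F.two_orbits
  obtain ⟨c, hc0, hc1, hck⟩ := (show ∀ k : Fin 5, ∃ c : Fin 5, c ≠ 0 ∧ c ≠ 1 ∧ c ≠ k by decide) k
  obtain ⟨f, hfs, hfc⟩ := exists_rep c
  have hu : supp6 f = univ := full_of_cls hfs (hfc ▸ hc0) (hfc ▸ hc1)
  have hfq := (F.sing_iff f).mpr hfs
  have hforb : F.orb (F.dec f) = F.orb (F.rep 1) := by
    refine F.orb_eq ((hall _ hfq.1 hfq.2).resolve_left fun h => ?_)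
    rcases hcl f hfs h with e | e
    · exact hc0 (hfc.symm.trans e)
    · exact hck (hfc.symm.trans e)
  obtain ⟨g, hg⟩ : F.dec f ∈ F.orb v := by rw [F.orb_long hv hc, ← hforb]; exact F.orb_self _
  obtain ⟨g₁, h₁, hπ₁⟩ := F.exists_mono hu cyc_mem.1
  obtain ⟨g₂, h₂, hπ₂⟩ := F.exists_mono hu cyc_mem.2
  letI : MulAction X V := MulAction.compHom V F.ρ
  set St := MulAction.stabilizer X (F.dec f) with hSt
  set L₁ := L.map (MulAut.conj g).toMonoidHom with hL₁
  have hL₁le : L₁ ≤ St := by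
    rintro _ ⟨l, hl, rfl⟩
    show F.ρ (g * l * g⁻¹) (F.dec f) = F.dec f
    rw [← hg, map_mul, map_mul, Equiv.Perm.mul_apply, Equiv.Perm.mul_apply, ← Equiv.Perm.mul_apply (F.ρ g⁻¹),
      ← map_mul, inv_mul_cancel, map_one, Equiv.Perm.one_apply, hL l hl]
  have hStc : Nat.card St = 5760 := by
    have h := Subgroup.card_eq_card_quotient_mul_card_subgroup St
    rw [← Nat.card_congr (MulAction.orbitEquivQuotientStabilizer X (F.dec f)), F.cardX,
      show MulAction.orbit X (F.dec f) = F.orb (F.dec f) from rfl, hforb, F.orb_one_card] at h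
    omega
  have key : ∀ a : F.Nh, F.ρ (a : X) (F.dec f) = F.dec f → F.π a ^ 3 = 1 → (a : X) ^ 3 = 1 := fun a ha ha3 => by
    have h := F.mono_faithful hu (g := a ^ 3) (by
      simp only [pow_succ, pow_zero, one_mul, Subgroup.coe_mul, map_mul, Equiv.Perm.mul_apply, ha])
      (by rw [map_pow, ha3])
    rwa [Subgroup.coe_pow] at h
  have hcomm : (g₁ : X) * g₂ = g₂ * g₁ := by
    have hi : ∀ a : F.Nh, F.ρ (a : X) (F.dec f) = F.dec f → F.ρ ((a : X)⁻¹) (F.dec f) = F.dec f := fun a ha => by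
      conv_lhs => rw [← ha, ← Equiv.Perm.mul_apply, ← map_mul, inv_mul_cancel, map_one]
      rfl
    have h := F.mono_faithful hu (g := g₁ * g₂ * g₁⁻¹ * g₂⁻¹) (by
      simp only [Subgroup.coe_mul, Subgroup.coe_inv, map_mul, Equiv.Perm.mul_apply, hi g₂ h₂, hi g₁ h₁, h₁, h₂])
      (by rw [map_mul, map_mul, map_mul, map_inv, map_inv, hπ₁, hπ₂]; decide)
    simp only [Subgroup.coe_mul, Subgroup.coe_inv] at h
    rwa [mul_inv_eq_one, mul_inv_eq_iff_eq_mul] at h
  let a₁ : St := ⟨g₁, h₁⟩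
  let a₂ : St := ⟨g₂, h₂⟩
  have hP3 : ∀ a : St, a ^ 3 = 1 → IsPGroup 3 (Subgroup.zpowers a) := fun a ha => by
    obtain ⟨n, -, hn⟩ := (Nat.dvd_prime_pow (by norm_num : Nat.Prime 3) (m := 1)).mp
      (show Nat.card (Subgroup.zpowers a) ∣ 3 ^ 1 by rw [Nat.card_zpowers]; exact orderOf_dvd_of_pow_eq_one ha)
    exact IsPGroup.of_card hn
  have hP : IsPGroup 3 ↥(Subgroup.zpowers a₁ ⊔ Subgroup.zpowers a₂) := by
    refine (hP3 a₁ (Subtype.ext (key g₁ h₁ (by rw [hπ₁]; decide)))).to_sup_of_normal_right'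
      (hP3 a₂ (Subtype.ext (key g₂ h₂ (by rw [hπ₂]; decide)))) ?_
    refine Subgroup.zpowers_le.mpr (Subgroup.mem_normalizer_iff.mpr fun x => ?_)
    have hc : Commute a₁ a₂ := Subtype.ext hcomm
    constructor
    · intro hx
      obtain ⟨n, rfl⟩ := Subgroup.mem_zpowers_iff.mp hx
      rw [(hc.zpow_right n).eq, mul_inv_cancel_right]
      exact hx
    · intro hx
      obtain ⟨n, hn⟩ := Subgroup.mem_zpowers_iff.mp hx
      refine Subgroup.mem_zpowers_iff.mpr ⟨n, ?_⟩
      rw [show x = a₁⁻¹ * (a₁ * x * a₁⁻¹) * a₁ by group, ← hn, (hc.inv_left.zpow_right n).eq, inv_mul_cancel_right]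
  obtain ⟨P, hPle⟩ := hP.exists_le_sylow
  obtain ⟨eL⟩ := hLA
  let L₂ : Subgroup St := L₁.subgroupOf St
  let eL₂ : L₂ ≃* alternatingGroup (Fin 6) := (Subgroup.subgroupOfEquivOfLe hL₁le).trans
    ((L.equivMapOfInjective _ (MulAut.conj g).injective).symm.trans eL)
  obtain ⟨R⟩ := (inferInstance : Nonempty (Sylow 3 L₂))
  have hR : Nat.card R = 9 := by
    rw [R.card_eq_multiplicity, Nat.card_congr eL₂.toEquiv, nat_card_alternatingGroup, Nat.card_fin,
      show (Nat.factorial 6 / 2) = 3 ^ 2 * 40 by rfl, Nat.factorization_mul (by norm_num) (by norm_num),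
      Finsupp.add_apply, Nat.Prime.factorization_pow (by norm_num : Nat.Prime 3), Finsupp.single_eq_same,
      Nat.factorization_eq_zero_of_not_dvd (by norm_num : ¬ 3 ∣ 40)]
    rfl
  have hRc : Nat.card ((R : Subgroup L₂).map L₂.subtype) = 9 := by
    rw [Subgroup.card_map_of_injective L₂.subtype_injective]; exact hR
  have hS9 : 9 = 3 ^ (Nat.card St).factorization 3 := by
    rw [hStc, show (5760 : ℕ) = 3 ^ 2 * 640 by norm_num, Nat.factorization_mul (by norm_num) (by norm_num),
      Finsupp.add_apply, Nat.Prime.factorization_pow (by norm_num : Nat.Prime 3), Finsupp.single_eq_same,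
      Nat.factorization_eq_zero_of_not_dvd (by norm_num : ¬ 3 ∣ 640)]
    norm_num
  let R' : Sylow 3 St := Sylow.ofCard ((R : Subgroup L₂).map L₂.subtype) (hRc.trans hS9)
  obtain ⟨m, hm⟩ := MulAction.exists_smul_eq St R' P
  set k : X := (m : X) * g with hk
  set L₃ := L.map (MulAut.conj k).toMonoidHom with hL₃
  have hsub : (Subgroup.zpowers a₁ ⊔ Subgroup.zpowers a₂).map St.subtype ≤ L₃ := by
    rintro _ ⟨p, hp, rfl⟩
    have hp' : p ∈ ((m • R' : Sylow 3 St) : Subgroup St) := by rw [hm]; exact hPle hp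
    obtain ⟨r, hr, rfl⟩ := hp'
    obtain ⟨r', hr', hrr⟩ := (show r ∈ (R : Subgroup L₂).map L₂.subtype from hr)
    obtain ⟨l, hl, hlr⟩ := (show ((r' : St) : X) ∈ L₁ from r'.2)
    refine ⟨l, hl, ?_⟩
    show (m : X) * g * l * ((m : X) * g)⁻¹ = (m : X) * (r : X) * (m : X)⁻¹
    rw [← hrr, show ((L₂.subtype r' : St) : X) = g * l * g⁻¹ from hlr.symm]
    group
  refine F.no_invariant_aux hu L₃ ⟨(L.equivMapOfInjective _ (MulAut.conj k).injective).symm.trans eL⟩ g₁ g₂ h₁ h₂
    hπ₁ hπ₂ (hsub ⟨a₁, Subgroup.mem_sup_left (Subgroup.mem_zpowers _), rfl⟩)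
    (hsub ⟨a₂, Subgroup.mem_sup_right (Subgroup.mem_zpowers _), rfl⟩) (Y.map (F.rho k)) ?_ ?_ ?_
  · rintro _ ⟨l, hl, rfl⟩ _ ⟨y, hy, rfl⟩
    refine ⟨F.ρ l y, hY l hl y hy, ?_⟩
    show F.ρ k (F.ρ l y) = F.ρ (k * l * k⁻¹) (F.ρ k y)
    rw [← Equiv.Perm.mul_apply, ← map_mul, ← Equiv.Perm.mul_apply, ← map_mul, inv_mul_cancel_right]
  · rintro _ ⟨y, hy, rfl⟩
    show F.q (F.ρ k y) = 0
    rw [F.ρ_q, hq y hy]
  · rwa [show Nat.card (Y.map (F.rho k)) = Nat.card Y from
      (Nat.card_congr (Y.equivMapOfInjective (F.rho k) (F.ρ k).injective).toEquiv).symm]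

/-- No isometry other than the identity moves every vector inside one central line and respects the orbits. -/
theorem no_transvection {p : V} (hp : F.q p = 0) (h4 : (F.sp p).card = 4) (u : V →+ V)
    (hu : ∀ a, F.q (u a) = F.q a) (hsep : ∀ a ∈ F.orb (F.rep 0), u a ∉ F.orb (F.rep 1))
    (hmove : ∀ a, u a = a ∨ ∃ j : ZMod 3, u a = a + F.W.t (j • Pi.single 0 1) p)
    (hfix : ∀ a, (∀ j : ZMod 3, F.B a (F.W.t (j • Pi.single 0 1) p) = 0) → u a = a) : ∀ a, u a = a := by
  classical
  have hspt : ∀ j : ZMod 3, F.sp (F.W.t (j • Pi.single 0 1) p) = F.sp p := fun j => by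
    ext i
    rw [mem_sp, mem_sp, ← F.W.t_proj]
    exact not_congr ⟨fun e => F.t_inj _ (e.trans (map_zero _).symm), fun e => by rw [e, map_zero]⟩
  have hout : ∀ i ∉ F.sp p, ∀ a ∈ F.W.space (F.cs i), u a = a := fun i hi a ha => hfix a fun j => by
    rw [F.decompose_six (F.W.t (j • Pi.single 0 1) p), F.B_symm, F.B_sum]
    refine sum_eq_zero fun k _ => ?_
    by_cases hik : k = i
    · subst hik
      rw [mem_sp, not_not] at hi
      rw [← F.W.t_proj, hi, map_zero, F.B_zero]
    · exact F.orth hik ⟨_, rfl⟩ ha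
  intro a
  have hall : ∀ i, ∀ b ∈ F.W.space (F.cs i), u b = b := by
    intro i b hb
    by_cases hi : i ∈ F.sp p
    swap
    · exact hout i hi b hb
    by_contra hne
    obtain ⟨j, hj⟩ : ∃ j, j ∉ F.sp p := by
      by_contra hno
      push Not at hno
      rw [eq_univ_iff_forall.mpr hno] at h4
      simp at h4
    have hb0 : b ≠ 0 := fun e => hne (by rw [e, map_zero])
    obtain ⟨w, hw, hw0⟩ := F.exists_w j
    have hij : i ≠ j := fun e => hj (e ▸ hi)
    have hprojb : ∀ m, F.W.proj (F.cs m) b = if m = i then b else 0 := fun m => by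
      obtain ⟨h0, hs⟩ := F.supp_sep F.cs_mem F.cs_injective
      split_ifs with h
      · subst h; exact F.W.proj_mem hb
      · rw [← F.W.proj_mem hb, F.W.proj_proj_ne (h0 m) (h0 i) (hs m i h).1 (hs m i h).2]
    have hprojw : ∀ m, F.W.proj (F.cs m) w = if m = j then w else 0 := fun m => by
      obtain ⟨h0, hs⟩ := F.supp_sep F.cs_mem F.cs_injective
      split_ifs with h
      · subst h; exact F.W.proj_mem hw
      · rw [← F.W.proj_mem hw, F.W.proj_proj_ne (h0 m) (h0 j) (hs m j h).1 (hs m j h).2]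
    have hspa : F.sp (b + w) = {i, j} := by
      ext m
      rw [mem_sp, map_add, hprojb, hprojw, mem_insert, mem_singleton]
      by_cases h1 : m = i
      · subst h1; simp [hij, hb0]
      · by_cases h2 : m = j <;> simp [h1, h2, hw0, hij.symm]
    have hqa : F.q (b + w) = 0 := by rw [q_sp, hspa, card_pair hij]; decide
    obtain ⟨k, hk⟩ : ∃ k : ZMod 3, u (b + w) = b + w + F.W.t (k • Pi.single 0 1) p :=
      (hmove _).resolve_left fun e => hne (by rw [map_add, hout j hj w hw] at e; exact add_right_cancel e)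
    set l := F.W.t (k • Pi.single 0 1) p with hl
    have hsub : insert j ((F.sp p).erase i) ⊆ F.sp (u (b + w)) := by
      intro m hm
      rw [hk, mem_sp, map_add, map_add, hprojb, hprojw]
      rcases mem_insert.mp hm with rfl | hm
      · have : F.W.proj (F.cs m) l = 0 := by
          by_contra hne'
          exact hj (hspt k ▸ F.mem_sp.mpr hne')
        rw [this, if_neg hij.symm, if_pos rfl, zero_add, add_zero]
        exact hw0
      · obtain ⟨hmi, hm⟩ := mem_erase.mp hm
        rw [if_neg hmi, if_neg fun e => hj (by rw [← e]; exact hm), add_zero, zero_add]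
        exact F.mem_sp.mp (hspt k ▸ hm)
    have hsup : F.sp (u (b + w)) ⊆ insert j (F.sp p) := by
      intro m hm
      rw [hk, mem_sp, map_add, map_add, hprojb, hprojw] at hm
      by_contra hno
      rw [mem_insert, not_or] at hno
      have : F.W.proj (F.cs m) l = 0 := by
        by_contra hne'
        exact hno.2 (hspt k ▸ F.mem_sp.mpr hne')
      rw [this, if_neg fun e : m = i => hno.2 (by rw [e]; exact hi), if_neg hno.1] at hm
      simp at hm
    have hq' : F.q (u (b + w)) = 0 := by rw [hu, hqa]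
    have hc4 : (F.sp (u (b + w))).card = 4 := by
      have h1 := card_le_card hsub
      have h2 := card_le_card hsup
      rw [card_insert_of_notMem (fun e => hj (mem_of_mem_erase e)), card_erase_of_mem hi, h4] at h1
      rw [card_insert_of_notMem hj, h4] at h2
      have h3 := F.sp_even hq'
      omega
    exact hsep _ ((F.orb_of_card hqa).1 (by rw [hspa, card_pair hij])) ((F.orb_of_card hq').2 hc4)
  conv_lhs => rw [F.decompose_six a]
  conv_rhs => rw [F.decompose_six a]
  rw [map_sum]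
  exact sum_congr rfl fun i _ => hall i _ ⟨a, rfl⟩

/-- The centre of the cover lies in the derived subgroup. -/
theorem omega_mem_commutator : F.E.ω ∈ _root_.commutator X := by
  classical
  have hΦs : ∀ x y : C5, ∀ i, F.Φ (x + y) i = F.Φ x i + F.Φ y i := fun x y i => dotProduct_add _ _ _
  have key : ∀ π ∈ alternatingGroup (Fin 6), ∀ d : Fin 6 → ZMod 3, ∑ i, d i = 0 →
      ∃ y : C5, F.E.α y ∈ _root_.commutator X ∧ ∀ i, F.Φ y i = d (π.symm i) - d i := by
    intro π hπ d hd
    obtain ⟨g, hg⟩ := F.exists_even π hπ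
    obtain ⟨x, hx⟩ := F.exists_radical_coord hd
    set n : F.Nh := Subgroup.inclusion F.Lhat_le g with hn
    refine ⟨F.T n x + -x, ?_, fun i => ?_⟩
    · rw [F.E.α_add, T_spec, show F.E.α (-x) = (F.E.α x)⁻¹ from
        eq_inv_of_mul_eq_one_left (by rw [← F.E.α_add, neg_add_cancel, F.E.α_zero]),
        show (n : X) * F.E.α x * (n : X)⁻¹ * (F.E.α x)⁻¹ = ⁅(n : X), F.E.α x⁆ from (commutatorElement_def _ _).symm]
      exact Subgroup.commutator_mem_commutator (Subgroup.mem_top _) (Subgroup.mem_top _)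
    · rw [hΦs, show F.Φ (-x) i = - F.Φ x i from dotProduct_neg _ _, ← sub_eq_add_neg, hx]
      congr 1
      show F.cs i ⬝ᵥ F.T n x = _
      rw [Tc_spec, show F.Tc n (F.cs i) = F.cs (π.symm i) by
        conv_lhs => rw [← π.apply_symm_apply i, ← show F.π n = π from hg]
        rw [cs_π, show F.π n = π from hg]]
      exact congrFun hx _
  obtain ⟨y₁, hy₁, hy₁'⟩ := key cycA cyc_mem.1 ![1, 2, 0, 0, 0, 0] (by decide)
  obtain ⟨y₂, hy₂, hy₂'⟩ := key cycB cyc_mem.2 ![0, 0, 0, 1, 2, 0] (by decide)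
  have he : y₁ + y₂ = Pi.single 0 2 := F.Φ_injective (funext fun i => by
    rw [hΦs, hy₁', hy₂', show F.Φ (Pi.single 0 2) i = 2 by
      show F.cs i ⬝ᵥ Pi.single 0 2 = 2
      rw [dotProduct_single, cs_zero, one_mul]]
    revert i
    decide)
  have h2 : pw3 F.E.ω 2 ∈ _root_.commutator X := by
    rw [← F.E.α_e, ← he, F.E.α_add]
    exact mul_mem hy₁ hy₂
  have h4 := mul_mem h2 h2
  rwa [← pw3_add F.E.ω_three, show (2 : ZMod 3) + 2 = 1 by decide, pw3_one] at h4

end FSetting

end Cfsg.Lib.LargeFischer
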