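import Cfsg.Agent.LargeFischer.UnitaryKernel
import Cfsg.Agent.LargeFischer.StabInvariant
import Cfsg.Agent.LargeFischer.Line

/-!
The perpendicular space of a line of the short orbit as a module for the stabiliser of a point on it: the
quotient by the line is the natural module and the line lies in the span of the commutators.
-/

set_option autoImplicit false
set_option maxRecDepth 100000
set_option maxHeartbeats 1000000
set_option linter.unusedSectionVars false
set_option linter.style.haveILetI false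

namespace Cfsg.Lib.LargeFischer

open Matrix Finset

universe u v w

theorem f4_sq_add : ∀ a b : F4, (a + b) ^ 2 = a ^ 2 + b ^ 2 := by decide +kernel

theorem f4_wp_move : ∀ c : F4, wp 1 * (w4 * c) + w4 * c = c := by decide +kernel

/-- A transvection centred at a vector with four non-zero entries. -/
def tvFour : Matrix (Fin 4) (Fin 4) F4 :=
  fun i j => (if i = j then 1 else 0) + (![w4, 1, 1, 1] : Fin 4 → F4) i * (![w4, 1, 1, 1] : Fin 4 → F4) j ^ 2

theorem tvFour_cols : ∀ j k : Fin 4, (∑ i, tvFour i j * tvFour i k ^ 2) = if j = k then 1 else 0 := by decide +kernel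

theorem tvFour_det : tvFour.det = 1 := by decide +kernel

theorem tvFour_pair : ∀ i : Fin 4, (tvFour *ᵥ ![1, 1, 0, 0]) i ≠ 0 := by decide +kernel

theorem tvFour_mem : (⟨tvFour, tvFour_det⟩ : Matrix.SpecialLinearGroup (Fin 4) F4) ∈ Cfsg.SU 4 F4 2 := by
  intro u v
  show Cfsg.hermForm 4 F4 2 (tvFour *ᵥ u) (tvFour *ᵥ v) = Cfsg.hermForm 4 F4 2 u v
  simp only [Cfsg.hermForm, Matrix.mulVec, dotProduct, Fin.sum_univ_four, f4_sq_add, mul_pow]
  have e := tvFour_cols
  have h00 := e 0 0; have h01 := e 0 1; have h02 := e 0 2; have h03 := e 0 3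
  have h10 := e 1 0; have h11 := e 1 1; have h12 := e 1 2; have h13 := e 1 3
  have h20 := e 2 0; have h21 := e 2 1; have h22 := e 2 2; have h23 := e 2 3
  have h30 := e 3 0; have h31 := e 3 1; have h32 := e 3 2; have h33 := e 3 3
  simp only [Fin.sum_univ_four, Fin.reduceEq, if_true, if_false] at h00 h01 h02 h03 h10 h11 h12 h13 h20 h21 h22 h23 h30 h31 h32 h33
  linear_combination u 0 * v 0 ^ 2 * h00 + u 0 * v 1 ^ 2 * h01 + u 0 * v 2 ^ 2 * h02 + u 0 * v 3 ^ 2 * h03 +
    u 1 * v 0 ^ 2 * h10 + u 1 * v 1 ^ 2 * h11 + u 1 * v 2 ^ 2 * h12 + u 1 * v 3 ^ 2 * h13 +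
    u 2 * v 0 ^ 2 * h20 + u 2 * v 1 ^ 2 * h21 + u 2 * v 2 ^ 2 * h22 + u 2 * v 3 ^ 2 * h23 +
    u 3 * v 0 ^ 2 * h30 + u 3 * v 1 ^ 2 * h31 + u 3 * v 2 ^ 2 * h32 + u 3 * v 3 ^ 2 * h33

namespace FSetting

variable {X : Type u} [Group X] {S : Type w} [Group S] {V : Type v} [AddCommGroup V] [Finite V]
  (F : FSetting X S V)

theorem sp_co (a : V) : F.sp a = univ.filter fun i => F.co i a ≠ 0 := by
  conv_lhs => rw [← F.mk6_co a, ← F.dec_code, sp_dec]
  ext i
  rw [mem_supp6, mem_filter, show (none : Option (ZMod 3)) = code4 0 by decide +kernel, code4_bijective.1.ne_iff]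
  simp

theorem line_zero : F.line 0 = 0 := by
  have h := F.line_add 0 0
  rwa [add_zero, left_eq_add] at h

theorem low_zero : F.low 0 = 0 := by
  have h := F.low_add 0 0
  rwa [add_zero, left_eq_add] at h

/-- The last four planes as an additive map. -/
noncomputable def lowHom : (Fin 4 → F4) →+ V := AddMonoidHom.mk' F.low F.low_add

theorem line_sm (a : F4) : F.sm a F.v0 = F.line a := F.co_ext fun i => by
  rw [co_sm, co_line, co_v0]
  fin_cases i <;> simp [v0c]

theorem perp_line_iff (u : V) : (F.B u F.v0 = 0 ∧ F.B u (F.om F.v0) = 0) ↔ F.co 0 u = F.co 1 u := by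
  constructor
  · rintro ⟨h1, h2⟩
    rw [B_v0] at h1
    rw [B_wv0] at h2
    exact f4_perp _ _ (by simpa using h1) (by simpa [add_mul] using h2)
  · intro h
    rw [B_v0, B_wv0, h, f4_two, zero_mul]
    exact ⟨rfl, rfl⟩

theorem perp_decomp {u : V} (h : F.co 0 u = F.co 1 u) :
    u = F.low (fun i => F.co i.succ.succ u) + F.line (F.co 0 u) := F.co_ext fun i => by
  rw [co_add, co_low, co_line]
  exact Fin.cases (by simp) (fun i => Fin.cases (by simp [h]) (fun i => by simp) i) i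

theorem rho_low {g : X} (hg : g ∈ F.K0) (x : Fin 4 → F4) :
    F.ρ g (F.low x) = F.low (F.part g x) + F.line (F.co 0 (F.ρ g (F.low x))) :=
  F.sym_low (F.sym_rho g) hg x

theorem rho_line {g : X} (hg : g ∈ F.K0) (a : F4) : F.ρ g (F.line a) = F.line a :=
  F.sym_line (F.sym_rho g) hg a

theorem part_trivial {g : X} (hg : g ∈ F.K0) (h : ∀ x, F.part g x = x) : g = 1 := by
  have e : F.partHom ⟨g, hg⟩ = 1 := by
    refine Matrix.toLin'.injective (LinearMap.ext fun x => ?_)
    rw [Matrix.toLin'_apply, Matrix.toLin'_apply, one_mulVec]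
    exact (F.partMat_mulVec g x).trans (h x)
  have e' : F.toSU ⟨g, hg⟩ = 1 := Subtype.ext (Subtype.ext (by
    show (F.partHom ⟨g, hg⟩).det ^ 2 • F.partHom ⟨g, hg⟩ = 1
    rw [e, det_one, one_pow, one_smul]))
  exact congrArg Subtype.val (F.toSU_bijective.1 (e'.trans (map_one F.toSU).symm))

theorem torus_low {d : Fin 4 → ZMod 3} {z : C5} (hz : F.Φ z = vecCons 0 (vecCons 0 d)) (x : Fin 4 → F4) :
    F.ρ (F.E.α z) (F.low x) = F.low (fun i => wp (d i) * x i) := F.co_ext fun i => by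
  rw [← F.W_t, co_t, hz, co_low, co_low]
  refine Fin.cases ?_ (fun i => Fin.cases ?_ (fun i => ?_) i) i <;> simp

theorem part_moves {x : Fin 4 → F4} (hx : x ≠ 0) : ∃ g ∈ F.K0, F.part g x ≠ x := by
  obtain ⟨i, hi⟩ := Function.ne_iff.mp hx
  obtain ⟨d, hd, hdi⟩ : ∃ d : Fin 4 → ZMod 3, ∑ j, d j = 0 ∧ d i ≠ 0 :=
    (show ∀ i : Fin 4, ∃ d : Fin 4 → ZMod 3, ∑ j, d j = 0 ∧ d i ≠ 0 by decide +kernel) i
  obtain ⟨z, hz, hΦ⟩ := F.exists_torus hd
  refine ⟨_, hz, fun e => wp_ne (d i) hdi (x i) hi ?_⟩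
  have h := congrFun e i
  show wp (d i) * x i = x i
  conv_rhs => rw [← h]
  show _ = F.co i.succ.succ (F.ρ (F.E.α z) (F.low x))
  rw [F.torus_low hΦ, co_low]
  simp

theorem exists_shift : ∃ g ∈ F.K0, F.co 0 (F.ρ g (F.low ![1, 1, 0, 0])) ≠ 0 := by
  classical
  obtain ⟨⟨g, hg⟩, e⟩ := F.toSU_bijective.2 ⟨_, tvFour_mem⟩
  refine ⟨g, hg, fun h0 => ?_⟩
  set p : F4 := (F.partHom ⟨g, hg⟩).det ^ 2 with hp
  have hm : p • F.partHom ⟨g, hg⟩ = tvFour := congrArg (fun a : ↥(Cfsg.SU 4 F4 2) => a.1.1) e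
  have hne : ∀ i, F.part g ![1, 1, 0, 0] i ≠ 0 := fun i hi => by
    refine tvFour_pair i ?_
    rw [← hm, smul_mulVec, Pi.smul_apply, show F.partHom ⟨g, hg⟩ = F.partMat g from rfl, F.partMat_mulVec, hi,
      smul_zero]
  have hr : F.ρ g (F.low ![1, 1, 0, 0]) = F.low (F.part g ![1, 1, 0, 0]) := by
    conv_lhs => rw [F.rho_low hg, h0, line_zero, add_zero]
  have hs : ∀ x : Fin 4 → F4, F.sp (F.low x) = univ.filter fun i : Fin 6 => vecCons 0 (vecCons 0 x) i ≠ 0 :=
    fun x => by simp only [sp_co, co_low]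
  have hq : F.q (F.low ![1, 1, 0, 0]) = 0 := by
    rw [q_sp, hs]
    exact (show ((univ.filter fun i : Fin 6 =>
      vecCons (0 : F4) (vecCons 0 ![1, 1, 0, 0]) i ≠ 0).card : ZMod 2) = 0 by decide +kernel)
  refine F.not_linked (a := F.low ![1, 1, 0, 0]) (b := F.low (F.part g ![1, 1, 0, 0])) hq ?_ ?_ ?_ ⟨g, hr⟩
  · rw [← hr, F.ρ_q, hq]
  · rw [hs]; decide +kernel
  · rw [hs]
    generalize F.part g ![1, 1, 0, 0] = y at hne
    have e4 : (univ.filter fun i : Fin 6 => vecCons (0 : F4) (vecCons 0 y) i ≠ 0) = {2, 3, 4, 5} := by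
      ext i
      have h0 := hne 0; have h1 := hne 1; have h2 := hne 2; have h3 := hne 3
      fin_cases i <;> simp [h0, h1, h2, h3]
    rw [e4]; rfl

/-- A subgroup containing the commutators of the stabiliser with the last four planes contains the line. -/
theorem line_mem_of_commutators (U : AddSubgroup V)
    (hU : ∀ g ∈ F.K0, ∀ x, F.ρ g (F.low x) + F.low x ∈ U) (a : F4) : F.line a ∈ U := by
  classical
  have hsingle : ∀ i c, F.low (Pi.single i c) ∈ U := by
    intro i c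
    obtain ⟨d, hd, hdi⟩ : ∃ d : Fin 4 → ZMod 3, ∑ j, d j = 0 ∧ d i = 1 :=
      (show ∀ i : Fin 4, ∃ d : Fin 4 → ZMod 3, ∑ j, d j = 0 ∧ d i = 1 by decide +kernel) i
    obtain ⟨z, hz, hΦ⟩ := F.exists_torus hd
    have h := hU _ hz (Pi.single i (w4 * c))
    rw [F.torus_low hΦ, ← low_add] at h
    convert h using 2
    funext j
    rcases eq_or_ne j i with rfl | hj
    · simp [hdi, f4_wp_move]
    · simp [hj]
  have hlow : ∀ x, F.low x ∈ U := fun x => by
    have e : F.lowHom x = ∑ i, F.lowHom (Pi.single i (x i)) := by rw [← map_sum, Finset.univ_sum_single]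
    show F.lowHom x ∈ U
    rw [e]
    exact U.sum_mem fun i _ => hsingle i (x i)
  have hline : ∀ g ∈ F.K0, ∀ x, F.line (F.co 0 (F.ρ g (F.low x))) ∈ U := fun g hg x => by
    have h := U.sub_mem (hU g hg x) (U.add_mem (hlow (F.part g x)) (hlow x))
    convert h using 1
    conv_rhs => rw [F.rho_low hg]
    abel
  obtain ⟨g, hg, hne⟩ := F.exists_shift
  obtain ⟨s, hs⟩ := f4_scalar _ a hne
  have e : F.low (s • ![1, 1, 0, 0]) = F.sm s (F.low ![1, 1, 0, 0]) := F.co_ext fun i => by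
    rw [co_sm, co_low, co_low]
    refine Fin.cases ?_ (fun i => Fin.cases ?_ (fun i => ?_) i) i
    · simp
    · simp
    · fin_cases i <;> simp
  have h := hline g hg (s • ![1, 1, 0, 0])
  rwa [e, F.map_sm (F.ρ_add g) (fun b => F.om_comm g b), co_sm, ← hs] at h

end FSetting

end Cfsg.Lib.LargeFischer
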