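import Cfsg.Agent.LargeFischer.DuadModel
import Cfsg.Agent.Golay.Conj

/-!
The normaliser of the elementary abelian subgroup is four times transitive on the twenty-four points, and so contains
a square carrying any point to any other with two further points fixed.
-/

set_option autoImplicit false
set_option maxRecDepth 100000
set_option maxHeartbeats 1000000
set_option linter.unusedSectionVars false
set_option linter.style.haveILetI false

namespace Cfsg.Lib.LargeFischer

open Subgroup
open scoped Pointwise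

universe u

variable {G : Type u} [Group G] [Finite G] {z : G}

attribute [local instance] Sextet.Model.fintype Sextet.Model.deceq

namespace Sextet

variable {D : Sextet G z}

theorem card_normalizer_mathieu (D : Sextet G z) (hM : 138240 * 2048 ≤ Nat.card ↥(normalizer (D.A : Set G) ⊓ centralizer ({z} : Set G))) :
    Nat.card ↥(normalizer (D.A : Set G)) = 244823040 * 2048 := by
  obtain ⟨hn, ⟨eM⟩⟩ := D.exists_mathieu hM
  rw [card_eq_card_quotient_mul_card_subgroup (D.A.subgroupOf (normalizer (D.A : Set G))), Nat.card_congr eM.toEquiv,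
    Cfsg.Lib.Golay.card_M24, Nat.card_congr (subgroupOfEquivOfLe le_normalizer).toEquiv, D.cardA]

namespace Model

variable (M : D.Model)

/-- Four points go to any four points. -/
theorem four_transitive (hM : 138240 * 2048 ≤ Nat.card ↥(normalizer (D.A : Set G) ⊓ centralizer ({z} : Set G)))
    (p q : Fin 4 ↪ M.Pt) : ∃ g : ↥(normalizer (D.A : Set G)), ∀ i, M.σ g (p i) = q i := by
  classical
  letI : CommGroup ↥D.A := { (inferInstance : Group ↥D.A) with mul_comm := fun a b => Subtype.ext (D.commA a.2 b.2) }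
  let f : M.Pt → Additive ↥D.A := fun a => Additive.ofMul ⟨M.f a, M.mem a⟩
  have hsm : ∀ s : Finset M.Pt, (((∑ a ∈ s, f a).toMul : ↥D.A) : G) = M.sm s := by
    intro s
    induction s using Finset.induction with
    | empty => rw [Finset.sum_empty, M.sm_empty]; rfl
    | insert x s hx ih =>
      rw [Finset.sum_insert hx, M.sm_insert x s hx, toMul_add, Subgroup.coe_mul, ih]
      rfl
  let F : DuadMap (Additive ↥D.A) M.Pt :=
    { f := f
      card := M.card
      dbl := fun a => Additive.toMul.injective (Subtype.ext (D.sq _ a.toMul.2))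
      cardA := (Nat.card_congr Additive.toMul).trans D.cardA
      short := fun s hne hle hev h0 => by
        refine hne.ne_empty (M.sm_inj s ∅ ?_ ?_ ?_)
        · rw [← hsm, h0, M.sm_empty]; rfl
        · simpa using hle
        · simpa using hev }
  obtain ⟨e, he⟩ := Cfsg.Lib.Golay.exists_equiv_octads F.card F.steiner
  have hoct : ∀ s : Finset M.Pt, s ∈ F.octs ↔ s.card = 8 ∧ M.sm s = 1 := by
    intro s
    show s.card = 8 ∧ F.sm s = 0 ↔ _
    refine and_congr_right fun _ => ⟨fun h => ?_, fun h => Additive.toMul.injective (Subtype.ext ?_)⟩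
    · rw [← hsm]
      exact (congrArg (fun a : Additive ↥D.A => ((a.toMul : ↥D.A) : G)) h).trans rfl
    · exact (hsm s).trans h
  let ψ : ↥(normalizer (D.A : Set G)) →* Equiv.Perm Cfsg.GolayPt := e.permCongrHom.toMonoidHom.comp M.σ
  have hψ : ∀ g x, ψ g (e x) = e (M.σ g x) := fun g x => by
    show e (M.σ g (e.symm (e x))) = _
    rw [e.symm_apply_apply]
  have hmem : ∀ g, ψ g ∈ Cfsg.M24 := fun g => by
    rw [Cfsg.Lib.Golay.M24_eq_octadAut, MulAction.mem_stabilizer_iff]
    have hsub : ∀ h : ↥(normalizer (D.A : Set G)), ψ h • Cfsg.octads ⊆ Cfsg.octads := by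
      rintro h _ ⟨o, ho, rfl⟩
      obtain ⟨r, rfl⟩ : ∃ r : Finset M.Pt, r.image e = o :=
        ⟨o.image e.symm, by rw [Finset.image_image, Equiv.self_comp_symm, Finset.image_id]⟩
      have himg : ψ h • r.image e = (r.image (M.σ h)).image e := by
        rw [Finset.smul_finset_def, Finset.image_image, Finset.image_image]
        exact Finset.image_congr fun x _ => hψ h x
      show ψ h • r.image e ∈ Cfsg.octads
      rw [himg, he]
      obtain ⟨h8, h1⟩ := (hoct r).mp ((he r).mp ho)
      refine (hoct _).mpr ⟨by rw [Finset.card_image_of_injective _ (M.σ h).injective, h8], ?_⟩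
      rw [← M.sm_conj h r (by rw [h8]; decide), h1, mul_one, mul_inv_cancel]
    refine Set.Subset.antisymm (hsub g) fun o ho => ⟨ψ g⁻¹ • o, hsub g⁻¹ ⟨o, ho, rfl⟩, ?_⟩
    show ψ g • ψ g⁻¹ • o = o
    rw [← mul_smul, ← map_mul, mul_inv_cancel, map_one, one_smul]
  have hker : ψ.ker ≤ D.A.subgroupOf (normalizer (D.A : Set G)) := fun g hg => by
    refine mem_subgroupOf.mpr (M.faithful g (Equiv.ext fun x => e.injective ?_))
    rw [← hψ, MonoidHom.mem_ker.mp hg]
    rfl
  have hrange : ψ.range = Cfsg.M24 := by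
    refine Subgroup.eq_of_le_of_card_ge (by rintro _ ⟨g, rfl⟩; exact hmem g) ?_
    have h1 := card_eq_card_quotient_mul_card_subgroup ψ.ker
    rw [Nat.card_congr (QuotientGroup.quotientKerEquivRange ψ).toEquiv, D.card_normalizer_mathieu hM] at h1
    have h2 : Nat.card ↥ψ.ker ≤ 2048 := by
      refine (Subgroup.card_le_of_le hker).trans (le_of_eq ?_)
      rw [Nat.card_congr (subgroupOfEquivOfLe le_normalizer).toEquiv, D.cardA]
    rw [Cfsg.Lib.Golay.card_M24]
    have h3 := Nat.mul_le_mul_left (Nat.card ↥ψ.range) h2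
    rw [← h1] at h3
    omega
  haveI := Cfsg.Lib.Golay.le_five 4 (by norm_num)
  obtain ⟨⟨k, hk⟩, hkp⟩ := MulAction.exists_smul_eq ↥Cfsg.M24 (p.trans e.toEmbedding) (q.trans e.toEmbedding)
  obtain ⟨g, rfl⟩ : k ∈ ψ.range := hrange ▸ hk
  refine ⟨g, fun i => e.injective ?_⟩
  rw [← hψ]
  exact congrArg (fun r : Fin 4 ↪ Cfsg.GolayPt => r i) hkp

/-- An element fixing two points whose square carries a third to a fourth. -/
theorem exists_square (hM : 138240 * 2048 ≤ Nat.card ↥(normalizer (D.A : Set G) ⊓ centralizer ({z} : Set G)))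
    {a b c d : M.Pt} (hab : a ≠ b) (hac : a ≠ c) (had : a ≠ d) (hbc : b ≠ c) (hbd : b ≠ d) :
    ∃ g : ↥(normalizer (D.A : Set G)), M.σ g a = a ∧ M.σ g b = b ∧ M.σ g (M.σ g c) = d := by
  classical
  obtain ⟨x, hx⟩ : ∃ x, x ∉ ({a, b, c, d} : Finset M.Pt) := by
    refine (Finset.exists_mem_notMem_of_card_lt_card (s := ({a, b, c, d} : Finset M.Pt)) (t := Finset.univ) ?_).imp
      fun _ h => h.2
    rw [Finset.card_univ, M.card]
    exact lt_of_le_of_lt Finset.card_le_four (by norm_num)
  simp only [Finset.mem_insert, Finset.mem_singleton, not_or] at hx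
  obtain ⟨hxa, hxb, hxc, hxd⟩ := hx
  have key : ∀ y z : M.Pt, a ≠ y → b ≠ y → a ≠ z → b ≠ z → y ≠ z → Function.Injective ![a, b, y, z] := by
    intro y z h1 h2 h3 h4 h5 i j h
    fin_cases i <;> fin_cases j <;> simp_all
  obtain ⟨g, hg⟩ := M.four_transitive hM ⟨![a, b, c, x], key c x hac hbc (Ne.symm hxa) (Ne.symm hxb) (Ne.symm hxc)⟩
    ⟨![a, b, x, d], key x d (Ne.symm hxa) (Ne.symm hxb) had hbd hxd⟩
  have h0 : M.σ g a = a := hg 0
  have h1 : M.σ g b = b := hg 1
  have h2 : M.σ g c = x := hg 2
  have h3 : M.σ g x = d := hg 3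
  exact ⟨g, h0, h1, by rw [h2, h3]⟩

end Model

end Sextet

end Cfsg.Lib.LargeFischer
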