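import Cfsg.Agent.LargeFischer.CoverOuter

/-!
The centralizer of the subgroup of order three is the six-fold cover of `PSU(4,3)`.
-/

set_option autoImplicit false
set_option maxRecDepth 100000
set_option maxHeartbeats 1000000
set_option linter.unusedSectionVars false
set_option linter.style.haveILetI false

namespace Cfsg.Lib.LargeFischer

open Subgroup QuadraticMap
open Cfsg.Lib.LargeExtra (X2 mem_map_conj mem_zpowers_two mem_conj_of_mem)
open Cfsg.Lib.LargeExtra.OutExtra
open scoped commutatorElement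

universe u

variable {G : Type u} [Group G] [Finite G] {z : G} {Q : Subgroup (centralizer ({z} : Set G))} [Q.Normal]

namespace Ctx

variable (c : Ctx z Q)

include c in
theorem card_centralizer_le {R : Subgroup ↥(centralizer ({z} : Set G))} (hR : R ≤ Q) :
    Nat.card R * Nat.card ↥(centralizer (R : Set ↥(centralizer ({z} : Set G))) ⊓ Q) ≤ 2 ^ 14 := by
  haveI : Fact (Nat.Prime 2) := ⟨Nat.prime_two⟩
  have h1 := Cfsg.Lib.ExtraAction.mul_card_mono c.hE _ (R.subgroupOf Q) ⊤ le_top le_rfl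
  rw [coe_top, centralizer_univ, card_top, c.hE.2, c.card, Nat.card_congr (subgroupOfEquivOfLe hR).toEquiv] at h1
  refine le_trans (Nat.mul_le_mul_left _ ?_) (h1.trans (by norm_num))
  refine Nat.card_le_card_of_injective
    (fun a : ↥(centralizer (R : Set ↥(centralizer ({z} : Set G))) ⊓ Q) =>
      (⟨⟨a.1, a.2.2⟩, mem_centralizer_iff.mpr fun b hb => Subtype.ext (mem_centralizer_iff.mp a.2.1 _ hb)⟩ :
        centralizer (R.subgroupOf Q : Set ↥Q))) fun a b e => Subtype.ext ?_
  exact congrArg (fun w : centralizer (R.subgroupOf Q : Set ↥Q) => ((w : ↥Q) : ↥(centralizer ({z} : Set G)))) e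

end Ctx

namespace Ctx.Three

variable {c : Ctx z Q} {X : Subgroup ↥(centralizer ({z} : Set G))} (T : c.Three X)

include T

theorem cent_Q {q : ↥(centralizer ({z} : Set G))} (hq : q ∈ Q)
    (hc : q ∈ centralizer (X : Set ↥(centralizer ({z} : Set G)))) : q = 1 ∨ q = c.zH :=
  T.fixQ hq (T.mem_iff.mp hc)

theorem zH_cent : c.zH ∈ centralizer (X : Set ↥(centralizer ({z} : Set G))) :=
  T.mem_iff.mpr (c.zH_comm _).symm

theorem xi_cent : T.ξ ∈ centralizer (X : Set ↥(centralizer ({z} : Set G))) := T.mem_iff.mpr (Commute.refl _)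

theorem lift {m : ↥(centralizer ({z} : Set G))} (hm : m ∈ c.M) :
    ∃ d ∈ centralizer (X : Set ↥(centralizer ({z} : Set G))),
      Cfsg.Lib.LargeFischer.rep Q c.D d = Cfsg.Lib.LargeFischer.rep Q c.D m ∧
      ∃ q ∈ Q, d = q * m := by
  obtain ⟨q, hq, hc⟩ := T.frattini hm
  exact ⟨q * m, T.mem_iff.mpr hc, by rw [map_mul, c.rep_Q hq, one_mul], q, hq, rfl⟩

theorem map_cent (hF : Cfsg.IsOfLargeFischerTypeAt z Q) :
    (centralizer (X : Set ↥(centralizer ({z} : Set G)))).map (Cfsg.Lib.LargeFischer.rep Q c.D) =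
      ((Cfsg.Lib.LargeFischer.rep Q c.D).comp c.M.subtype).range := by
  refine le_antisymm ?_ ?_
  · rintro _ ⟨d, hd, rfl⟩
    exact c.mem_X (T.cent_le hF hd)
  · rintro _ ⟨m, rfl⟩
    obtain ⟨d, hd, he, -⟩ := T.lift m.2
    exact ⟨d, hd, he⟩

/-- The derived group of the image is everything. -/
theorem range_perfect :
    ⁅((Cfsg.Lib.LargeFischer.rep Q c.D).comp c.M.subtype).range,
      ((Cfsg.Lib.LargeFischer.rep Q c.D).comp c.M.subtype).range⁆ =
      ((Cfsg.Lib.LargeFischer.rep Q c.D).comp c.M.subtype).range := by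
  set ρM := (Cfsg.Lib.LargeFischer.rep Q c.D).comp c.M.subtype with hρM
  refine le_antisymm (commutator_le.mpr fun a ha b hb => ?_) ?_
  · rw [commutatorElement_def]
    exact mul_mem (mul_mem (mul_mem ha hb) (inv_mem ha)) (inv_mem hb)
  have hω : c.F.ρ c.F.E.ω ∈ ⁅ρM.range, ρM.range⁆ := by
    have h := mem_map_of_mem c.F.ρ c.F.omega_mem_commutator
    rw [_root_.commutator_def, Subgroup.map_commutator, ← MonoidHom.range_eq_map] at h
    have e : c.F.ρ.range = ρM.range := by rw [c.Fρ, range_subtype]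
    rwa [e] at h
  rintro _ ⟨m, rfl⟩
  obtain ⟨k, hk, hke⟩ : T.ψ m ∈ (_root_.commutator ↥c.M).map T.ψ := by
    rw [_root_.commutator_def, Subgroup.map_commutator, Subgroup.map_top_of_surjective _ T.surj,
      ← _root_.commutator_def, T.perfect]
    exact mem_top _
  have hn : (((k⁻¹ * m : ↥c.M)) : ↥(centralizer ({z} : Set G))) ∈ T.N := by
    have : k⁻¹ * m ∈ T.ψ.ker := by rw [MonoidHom.mem_ker, map_mul, map_inv, hke, inv_mul_cancel]
    rwa [T.ψker] at this
  obtain ⟨i, hi⟩ := T.Nrep _ hn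
  have e : ρM m = ρM k * c.F.ρ (pw3 c.F.E.ω i) := by
    rw [← hi]
    show ρM m = ρM k * ρM (k⁻¹ * m)
    rw [← map_mul, mul_inv_cancel_left]
  rw [e]
  refine mul_mem ?_ ?_
  · rw [MonoidHom.range_eq_map, ← Subgroup.map_commutator]
    exact mem_map_of_mem ρM hk
  · rw [pw3, map_pow]; exact pow_mem hω _

/-- The centre of the extraspecial group lies in the derived group of the centralizer. -/
theorem zH_mem_derived (hF : Cfsg.IsOfLargeFischerTypeAt z Q) :
    c.zH ∈ ⁅centralizer (X : Set ↥(centralizer ({z} : Set G))), centralizer (X : Set ↥(centralizer ({z} : Set G)))⁆ := by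
  classical
  by_contra hzD
  haveI : Fact (Nat.Prime 2) := ⟨Nat.prime_two⟩
  haveI := c.Mn
  set R := Cfsg.Lib.LargeFischer.rep Q c.D with hR
  set C := centralizer (X : Set ↥(centralizer ({z} : Set G))) with hC
  set D := ⁅C, C⁆ with hD
  have hDC : D ≤ C := commutator_le.mpr fun a ha b hb => by
    rw [commutatorElement_def]
    exact mul_mem (mul_mem (mul_mem ha hb) (inv_mem ha)) (inv_mem hb)
  have hDQ : ∀ d ∈ D, R d = 1 → d = 1 := fun d hd h1 =>
    (T.cent_Q (c.rep_eq_one h1) (hDC hd)).resolve_right fun e => hzD (e ▸ hd)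
  have hDinj : ∀ a ∈ D, ∀ b ∈ D, R a = R b → a = b := fun a ha b hb e =>
    inv_mul_eq_one.mp (hDQ _ (mul_mem (inv_mem ha) hb) (by rw [map_mul, map_inv, e, inv_mul_cancel]))
  have hDmap : D.map R = ((Cfsg.Lib.LargeFischer.rep Q c.D).comp c.M.subtype).range := by
    rw [hD, Subgroup.map_commutator, hR, T.map_cent hF, T.range_perfect]
  have hDM : D ≤ c.M := hDC.trans (T.cent_le hF)
  obtain ⟨g, x, hg, hxz, htri⟩ := T.exists_triple hF
  obtain ⟨hxq, hx0, hx1701⟩ := c.long_of_conj x.2 hg hxz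
  have hxx : x * x = 1 := by
    rw [mul_self_eq c.D.es, ← c.D.hT]
    rw [c.Fq] at hxq
    rw [show c.D.π x = c.pt x from rfl, hxq, Cfsg.Lib.ExtraOut.pw_zero]
  have hx1 : (x : ↥(centralizer ({z} : Set G))) ≠ 1 := fun e => hx0 (c.pt_zero.mpr (Or.inl e))
  have hxzH : (x : ↥(centralizer ({z} : Set G))) ≠ c.zH := fun e => hxz (by rw [e, c.zH_val])
  set xh : ↥(centralizer ({z} : Set G)) := (x : ↥(centralizer ({z} : Set G))) with hxh
  set x1 : ↥(centralizer ({z} : Set G)) := T.ξ * xh * T.ξ⁻¹ with hx1d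
  set x2 : ↥(centralizer ({z} : Set G)) := T.ξ * x1 * T.ξ⁻¹ with hx2d
  have hprod : xh * x1 * x2 = 1 := by
    have h := congrArg (fun w : ↥Q => (w : ↥(centralizer ({z} : Set G)))) htri
    simp only [Subgroup.coe_mul, rot_val] at h
    exact h
  have hxsq : xh * xh = 1 := congrArg Subtype.val hxx
  have hx1sq : x1 * x1 = 1 := by
    rw [hx1d, show T.ξ * xh * T.ξ⁻¹ * (T.ξ * xh * T.ξ⁻¹) = T.ξ * (xh * xh) * T.ξ⁻¹ by group, hxsq, mul_one,
      mul_inv_cancel]
  have hcomm01 : Commute xh x1 := by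
    have h := T.triple_commute htri hxx
    rwa [rot_val] at h
  have hx1Q : x1 ∈ Q := Subgroup.Normal.conj_mem inferInstance _ x.2 T.ξ
  have hx2Q : x2 ∈ Q := Subgroup.Normal.conj_mem inferInstance _ hx1Q T.ξ
  -- elements of the derived group fixing the point centralise it
  have hDfix : ∀ d ∈ D, R d (c.pt x) = c.pt x → Commute d xh := by
    intro d hd hdx
    have hdξ : Commute d T.ξ := T.mem_iff.mp (hDC hd)
    rw [hR, c.act] at hdx
    rcases c.pt_eq hdx.symm with e | e <;> rw [MulAut.conjNormal_apply] at e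
    · exact mul_inv_eq_iff_eq_mul.mp e
    · exfalso
      have hz1 : ∀ w, c.zH * w = w * c.zH := fun w => ((c.zH_comm w).eq).symm
      have hconj : ∀ w, d * w * d⁻¹ = w * c.zH →
          d * (T.ξ * w * T.ξ⁻¹) * d⁻¹ = T.ξ * w * T.ξ⁻¹ * c.zH := fun w hw => by
        calc d * (T.ξ * w * T.ξ⁻¹) * d⁻¹ = d * T.ξ * w * (d * T.ξ)⁻¹ := by group
          _ = T.ξ * d * w * (T.ξ * d)⁻¹ := by rw [hdξ.eq]
          _ = T.ξ * (d * w * d⁻¹) * T.ξ⁻¹ := by group
          _ = T.ξ * w * (c.zH * T.ξ⁻¹) := by rw [hw]; group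
          _ = _ := by rw [hz1, ← mul_assoc]
      have e1 := hconj _ e
      have e2 := hconj _ e1
      have h3 : d * (xh * x1 * x2) * d⁻¹ = d * xh * d⁻¹ * (d * x1 * d⁻¹) * (d * x2 * d⁻¹) := by group
      rw [hprod, mul_one, mul_inv_cancel, show d * x1 * d⁻¹ = x1 * c.zH from e1,
        show d * x2 * d⁻¹ = x2 * c.zH from e2, e,
        show xh * c.zH * (x1 * c.zH) * (x2 * c.zH) = xh * (c.zH * x1) * c.zH * x2 * c.zH by group, hz1,
        show xh * (x1 * c.zH) * c.zH = xh * x1 * (c.zH * c.zH) by group, c.zH_sq, mul_one, hprod, one_mul] at h3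
      exact c.zH_ne h3.symm
  -- the long orbit stabiliser
  obtain ⟨s, t, Lt, hs2, ht2, -, -, -, -, -, ht1701, hLt, hLtA, -, -⟩ := c.exists_points
  have htq := c.sing t.2 ht2
  obtain ⟨h0, hh0⟩ : c.pt x ∈ c.F.orb (c.pt t) := by
    rw [c.F.orb_long (htq (by
      intro e
      have : Nat.card (c.F.orb (c.pt t)) = 1 := by
        rw [show c.pt t = 0 from c.pt_zero.mpr (Or.inr (Subtype.ext (e.trans c.zH_val.symm)))]
        haveI : Subsingleton (c.F.orb 0) := ⟨fun a b => Subtype.ext (by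
          obtain ⟨k, hk⟩ := a.2
          obtain ⟨k', hk'⟩ := b.2
          rw [← hk, ← hk']
          exact (map_zero (c.F.rho k)).trans (map_zero (c.F.rho k')).symm)⟩
        haveI : Nonempty (c.F.orb 0) := ⟨⟨0, c.F.orb_self 0⟩⟩
        exact Nat.card_unique
      omega)) ht1701, ← c.F.orb_long ⟨hxq, hx0⟩ hx1701]
    exact c.F.orb_self _
  set L := Lt.map (MulAut.conj h0).toMonoidHom with hL0
  have hL : ∀ l ∈ L, c.F.ρ l (c.pt x) = c.pt x := by
    rintro _ ⟨l, hl, rfl⟩
    show c.F.ρ (h0 * l * h0⁻¹) _ = _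
    rw [map_mul, map_mul, Equiv.Perm.mul_apply, Equiv.Perm.mul_apply, map_inv, ← hh0, Equiv.Perm.coe_inv,
      Equiv.symm_apply_apply, hLt l hl]
  obtain ⟨eLt⟩ := hLtA
  let eL : ↥L ≃* alternatingGroup (Fin 6) := (Lt.equivMapOfInjective _ (MulAut.conj h0).injective).symm.trans eLt
  obtain ⟨h32, h2, -, hdvd⟩ := c.local_bound hg hxz hx1 L hL ⟨eL⟩
  rw [hx1701] at hdvd
  set E := (c.RC g ⊓ c.M).map R with hE0
  have hE16 : Nat.card ↥E = 16 := by
    have := Nat.le_of_dvd (by norm_num) hdvd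
    omega
  have hR0 : Nat.card ↥(c.RC g ⊓ Q) = 2 ^ 7 := by
    have h1 := c.card_map_rep (c.RC g)
    rw [c.RC_card hg hxz] at h1
    have hi := (c.RC_inter hg hxz).1
    have := Nat.mul_le_mul_right (Nat.card ↥(c.RC g ⊓ Q)) (h2.trans (Nat.mul_le_mul_left 2 hE16.le))
    rw [← h1] at this
    omega
  have hX' : X2 ((Q.map (centralizer ({z} : Set G)).subtype).map (MulAut.conj g).toMonoidHom) (xh : G) :=
    hg ▸ c.X2g.conj g
  have hzRC : c.zH ∈ c.RC g := ⟨mem_map_conj.mpr (by
    show g⁻¹ * (c.zH : G) * g ∈ _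
    rw [c.zH_val]; exact c.mem_conj hg hxz), c.zH.2⟩
  have hxRC : xh ∈ c.RC g := ⟨mem_map_conj.mpr (by
    show g⁻¹ * (xh : G) * g ∈ _
    rw [← hg, show g⁻¹ * (g * z * g⁻¹) * g = z by group]
    exact c.X2g.mem), xh.2⟩
  have hx1RC : ∀ r ∈ c.RC g, x1 * r * x1⁻¹ ∈ c.RC g := fun r hr =>
    c.RC_conj hg (show x1 * xh * x1⁻¹ = xh by rw [← hcomm01.eq, mul_inv_cancel_right]) hr
  have hRCcases : ∀ r ∈ c.RC g, ∀ w ∈ c.RC g, r * w * r⁻¹ = w ∨ r * w * r⁻¹ = xh * w := by
    intro r hr w hw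
    rcases hX'.conj_cases (c.mem_RC hr) (c.mem_RC hw) with e | e
    · exact Or.inl (Subtype.ext e)
    · exact Or.inr (Subtype.ext e)
  set R0 := c.RC g ⊓ Q with hR0d
  set R1 := R0 ⊓ centralizer ({x1} : Set ↥(centralizer ({z} : Set G))) with hR1
  set S := centralizer (R1 : Set ↥(centralizer ({z} : Set G))) ⊓ Q with hSd
  have hR0comm : ∀ a ∈ R0, ∀ b ∈ R0, a * b = b * a := (c.RC_inter hg hxz).2
  have hR0S : R0 ≤ S := fun a ha => ⟨mem_centralizer_iff.mpr fun b hb => hR0comm b hb.1 a ha, ha.2⟩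
  have hx1S : x1 ∈ S :=
    ⟨mem_centralizer_iff.mpr fun b hb => mem_centralizer_singleton_iff.mp hb.2, hx1Q⟩
  have hx1R0 : ∀ a ∈ R0, x1 * a * x1⁻¹ ∈ R0 := fun a ha =>
    ⟨hx1RC a ha.1, Subgroup.Normal.conj_mem inferInstance _ ha.2 x1⟩
  let S' : Subgroup ↥(centralizer ({z} : Set G)) :=
    { carrier := {a | a ∈ R0 ∨ a * x1 ∈ R0}
      one_mem' := Or.inl (one_mem _)
      mul_mem' := by
        rintro a b (ha | ha) (hb | hb)
        · exact Or.inl (mul_mem ha hb)
        · exact Or.inr (by rw [mul_assoc]; exact mul_mem ha hb)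
        · refine Or.inr ?_
          rw [show a * b * x1 = a * x1 * (x1⁻¹ * b * x1) by group, inv_eq_of_mul_eq_one_right hx1sq]
          have := hx1R0 b hb
          rw [inv_eq_of_mul_eq_one_right hx1sq] at this
          exact mul_mem ha this
        · refine Or.inl ?_
          rw [show a * b = a * x1 * (x1⁻¹ * (b * x1) * x1) * (x1 * x1)⁻¹ by group, hx1sq, inv_one, mul_one,
            inv_eq_of_mul_eq_one_right hx1sq]
          have := hx1R0 _ hb
          rw [inv_eq_of_mul_eq_one_right hx1sq] at this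
          exact mul_mem ha this
      inv_mem' := by
        rintro a (ha | ha)
        · exact Or.inl (inv_mem ha)
        · refine Or.inr ?_
          have := hx1R0 _ (inv_mem ha)
          rwa [show x1 * (a * x1)⁻¹ * x1⁻¹ = a⁻¹ * x1⁻¹ by group, inv_eq_of_mul_eq_one_right hx1sq] at this }
  have hS' : S ≤ S' := by
    have hS'S : S' ≤ S := by
      rintro a (ha | ha)
      · exact hR0S ha
      · have := mul_mem (hR0S ha) (inv_mem hx1S)
        rwa [mul_inv_cancel_right] at this
    have hR0S' : R0 ≤ S' := fun a ha => Or.inl ha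
    have hb : Nat.card R1 * Nat.card S ≤ 2 ^ 14 := c.card_centralizer_le (inf_le_left.trans inf_le_right)
    by_cases hx1R : x1 ∈ R0
    · have e : R1 = R0 := inf_of_le_left fun a ha => mem_centralizer_singleton_iff.mpr (hR0comm a ha x1 hx1R)
      rw [e, hR0, show (2 : ℕ) ^ 14 = 2 ^ 7 * 2 ^ 7 by norm_num] at hb
      rw [← eq_of_le_of_card_ge hR0S ((Nat.le_of_mul_le_mul_left hb (by norm_num)).trans hR0.ge)]
      exact hR0S'
    · have h64 : 2 ^ 6 ≤ Nat.card R1 := by
        let f : ↥R0 → ↥R1 × Bool := fun a =>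
          if h : (a : ↥(centralizer ({z} : Set G))) * x1 = x1 * a then
            (⟨a, a.2, mem_centralizer_singleton_iff.mpr h⟩, true)
          else if h0 : ∃ b : ↥R0, ((b : ↥(centralizer ({z} : Set G))) * x1 ≠ x1 * b) then
            (⟨(a : ↥(centralizer ({z} : Set G))) * (h0.choose : ↥(centralizer ({z} : Set G))),
              mul_mem a.2 h0.choose.2, mem_centralizer_singleton_iff.mpr (by
                have nc : ∀ b : ↥R0, (b : ↥(centralizer ({z} : Set G))) * x1 ≠ x1 * b →
                    (b : ↥(centralizer ({z} : Set G))) * x1 = c.zH * x1 * b := fun b hb => by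
                  rcases c.conj_cases b.2.2 hx1Q with e | e
                  · exact absurd (mul_inv_eq_iff_eq_mul.mp e) hb
                  · exact mul_inv_eq_iff_eq_mul.mp e
                calc (a : ↥(centralizer ({z} : Set G))) * h0.choose * x1
                    = a * (h0.choose * x1) := mul_assoc _ _ _
                  _ = a * (c.zH * x1 * h0.choose) := by rw [nc _ h0.choose_spec]
                  _ = (a * c.zH) * x1 * h0.choose := by group
                  _ = c.zH * (a * x1) * h0.choose := by rw [(c.zH_comm _).eq]; group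
                  _ = c.zH * (c.zH * x1 * a) * h0.choose := by rw [nc a h]
                  _ = c.zH * c.zH * x1 * (a * h0.choose) := by group
                  _ = _ := by rw [c.zH_sq, one_mul])⟩, false)
          else (⟨1, one_mem _⟩, false)
        have hf : Function.Injective f := by
          intro a b e
          simp only [f] at e
          have hex : ∀ a : ↥R0, ¬ (a : ↥(centralizer ({z} : Set G))) * x1 = x1 * a →
              ∃ b : ↥R0, ((b : ↥(centralizer ({z} : Set G))) * x1 ≠ x1 * b) := fun a ha => ⟨a, ha⟩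
          split_ifs at e with ha ha0 hb0 hb0' <;>
            simp only [Prod.mk.injEq, Bool.true_eq_false, Bool.false_eq_true, and_false, and_true] at e
          all_goals first
            | exact Subtype.ext (congrArg (fun w : ↥R1 => (w : ↥(centralizer ({z} : Set G)))) e)
            | exact Subtype.ext (mul_right_cancel (congrArg (fun w : ↥R1 => (w : ↥(centralizer ({z} : Set G)))) e))
            | exact absurd (hex a (by assumption)) (by assumption)
            | exact absurd (hex b (by assumption)) (by assumption)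
        have := Nat.card_le_card_of_injective f hf
        rw [Nat.card_prod, hR0, Nat.card_eq_fintype_card (α := Bool), Fintype.card_bool] at this
        omega
      have hlt : R0 < S' := lt_of_le_of_ne hR0S' fun e => hx1R
        (e.ge (Or.inr (by rw [hx1sq]; exact one_mem _)))
      have h8 : 2 ^ 8 ≤ Nat.card S' := by
        obtain ⟨k, hk⟩ := IsPGroup.iff_card.mp
          (IsPGroup.of_injective c.hE.1.1 _ (Subgroup.inclusion_injective (hS'S.trans inf_le_right)) : IsPGroup 2 ↥S')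
        have h7 : 2 ^ 7 < 2 ^ k := by
          rw [← hk, ← hR0]
          exact lt_of_le_of_ne (card_le_of_le hR0S') fun e => hlt.ne (eq_of_le_of_card_ge hR0S' e.ge)
        rw [hk]
        exact Nat.pow_le_pow_right (by norm_num) ((Nat.pow_lt_pow_iff_right (by norm_num)).mp h7)
      have hS8 : Nat.card S ≤ 2 ^ 8 := by
        have := (Nat.mul_le_mul_right (Nat.card S) h64).trans hb
        omega
      exact (eq_of_le_of_card_ge hS'S (hS8.trans h8)).ge
  -- the candidate subgroup
  set Y := D ⊓ E.comap R with hY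
  have key : ∀ e ∈ Y, e ∈ c.RC g ∨ x1 * e ∈ c.RC g := by
    intro e he
    obtain ⟨r, hr, hre⟩ := he.2
    set q := r * e⁻¹ with hq
    have hqQ : q ∈ Q := c.rep_eq_one (by rw [hq, map_mul, map_inv, show R r = R e from hre, mul_inv_cancel])
    have hrx : Commute r xh := mul_inv_eq_iff_eq_mul.mp (c.RC_fix hg hr.1)
    have hex : Commute e xh := hDfix e he.1 (by
      rw [← hre, hR, c.act]
      exact congrArg c.pt (Subtype.ext (by rw [MulAut.conjNormal_apply]; exact c.RC_fix hg hr.1)))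
    have hqx : Commute q xh := hrx.mul_left hex.inv_left
    have heξ : Commute e T.ξ := T.mem_iff.mp (hDC he.1)
    have hqS : q ∈ S := by
      refine ⟨mem_centralizer_iff.mpr fun w hw => ?_, hqQ⟩
      obtain ⟨hwR0, hwx1⟩ := hw
      have hwx1' : Commute w x1 := mem_centralizer_singleton_iff.mp hwx1
      have hwx : Commute w xh := hR0comm w hwR0 xh ⟨hxRC, x.2⟩
      obtain ⟨A, hA, hAc⟩ : ∃ A, e * w * e⁻¹ = A * w ∧ (A = 1 ∨ A = xh ∨ A = c.zH ∨ A = xh * c.zH) := by
        have e0 : e * w * e⁻¹ = q⁻¹ * (r * w * r⁻¹) * q := by rw [hq]; group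
        have hqi : q⁻¹ * w * q⁻¹⁻¹ = w ∨ q⁻¹ * w * q⁻¹⁻¹ = c.zH * w := c.conj_cases (inv_mem hqQ) hwR0.2
        rw [inv_inv] at hqi
        rcases hRCcases r hr.1 w hwR0.1 with er | er <;> rw [er] at e0
        · rcases hqi with eq | eq <;> rw [eq] at e0
          · exact ⟨1, by rw [one_mul]; exact e0, Or.inl rfl⟩
          · exact ⟨_, e0, Or.inr (Or.inr (Or.inl rfl))⟩
        · rw [show q⁻¹ * (xh * w) * q = q⁻¹ * xh * q * (q⁻¹ * w * q) by group, hqx.inv_left.eq,
            inv_mul_cancel_right] at e0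
          rcases hqi with eq | eq <;> rw [eq] at e0
          · exact ⟨_, e0, Or.inr (Or.inl rfl)⟩
          · exact ⟨xh * c.zH, e0.trans (mul_assoc _ _ _).symm, Or.inr (Or.inr (Or.inr rfl))⟩
      let σ : ↥(centralizer ({z} : Set G)) →* ↥(centralizer ({z} : Set G)) := (MulAut.conj T.ξ).toMonoidHom
      have hσ : ∀ a, σ a = T.ξ * a * T.ξ⁻¹ := fun a => rfl
      have hσe : ∀ a, σ (e * a * e⁻¹) = e * σ a * e⁻¹ := fun a => by
        have he' : σ e = e := by rw [hσ, ← heξ.eq, mul_inv_cancel_right]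
        rw [map_mul, map_mul, map_inv, he']
      have hxc : Commute x2 w := by
        have e2 : x2 = (xh * x1)⁻¹ := eq_inv_of_mul_eq_one_right hprod
        rw [e2]
        exact ((hwx.symm.mul_left hwx1'.symm)).inv_left
      have hσw : Commute x2 (σ w) := by rw [show x2 = σ x1 from rfl]; exact hwx1'.symm.map σ
      have hσx : Commute x1 (σ w) := by rw [show x1 = σ xh from rfl]; exact hwx.symm.map σ
      -- the product of the translates is central
      have hπ : w * σ w * σ (σ w) = 1 ∨ w * σ w * σ (σ w) = c.zH := by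
        let wq : ↥Q := ⟨w, hwR0.2⟩
        have h := c.pt_zero.mp (show c.pt (wq * T.rot wq * T.rot (T.rot wq)) = 0 by
          simp only [c.pt_mul, T.pt_rot]; exact T.orbit_sum _)
        simp only [Subgroup.coe_mul, rot_val] at h
        exact h
      have hπe : e * (w * σ w * σ (σ w)) * e⁻¹ = w * σ w * σ (σ w) := by
        rcases hπ with h | h <;> rw [h]
        · rw [mul_one, mul_inv_cancel]
        · rw [(c.zH_comm e).eq, mul_inv_cancel_right]
      have hσz : σ c.zH = c.zH := by rw [hσ, (c.zH_comm T.ξ).eq, mul_inv_cancel_right]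
      have hA1 : Commute (σ A) w := by
        rcases hAc with h | h | h | h <;> rw [h]
        · rw [map_one]; exact Commute.one_left w
        · exact hwx1'.symm
        · rw [hσz]; exact (c.zH_comm w).symm
        · rw [map_mul, hσz]; exact Commute.mul_left hwx1'.symm (c.zH_comm w).symm
      have hA2 : Commute (σ (σ A)) (w * σ w) := by
        rcases hAc with h | h | h | h <;> rw [h]
        · rw [map_one, map_one]; exact Commute.one_left _
        · exact hxc.mul_right hσw
        · rw [hσz, hσz]; exact (c.zH_comm _).symm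
        · rw [map_mul, map_mul, hσz, hσz]
          exact Commute.mul_left (hxc.mul_right hσw) (c.zH_comm _).symm
      have hprodA : A * σ A * σ (σ A) = 1 := by
        have h : e * (w * σ w * σ (σ w)) * e⁻¹ = A * σ A * σ (σ A) * (w * σ w * σ (σ w)) := by
          calc e * (w * σ w * σ (σ w)) * e⁻¹ = (e * w * e⁻¹) * (e * σ w * e⁻¹) * (e * σ (σ w) * e⁻¹) := by group
            _ = A * w * σ (A * w) * σ (σ (A * w)) := by rw [← hσe w, ← hσe (σ w), ← hσe w, hA]
            _ = A * (w * σ A) * σ w * σ (σ A) * σ (σ w) := by simp only [map_mul]; group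
            _ = A * σ A * (w * σ w * σ (σ A)) * σ (σ w) := by rw [← hA1.eq]; group
            _ = _ := by rw [← hA2.eq]; group
        rw [hπe] at h
        exact right_eq_mul.mp h
      have hAx : A = 1 ∨ A = xh := by
        have hz1 : ∀ w, c.zH * w = w * c.zH := fun w => ((c.zH_comm w).eq).symm
        rcases hAc with h | h | h | h
        · exact Or.inl h
        · exact Or.inr h
        · exfalso
          rw [h, hσz, hσz, c.zH_sq, one_mul] at hprodA
          exact c.zH_ne hprodA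
        · exfalso
          rw [h, map_mul, map_mul, hσz, hσz, show σ xh = x1 from rfl, show σ x1 = x2 from rfl,
            show xh * c.zH * (x1 * c.zH) * (x2 * c.zH) = xh * (c.zH * x1) * c.zH * x2 * c.zH by group, hz1,
            show xh * (x1 * c.zH) * c.zH = xh * x1 * (c.zH * c.zH) by group, c.zH_sq, mul_one, hprod, one_mul] at hprodA
          exact c.zH_ne hprodA
      have hqw : q * w * q⁻¹ = w := by
        rcases c.conj_cases hqQ hwR0.2 with h | h
        · exact h
        exfalso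
        have e0 : r * w * r⁻¹ = q * (e * w * e⁻¹) * q⁻¹ := by rw [hq]; group
        rw [hA, show q * (A * w) * q⁻¹ = q * A * q⁻¹ * (q * w * q⁻¹) by group, h] at e0
        rcases hAx with h' | h' <;> rw [h'] at e0
        · rw [mul_one, mul_inv_cancel, one_mul] at e0
          rcases hRCcases r hr.1 w hwR0.1 with er | er <;> rw [er] at e0
          · exact c.zH_ne (right_eq_mul.mp e0)
          · exact hxzH (mul_right_cancel e0)
        · rw [hqx.eq, mul_inv_cancel_right, ← mul_assoc] at e0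
          rcases hRCcases r hr.1 w hwR0.1 with er | er <;> rw [er] at e0
          · have := (right_eq_mul.mp e0)
            exact hxzH (by rw [← inv_eq_of_mul_eq_one_right hxsq]; exact inv_eq_of_mul_eq_one_right this)
          · have := mul_right_cancel e0
            exact c.zH_ne (left_eq_mul.mp this)
      exact (mul_inv_eq_iff_eq_mul.mp hqw).symm
    have hre' : r = q * e := by rw [hq, inv_mul_cancel_right]
    rcases hS' hqS with hqR | hqR
    · exact Or.inl (by have := mul_mem (inv_mem (show q ∈ c.RC g from hqR.1)) hr.1; rwa [hre', inv_mul_cancel_left] at this)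
    · refine Or.inr ?_
      have := mul_mem (inv_mem (show q * x1 ∈ c.RC g from hqR.1)) hr.1
      rwa [hre', show (q * x1)⁻¹ * (q * e) = x1⁻¹ * e by group, inv_eq_of_mul_eq_one_right hx1sq] at this
  set Y0 := Y ⊓ c.RC g with hY0
  have hYcard : Nat.card Y = 16 := by
    rw [← hE16]
    refine Nat.card_eq_of_bijective (fun e : Y => (⟨R e.1, e.2.2⟩ : E)) ⟨fun a b e => ?_, fun y => ?_⟩
    · exact Subtype.ext (hDinj _ a.2.1 _ b.2.1 (congrArg Subtype.val e))
    · obtain ⟨r, hr, hry⟩ := y.2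
      obtain ⟨d, hd, hdr⟩ : R r ∈ D.map R := by rw [hDmap]; exact c.mem_X hr.2
      refine ⟨⟨d, hd, ?_⟩, Subtype.ext (hdr.trans hry)⟩
      show R d ∈ E
      rw [hdr, hry]; exact y.2
  have hY0card : Nat.card Y0 = 8 ∨ Nat.card Y0 = 16 := by
    have hle : Nat.card Y ≤ 2 * Nat.card Y0 := by
      by_cases hall : ∀ e ∈ Y, e ∈ c.RC g
      · rw [show Y0 = Y from inf_of_le_left hall]; omega
      push Not at hall
      obtain ⟨e₁, he₁, he₁'⟩ := hall
      let f : ↥Y → ↥Y0 × Bool := fun e =>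
        if h : (e : ↥(centralizer ({z} : Set G))) ∈ c.RC g then (⟨e, e.2, h⟩, true)
        else (⟨e * e₁, mul_mem e.2 he₁, by
          have a1 := (key _ e.2).resolve_left h
          have a2 := (key _ he₁).resolve_left he₁'
          have := mul_mem (hx1RC _ a1) a2
          rwa [show x1 * (x1 * (e : ↥(centralizer ({z} : Set G)))) * x1⁻¹ * (x1 * e₁) = (x1 * x1) * (e * e₁) by group,
            hx1sq, one_mul] at this⟩, false)
      have hf : Function.Injective f := fun a b e => by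
        simp only [f] at e
        split_ifs at e with ha hb hb <;>
          simp only [Prod.mk.injEq, Bool.true_eq_false, Bool.false_eq_true, and_false, and_true] at e
        · exact Subtype.ext (congrArg (fun w : ↥Y0 => (w : ↥(centralizer ({z} : Set G)))) e)
        · exact Subtype.ext (mul_right_cancel (congrArg (fun w : ↥Y0 => (w : ↥(centralizer ({z} : Set G)))) e))
      have := Nat.card_le_card_of_injective f hf
      rw [Nat.card_prod, Nat.card_eq_fintype_card (α := Bool), Fintype.card_bool] at this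
      omega
    have hd := card_dvd_of_le (inf_le_left : Y0 ≤ Y)
    rw [hYcard] at hd hle
    obtain ⟨k, hk, hk'⟩ := (Nat.dvd_prime_pow Nat.prime_two (m := 4)).mp hd
    rw [hk'] at hle ⊢
    interval_cases k <;> first | (exfalso; revert hle; norm_num; done) | norm_num
  -- transport to `Q`
  obtain ⟨p', hp'Q, hp'⟩ := c.mem_conj hg hxz
  set p : ↥Q := ⟨p', hp'Q⟩ with hp
  have hpz : ((p : ↥(centralizer ({z} : Set G))) : G) ≠ z := fun e => by
    have e' : g⁻¹ * z * g = z := hp'.symm.trans e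
    refine hxz ?_
    rw [← hg]
    conv_lhs => rw [← e']
    group
  obtain ⟨hpq, hp0, hp1701⟩ := c.long_of_conj (g := g⁻¹) hp'Q (by rw [inv_inv]; exact hp'.symm) hpz
  have hback : ∀ r ∈ c.RC g, ∃ w : ↥Q, ((w : ↥(centralizer ({z} : Set G))) : G) = g⁻¹ * (r : G) * g := fun r hr => by
    obtain ⟨w, hw, hwe⟩ := mem_map_conj.mp (c.mem_RC hr)
    exact ⟨⟨w, hw⟩, hwe⟩
  choose ν hν using hback
  have hνmul : ∀ a (ha : a ∈ c.RC g) b (hb : b ∈ c.RC g), ν (a * b) (mul_mem ha hb) = ν a ha * ν b hb := fun a ha b hb =>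
    Subtype.ext (Subtype.ext (by
      show ((ν (a * b) _ : ↥(centralizer ({z} : Set G))) : G) = (ν a ha : ↥(centralizer ({z} : Set G))) * ((ν b hb : ↥(centralizer ({z} : Set G))) : G)
      rw [hν, hν, hν, Subgroup.coe_mul]; group))
  let φ : ↥Y0 →* Multiplicative (c.ι → ZMod 2) :=
    MonoidHom.mk' (fun e => Multiplicative.ofAdd (c.pt (ν e.1 e.2.2))) fun a b => by
      show Multiplicative.ofAdd (c.pt (ν ((a : ↥(centralizer ({z} : Set G))) * b) _)) = _
      rw [hνmul, c.pt_mul]; rfl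
  have hφ : Function.Injective φ := by
    refine (injective_iff_map_eq_one φ).mpr fun e he => ?_
    have h0 : c.pt (ν e.1 e.2.2) = 0 := congrArg Multiplicative.toAdd he
    rcases c.pt_zero.mp h0 with h | h
    · refine Subtype.ext (Subtype.ext ?_)
      have h' := congrArg (fun w : ↥(centralizer ({z} : Set G)) => g * (w : G) * g⁻¹) h
      simp only [hν, Subgroup.coe_one, mul_one, mul_inv_cancel] at h'
      show ((e : ↥(centralizer ({z} : Set G))) : G) = 1
      rw [← h']; group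
    · exfalso
      have h' : g⁻¹ * ((e : ↥(centralizer ({z} : Set G))) : G) * g = z := by
        rw [← hν _ e.2.2, h, c.zH_val]
      have hex : (e : ↥(centralizer ({z} : Set G))) = xh := Subtype.ext (by
        calc ((e : ↥(centralizer ({z} : Set G))) : G)
            = g * (g⁻¹ * ((e : ↥(centralizer ({z} : Set G))) : G) * g) * g⁻¹ := by group
          _ = g * z * g⁻¹ := congrArg (fun w => g * w * g⁻¹) h'
          _ = _ := hg)
      exact hx1 (hDQ xh (hex ▸ e.2.1.1) (c.rep_Q x.2))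
  let Z : AddSubgroup (c.ι → ZMod 2) := Subgroup.toAddSubgroup' φ.range
  have hZmem : ∀ v, v ∈ Z ↔ ∃ e : ↥Y0, c.pt (ν e.1 e.2.2) = v := fun v => by
    show Multiplicative.ofAdd v ∈ φ.range ↔ _
    exact ⟨fun ⟨e, he⟩ => ⟨e, congrArg Multiplicative.toAdd he⟩, fun ⟨e, he⟩ => ⟨e, congrArg Multiplicative.ofAdd he⟩⟩
  have hZcard : Nat.card Z = Nat.card Y0 := by
    show Nat.card φ.range = _
    exact (Nat.card_congr (MonoidHom.ofInjective hφ).toEquiv).symm
  have hZq : ∀ v ∈ Z, c.F.q v = 0 := by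
    intro v hv
    obtain ⟨e, rfl⟩ := (hZmem v).mp hv
    rw [c.Fq, pt, c.D.hT]
    refine if_pos (Subtype.ext (Subtype.ext ?_))
    show ((ν e.1 e.2.2 : ↥(centralizer ({z} : Set G))) : G) * ((ν e.1 e.2.2 : ↥(centralizer ({z} : Set G))) : G) = 1
    rw [hν, show g⁻¹ * ((e : ↥(centralizer ({z} : Set G))) : G) * g * (g⁻¹ * ((e : ↥(centralizer ({z} : Set G))) : G) * g) =
      g⁻¹ * (((e : ↥(centralizer ({z} : Set G))) : G) * ((e : ↥(centralizer ({z} : Set G))) : G)) * g by group]
    rcases hX'.sq _ (c.mem_RC e.2.2) with h | h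
    · rw [h]; group
    · exfalso
      have hh : (e : ↥(centralizer ({z} : Set G))) * e = xh := Subtype.ext h
      exact hx1 (hDQ xh (hh ▸ mul_mem e.2.1.1 e.2.1.1) (c.rep_Q x.2))
  -- the transported alternating group
  set L' := D ⊓ (L.map ((Cfsg.Lib.LargeFischer.rep Q c.D).comp c.M.subtype).range.subtype).comap R with hL'
  let θ : ↥L' →* ↥(L.map ((Cfsg.Lib.LargeFischer.rep Q c.D).comp c.M.subtype).range.subtype) :=
    MonoidHom.mk' (fun l => ⟨R l.1, l.2.2⟩) fun a b => Subtype.ext (map_mul R _ _)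
  have hθ : Function.Bijective θ := by
    refine ⟨fun a b e => Subtype.ext (hDinj _ a.2.1 _ b.2.1 (congrArg Subtype.val e)), fun y => ?_⟩
    obtain ⟨d, hd, hdy⟩ : (y : Equiv.Perm (c.ι → ZMod 2)) ∈ D.map R := by
      rw [hDmap]
      obtain ⟨l, -, hl⟩ := y.2
      exact hl ▸ l.2
    exact ⟨⟨d, hd, mem_comap.mpr (by rw [hdy]; exact y.2)⟩, Subtype.ext hdy⟩
  let eL' : ↥L' ≃* alternatingGroup (Fin 6) := (MulEquiv.ofBijective θ hθ).trans
    ((L.equivMapOfInjective _ (subtype_injective _)).symm.trans eL)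
  have hlx : ∀ l ∈ L', Commute l xh := by
    intro l hl
    obtain ⟨l0, hl0, hll⟩ := hl.2
    refine hDfix l hl.1 ?_
    have h := hL l0 hl0
    rw [c.ρ_val] at h
    rw [← hll]; exact h
  have hmem : ∀ l : ↥L', g⁻¹ * ((l : ↥(centralizer ({z} : Set G))) : G) * g ∈ centralizer ({z} : Set G) := fun l => by
    refine mem_centralizer_singleton_iff.mpr ?_
    have e : ((l : ↥(centralizer ({z} : Set G))) : G) * (g * z * g⁻¹) = g * z * g⁻¹ * ((l : ↥(centralizer ({z} : Set G))) : G) := by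
      rw [hg]; exact congrArg Subtype.val (hlx l l.2).eq
    calc g⁻¹ * ((l : ↥(centralizer ({z} : Set G))) : G) * g * z
        = g⁻¹ * (((l : ↥(centralizer ({z} : Set G))) : G) * (g * z * g⁻¹)) * g := by group
      _ = _ := by rw [e]; group
  let Λ : ↥L' →* ↥(centralizer ({z} : Set G)) :=
    MonoidHom.mk' (fun l => ⟨_, hmem l⟩) fun a b => Subtype.ext (by
      show g⁻¹ * ((((a * b : ↥L') : ↥(centralizer ({z} : Set G)))) : G) * g = (g⁻¹ * _ * g) * (g⁻¹ * _ * g)
      rw [Subgroup.coe_mul, Subgroup.coe_mul]; group)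
  haveI hsimp : IsSimpleGroup ↥L' := by
    haveI : IsSimpleGroup (alternatingGroup (Fin 6)) := alternatingGroup.isSimpleGroup (by simp)
    exact eL'.isSimpleGroup
  have hL'c : Nat.card ↥L' = 360 := by
    rw [Nat.card_congr eL'.toEquiv, nat_card_alternatingGroup, Nat.card_fin]; rfl
  have hΛM : ∀ l, Λ l ∈ c.M := fun l => by
    rcases IsSimpleGroup.eq_bot_or_eq_top_of_normal ((QuotientGroup.mk' c.M).comp Λ).ker inferInstance with h | h
    · exfalso
      have := Nat.card_le_card_of_injective _ ((MonoidHom.ker_eq_bot_iff _).mp h)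
      rw [hL'c, ← index_eq_card, c.Mi] at this
      norm_num at this
    · exact (QuotientGroup.eq_one_iff _).mp (MonoidHom.mem_ker.mp (h ▸ mem_top l))
  let Λ' : ↥L' →* ↥((Cfsg.Lib.LargeFischer.rep Q c.D).comp c.M.subtype).range :=
    MonoidHom.mk' (fun l => ⟨R (Λ l), c.mem_X (hΛM l)⟩) fun a b => Subtype.ext (by
      show R (Λ (a * b)) = R (Λ a) * R (Λ b)
      rw [map_mul, map_mul])
  have hΛinj : Function.Injective Λ' := by
    refine (MonoidHom.ker_eq_bot_iff Λ').mp
      ((IsSimpleGroup.eq_bot_or_eq_top_of_normal Λ'.ker inferInstance).resolve_right fun h => ?_)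
    have hQ' : ∀ l, Λ l ∈ Q := fun l => c.rep_eq_one (congrArg Subtype.val (MonoidHom.mem_ker.mp (h ▸ mem_top l) : Λ' l = 1))
    let Λq : ↥L' →* ↥Q := Λ.codRestrict Q hQ'
    have hinj : Function.Injective Λq := fun a b e => by
      have e' := congrArg (fun w : ↥Q => ((w : ↥(centralizer ({z} : Set G))) : G)) e
      exact Subtype.ext (Subtype.ext (mul_left_cancel (mul_right_cancel e')))
    obtain ⟨n, hn⟩ := IsPGroup.iff_card.mp (IsPGroup.of_injective c.hE.1.1 Λq hinj)
    rw [hL'c] at hn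
    have h5 : (5 : ℕ) ∣ 2 ^ n := by rw [← hn]; norm_num
    exact absurd ((Nat.prime_dvd_prime_iff_eq Nat.prime_five Nat.prime_two).mp (Nat.prime_five.dvd_of_dvd_pow h5))
      (by norm_num)
  refine c.F.no_invariant ⟨hpq, hp0⟩ hp1701 Λ'.range ⟨(MonoidHom.ofInjective hΛinj).symm.trans eL'⟩ ?_ Z ?_ hZq
    (hZcard ▸ hY0card)
  · rintro _ ⟨l, rfl⟩
    rw [c.ρ_val]
    show R (Λ l) (c.pt p) = c.pt p
    rw [hR, c.act]
    refine congrArg c.pt (Subtype.ext (Subtype.ext ?_))
    rw [MulAut.conjNormal_apply]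
    show g⁻¹ * ((l : ↥(centralizer ({z} : Set G))) : G) * g * (p' : G) * (g⁻¹ * ((l : ↥(centralizer ({z} : Set G))) : G) * g)⁻¹ = p'
    rw [show (p' : G) = g⁻¹ * z * g from hp']
    have e : ((l : ↥(centralizer ({z} : Set G))) : G) * z = z * ((l : ↥(centralizer ({z} : Set G))) : G) :=
      mem_centralizer_singleton_iff.mp (l : ↥(centralizer ({z} : Set G))).2
    calc _ = g⁻¹ * (((l : ↥(centralizer ({z} : Set G))) : G) * z) * ((l : ↥(centralizer ({z} : Set G))) : G)⁻¹ * g := by group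
      _ = _ := by rw [e]; group
  · rintro _ ⟨l, rfl⟩ v hv
    obtain ⟨e, rfl⟩ := (hZmem v).mp hv
    rw [c.ρ_val]
    show R (Λ l) (c.pt _) ∈ Z
    rw [hR, c.act, hZmem]
    have hl := l.2
    have hcx : (l : ↥(centralizer ({z} : Set G))) * xh * (l : ↥(centralizer ({z} : Set G)))⁻¹ = xh := by
      rw [(hlx l l.2).eq, mul_inv_cancel_right]
    have h1 : (l : ↥(centralizer ({z} : Set G))) * e.1 * (l : ↥(centralizer ({z} : Set G)))⁻¹ ∈ Y0 := by
      refine ⟨⟨(show _ ∈ D from mul_mem (mul_mem (show (l : ↥(centralizer ({z} : Set G))) ∈ D from hl.1) e.2.1.1) (inv_mem (show (l : ↥(centralizer ({z} : Set G))) ∈ D from hl.1))), ?_⟩, c.RC_conj hg hcx e.2.2⟩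
      obtain ⟨r, hr, hre⟩ := e.2.1.2
      refine ⟨(l : ↥(centralizer ({z} : Set G))) * r * (l : ↥(centralizer ({z} : Set G)))⁻¹,
        ⟨c.RC_conj hg hcx hr.1, c.Mn.conj_mem r hr.2 _⟩, ?_⟩
      simp only [map_mul, map_inv, hre]
    refine ⟨⟨_, h1⟩, congrArg c.pt (Subtype.ext (Subtype.ext ?_))⟩
    rw [hν, MulAut.conjNormal_apply]
    show _ = g⁻¹ * ((l : ↥(centralizer ({z} : Set G))) : G) * g * ((ν e.1 e.2.2 : ↥(centralizer ({z} : Set G))) : G) *
      (g⁻¹ * ((l : ↥(centralizer ({z} : Set G))) : G) * g)⁻¹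
    rw [hν]
    simp only [Subgroup.coe_mul, Subgroup.coe_inv]
    group

/-- The centralizer is perfect. -/
theorem cent_perfect (hF : Cfsg.IsOfLargeFischerTypeAt z Q) :
    ⁅centralizer (X : Set ↥(centralizer ({z} : Set G))), centralizer (X : Set ↥(centralizer ({z} : Set G)))⁆ =
      centralizer (X : Set ↥(centralizer ({z} : Set G))) := by
  set C := centralizer (X : Set ↥(centralizer ({z} : Set G))) with hC
  have hDC : ⁅C, C⁆ ≤ C := commutator_le.mpr fun a ha b hb => by
    rw [commutatorElement_def]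
    exact mul_mem (mul_mem (mul_mem ha hb) (inv_mem ha)) (inv_mem hb)
  refine le_antisymm hDC fun d hd => ?_
  obtain ⟨e, he, hed⟩ : Cfsg.Lib.LargeFischer.rep Q c.D d ∈ ⁅C, C⁆.map (Cfsg.Lib.LargeFischer.rep Q c.D) := by
    rw [Subgroup.map_commutator, T.map_cent hF, T.range_perfect]
    exact c.mem_X (T.cent_le hF hd)
  have hq : e⁻¹ * d ∈ Q := c.rep_eq_one (by rw [map_mul, map_inv, hed, inv_mul_cancel])
  rcases T.cent_Q hq (mul_mem (inv_mem (hDC he)) hd) with h | h
  · rwa [← inv_mul_eq_one.mp h]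
  · rw [inv_mul_eq_iff_eq_mul.mp h]
    exact mul_mem he (T.zH_mem_derived hF)

/-- The six-fold cover. -/
theorem main (hF : Cfsg.IsOfLargeFischerTypeAt z Q) :
    Cfsg.IsQuasisimple ↥(centralizer (X : Set ↥(centralizer ({z} : Set G)))) ∧
    IsCyclic ↥(center ↥(centralizer (X : Set ↥(centralizer ({z} : Set G))))) ∧
    Nat.card ↥(center ↥(centralizer (X : Set ↥(centralizer ({z} : Set G))))) = 6 ∧
    Nonempty (↥(centralizer (X : Set ↥(centralizer ({z} : Set G)))) ⧸
      center ↥(centralizer (X : Set ↥(centralizer ({z} : Set G)))) ≃* Cfsg.PSU 4 T.K 3) := by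
  classical
  haveI := T.simple
  haveI := T.Nn
  set C := centralizer (X : Set ↥(centralizer ({z} : Set G))) with hC
  let θ : ↥C →* Cfsg.PSU 4 T.K 3 := T.ψ.comp (Subgroup.inclusion (T.cent_le hF))
  have hθker : ∀ d : ↥C, d ∈ θ.ker ↔ (d : ↥(centralizer ({z} : Set G))) ∈ T.N := fun d => by
    show Subgroup.inclusion (T.cent_le hF) d ∈ T.ψ.ker ↔ _
    rw [T.ψker]; rfl
  have hθ : Function.Surjective θ := fun y => by
    obtain ⟨m, rfl⟩ := T.surj y
    obtain ⟨d, hd, -, q, hq, hdm⟩ := T.lift m.2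
    refine ⟨⟨d, hd⟩, ?_⟩
    show T.ψ ⟨d, _⟩ = _
    rw [show (⟨d, T.cent_le hF hd⟩ : ↥c.M) = ⟨q, c.QM hq⟩ * m from Subtype.ext hdm, map_mul,
      show T.ψ ⟨q, c.QM hq⟩ = 1 from MonoidHom.mem_ker.mp (T.ψker ▸ (T.QN hq : (⟨q, c.QM hq⟩ : ↥c.M) ∈ T.N.subgroupOf c.M)),
      one_mul]
  let a : ↥C := ⟨c.zH * T.ξ, mul_mem T.zH_cent T.xi_cent⟩
  have hcomm : Commute c.zH T.ξ := (c.zH_comm T.ξ).symm
  haveI : Fact (Nat.Prime 2) := ⟨Nat.prime_two⟩
  haveI : Fact (Nat.Prime 3) := ⟨by norm_num⟩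
  have hz2 : orderOf c.zH = 2 := orderOf_eq_prime (by rw [pow_two]; exact c.zH_sq) c.zH_ne
  have hξ3 : orderOf T.ξ = 3 := orderOf_eq_prime T.three T.ne
  have ha : orderOf a = 6 := by
    rw [← Subgroup.orderOf_coe]
    show orderOf (c.zH * T.ξ) = 6
    rw [hcomm.orderOf_mul_eq_mul_orderOf_of_coprime (by rw [hz2, hξ3]; norm_num), hz2, hξ3]
  have hcen : θ.ker ≤ zpowers a := by
    intro d hd
    rw [hθker] at hd
    obtain ⟨i, hi⟩ := T.Nrep _ hd
    have hq : (d : ↥(centralizer ({z} : Set G))) * (pw3 T.ξ i)⁻¹ ∈ Q := c.rep_eq_one (by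
      rw [map_mul, map_inv, hi, pw3, pw3, map_pow, map_pow, T.rep, mul_inv_cancel])
    have hξi : pw3 T.ξ i ∈ C := pow_mem T.xi_cent _
    have hza : (⟨c.zH, T.zH_cent⟩ : ↥C) = a ^ 3 := Subtype.ext (by
      show c.zH = (c.zH * T.ξ) ^ 3
      rw [hcomm.mul_pow, T.three, mul_one, pow_succ, pow_two, c.zH_sq, one_mul])
    have hξa : (⟨T.ξ, T.xi_cent⟩ : ↥C) = a ^ 4 := Subtype.ext (by
      show T.ξ = (c.zH * T.ξ) ^ 4
      rw [hcomm.mul_pow, show (4 : ℕ) = 3 + 1 from rfl, pow_succ T.ξ, T.three, one_mul,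
        show (3 + 1 : ℕ) = 2 * 2 from rfl, pow_mul, pow_two c.zH, c.zH_sq, one_pow, one_mul])
    rcases T.cent_Q hq (mul_mem d.2 (inv_mem hξi)) with h | h <;> rw [mul_inv_eq_iff_eq_mul] at h
    · rw [show d = (⟨T.ξ, T.xi_cent⟩ : ↥C) ^ i.val from Subtype.ext (by rw [h, one_mul]; rfl), hξa]
      exact pow_mem (pow_mem (mem_zpowers a) _) _
    · rw [show d = (⟨c.zH, T.zH_cent⟩ : ↥C) * (⟨T.ξ, T.xi_cent⟩ : ↥C) ^ i.val from Subtype.ext (by rw [h]; rfl),
        hza, hξa]
      exact mul_mem (pow_mem (mem_zpowers a) _) (pow_mem (pow_mem (mem_zpowers a) _) _)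
  have hacen : a ∈ center ↥C := mem_center_iff.mpr fun d => Subtype.ext (by
    show (d : ↥(centralizer ({z} : Set G))) * (c.zH * T.ξ) = c.zH * T.ξ * d
    exact ((c.zH_comm _).mul_right (T.mem_iff.mp d.2)).eq)
  have hsub : zpowers a ≤ center ↥C := zpowers_le.mpr hacen
  have hker : θ.ker = center ↥C := by
    refine le_antisymm (hcen.trans hsub) fun d hd => MonoidHom.mem_ker.mpr ?_
    have hmem : θ d ∈ center (Cfsg.PSU 4 T.K 3) := mem_center_iff.mpr fun y => by
      obtain ⟨e, rfl⟩ := hθ y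
      rw [← map_mul, ← map_mul, mem_center_iff.mp hd e]
    have hbot : center (Cfsg.PSU 4 T.K 3) = ⊥ := by
      refine (IsSimpleGroup.eq_bot_or_eq_top_of_normal _ inferInstance).resolve_right fun h => ?_
      have h2 := T.perfect
      rw [_root_.commutator_def, show (⁅(⊤ : Subgroup (Cfsg.PSU 4 T.K 3)), ⊤⁆ : Subgroup _) = ⊥ from
        commutator_eq_bot_iff_le_centralizer.mpr fun x _ => mem_centralizer_iff.mpr fun y _ =>
          mem_center_iff.mp (h ▸ mem_top x) y] at h2
      exact bot_ne_top h2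
    rwa [hbot, mem_bot] at hmem
  have hz : center ↥C = zpowers a := le_antisymm (hker ▸ hcen) hsub
  let e : ↥C ⧸ center ↥C ≃* Cfsg.PSU 4 T.K 3 :=
    (QuotientGroup.quotientMulEquivOfEq hker.symm).trans (QuotientGroup.quotientKerEquivOfSurjective θ hθ)
  refine ⟨⟨?_, e.isSimpleGroup⟩, ?_, ?_, ⟨e⟩⟩
  · refine ⟨?_⟩
    refine map_injective C.subtype_injective ?_
    rw [_root_.commutator_def, Subgroup.map_commutator, ← MonoidHom.range_eq_map, range_subtype]
    exact T.cent_perfect hF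
  · rw [hz]; infer_instance
  · rw [hz, Nat.card_zpowers, ha]

end Ctx.Three

end Cfsg.Lib.LargeFischer
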