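import Cfsg.Agent.LargeFischer.StabElementary
import Cfsg.Agent.LargeFischer.CoverSix
import Cfsg.Prelude.Def_CaseTheorems
import Cfsg.Prelude.Def_Transfer

/-!
The elementary abelian subgroup of largest order in a Sylow two-subgroup of the centraliser of the involution.
-/

set_option autoImplicit false
set_option maxRecDepth 100000
set_option maxHeartbeats 1000000
set_option linter.unusedSectionVars false
set_option linter.style.haveILetI false

namespace Cfsg.Lib.LargeFischer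

open Subgroup QuadraticMap
open Cfsg.Lib.LargeExtra.OutExtra
open Cfsg.Lib.LargeExtra

universe u

theorem pairs_even : ∀ i j : Fin 6, i ≠ j → ∑ k, pr i j k = 0 := by decide +kernel

theorem pair_third : ∀ i j k : Fin 6, i ≠ j → j ≠ k → i ≠ k → pr i j + pr j k = pr i k := by decide +kernel

theorem pair_disjoint : ∀ m, pr 0 1 m + pr 2 3 m + pr 4 5 m = pr 0 1 0 + pr 2 3 0 + pr 4 5 0 := by decide +kernel

theorem kap_shift : ∀ x y r s t q : F4, x + y + r + s = 0 → ∀ k : Fin 6,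
    (![x, y, r, s, t, q] (kap.symm k) : F4) = ![x, y, r, s, t, q] k + (x + y) * ![1, 1, 1, 1, 0, 0] k := by
  decide +kernel

variable {G : Type u} [Group G] [Finite G] {z : G} {Q : Subgroup (centralizer ({z} : Set G))} [Q.Normal]

namespace Ctx.LinePt

variable {c : Ctx z Q} (P : c.LinePt)

/-- A double transposition is conjugate into the radical. -/
theorem kap_conj_RB : ∃ m ∈ c.XM, m⁻¹ * P.gp kap * m ∈ P.RB := by
  classical
  have hκ : kap ∈ alternatingGroup (Fin 6) := d8_mem 1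
  -- a second point of the long orbit
  set w := P.vec ![1, 1, 1, 1, 0, 0] with hw
  have hwp : ∑ k, P.rc w k = 0 := by simp only [hw, P.rc_vec]; decide +kernel
  have hwq : c.F.q w = 0 := by
    have e : c.F.dec (fun k => code4 (c.F.co k w)) = w := by rw [c.F.dec_code, c.F.mk6_co]
    rw [← e, c.F.q_dec]
    have hs : supp6 (fun k => code4 (c.F.co k w)) = Finset.univ.filter fun k => (![1, 1, 1, 1, 0, 0] k : F4) ≠ 0 := by
      ext k
      rw [mem_supp6, Finset.mem_filter, ← P.rc_vec ![1, 1, 1, 1, 0, 0] k, rc, mul_ne_zero_iff,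
        show (none : Option (ZMod 3)) = code4 0 by decide +kernel, code4_bijective.1.ne_iff]
      simp [pow_ne_zero 2 (P.full k), hw]
    rw [hs]
    decide +kernel
  have hwsp : (c.F.sp w).card = 4 := by
    have e : c.F.dec (fun k => code4 (c.F.co k w)) = w := by rw [c.F.dec_code, c.F.mk6_co]
    rw [← e, c.F.sp_dec]
    have hs : supp6 (fun k => code4 (c.F.co k w)) = Finset.univ.filter fun k => (![1, 1, 1, 1, 0, 0] k : F4) ≠ 0 := by
      ext k
      rw [mem_supp6, Finset.mem_filter, ← P.rc_vec ![1, 1, 1, 1, 0, 0] k, rc, mul_ne_zero_iff,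
        show (none : Option (ZMod 3)) = code4 0 by decide +kernel, code4_bijective.1.ne_iff]
      simp [pow_ne_zero 2 (P.full k), hw]
    rw [hs]
    decide +kernel
  have horb : w ∈ c.F.orb (c.pt P.x) := by
    rw [c.F.orb_long ⟨P.hq, P.v_ne⟩ P.orb1701]
    exact (c.F.orb_of_card hwq).2 hwsp
  obtain ⟨g, hg⟩ := horb
  set m := (g : Equiv.Perm (c.ι → ZMod 2)) with hm
  have hmX : m ∈ c.XM := g.2
  rw [c.Fρ] at hg
  change m (c.pt P.x) = w at hg
  refine ⟨m, hmX, ?_⟩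
  have hX : m⁻¹ * P.gp kap * m ∈ c.XM := mul_mem (mul_mem (inv_mem hmX) (P.gp_XM hκ)) hmX
  have hgw : P.gp kap w = w := P.rc_ext fun k => by
    rw [P.gp_rc' hκ, hw, P.rc_vec, P.rc_vec]
    revert k; decide +kernel
  have hv : (m⁻¹ * P.gp kap * m) (c.pt P.x) = c.pt P.x := by
    rw [Equiv.Perm.mul_apply, Equiv.Perm.mul_apply, hg, hgw, Equiv.Perm.coe_inv, ← hg, Equiv.symm_apply_apply]
  obtain ⟨bb, ρ, hρ, e⟩ := P.stab_form hX hv
  have hshift : ∀ u ∈ P.perp, ∃ t : F4, (m⁻¹ * P.gp kap * m) u = u + c.F.sm t (c.pt P.x) := by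
    intro u hu
    have hmu : c.F.herm (m u) w = 0 := hg ▸ XM_perp hmX (P.mem_perp.mp hu)
    rw [P.herm_rc, Fin.sum_univ_six] at hmu
    simp only [hw, P.rc_vec] at hmu
    simp at hmu
    refine ⟨P.rc (m u) 0 + P.rc (m u) 1, ?_⟩
    have hr : ∀ k, P.rc (m u) k = (![P.rc (m u) 0, P.rc (m u) 1, P.rc (m u) 2, P.rc (m u) 3, P.rc (m u) 4,
        P.rc (m u) 5] k : F4) := fun k => by fin_cases k <;> rfl
    have he : P.gp kap (m u) = m u + c.F.sm (P.rc (m u) 0 + P.rc (m u) 1) w := P.rc_ext fun k => by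
      rw [P.rc_add, P.rc_sm, hw, P.rc_vec, P.gp_rc' hκ, hr (kap.symm k), hr k]
      exact kap_shift _ _ _ _ _ _ hmu k
    rw [Equiv.Perm.mul_apply, Equiv.Perm.mul_apply, he, XM_add (inv_mem hmX), XM_sm (inv_mem hmX),
      Equiv.Perm.coe_inv, Equiv.symm_apply_apply, ← hg, Equiv.symm_apply_apply]
  have hρ1 : ρ = 1 := P.gp_shift hρ fun u hu => by
    obtain ⟨t, ht⟩ := hshift u hu
    rw [e, Equiv.Perm.mul_apply] at ht
    refine ⟨t + P.sc * ∑ j, P.rc (P.gp ρ u) j * bf (evn bb j), fun k => ?_⟩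
    have h' := congrArg (fun x => P.rc x k) ht
    simp only [P.rr_act (evn_sum bb) (P.gp_perp hρ hu), P.rc_add, P.rc_sm, P.rc_pt, mul_one] at h'
    rw [← add_assoc, ← h', add_assoc, f4_two, add_zero]
  rw [e, hρ1, P.gp_one, mul_one]
  exact P.rr_mem _

end Ctx.LinePt

namespace Ctx.Three

variable {c : Ctx z Q} {X : Subgroup ↥(centralizer ({z} : Set G))} (T : c.Three X)

/-- Lifts fixing a vector centralise its representatives. -/
theorem commute_of_fix {d : ↥(centralizer ({z} : Set G))} (hd : Commute d T.ξ) (y : ↥Q)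
    (h : Cfsg.Lib.LargeFischer.rep Q c.D d (c.pt y) = c.pt y) : Commute d (y : ↥(centralizer ({z} : Set G))) := by
  rw [c.act] at h
  rcases c.pt_eq h.symm with e | e <;> rw [MulAut.conjNormal_apply] at e
  · exact mul_inv_eq_iff_eq_mul.mp e
  exfalso
  set w := (y : ↥(centralizer ({z} : Set G))) with hw
  have hz1 : ∀ a, c.zH * a = a * c.zH := fun a => ((c.zH_comm a).eq).symm
  have hconj : ∀ a, d * a * d⁻¹ = a * c.zH →
      d * (T.ξ * a * T.ξ⁻¹) * d⁻¹ = T.ξ * a * T.ξ⁻¹ * c.zH := fun a ha => by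
    calc d * (T.ξ * a * T.ξ⁻¹) * d⁻¹ = d * T.ξ * a * (d * T.ξ)⁻¹ := by group
      _ = T.ξ * d * a * (T.ξ * d)⁻¹ := by rw [hd.eq]
      _ = T.ξ * (d * a * d⁻¹) * T.ξ⁻¹ := by group
      _ = T.ξ * a * (c.zH * T.ξ⁻¹) := by rw [ha]; group
      _ = _ := by rw [hz1, ← mul_assoc]
  have e1 := hconj _ e
  have e2 := hconj _ e1
  have hp : c.pt (y * T.rot y * T.rot (T.rot y)) = 0 := by
    simp only [c.pt_mul, T.pt_rot]
    exact T.orbit_sum _
  set p := w * (T.ξ * w * T.ξ⁻¹) * (T.ξ * (T.ξ * w * T.ξ⁻¹) * T.ξ⁻¹) with hpd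
  have hpc : d * p * d⁻¹ = p := by
    have he : ((y * T.rot y * T.rot (T.rot y) : ↥Q) : ↥(centralizer ({z} : Set G))) = p := by
      simp only [Subgroup.coe_mul, rot_val, hpd, hw]
    rw [← he]
    rcases c.pt_zero.mp hp with q | q <;> rw [q]
    · rw [mul_one, mul_inv_cancel]
    · exact mul_inv_eq_iff_eq_mul.mpr (c.zH_comm d).eq
  have h3 : d * p * d⁻¹ = p * c.zH := by
    rw [hpd, show d * (w * (T.ξ * w * T.ξ⁻¹) * (T.ξ * (T.ξ * w * T.ξ⁻¹) * T.ξ⁻¹)) * d⁻¹ =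
      (d * w * d⁻¹) * (d * (T.ξ * w * T.ξ⁻¹) * d⁻¹) * (d * (T.ξ * (T.ξ * w * T.ξ⁻¹) * T.ξ⁻¹) * d⁻¹) by group, e, e1, e2]
    calc w * c.zH * (T.ξ * w * T.ξ⁻¹ * c.zH) * (T.ξ * (T.ξ * w * T.ξ⁻¹) * T.ξ⁻¹ * c.zH)
        = w * (c.zH * (T.ξ * w * T.ξ⁻¹)) * c.zH * (T.ξ * (T.ξ * w * T.ξ⁻¹) * T.ξ⁻¹) * c.zH := by group
      _ = w * (T.ξ * w * T.ξ⁻¹) * (c.zH * c.zH) * (T.ξ * (T.ξ * w * T.ξ⁻¹) * T.ξ⁻¹) * c.zH := by rw [hz1]; group
      _ = _ := by rw [c.zH_sq, mul_one]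
  exact c.zH_ne (mul_eq_left.mp (h3.symm.trans hpc))

variable (P : c.LinePt)

/-- A lift of an element of the image. -/
def Lf (d : ↥(centralizer ({z} : Set G))) (σ : Equiv.Perm (c.ι → ZMod 2)) : Prop :=
  Commute d T.ξ ∧ Cfsg.Lib.LargeFischer.rep Q c.D d = σ

theorem exists_lf {σ : Equiv.Perm (c.ι → ZMod 2)} (hσ : σ ∈ c.XM) : ∃ d, T.Lf d σ := by
  obtain ⟨m, rfl⟩ := hσ
  obtain ⟨d, hd, he, -⟩ := T.lift m.2
  exact ⟨d, T.mem_iff.mp hd, he⟩

variable {T}

theorem Lf.mul {d e : ↥(centralizer ({z} : Set G))} {σ τ : Equiv.Perm (c.ι → ZMod 2)} (h : T.Lf d σ)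
    (h' : T.Lf e τ) : T.Lf (d * e) (σ * τ) := ⟨h.1.mul_left h'.1, by rw [map_mul, h.2, h'.2]⟩

theorem Lf.inv {d : ↥(centralizer ({z} : Set G))} {σ : Equiv.Perm (c.ι → ZMod 2)} (h : T.Lf d σ) :
    T.Lf d⁻¹ σ⁻¹ := ⟨h.1.inv_left, by rw [map_inv, h.2]⟩

theorem Lf.eq_or {d e : ↥(centralizer ({z} : Set G))} {σ : Equiv.Perm (c.ι → ZMod 2)} (h : T.Lf d σ)
    (h' : T.Lf e σ) : e = d ∨ e = d * c.zH := by
  have hc : T.Lf (d⁻¹ * e) 1 := by simpa using h.inv.mul h'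
  rcases T.fixQ (c.rep_eq_one hc.2) hc.1 with q | q
  · exact Or.inl (inv_mul_eq_one.mp q).symm
  · exact Or.inr (eq_mul_of_inv_mul_eq q)

theorem Lf.sq_eq {d e : ↥(centralizer ({z} : Set G))} {σ : Equiv.Perm (c.ι → ZMod 2)} (h : T.Lf d σ)
    (h' : T.Lf e σ) : e * e = d * d := by
  rcases h.eq_or h' with rfl | rfl
  · rfl
  · rw [mul_assoc, ← mul_assoc c.zH, ← (c.zH_comm d).eq, mul_assoc d c.zH, c.zH_sq, mul_one]

theorem Lf.conj_sq {d e : ↥(centralizer ({z} : Set G))} {σ τ : Equiv.Perm (c.ι → ZMod 2)} (h : T.Lf d σ)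
    (he : T.Lf e τ) (hz : d * d = 1 ∨ d * d = c.zH) : (e * d * e⁻¹) * (e * d * e⁻¹) = d * d := by
  rw [show e * d * e⁻¹ * (e * d * e⁻¹) = e * (d * d) * e⁻¹ by group]
  rcases hz with q | q <;> rw [q]
  · rw [mul_one, mul_inv_cancel]
  · exact mul_inv_eq_iff_eq_mul.mpr (c.zH_comm e).eq

variable {P}

/-- The lifts of the radical square to one. -/
theorem RB_lift_sq {d : ↥(centralizer ({z} : Set G))} {σ : Equiv.Perm (c.ι → ZMod 2)} (hσ : σ ∈ P.RB)
    (h : T.Lf d σ) : d * d = 1 := by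
  have hsq : ∀ {e : ↥(centralizer ({z} : Set G))} {τ}, τ ∈ P.RB → T.Lf e τ → e * e = 1 ∨ e * e = c.zH := by
    intro e τ hτ he
    have h2 := he.mul he
    rw [P.RB_sq hτ] at h2
    exact T.fixQ (c.rep_eq_one h2.2) h2.1
  have hex : ∀ i j : Fin 6, ∃ e, T.Lf e (P.rr (pr i j)) := fun i j => T.exists_lf (P.RB_le (P.rr_mem _))
  choose l hl using hex
  set ε := l 0 2 * l 0 2 with hε
  have hall : ∀ i j e, i ≠ j → T.Lf e (P.rr (pr i j)) → e * e = ε := by
    intro i j e hij he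
    obtain ⟨π, hπ, h0, h2⟩ := alt_two_trans i j hij
    obtain ⟨u, hu⟩ := T.exists_lf (P.gp_XM hπ)
    have hc := (hu.mul (hl 0 2)).mul hu.inv
    rw [P.rr_conj hπ (pairs_even 0 2 (by decide)),
      show (fun k => pr 0 2 (π.symm k)) = pr i j from funext fun k => if_congr
        (by rw [Equiv.symm_apply_eq, Equiv.symm_apply_eq, h0, h2]) rfl rfl] at hc
    rw [Lf.sq_eq hc he]
    exact Lf.conj_sq (hl 0 2) hu (hsq (P.rr_mem _) (hl 0 2))
  have hε1 : ε = 1 := by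
    rcases hsq (P.rr_mem _) (hl 0 2) with q | q
    · exact q
    exfalso
    -- distinct lifts anticommute
    have hanti : ∀ a b : ↥(centralizer ({z} : Set G)), a * a = ε → b * b = ε → a * b * (a * b) = ε →
        b * a = a * b * c.zH := by
      intro a b ha hb hab
      have hεz : ε = c.zH := q
      have h1 : b * a = a⁻¹ * (a * b * (a * b)) * b⁻¹ := by group
      rw [h1, hab, inv_eq_of_mul_eq_one_right (a := a) (b := a * c.zH) (by rw [← mul_assoc, ha, hεz, c.zH_sq]),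
        inv_eq_of_mul_eq_one_right (a := b) (b := b * c.zH) (by rw [← mul_assoc, hb, hεz, c.zH_sq]), hεz]
      calc a * c.zH * c.zH * (b * c.zH) = a * (c.zH * c.zH) * b * c.zH := by group
        _ = _ := by rw [c.zH_sq, mul_one]
    have hthird : ∀ i j k, i ≠ j → j ≠ k → i ≠ k → T.Lf (l i j * l j k) (P.rr (pr i k)) := fun i j k a b e => by
      have h := (hl i j).mul (hl j k)
      rwa [P.rr_mul (pairs_even i j a) (pairs_even j k b), pair_third i j k a b e] at h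
    -- a shared point
    have hshare : ∀ i j k, i ≠ j → j ≠ k → i ≠ k → l j k * l i j = l i j * l j k * c.zH := fun i j k a b e =>
      hanti _ _ (hall i j _ a (hl i j)) (hall j k _ b (hl j k)) (hall i k _ e (hthird i j k a b e))
    have h23 : T.Lf (l 0 1 * l 2 3) (P.rr (pr 4 5)) := by
      have h := (hl 0 1).mul (hl 2 3)
      rw [P.rr_mul (pairs_even 0 1 (by decide)) (pairs_even 2 3 (by decide))] at h
      rwa [P.rr_congr (f := pr 4 5) (f' := pr 0 1 + pr 2 3) (pairs_even 4 5 (by decide))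
        (by decide +kernel) (by decide +kernel)]
    have a1 : l 2 3 * l 0 1 = l 0 1 * l 2 3 * c.zH :=
      hanti _ _ (hall 0 1 _ (by decide) (hl 0 1)) (hall 2 3 _ (by decide) (hl 2 3)) (hall 4 5 _ (by decide) h23)
    have a2 : l 0 2 * l 0 1 = l 0 1 * l 0 2 * c.zH := by
      have h := (hl 0 1).mul (hl 0 2)
      rw [P.rr_mul (pairs_even 0 1 (by decide)) (pairs_even 0 2 (by decide)),
        show pr 0 1 + pr 0 2 = pr 1 2 by decide +kernel] at h
      exact hanti _ _ (hall 0 1 _ (by decide) (hl 0 1)) (hall 0 2 _ (by decide) (hl 0 2)) (hall 1 2 _ (by decide) h)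
    have h03 := hthird 0 2 3 (by decide) (by decide) (by decide)
    have a3 : l 0 2 * l 2 3 * l 0 1 = l 0 1 * (l 0 2 * l 2 3) := by
      rw [mul_assoc, a1, show l 0 2 * (l 0 1 * l 2 3 * c.zH) = l 0 2 * l 0 1 * l 2 3 * c.zH by group, a2,
        show l 0 1 * l 0 2 * c.zH * l 2 3 * c.zH = l 0 1 * l 0 2 * (c.zH * l 2 3) * c.zH by group,
        ← (c.zH_comm (l 2 3)).eq, show l 0 1 * l 0 2 * (l 2 3 * c.zH) * c.zH = l 0 1 * (l 0 2 * l 2 3) * (c.zH * c.zH) by group,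
        c.zH_sq, mul_one]
    have hprod : T.Lf (l 0 1 * (l 0 2 * l 2 3)) (P.rr (pr 1 3)) := by
      have h := (hl 0 1).mul h03
      rwa [P.rr_mul (pairs_even 0 1 (by decide)) (pairs_even 0 3 (by decide)),
        show pr 0 1 + pr 0 3 = pr 1 3 by decide +kernel] at h
    have a4 := hanti _ _ (hall 0 1 _ (by decide) (hl 0 1)) (hall 0 3 _ (by decide) h03) (hall 1 3 _ (by decide) hprod)
    exact c.zH_ne (mul_eq_left.mp (a4.symm.trans a3))
  obtain ⟨b, rfl⟩ := P.RB_onto hσ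
  by_cases hb : b = 0
  · subst hb
    have h1 : P.rr (Ctx.LinePt.evn 0) = 1 := (P.rr_eq_one (Ctx.LinePt.evn_sum _)).mpr (by decide +kernel)
    rw [h1] at h
    rcases T.fixQ (c.rep_eq_one h.2) h.1 with e | e <;> rw [e]
    · exact mul_one 1
    · exact c.zH_sq
  obtain ⟨i, j, hij, hk⟩ := evn_pair b hb
  rw [P.rr_congr (Ctx.LinePt.evn_sum b) (pairs_even i j hij) hk] at h
  rw [hall i j d hij h, hε1]

/-- The lifts of the four group of permutations square to one. -/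
theorem kk_lift_sq {d : ↥(centralizer ({z} : Set G))} {a b : ZMod 2} (hab : a ≠ 0 ∨ b ≠ 0)
    (h : T.Lf d (P.gp (kk a b))) : d * d = 1 := by
  classical
  obtain ⟨i, hi⟩ := kk_conj a b hab
  set π : Equiv.Perm (Fin 6) := ![1, Equiv.swap 2 4 * Equiv.swap 3 5, Equiv.swap 0 4 * Equiv.swap 1 5] i with hπd
  have hπ : π ∈ alternatingGroup (Fin 6) := Equiv.Perm.mem_alternatingGroup.mpr (conj_mem_alt i)
  have hκ : kap ∈ alternatingGroup (Fin 6) := d8_mem 1
  obtain ⟨m, hmX, hk'⟩ := P.kap_conj_RB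
  obtain ⟨d', hd'⟩ := T.exists_lf (P.RB_le hk')
  obtain ⟨em, hem⟩ := T.exists_lf hmX
  obtain ⟨ep, hep⟩ := T.exists_lf (P.gp_XM hπ)
  have hs := RB_lift_sq hk' hd'
  have h1 := (hem.mul hd').mul hem.inv
  rw [show m * (m⁻¹ * P.gp kap * m) * m⁻¹ = P.gp kap by group] at h1
  have hs1 : em * d' * em⁻¹ * (em * d' * em⁻¹) = 1 := by rw [Lf.conj_sq hd' hem (Or.inl hs), hs]
  have h2 := (hep.mul h1).mul hep.inv
  rw [P.gp_inv hπ, P.gp_mul hπ hκ, P.gp_mul (mul_mem hπ hκ) (inv_mem hπ), hi] at h2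
  rw [Lf.sq_eq h2 h, Lf.conj_sq h1 hep (Or.inl hs1), hs1]

/-- Lifts of the elementary abelian image square to one. -/
theorem AB_lift_sq {d : ↥(centralizer ({z} : Set G))} {σ : Equiv.Perm (c.ι → ZMod 2)} (hσ : σ ∈ P.AB)
    (h : T.Lf d σ) : d * d = 1 := by
  obtain ⟨q, rfl⟩ := P.mem_AB.mp hσ
  obtain ⟨r, hr⟩ := T.exists_lf (P.RB_le (P.rr_mem (yv q)))
  by_cases hab : q 2 ≠ 0 ∨ q 3 ≠ 0
  swap
  · push Not at hab
    rw [hab.1, hab.2, show kk 0 0 = 1 by decide +kernel, P.gp_one, mul_one] at h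
    exact RB_lift_sq (P.rr_mem _) h
  obtain ⟨k, hk⟩ := T.exists_lf (P.gp_XM (kk_mem (q 2) (q 3)))
  have hk1 := kk_lift_sq hab hk
  obtain ⟨e, he⟩ := kk_half (q 2) (q 3) (q 0) (q 1) hab
  obtain ⟨y, hy⟩ := T.exists_lf (P.RB_le (P.rr_mem (Ctx.LinePt.evn e)))
  have hy' := (hk.mul hy).mul hk.inv
  have hsum : ∑ i, Ctx.LinePt.evn e ((kk (q 2) (q 3)).symm i) = 0 := by
    rw [Equiv.sum_comp (kk (q 2) (q 3)).symm (Ctx.LinePt.evn e), Ctx.LinePt.evn_sum]
  rw [P.rr_conj (kk_mem _ _) (Ctx.LinePt.evn_sum e)] at hy'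
  have hm := hy'.mul hy
  have he' : ∀ i, (fun i => Ctx.LinePt.evn e ((kk (q 2) (q 3)).symm i)) i + Ctx.LinePt.evn e i + yv q i =
      (fun i => Ctx.LinePt.evn e ((kk (q 2) (q 3)).symm i)) 0 + Ctx.LinePt.evn e 0 + yv q 0 := fun i => by
    rw [add_comm _ (Ctx.LinePt.evn e i), add_comm _ (Ctx.LinePt.evn e 0)]
    exact he i
  rw [P.rr_mul hsum (Ctx.LinePt.evn_sum e), P.rr_congr
    (f := (fun i => Ctx.LinePt.evn e ((kk (q 2) (q 3)).symm i)) + Ctx.LinePt.evn e)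
    (by simp [Finset.sum_add_distrib, hsum, Ctx.LinePt.evn_sum]) (yv_sum q) he'] at hm
  -- the translate commutes
  have hy1 := RB_lift_sq (P.rr_mem _) hy
  have hy1' : k * y * k⁻¹ * (k * y * k⁻¹) = 1 := by rw [Lf.conj_sq hy hk (Or.inl hy1), hy1]
  have hm1 := RB_lift_sq (P.rr_mem _) hm
  have hcomm : k * (k * y * k⁻¹ * y) = k * y * k⁻¹ * y * k := by
    have e2 : k * y * k⁻¹ * y = y * (k * y * k⁻¹) :=
      (inv_eq_of_mul_eq_one_right hm1).symm.trans
        (by rw [_root_.mul_inv_rev, inv_eq_of_mul_eq_one_right hy1, inv_eq_of_mul_eq_one_right hy1'])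
    conv_rhs => rw [e2]
    calc k * (k * y * k⁻¹ * y) = k * k * y * (k⁻¹ * k⁻¹) * (k * y) := by group
      _ = y * (k * y) := by rw [← _root_.mul_inv_rev, hk1, inv_one, one_mul, mul_one]
      _ = _ := by group
  have hd := (hm.mul hk).eq_or h
  have hmk : k * y * k⁻¹ * y * k * (k * y * k⁻¹ * y * k) = 1 := by
    rw [show k * y * k⁻¹ * y * k * (k * y * k⁻¹ * y * k) =
      k * y * k⁻¹ * y * (k * (k * y * k⁻¹ * y)) * k by group, hcomm,
      show k * y * k⁻¹ * y * (k * y * k⁻¹ * y * k) * k = (k * y * k⁻¹ * y * (k * y * k⁻¹ * y)) * (k * k) by group,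
      hm1, hk1, mul_one]
  rw [Lf.sq_eq (hm.mul hk) h, hmk]

variable (T P)

/-- The elementary abelian subgroup. -/
noncomputable def A : Subgroup ↥(centralizer ({z} : Set G)) :=
  P.AB.comap (Cfsg.Lib.LargeFischer.rep Q c.D) ⊓ centralizer (c.pre P.SA : Set ↥(centralizer ({z} : Set G)))

theorem pre_comm {a b : ↥(centralizer ({z} : Set G))} (ha : a ∈ c.pre P.SA) (hb : b ∈ c.pre P.SA) : a * b = b * a := by
  obtain ⟨haq, hau⟩ := c.mem_pre.mp ha
  obtain ⟨hbq, hbu⟩ := c.mem_pre.mp hb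
  exact (c.commute_of_B (a := ⟨a, haq⟩) (b := ⟨b, hbq⟩) (P.SA_B hau hbu)).eq

theorem A_inter : A P ⊓ Q = c.pre P.SA := by
  refine le_antisymm ?_ fun h hh => ?_
  · rintro h ⟨⟨-, hc⟩, hq⟩
    refine c.mem_pre.mpr ⟨hq, P.SA_maximal fun w hw => ?_⟩
    obtain ⟨y, rfl⟩ := c.D.surj w
    refine c.B_pt_of_commute (a := ⟨h, hq⟩) (b := y) (Subtype.ext ?_)
    exact (mem_centralizer_iff.mp hc (y : ↥(centralizer ({z} : Set G))) (c.mem_pre.mpr ⟨y.2, hw⟩)).symm
  · have hq := c.pre_le _ hh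
    refine ⟨⟨?_, mem_centralizer_iff.mpr fun y hy => pre_comm P hy hh⟩, hq⟩
    show Cfsg.Lib.LargeFischer.rep Q c.D h ∈ P.AB
    rw [c.rep_Q hq]
    exact one_mem _

include T in
theorem A_map : (A P).map (Cfsg.Lib.LargeFischer.rep Q c.D) = P.AB := by
  refine le_antisymm (map_le_iff_le_comap.mpr inf_le_left) fun σ hσ => ?_
  obtain ⟨d, hd⟩ := T.exists_lf (Ctx.LinePt.mem_St P |>.mp (P.AB_le hσ)).1
  refine ⟨d, ⟨by show Cfsg.Lib.LargeFischer.rep Q c.D d ∈ P.AB; rw [hd.2]; exact hσ, mem_centralizer_iff.mpr fun y hy => ?_⟩, hd.2⟩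
  obtain ⟨hq, hu⟩ := c.mem_pre.mp hy
  exact (T.commute_of_fix hd.1 ⟨y, hq⟩ (by rw [hd.2]; exact P.AB_fix hσ hu)).eq.symm

include T in
theorem A_card : Nat.card ↥(A P) = 2 ^ 11 := by
  rw [c.card_map_rep, A_map T P, P.AB_card, A_inter, c.pre_card, P.SA_card]
  norm_num

include T in
theorem A_sq {h : ↥(centralizer ({z} : Set G))} (hh : h ∈ A P) : h * h = 1 := by
  have hσ : Cfsg.Lib.LargeFischer.rep Q c.D h ∈ P.AB := hh.1
  obtain ⟨d, hd⟩ := T.exists_lf (Ctx.LinePt.mem_St P |>.mp (P.AB_le hσ)).1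
  have hdA : d ∈ A P := ⟨by show Cfsg.Lib.LargeFischer.rep Q c.D d ∈ P.AB; rw [hd.2]; exact hσ, mem_centralizer_iff.mpr fun y hy => by
    obtain ⟨hq, hu⟩ := c.mem_pre.mp hy
    exact (T.commute_of_fix hd.1 ⟨y, hq⟩ (by rw [hd.2]; exact P.AB_fix hσ hu)).eq.symm⟩
  have hq : h * d⁻¹ ∈ A P ⊓ Q := ⟨(A P).mul_mem hh ((A P).inv_mem hdA), c.rep_eq_one (by rw [map_mul, map_inv, hd.2, mul_inv_cancel])⟩
  rw [A_inter] at hq
  obtain ⟨hqQ, hu⟩ := c.mem_pre.mp hq
  set q := h * d⁻¹ with hqd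
  have hq2 : q * q = 1 := by
    have e : (⟨q, hqQ⟩ : ↥Q) * ⟨q, hqQ⟩ = 1 := by
      rw [mul_self_eq c.D.es, ← c.D.hT]
      have hq' := P.SA_q hu
      rw [c.Fq] at hq'
      rw [show c.D.π ⟨q, hqQ⟩ = c.pt ⟨q, hqQ⟩ from rfl, hq', Cfsg.Lib.ExtraOut.pw_zero]
    exact congrArg Subtype.val e
  have hc : q * d = d * q := mem_centralizer_iff.mp hdA.2 q hq
  rw [show h = q * d by rw [hqd, inv_mul_cancel_right], show q * d * (q * d) = q * (d * q) * d by group, ← hc,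
    show q * (q * d) * d = (q * q) * (d * d) by group, hq2, AB_lift_sq hσ hd, mul_one]

include T in
theorem A_elementary : Cfsg.IsElementaryAbelian 2 (A P) := by
  refine ⟨⟨⟨fun a b => Subtype.ext ?_⟩⟩, fun a ha => by rw [pow_two]; exact A_sq T P ha⟩
  have h := A_sq T P (mul_mem a.2 b.2)
  show (a : ↥(centralizer ({z} : Set G))) * b = b * a
  calc (a : ↥(centralizer ({z} : Set G))) * b = ((a : ↥(centralizer ({z} : Set G))) * b)⁻¹ :=
        (inv_eq_of_mul_eq_one_right h).symm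
    _ = _ := by rw [_root_.mul_inv_rev, inv_eq_of_mul_eq_one_right (A_sq T P a.2),
      inv_eq_of_mul_eq_one_right (A_sq T P b.2)]

include T in
/-- The bound on elementary abelian subgroups. -/
theorem bound {B : Subgroup ↥(centralizer ({z} : Set G))} (h2 : ∀ b ∈ B, b * b = 1)
    (hc : ∀ a ∈ B, ∀ b ∈ B, a * b = b * a) (hB : ∀ b ∈ B, b ∈ c.M → P.P2 (Cfsg.Lib.LargeFischer.rep Q c.D b)) :
    Nat.card ↥B ≤ 2 ^ 11 ∧ (2 ^ 11 ≤ Nat.card ↥B → B = A P) := by
  classical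
  let U : AddSubgroup (c.ι → ZMod 2) :=
    { carrier := {u | ∃ y : ↥Q, (y : ↥(centralizer ({z} : Set G))) ∈ B ∧ c.pt y = u}
      zero_mem' := ⟨1, one_mem _, c.D.π_one⟩
      add_mem' := fun {a b} ⟨y, hy, ha⟩ ⟨w, hw, hb⟩ => ⟨y * w, mul_mem hy hw, by rw [c.pt_mul, ha, hb]⟩
      neg_mem' := fun {a} ⟨y, hy, ha⟩ => ⟨y, hy, by rw [c.F.W.neg_eq, ha]⟩ }
  have hBQ : Nat.card ↥(B ⊓ Q) ≤ 2 * Nat.card ↥U := by
    rw [← c.pre_card]
    exact card_le_of_le fun h hh => c.mem_pre.mpr ⟨hh.2, ⟨h, hh.2⟩, hh.1, rfl⟩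
  have hU : Nat.card ↥U ≤ 64 := by
    refine Ctx.LinePt.iso_bound (c := c) U ?_
    rintro _ ⟨y, hy, rfl⟩ _ ⟨w, hw, rfl⟩
    exact c.B_pt_of_commute (Subtype.ext (hc _ hy _ hw))
  have hfix : ∀ b ∈ B, ∀ u ∈ U, Cfsg.Lib.LargeFischer.rep Q c.D b u = u := by
    rintro b hb _ ⟨y, hy, rfl⟩
    rw [c.act]
    exact congrArg c.pt (Subtype.ext (by rw [MulAut.conjNormal_apply, hc b hb _ hy, mul_inv_cancel_right]))
  set E := (B ⊓ c.M).map (Cfsg.Lib.LargeFischer.rep Q c.D) with hE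
  have hE2 : ∀ e ∈ E, e * e = 1 := by rintro _ ⟨b, hb, rfl⟩; rw [← map_mul, h2 b hb.1, map_one]
  have hEc : ∀ a ∈ E, ∀ b ∈ E, a * b = b * a := by
    rintro _ ⟨a, ha, rfl⟩ _ ⟨b, hb, rfl⟩; rw [← map_mul, ← map_mul, hc a ha.1 b hb.1]
  have hEP : ∀ e ∈ E, P.P2 e := by rintro _ ⟨b, hb, rfl⟩; exact hB b hb.1 hb.2
  have hcases := P.elementary_cases E hE2 hEc hEP
  have hE16 : Nat.card ↥E ≤ 16 := by
    rcases hcases with h | h | h
    · exact P.RB_card ▸ card_le_of_le h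
    · exact P.AB_card ▸ card_le_of_le h
    · omega
  have hmul := c.card_map_rep B
  by_cases hM : B ≤ c.M
  · have hEB : E = B.map (Cfsg.Lib.LargeFischer.rep Q c.D) := by rw [hE, inf_of_le_left hM]
    rw [← hEB] at hmul
    have hle : Nat.card ↥B ≤ 2 ^ 11 := by
      rw [hmul]
      exact (Nat.mul_le_mul hE16 (hBQ.trans (Nat.mul_le_mul_left 2 hU))).trans (by norm_num)
    refine ⟨hle, fun hge => ?_⟩
    have h16 : Nat.card ↥E = 16 ∧ Nat.card ↥U = 64 := by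
      have h1 := Nat.mul_le_mul_left (Nat.card ↥E) hBQ
      rw [← hmul] at h1
      constructor
      · by_contra hne
        have h3 := Nat.mul_le_mul (show Nat.card ↥E ≤ 15 by omega) (Nat.mul_le_mul_left 2 hU)
        omega
      · by_contra hne
        have h3 := Nat.mul_le_mul hE16 (show 2 * Nat.card ↥U ≤ 126 by omega)
        omega
    obtain ⟨h16, hU64⟩ := h16
    rcases hcases with h | h | h
    · exfalso
      have he := eq_of_le_of_card_ge h (by rw [h16, P.RB_card])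
      have hline : U ≤ P.line := fun u hu => P.fix_RB fun σ hσ => by
        obtain ⟨b, hb, rfl⟩ := he.ge hσ
        exact hfix b hb.1 u hu
      have := (AddSubgroup.card_le_of_le hline).trans P.line_card.le
      omega
    · have he := eq_of_le_of_card_ge h (by rw [h16, P.AB_card])
      have hUS : U ≤ P.SA := fun u hu => P.fix_AB fun σ hσ => by
        obtain ⟨b, hb, rfl⟩ := he.ge hσ
        exact hfix b hb.1 u hu
      have hUe : U = P.SA := AddSubgroup.eq_of_le_of_card_ge hUS (by rw [hU64, P.SA_card])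
      have hpre : B ⊓ Q = c.pre P.SA := by
        refine eq_of_le_of_card_ge (fun x hx => c.mem_pre.mpr ⟨hx.2, hUe ▸ ⟨⟨x, hx.2⟩, hx.1, rfl⟩⟩) ?_
        rw [c.pre_card, P.SA_card]
        rw [hmul, h16] at hge
        omega
      refine eq_of_le_of_card_ge (fun b hb => ⟨?_, ?_⟩) (by rw [A_card T P]; exact hge)
      · show Cfsg.Lib.LargeFischer.rep Q c.D b ∈ P.AB
        exact he.le (mem_map_of_mem _ ⟨hb, hM hb⟩)
      · exact mem_centralizer_iff.mpr fun y hy => hc y (hpre.ge hy).1 b hb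
    · omega
  · -- a semilinear element
    obtain ⟨d, hdB, hdM⟩ := SetLike.not_le_iff_exists.mp hM
    have h8 : Nat.card ↥B ≤ 1024 := by
      have hR : Nat.card ↥(B.map (Cfsg.Lib.LargeFischer.rep Q c.D)) ≤ 2 * Nat.card ↥E := by
        have hle : ∀ σ ∈ B.map (Cfsg.Lib.LargeFischer.rep Q c.D), σ ∈ E ∨ Cfsg.Lib.LargeFischer.rep Q c.D d * σ ∈ E := by
          rintro _ ⟨b, hb, rfl⟩
          by_cases hbM : b ∈ c.M
          · exact Or.inl (mem_map_of_mem _ ⟨hb, hbM⟩)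
          · refine Or.inr ?_
            rw [← map_mul]
            exact mem_map_of_mem _ ⟨mul_mem hdB hb, by show d * b ∈ c.M; rw [Subgroup.mul_mem_iff_of_index_two c.Mi]; simp [hdM, hbM]⟩
        let f : ↥(B.map (Cfsg.Lib.LargeFischer.rep Q c.D)) → Bool × ↥E := fun σ =>
          if h : (σ : Equiv.Perm (c.ι → ZMod 2)) ∈ E then (true, ⟨_, h⟩)
          else (false, ⟨_, (hle σ σ.2).resolve_left h⟩)
        have hf : Function.Injective f := fun a b e => by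
          simp only [f] at e
          split_ifs at e with h1 h2 h2
          · exact Subtype.ext (congrArg (fun p : Bool × ↥E => ((p.2 : ↥E) : Equiv.Perm (c.ι → ZMod 2))) e :)
          · exact absurd (congrArg Prod.fst e) (by simp)
          · exact absurd (congrArg Prod.fst e) (by simp)
          · exact Subtype.ext (mul_left_cancel
              (congrArg (fun p : Bool × ↥E => ((p.2 : ↥E) : Equiv.Perm (c.ι → ZMod 2))) e :))
        refine (Nat.card_le_card_of_injective f hf).trans ?_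
        rw [Nat.card_prod, Nat.card_eq_fintype_card (α := Bool), Fintype.card_bool]
      rw [hmul]
      by_cases h1 : E = ⊥
      · rw [h1, card_bot] at hR
        exact (Nat.mul_le_mul hR (hBQ.trans (Nat.mul_le_mul_left 2 hU))).trans (by norm_num)
      obtain ⟨σ0, hσ0, hne⟩ := E.ne_bot_iff_exists_ne_one.mp h1 |> fun ⟨a, ha⟩ =>
        (⟨a.1, a.2, fun e => ha (Subtype.ext e)⟩ : ∃ σ, σ ∈ E ∧ σ ≠ 1)
      -- fixed vectors of a linear involution
      let F0 : AddSubgroup (c.ι → ZMod 2) :=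
        { carrier := {u | σ0 u = u}
          zero_mem' := by
            obtain ⟨b, -, rfl⟩ := hσ0
            have h := rep_add Q c.D b 0 0
            rw [add_zero, left_eq_add] at h
            exact h
          add_mem' := fun {a b} ha hb => by
            obtain ⟨b', -, rfl⟩ := hσ0
            show Cfsg.Lib.LargeFischer.rep Q c.D b' (a + b) = a + b
            rw [rep_add, ha, hb]
          neg_mem' := fun {a} ha => by
            show σ0 (-a) = -a
            rw [c.F.W.neg_eq]; exact ha }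
      have hF0 : Nat.card ↥F0 ≤ 256 := by
        obtain ⟨b, i, e⟩ := hEP σ0 hσ0
        exact P.fix_bound (b := b) (i := i) (e ▸ hE2 σ0 hσ0) (e ▸ hne) F0 fun u hu => e ▸ hu
      have hU16 : Nat.card ↥U ≤ 16 := by
        obtain ⟨b0, hb0, rfl⟩ := hσ0
        let f : ↥U × ↥U → ↥F0 := fun p => ⟨(p.1 : c.ι → ZMod 2) + c.F.om p.2, by
          show Cfsg.Lib.LargeFischer.rep Q c.D b0 _ = _
          rw [rep_add, Ctx.LinePt.om_comm_M hb0.2, hfix b0 hb0.1 _ p.1.2, hfix b0 hb0.1 _ p.2.2]⟩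
        have hf : Function.Injective f := fun a b e => by
          have e' : (a.1 : c.ι → ZMod 2) + c.F.om a.2 = b.1 + c.F.om b.2 := congrArg Subtype.val e
          set s := (a.2 : c.ι → ZMod 2) + b.2 with hs
          have hsU : s ∈ U := add_mem a.2.2 b.2.2
          have hos : c.F.om s = (a.1 : c.ι → ZMod 2) + b.1 := by
            have h1 : (a.1 : c.ι → ZMod 2) + c.F.om a.2 + (b.1 + c.F.om b.2) = 0 := by rw [e', c.F.dbl]
            rw [hs, map_add]
            refine (add_eq_zero_iff_eq_neg.mp ?_).trans (c.F.W.neg_eq _)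
            rw [← h1]; abel
          have hd1 : Cfsg.Lib.LargeFischer.rep Q c.D d (c.F.om s) = c.F.om s := by
            rw [hos]; exact hfix d hdB _ (add_mem a.1.2 b.1.2)
          rw [P.om_outside hdM, hfix d hdB s hsU] at hd1
          have h2' := (map_eq_zero_iff _ (c.F.t_inj _)).mp (show c.F.om (c.F.om s + s) = 0 by
            rw [map_add, hd1, c.F.dbl])
          have hs0 : c.F.sm (w4 + 1) s = 0 := by rw [c.F.sm_add_left, c.F.sm_one, c.F.sm_w]; exact h2'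
          have hz : s = 0 := by
            have h3 := congrArg (c.F.sm w4) hs0
            rw [c.F.sm_sm, show w4 * (w4 + 1) = 1 by decide +kernel, c.F.sm_one] at h3
            rw [h3, ← c.F.sm_zero_left 0, c.F.sm_sm, mul_zero]
          rw [hz, map_zero] at hos
          refine Prod.ext (Subtype.ext ?_) (Subtype.ext ?_)
          · exact (add_eq_zero_iff_eq_neg.mp hos.symm).trans (c.F.W.neg_eq _)
          · exact (add_eq_zero_iff_eq_neg.mp hz).trans (c.F.W.neg_eq _)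
        have h := (Nat.card_le_card_of_injective f hf).trans hF0
        rw [Nat.card_prod] at h
        by_contra hgt
        have h17 := Nat.mul_le_mul (show 17 ≤ Nat.card ↥U by omega) (show 17 ≤ Nat.card ↥U by omega)
        omega
      exact (Nat.mul_le_mul (hR.trans (Nat.mul_le_mul_left 2 hE16)) (hBQ.trans (Nat.mul_le_mul_left 2 hU16))).trans (by norm_num)
    exact ⟨by omega, fun hge => by omega⟩

include T in
/-- Every Sylow subgroup is conjugate into standard position. -/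
theorem standard (S : Sylow 2 ↥(centralizer ({z} : Set G))) :
    ∃ h, (∀ b ∈ (S : Subgroup ↥(centralizer ({z} : Set G))), b ∈ c.M → P.P2 (Cfsg.Lib.LargeFischer.rep Q c.D (h * b * h⁻¹))) ∧
      ∀ a ∈ A P, h⁻¹ * a * h ∈ (S : Subgroup ↥(centralizer ({z} : Set G))) := by
  classical
  haveI : Fact (Nat.Prime 2) := ⟨Nat.prime_two⟩
  haveI := c.Mn
  have hcardH : Nat.card ↥(centralizer ({z} : Set G)) = 2 ^ 21 * 76545 := by
    rw [← c.M.card_mul_index, c.Mi, c.Mcard]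
    norm_num
  have hS : Nat.card S = 2 ^ 21 := by
    rw [S.card_eq_multiplicity, hcardH, Nat.factorization_mul (by norm_num) (by norm_num), Finsupp.add_apply,
      Nat.Prime.factorization_pow Nat.prime_two, Finsupp.single_eq_same,
      Nat.factorization_eq_zero_of_not_dvd (by norm_num : ¬ 2 ∣ 76545)]
  set SM := (S : Subgroup ↥(centralizer ({z} : Set G))) ⊓ c.M with hSM
  have hQS : Q ≤ (S : Subgroup ↥(centralizer ({z} : Set G))) :=
    (IsPGroup.of_card (p := 2) (n := 13) c.card).le_sylow_of_normal S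
  have hSMQ : SM ⊓ Q = Q := inf_eq_right.mpr (le_inf hQS c.QM)
  have hSMc : 2 ^ 20 ≤ Nat.card ↥SM := by
    have h := Subgroup.card_mul_index (SM.subgroupOf (S : Subgroup ↥(centralizer ({z} : Set G))))
    rw [Nat.card_congr (subgroupOfEquivOfLe (inf_le_left : SM ≤ (S : Subgroup ↥(centralizer ({z} : Set G))))).toEquiv, hS] at h
    have hi : (SM.subgroupOf (S : Subgroup ↥(centralizer ({z} : Set G)))).index ≤ 2 := by
      show SM.relIndex (S : Subgroup ↥(centralizer ({z} : Set G))) ≤ 2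
      rw [hSM, Subgroup.inf_relIndex_left]
      exact (Nat.le_of_dvd (by rw [c.Mi]; norm_num) (Subgroup.relIndex_dvd_index_of_normal c.M _)).trans c.Mi.le
    have := Nat.mul_le_mul_left (Nat.card ↥SM) hi
    have h' : Nat.card ↥SM * (SM.subgroupOf (S : Subgroup ↥(centralizer ({z} : Set G)))).index = 2097152 := h.trans (by norm_num)
    rw [h'] at this
    rw [show (2 : ℕ) ^ 20 = 1048576 by norm_num]
    omega
  set K := SM.map (Cfsg.Lib.LargeFischer.rep Q c.D) with hK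
  have hKc : 128 ≤ Nat.card ↥K := by
    have h := c.card_map_rep SM
    rw [hSMQ, c.card, ← hK] at h
    omega
  have hKp : IsPGroup 2 ↥K := (S.2.to_le inf_le_left).map _
  have hKX : ∀ k ∈ K, k ∈ c.XM := by rintro _ ⟨b, hb, rfl⟩; exact Ctx.mem_XM hb.2
  -- a fixed point
  let O := c.F.orb (c.pt P.x)
  letI : MulAction ↥K O :=
    { smul := fun k o => ⟨(k : Equiv.Perm (c.ι → ZMod 2)) o.1, by
        obtain ⟨g, hg⟩ := o.2
        refine ⟨⟨_, hKX k k.2⟩ * g, ?_⟩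
        rw [map_mul, Equiv.Perm.mul_apply, hg, c.Fρ]
        rfl⟩
      one_smul := fun o => Subtype.ext rfl
      mul_smul := fun a b o => Subtype.ext rfl }
  obtain ⟨⟨w, hwO⟩, hw⟩ := hKp.nonempty_fixed_point_of_prime_not_dvd_card O (by rw [P.orb1701]; norm_num)
  obtain ⟨g, hg⟩ := hwO
  obtain ⟨_, m, rfl⟩ := g
  rw [c.Fρ] at hg
  change Cfsg.Lib.LargeFischer.rep Q c.D (m : ↥(centralizer ({z} : Set G))) (c.pt P.x) = w at hg
  set h0 : ↥(centralizer ({z} : Set G)) := (m : ↥(centralizer ({z} : Set G)))⁻¹ with hh0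
  set K1 := K.map (MulAut.conj (Cfsg.Lib.LargeFischer.rep Q c.D h0)).toMonoidHom with hK1
  have hK1S : K1 ≤ P.St := by
    rintro _ ⟨k, hk, rfl⟩
    have hh : Cfsg.Lib.LargeFischer.rep Q c.D h0 ∈ c.XM := Ctx.mem_XM (inv_mem m.2)
    refine P.mem_St.mpr ⟨mul_mem (mul_mem hh (hKX k hk)) (inv_mem hh), ?_⟩
    have hkw : k w = w := congrArg Subtype.val (hw ⟨k, hk⟩)
    show (Cfsg.Lib.LargeFischer.rep Q c.D h0 * k * (Cfsg.Lib.LargeFischer.rep Q c.D h0)⁻¹) (c.pt P.x) = c.pt P.x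
    rw [hh0, map_inv, inv_inv, Equiv.Perm.mul_apply, Equiv.Perm.mul_apply, hg, hkw, ← hg, Equiv.Perm.coe_inv,
      Equiv.symm_apply_apply]
  -- the permutation part
  let π1 : ↥K1 →* ↥(alternatingGroup (Fin 6)) := P.pr6.comp (Subgroup.inclusion hK1S)
  have hπp : IsPGroup 2 ↥π1.range := (hKp.map _).of_surjective π1.rangeRestrict π1.rangeRestrict_surjective
  let D8 : Subgroup ↥(alternatingGroup (Fin 6)) := centralizer {⟨kap, d8_mem 1⟩}
  have hD8 : ∀ p : ↥(alternatingGroup (Fin 6)), p ∈ D8 ↔ ∃ i, d8 i = (p : Equiv.Perm (Fin 6)) := fun p => by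
    rw [mem_centralizer_singleton_iff, Subtype.ext_iff]
    exact ⟨fun e => d8_all p e (Equiv.Perm.mem_alternatingGroup.mp p.2), fun ⟨i, e⟩ => by
      show (p : Equiv.Perm (Fin 6)) * kap = kap * p
      rw [← e]; exact d8_comm i⟩
  have hD8c : Nat.card ↥D8 = 8 := by
    let f : Fin 8 → ↥D8 := fun i => ⟨⟨d8 i, d8_mem i⟩, (hD8 _).mpr ⟨i, rfl⟩⟩
    have hf : Function.Bijective f := ⟨fun a b e => d8_inj (congrArg (fun x : ↥D8 => ((x : ↥(alternatingGroup (Fin 6))) : Equiv.Perm (Fin 6))) e),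
      fun ⟨p, hp⟩ => by
        obtain ⟨i, hi⟩ := (hD8 p).mp hp
        exact ⟨i, Subtype.ext (Subtype.ext hi)⟩⟩
    rw [← Nat.card_eq_of_bijective f hf, Nat.card_fin]
  let D8s : Sylow 2 ↥(alternatingGroup (Fin 6)) := Sylow.ofCard D8 (by
    rw [hD8c, nat_card_alternatingGroup, Nat.card_fin, show Nat.factorial 6 / 2 = 2 ^ 3 * 45 by rfl,
      Nat.factorization_mul (by norm_num) (by norm_num), Finsupp.add_apply,
      Nat.Prime.factorization_pow Nat.prime_two, Finsupp.single_eq_same,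
      Nat.factorization_eq_zero_of_not_dvd (by norm_num : ¬ 2 ∣ 45)]
    rfl)
  obtain ⟨S6, hS6⟩ := hπp.exists_le_sylow
  obtain ⟨τ, hτ⟩ := MulAction.exists_smul_eq ↥(alternatingGroup (Fin 6)) S6 D8s
  obtain ⟨m2, hm2⟩ := P.gp_XM τ.2
  set h := (m2 : ↥(centralizer ({z} : Set G))) * h0 with hh
  have hmain : ∀ b ∈ (S : Subgroup ↥(centralizer ({z} : Set G))), b ∈ c.M → P.P2 (Cfsg.Lib.LargeFischer.rep Q c.D (h * b * h⁻¹)) := by
    intro b hb hbM
    have hb1 : Cfsg.Lib.LargeFischer.rep Q c.D (h0 * b * h0⁻¹) ∈ K1 :=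
      ⟨_, mem_map_of_mem (Cfsg.Lib.LargeFischer.rep Q c.D) (show b ∈ SM from ⟨hb, hbM⟩), by simp⟩
    have hp : π1 ⟨_, hb1⟩ ∈ (S6 : Subgroup ↥(alternatingGroup (Fin 6))) := hS6 ⟨_, rfl⟩
    have hp' : τ * π1 ⟨_, hb1⟩ * τ⁻¹ ∈ D8 := by
      have h1 : τ * π1 ⟨_, hb1⟩ * τ⁻¹ ∈ ((τ • S6 : Sylow 2 _) : Subgroup ↥(alternatingGroup (Fin 6))) :=
        ⟨_, hp, rfl⟩
      rwa [hτ] at h1
    obtain ⟨i, hi⟩ := (hD8 _).mp hp'
    obtain ⟨bb, hbb⟩ := P.pr6_spec ⟨_, hK1S hb1⟩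
    have he : Cfsg.Lib.LargeFischer.rep Q c.D (h * b * h⁻¹) = P.gp τ * Cfsg.Lib.LargeFischer.rep Q c.D (h0 * b * h0⁻¹) * (P.gp τ)⁻¹ := by
      rw [← hm2]
      simp [hh, mul_assoc]
    have hrr := P.RB_conj τ.2 (P.rr_mem (Ctx.LinePt.evn bb))
    obtain ⟨b', hb'⟩ := P.RB_onto hrr
    refine ⟨b', i, ?_⟩
    rw [he, show Cfsg.Lib.LargeFischer.rep Q c.D (h0 * b * h0⁻¹) = P.rr (Ctx.LinePt.evn bb) * P.gp ((π1 ⟨_, hb1⟩ : ↥(alternatingGroup (Fin 6))) : Equiv.Perm (Fin 6)) from hbb,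
      hb', hi, show ((τ * π1 ⟨_, hb1⟩ * τ⁻¹ : ↥(alternatingGroup (Fin 6))) : Equiv.Perm (Fin 6)) =
        τ * (π1 ⟨_, hb1⟩ : ↥(alternatingGroup (Fin 6))) * (τ : Equiv.Perm (Fin 6))⁻¹ from rfl,
      ← P.gp_mul (mul_mem τ.2 (π1 ⟨_, hb1⟩).2) (inv_mem τ.2), ← P.gp_mul τ.2 (π1 ⟨_, hb1⟩).2, ← P.gp_inv τ.2]
    group
  refine ⟨h, hmain, fun a ha => ?_⟩
  -- the image is everything possible
  have hP2 : ∀ σ ∈ P.AB, P.P2 σ := by
    intro σ hσ
    obtain ⟨q, rfl⟩ := P.mem_AB.mp hσ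
    obtain ⟨b, hb⟩ := P.RB_onto (P.rr_mem (yv q))
    obtain ⟨i, -, hi⟩ := kk_d8 (q 2) (q 3)
    exact ⟨b, i, by rw [hb, hi]⟩
  let f : ↥K → ↥(Set.range fun p : (Fin 4 → ZMod 2) × Fin 8 => P.rr (Ctx.LinePt.evn p.1) * P.gp (d8 p.2)) :=
    fun k => ⟨Cfsg.Lib.LargeFischer.rep Q c.D h * k * (Cfsg.Lib.LargeFischer.rep Q c.D h)⁻¹, by
      obtain ⟨b, hb, hbe⟩ := k.2
      obtain ⟨bb, i, e⟩ := hmain b hb.1 hb.2
      exact ⟨(bb, i), by rw [← hbe, ← map_inv, ← map_mul, ← map_mul]; exact e.symm⟩⟩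
  have hf : Function.Injective f := fun a b e => Subtype.ext (mul_left_cancel (mul_right_cancel (congrArg Subtype.val e)))
  have hfb : Function.Bijective f := (Nat.bijective_iff_injective_and_card _).mpr ⟨hf,
    le_antisymm (Nat.card_le_card_of_injective f hf) ((Finite.card_range_le _).trans (le_trans (by
      rw [Nat.card_prod, Nat.card_fin]; simp) hKc))⟩
  obtain ⟨b', i', hσ⟩ := hP2 _ (show Cfsg.Lib.LargeFischer.rep Q c.D a ∈ P.AB from ha.1)
  obtain ⟨⟨k, b, hb, rfl⟩, hk⟩ := hfb.2 ⟨_, (b', i'), rfl⟩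
  have hk' : Cfsg.Lib.LargeFischer.rep Q c.D h * Cfsg.Lib.LargeFischer.rep Q c.D b * (Cfsg.Lib.LargeFischer.rep Q c.D h)⁻¹ = Cfsg.Lib.LargeFischer.rep Q c.D a := (congrArg Subtype.val hk).trans hσ.symm
  have hq : b⁻¹ * (h⁻¹ * a * h) ∈ Q := c.rep_eq_one (by rw [map_mul, map_mul, map_mul, map_inv, map_inv, ← hk']; group)
  have := mul_mem hb.1 (hQS hq)
  rwa [mul_inv_cancel_left] at this

end Ctx.Three

/-- The unique elementary abelian subgroup of largest order. -/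
theorem max_elementary (hF : Cfsg.IsOfLargeFischerTypeAt z Q)
    (S : Sylow 2 ↥(centralizer ({z} : Set G))) :
    ∃ A : Subgroup ↥(centralizer ({z} : Set G)), A ≤ S ∧ Cfsg.IsElementaryAbelian 2 A ∧ Nat.card ↥A = 2 ^ 11 ∧
      Nat.card ↥(A ⊓ Q) = 2 ^ 7 ∧ Nat.card ↥(A.map (QuotientGroup.mk' Q)) = 16 ∧
      ∀ B : Subgroup ↥(centralizer ({z} : Set G)), B ≤ S → Cfsg.IsElementaryAbelian 2 B →
        Nat.card ↥B ≤ 2 ^ 11 ∧ (2 ^ 11 ≤ Nat.card ↥B → B = A) := by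
  obtain ⟨c⟩ := exists_ctx hF
  obtain ⟨g, x, hg, hxz⟩ := Ctx.exists_conj hF
  obtain ⟨P⟩ := c.exists_linePt ⟨g, ⟨hg ▸ (x : ↥(centralizer ({z} : Set G))).2, by
    convert x.2 using 1
    exact Subtype.ext hg⟩, hg ▸ hxz⟩
  obtain ⟨X, hX, hXQ⟩ := c.exists_order_three hF
  obtain ⟨T⟩ := c.exists_three hF X hX hXQ
  obtain ⟨h, hh, hA⟩ := T.standard P S
  set A := (Ctx.Three.A P).map (MulAut.conj h⁻¹).toMonoidHom with hAd
  have hAS : A ≤ S := by
    rintro _ ⟨a, ha, rfl⟩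
    simpa using hA a ha
  obtain ⟨hAcomm, hAsq⟩ := Ctx.Three.A_elementary T P
  have hAe : Cfsg.IsElementaryAbelian 2 A := by
    refine ⟨⟨⟨?_⟩⟩, ?_⟩
    · rintro ⟨_, a, ha, rfl⟩ ⟨_, b, hb, rfl⟩
      refine Subtype.ext ?_
      show MulAut.conj h⁻¹ a * MulAut.conj h⁻¹ b = MulAut.conj h⁻¹ b * MulAut.conj h⁻¹ a
      have hab : a * b = b * a := congrArg Subtype.val (hAcomm.is_comm.comm ⟨a, ha⟩ ⟨b, hb⟩)
      rw [← map_mul, ← map_mul, hab]
    · rintro _ ⟨a, ha, rfl⟩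
      rw [← map_pow, hAsq a ha, map_one]
  have hAc : Nat.card ↥A = 2 ^ 11 := by
    rw [hAd, card_map_of_injective (MulAut.conj h⁻¹).injective, Ctx.Three.A_card T P]
  have hAQ : Nat.card ↥(A ⊓ Q) = 2 ^ 7 := by
    have e : A ⊓ Q = (Ctx.Three.A P ⊓ Q).map (MulAut.conj h⁻¹).toMonoidHom := by
      rw [Subgroup.map_inf _ _ _ (MulAut.conj h⁻¹).injective, hAd]
      congr 1
      ext q
      refine ⟨fun hq => ⟨h * q * h⁻¹, ‹Q.Normal›.conj_mem q hq h, by simp [mul_assoc]⟩, ?_⟩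
      rintro ⟨w, hw, rfl⟩
      simpa using ‹Q.Normal›.conj_mem w hw h⁻¹
    rw [e, card_map_of_injective (MulAut.conj h⁻¹).injective, Ctx.Three.A_inter, c.pre_card, P.SA_card]
    norm_num
  refine ⟨A, hAS, hAe, hAc, hAQ, ?_, ?_⟩
  · have h1 := card_map_mk Q A
    rw [hAc, hAQ] at h1
    omega
  intro B hB hBe
  set B' := B.map (MulAut.conj h).toMonoidHom with hB'
  have hcard : Nat.card ↥B' = Nat.card ↥B := card_map_of_injective (MulAut.conj h).injective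
  obtain ⟨hc, he⟩ := hBe
  obtain ⟨hle, heq⟩ := T.bound P (B := B') (by
      rintro _ ⟨b, hb, rfl⟩
      rw [← map_mul, ← pow_two, he b hb, map_one])
    (by
      rintro _ ⟨a, ha, rfl⟩ _ ⟨b, hb, rfl⟩
      have hab : a * b = b * a := congrArg Subtype.val (hc.is_comm.comm ⟨a, ha⟩ ⟨b, hb⟩)
      rw [← map_mul, ← map_mul, hab])
    (by
      haveI := c.Mn
      rintro _ ⟨b, hb, rfl⟩ hbM
      refine hh b (hB hb) ?_
      have := c.Mn.conj_mem _ hbM h⁻¹
      simpa [mul_assoc] using this)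
  rw [hcard] at hle heq
  refine ⟨hle, fun hge => ?_⟩
  rw [hAd, ← heq hge, hB', Subgroup.map_map]
  have e : (MulAut.conj h⁻¹).toMonoidHom.comp (MulAut.conj h).toMonoidHom = MonoidHom.id _ :=
    MonoidHom.ext fun x => by simp [mul_assoc]
  rw [e, Subgroup.map_id]

end Cfsg.Lib.LargeFischer
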