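import Cfsg.Agent.LargeFischer.SextetLocal

/-!
The Thompson subgroup of a Sylow two-subgroup and its normaliser, given the plane data.
-/

set_option autoImplicit false
set_option maxRecDepth 100000
set_option maxHeartbeats 1000000
set_option linter.unusedSectionVars false
set_option linter.style.haveILetI false

namespace Cfsg.Lib.LargeFischer

open Subgroup
open Cfsg.Lib.LargeExtra.OutExtra (center_cases)
open scoped Pointwise

universe u w

variable {G : Type u} [Group G] [Finite G]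

/-- A quotient description is invariant under conjugation. -/
theorem quot_conj (g : G) {A K A' K' : Subgroup G} (hA : A.map (MulAut.conj g).toMonoidHom = A')
    (hK : K.map (MulAut.conj g).toMonoidHom = K') {X : Type w} [Group X]
    (h : ∃ _ : (A.subgroupOf K).Normal, Nonempty (↥K ⧸ A.subgroupOf K ≃* X)) :
    ∃ _ : (A'.subgroupOf K').Normal, Nonempty (↥K' ⧸ A'.subgroupOf K' ≃* X) := by
  obtain ⟨hn, ⟨e⟩⟩ := h
  subst hA hK
  let f : ↥K ≃* ↥(K.map (MulAut.conj g).toMonoidHom) := K.equivMapOfInjective _ (MulAut.conj g).injective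
  have hf : (A.subgroupOf K).map (f : ↥K →* ↥(K.map (MulAut.conj g).toMonoidHom)) =
      (A.map (MulAut.conj g).toMonoidHom).subgroupOf (K.map (MulAut.conj g).toMonoidHom) := by
    ext x
    constructor
    · rintro ⟨y, hy, rfl⟩
      exact ⟨(y : G), hy, rfl⟩
    · intro hx
      obtain ⟨a, ha, e⟩ := hx
      obtain ⟨y, rfl⟩ := f.surjective x
      exact ⟨y, (show (y : G) ∈ A from (MulAut.conj g).injective e ▸ ha), rfl⟩
  haveI hn' : ((A.map (MulAut.conj g).toMonoidHom).subgroupOf (K.map (MulAut.conj g).toMonoidHom)).Normal :=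
    hf ▸ hn.map _ f.surjective
  exact ⟨hn', ⟨(QuotientGroup.congr _ _ f hf).symm.trans e⟩⟩

/-- Conjugation maps a centraliser of an element onto that of its conjugate. -/
theorem centralizer_conj (g t : G) :
    (centralizer ({t} : Set G)).map (MulAut.conj g).toMonoidHom = centralizer ({g * t * g⁻¹} : Set G) := by
  ext x
  rw [mem_centralizer_singleton_iff]
  constructor
  · rintro ⟨y, hy, rfl⟩
    show g * y * g⁻¹ * (g * t * g⁻¹) = g * t * g⁻¹ * (g * y * g⁻¹)
    have e := mem_centralizer_singleton_iff.mp hy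
    calc g * y * g⁻¹ * (g * t * g⁻¹) = g * (y * t) * g⁻¹ := by group
      _ = g * (t * y) * g⁻¹ := by rw [e]
      _ = g * t * g⁻¹ * (g * y * g⁻¹) := by group
  · intro h
    refine ⟨g⁻¹ * x * g, mem_centralizer_singleton_iff.mpr ?_, by show g * (g⁻¹ * x * g) * g⁻¹ = x; group⟩
    calc g⁻¹ * x * g * t = g⁻¹ * (x * (g * t * g⁻¹)) * g := by group
      _ = g⁻¹ * (g * t * g⁻¹ * x) * g := by rw [h]
      _ = t * (g⁻¹ * x * g) := by group

namespace Ctx

variable {z : G} {Q : Subgroup ↥(centralizer ({z} : Set G))} [Q.Normal] {c : Ctx z Q} (P : c.Plane)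

namespace Plane

include c in
/-- Every Sylow two-subgroup of the centraliser of the central involution is one of the whole group. -/
theorem sylow_map (S : Sylow 2 ↥(centralizer ({z} : Set G))) :
    ∃ T : Sylow 2 G, (T : Subgroup G) = (S : Subgroup ↥(centralizer ({z} : Set G))).map (centralizer ({z} : Set G)).subtype := by
  haveI : Fact (Nat.Prime 2) := ⟨Nat.prime_two⟩
  set S' : Subgroup G := (S : Subgroup ↥(centralizer ({z} : Set G))).map (centralizer ({z} : Set G)).subtype with hS'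
  have hS'p : IsPGroup 2 ↥S' := S.2.map _
  obtain ⟨T, hT⟩ := hS'p.exists_le_sylow
  refine ⟨T, ?_⟩
  by_contra hne
  have hlt : S' < (T : Subgroup G) := lt_of_le_of_ne hT (Ne.symm hne)
  have hQS : Q ≤ (S : Subgroup ↥(centralizer ({z} : Set G))) :=
    sup_eq_right.mp (S.3 ((IsPGroup.iff_card.mpr ⟨13, c.card⟩).to_sup_of_normal_left S.2) le_sup_right)
  haveI : Group.IsNilpotent ↥(T : Subgroup G) := T.2.isNilpotent
  have hnc := normalizerCondition_of_isNilpotent (G := ↥(T : Subgroup G)) (S'.subgroupOf T) (lt_top_iff_ne_top.mpr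
    fun e => hne (le_antisymm (Subgroup.subgroupOf_eq_top.mp e) hT))
  obtain ⟨y, hy, hy'⟩ := SetLike.exists_of_lt hnc
  refine hy' ?_
  rw [mem_subgroupOf]
  have hconj : ∀ a ∈ S', (y : G) * a * (y : G)⁻¹ ∈ S' := fun a ha =>
    (mem_normalizer_iff.mp hy (⟨a, hT ha⟩ : ↥(T : Subgroup G))).mp ha
  -- the element fixes the central involution
  have hz0 : (y : G) * z * (y : G)⁻¹ = z := by
    obtain ⟨w, hw, e⟩ := hconj z ⟨_, hQS c.zq.2, c.zv⟩
    have hcen : ∀ q ∈ Q.map (centralizer ({z} : Set G)).subtype, q * (y * z * (y : G)⁻¹) = y * z * (y : G)⁻¹ * q := by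
      rintro _ ⟨q, hq, rfl⟩
      have h1 : (y : G)⁻¹ * (q : G) * (y : G) ∈ centralizer ({z} : Set G) := by
        obtain ⟨v, hv, ev⟩ := (mem_normalizer_iff.mp (inv_mem hy) (⟨(q : G), hT ⟨q, hQS hq, rfl⟩⟩ : ↥(T : Subgroup G))).mp
          (show (q : G) ∈ S' from ⟨q, hQS hq, rfl⟩)
        have : (v : G) = (y : G)⁻¹ * (q : G) * ((y : G)⁻¹)⁻¹ := ev
        rw [inv_inv] at this
        exact this ▸ v.2
      have h2 := mem_centralizer_singleton_iff.mp h1
      show (q : G) * _ = _ * (q : G)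
      calc (q : G) * (y * z * (y : G)⁻¹) = y * ((y : G)⁻¹ * (q : G) * y * z) * (y : G)⁻¹ := by group
        _ = y * (z * ((y : G)⁻¹ * (q : G) * y)) * (y : G)⁻¹ := by rw [h2]
        _ = y * z * (y : G)⁻¹ * (q : G) := by group
    obtain ⟨x, hx, ex⟩ := c.CQ (mem_centralizer_iff.mpr hcen)
    have hxc : (⟨x, hx⟩ : ↥Q) ∈ center ↥Q := mem_center_iff.mpr fun q => Subtype.ext (Subtype.ext (by
      show ((q : ↥(centralizer ({z} : Set G))) : G) * (x : G) = (x : G) * _
      rw [show (x : G) = (y : G) * z * (y : G)⁻¹ from ex]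
      exact hcen _ ⟨q, q.2, rfl⟩))
    rcases center_cases c.D.es hxc with e' | e'
    · exfalso
      have : (y : G) * z * (y : G)⁻¹ = 1 := ex.symm.trans (congrArg (fun w : ↥Q => ((w : ↥(centralizer ({z} : Set G))) : G)) e')
      exact c.X2g.ne (conj_eq_one_iff.mp this)
    · exact ex.symm.trans ((congrArg (fun w : ↥Q => ((w : ↥(centralizer ({z} : Set G))) : G)) e').trans c.zv)
  have hyH : (y : G) ∈ centralizer ({z} : Set G) := mem_centralizer_singleton_iff.mpr (mul_inv_eq_iff_eq_mul.mp hz0)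
  refine ⟨⟨y, hyH⟩, ?_, rfl⟩
  have hle : (S : Subgroup ↥(centralizer ({z} : Set G))) ≤ (T : Subgroup G).subgroupOf (centralizer ({z} : Set G)) :=
    fun s hs => hT ⟨s, hs, rfl⟩
  have heq := S.3 (T.2.comap_subtype (K := centralizer ({z} : Set G))) hle
  exact heq.le (show ((⟨y, hyH⟩ : ↥(centralizer ({z} : Set G))) : G) ∈ (T : Subgroup G) from y.2)

include P in
/-- The Thompson subgroup of a Sylow two-subgroup is a conjugate of the plane subgroup. -/
theorem thompson (T : Sylow 2 G) :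
    ∃ g : G, Cfsg.thompsonSubgroupOf 2 (T : Subgroup G) = P.AG.map (MulAut.conj g).toMonoidHom := by
  haveI : Fact (Nat.Prime 2) := ⟨Nat.prime_two⟩
  obtain ⟨S, hS⟩ := P.exists_sylow
  obtain ⟨T₀, hT₀⟩ := sylow_map (c := c) S
  obtain ⟨g, rfl⟩ := MulAction.exists_smul_eq G T₀ T
  refine ⟨g, ?_⟩
  set A' : Subgroup G := P.AG.map (MulAut.conj g).toMonoidHom with hA'
  have hTg : ((g • T₀ : Sylow 2 G) : Subgroup G) = (T₀ : Subgroup G).map (MulAut.conj g).toMonoidHom := rfl
  have hle : A' ≤ ((g • T₀ : Sylow 2 G) : Subgroup G) := by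
    rw [hTg]
    refine map_mono ?_
    rw [hT₀]
    exact map_mono hS
  have hcard : Nat.card ↥A' = 2048 := by
    rw [hA', card_map_of_injective (MulAut.conj g).injective, AG, card_map_of_injective (Subgroup.subtype_injective _), P.card]
  set T' : Subgroup G := ((g • T₀ : Sylow 2 G) : Subgroup G) with hT'
  have hsq : ∀ a ∈ A', a * a = 1 := by
    rintro _ ⟨_, ⟨a, ha, rfl⟩, rfl⟩
    rw [← map_mul, ← map_mul, P.sq a ha, map_one, map_one]
  have hAel : Cfsg.IsElementaryAbelian 2 (A'.subgroupOf T') := by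
    refine ⟨⟨⟨fun a b => Subtype.ext (Subtype.ext ?_)⟩⟩, fun a ha => Subtype.ext ?_⟩
    · have hi : ∀ x ∈ A', x⁻¹ = x := fun x hx => inv_eq_of_mul_eq_one_right (hsq x hx)
      show ((a : ↥T') : G) * (b : ↥T') = (b : ↥T') * (a : ↥T')
      have ha : ((a : ↥T') : G) ∈ A' := a.2
      have hb : ((b : ↥T') : G) ∈ A' := b.2
      rw [← hi _ (mul_mem ha hb), mul_inv_rev, hi _ ha, hi _ hb]
    · show (a : G) ^ 2 = 1
      rw [pow_two]
      exact hsq _ ha
  have huniq : ∀ B : Subgroup ↥T', Cfsg.IsElementaryAbelian 2 B → 2048 ≤ Nat.card ↥B → B = A'.subgroupOf T' := by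
    intro B hB hBc
    -- pull back to the centraliser of the central involution
    have hmem : ∀ b : ↥B, g⁻¹ * ((b : ↥T') : G) * g ∈ (T₀ : Subgroup G) := fun b => by
      obtain ⟨x, hx, e⟩ := (hTg ▸ (b : ↥T').2 : ((b : ↥T') : G) ∈ (T₀ : Subgroup G).map (MulAut.conj g).toMonoidHom)
      rw [← e]
      show g⁻¹ * (g * x * g⁻¹) * g ∈ _
      rwa [show g⁻¹ * (g * x * g⁻¹) * g = x by group]
    have hmem' : ∀ b : ↥B, ∃ s ∈ (S : Subgroup ↥(centralizer ({z} : Set G))), (s : G) = g⁻¹ * ((b : ↥T') : G) * g := fun b => by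
      have h := hmem b
      rw [hT₀] at h
      exact h
    choose f hfS hf using hmem'
    let φ : ↥B →* ↥(centralizer ({z} : Set G)) := MonoidHom.mk' f fun a b => Subtype.ext (by
      rw [Subgroup.coe_mul, hf, hf, hf]; push_cast; group)
    have hφ : Function.Injective φ := fun a b h => by
      have h2 : (f a : G) = (f b : G) := congrArg Subtype.val h
      rw [hf, hf] at h2
      exact Subtype.ext (Subtype.ext (by simpa using h2))
    have hBsq : ∀ b ∈ φ.range, b * b = 1 := by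
      rintro _ ⟨b, rfl⟩
      rw [← map_mul, show b * b = 1 from Subtype.ext (by rw [Subgroup.coe_mul, ← pow_two]; exact hB.2 _ b.2), map_one]
    have hrc : Nat.card ↥φ.range = Nat.card ↥B := Nat.card_congr (MonoidHom.ofInjective hφ).toEquiv.symm
    have hR : φ.range = P.A := P.uniq S hS φ.range (by rintro _ ⟨b, rfl⟩; exact hfS b) hBsq (hrc ▸ hBc)
    have hsub : B ≤ A'.subgroupOf T' := fun b hb => by
      rw [mem_subgroupOf]
      refine ⟨(f ⟨b, hb⟩ : G), ⟨_, hR.le ⟨⟨b, hb⟩, rfl⟩, rfl⟩, ?_⟩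
      show g * (f ⟨b, hb⟩ : G) * g⁻¹ = (b : G)
      rw [hf]; group
    refine eq_of_le_of_card_ge hsub ?_
    rw [Nat.card_congr (subgroupOfEquivOfLe hle).toEquiv, hcard]
    exact hBc
  have hset : Cfsg.maxElementaryAbelianSubgroups 2 ↥T' = {A'.subgroupOf T'} := by
    have hc : Nat.card ↥(A'.subgroupOf T') = 2048 := by rw [Nat.card_congr (subgroupOfEquivOfLe hle).toEquiv, hcard]
    refine Set.eq_singleton_iff_unique_mem.mpr ⟨⟨hAel, fun B hB => ?_⟩, fun B hB => huniq B hB.1 (hc ▸ hB.2 _ hAel)⟩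
    by_contra hlt
    rw [hc] at hlt
    have := huniq B hB (by omega)
    rw [this, hc] at hlt
    omega
  show (Cfsg.thompsonSubgroup 2 ↥T').map T'.subtype = A'
  rw [Cfsg.thompsonSubgroup, hset, sSup_singleton, subgroupOf_map_subtype, inf_of_le_left hle]

include P in
theorem elementary (T : Sylow 2 G) :
    Cfsg.IsElementaryAbelian 2 (Cfsg.thompsonSubgroupOf 2 (T : Subgroup G)) ∧
      Nat.card ↥(Cfsg.thompsonSubgroupOf 2 (T : Subgroup G)) = 2 ^ 11 := by
  obtain ⟨g, hg⟩ := P.thompson T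
  rw [hg]
  refine ⟨⟨⟨⟨fun a b => Subtype.ext ?_⟩⟩, ?_⟩, ?_⟩
  · obtain ⟨x, hx, ex⟩ := a.2
    obtain ⟨y, hy, ey⟩ := b.2
    show (a : G) * b = (b : G) * a
    rw [← ex, ← ey, ← map_mul, ← map_mul, P.sextet.commA hx hy]
  · rintro _ ⟨x, hx, rfl⟩
    rw [← map_pow, pow_two, P.sextet.sq x hx, map_one]
  · rw [card_map_of_injective (MulAut.conj g).injective]
    exact P.sextet.cardA

include P in
/-- The normaliser of the Thompson subgroup induces the largest Mathieu group. -/
theorem mathieu (T : Sylow 2 G) (A M : Subgroup G) (hA : A = Cfsg.thompsonSubgroupOf 2 (T : Subgroup G))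
    (hM : M = normalizer (A : Set G)) :
    ∃ _ : (A.subgroupOf M).Normal, Nonempty (↥M ⧸ A.subgroupOf M ≃* ↥Cfsg.M24) := by
  obtain ⟨g, hg⟩ := P.thompson T
  subst hM hA
  refine quot_conj g (A := P.AG) (K := normalizer (P.AG : Set G)) hg.symm ?_ (P.sextet.exists_mathieu P.large_sextet)
  rw [hg, Subgroup.map_equiv_normalizer_eq]

include P in
/-- The centraliser of an involution of the second class. -/
theorem stabiliser (T : Sylow 2 G) (A M : Subgroup G) (hA : A = Cfsg.thompsonSubgroupOf 2 (T : Subgroup G))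
    (hM : M = normalizer (A : Set G)) (t : G) (htA : t ∈ A) (ht2 : orderOf t = 2) (ht : ¬ IsConj z t) :
    ∃ _ : (A.subgroupOf (M ⊓ centralizer ({t} : Set G))).Normal,
      Nonempty (↥(M ⊓ centralizer ({t} : Set G)) ⧸ A.subgroupOf (M ⊓ centralizer ({t} : Set G)) ≃*
        ↥(Cfsg.M24 ⊓ MulAction.stabilizer (Equiv.Perm Cfsg.GolayPt) ({none, some 0} : Set Cfsg.GolayPt))) := by
  obtain ⟨g, hg⟩ := P.thompson T
  subst hM hA
  rw [hg] at htA
  obtain ⟨s, hs, rfl⟩ := htA
  have hsT : s ∈ P.sextet.T := ⟨hs, fun e => by rw [e, map_one, orderOf_one] at ht2; norm_num at ht2,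
    fun h => ht (h.trans (isConj_iff.mpr ⟨g, rfl⟩))⟩
  refine quot_conj g (A := P.AG) (K := normalizer (P.AG : Set G) ⊓ centralizer ({s} : Set G)) hg.symm ?_
    (P.sextet.exists_stab P.large_sextet hsT)
  rw [hg, Subgroup.map_inf _ _ _ (MulAut.conj g).injective, centralizer_conj, Subgroup.map_equiv_normalizer_eq]
  rfl

end Plane

end Ctx

end Cfsg.Lib.LargeFischer
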