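import Cfsg.Agent.LargeFischer.PlaneStab
import Cfsg.Agent.LargeFischer.MaxElementary
import Cfsg.Agent.LargeFischer.SextetMain

/-!
The elementary abelian subgroup of largest order carries plane data.
-/

set_option autoImplicit false
set_option maxRecDepth 100000
set_option maxHeartbeats 1000000
set_option linter.unusedSectionVars false
set_option linter.style.haveILetI false

namespace Cfsg.Lib.LargeFischer

open Subgroup
open Cfsg.Lib.LargeExtra.OutExtra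

universe u

theorem pv6_add : ∀ p q : F4 × F4 × F4, ∀ i, pv6 (p + q) i = pv6 p i + pv6 q i := by
  rintro ⟨a, b, d⟩ ⟨a', b', d'⟩ i
  fin_cases i <;> rfl

variable {G : Type u} [Group G] [Finite G] {z : G} {Q : Subgroup (centralizer ({z} : Set G))} [Q.Normal]

theorem elementary_of_sq {B : Subgroup G} (h : ∀ b ∈ B, b * b = 1) : Cfsg.IsElementaryAbelian 2 B := by
  have hi : ∀ x ∈ B, x⁻¹ = x := fun x hx => inv_eq_of_mul_eq_one_right (h x hx)
  refine ⟨⟨⟨fun a b => Subtype.ext ?_⟩⟩, fun a ha => by rw [pow_two]; exact h a ha⟩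
  show (a : G) * b = (b : G) * a
  rw [← hi _ (mul_mem a.2 b.2), mul_inv_rev, hi _ a.2, hi _ b.2]

namespace Ctx.LinePt

variable {c : Ctx z Q} (P : c.LinePt)

theorem sv_add (p q : F4 × F4 × F4) : P.sv (p + q) = P.sv p + P.sv q :=
  P.rc_ext fun i => by rw [P.rc_add, P.rc_sv, P.rc_sv, P.rc_sv, pv6_add]

/-- An element of `Q` above a vector of the plane. -/
noncomputable def yl (p : F4 × F4 × F4) : ↥Q := (c.D.surj (P.sv p)).choose

theorem pt_yl (p : F4 × F4 × F4) : c.pt (P.yl p) = P.sv p := (c.D.surj (P.sv p)).choose_spec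

/-- The elements of `Q` above the plane. -/
noncomputable def lift2 (t : (F4 × F4 × F4) × Bool) : ↥(centralizer ({z} : Set G)) :=
  (P.yl t.1 : ↥(centralizer ({z} : Set G))) * (if t.2 then c.zH else 1)

theorem lift2_Q (t : (F4 × F4 × F4) × Bool) : P.lift2 t ∈ Q := by
  refine Q.mul_mem (P.yl t.1).2 ?_
  split
  · exact c.zH_mem
  · exact one_mem _

theorem pt_lift2 {t : (F4 × F4 × F4) × Bool} {h : P.lift2 t ∈ Q} : c.pt ⟨P.lift2 t, h⟩ = P.sv t.1 := by
  have e : (⟨P.lift2 t, h⟩ : ↥Q) = P.yl t.1 * (if t.2 then c.zq else 1) := Subtype.ext (by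
    simp only [lift2, Subgroup.coe_mul]
    split <;> simp_all [Ctx.zH])
  rw [e, c.pt_mul, P.pt_yl, show c.pt (if t.2 then c.zq else 1) = 0 by
    refine c.pt_zero.mpr ?_
    split
    · exact Or.inr rfl
    · exact Or.inl rfl, add_zero]

theorem lift2_mem (t : (F4 × F4 × F4) × Bool) : P.lift2 t ∈ c.pre P.SA :=
  c.mem_pre.mpr ⟨P.lift2_Q t, by rw [P.pt_lift2]; exact P.sv_mem _⟩

theorem lift2_inj : Function.Injective P.lift2 := by
  rintro ⟨p, e⟩ ⟨p', e'⟩ h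
  have hp : P.sv p = P.sv p' := by
    rw [← P.pt_lift2 (t := (p, e)) (h := P.lift2_Q _), ← P.pt_lift2 (t := (p', e')) (h := P.lift2_Q _)]
    exact congrArg c.pt (Subtype.ext h)
  obtain rfl := P.sv_inj hp
  have h1 := mul_left_cancel h
  cases e <;> cases e' <;> simp_all [c.zH_ne, Ne.symm c.zH_ne]

theorem lift2_onto {a : ↥(centralizer ({z} : Set G))} (ha : a ∈ c.pre P.SA) : ∃ t, P.lift2 t = a := by
  obtain ⟨hq, hu⟩ := c.mem_pre.mp ha
  obtain ⟨p, hp⟩ := P.sv_onto hu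
  rcases c.pt_eq (a := P.yl p) (b := ⟨a, hq⟩) (by rw [P.pt_yl, hp]) with e | e
  · exact ⟨(p, false), by simpa [lift2] using e.symm⟩
  · exact ⟨(p, true), by simpa [lift2] using e.symm⟩

theorem fix_of_comm {h : ↥(centralizer ({z} : Set G))} (hh : ∀ a ∈ c.pre P.SA, h * a = a * h) :
    h ∈ Ctx.Three.A P := by
  refine ⟨P.fixed_AB fun u hu => ?_, mem_centralizer_iff.mpr fun a ha => (hh a ha).symm⟩
  obtain ⟨y, rfl⟩ := c.D.surj u
  show rep Q c.D h (c.pt y) = c.pt y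
  rw [c.act]
  refine congrArg c.pt (Subtype.ext ?_)
  rw [MulAut.conjNormal_apply]
  exact mul_inv_eq_iff_eq_mul.mpr (hh _ (c.mem_pre.mpr ⟨y.2, hu⟩))

theorem pre_stab {h : ↥(centralizer ({z} : Set G))} (hh : h ∈ P.Stab) {y : ↥(centralizer ({z} : Set G))}
    (hy : y ∈ c.pre P.SA) : h * y * h⁻¹ ∈ c.pre P.SA := by
  obtain ⟨hq, hu⟩ := c.mem_pre.mp hy
  have hq' : h * y * h⁻¹ ∈ Q := ‹Q.Normal›.conj_mem y hq h
  refine c.mem_pre.mpr ⟨hq', ?_⟩
  have e : c.pt ⟨h * y * h⁻¹, hq'⟩ = rep Q c.D h (c.pt ⟨y, hq⟩) := by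
    rw [c.act]
    exact congrArg c.pt (Subtype.ext (MulAut.conjNormal_apply h ⟨y, hq⟩).symm)
  rw [e]
  exact P.Stab_apply hh hu

theorem stab_A {h : ↥(centralizer ({z} : Set G))} (hh : h ∈ P.Stab) {a : ↥(centralizer ({z} : Set G))}
    (ha : a ∈ Ctx.Three.A P) : h * a * h⁻¹ ∈ Ctx.Three.A P := by
  refine ⟨?_, mem_centralizer_iff.mpr fun y hy => ?_⟩
  · show rep Q c.D (h * a * h⁻¹) ∈ P.AB
    rw [map_mul, map_mul, map_inv]
    exact P.stab_AB hh ha.1
  · have h1 := P.pre_stab (inv_mem hh) hy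
    rw [inv_inv] at h1
    have e := mem_centralizer_iff.mp ha.2 _ h1
    calc y * (h * a * h⁻¹) = h * (h⁻¹ * y * h * a) * h⁻¹ := by group
      _ = h * (a * (h⁻¹ * y * h)) * h⁻¹ := by rw [e]
      _ = _ := by group

theorem Stab_normalizer : P.Stab ≤ normalizer (Ctx.Three.A P : Set ↥(centralizer ({z} : Set G))) := by
  intro h hh
  refine mem_normalizer_iff.mpr fun a => ⟨fun ha => P.stab_A hh ha, fun ha => ?_⟩
  have h1 := P.stab_A (inv_mem hh) ha
  rwa [show h⁻¹ * (h * a * h⁻¹) * h⁻¹⁻¹ = a by group] at h1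

theorem A_fix_bound (T : ∀ a ∈ Ctx.Three.A P, a * a = 1) {a : ↥(centralizer ({z} : Set G))}
    (ha : a ∈ Ctx.Three.A P) (haQ : a ∉ Q) :
    Nat.card ↥(Q ⊓ centralizer ({a} : Set ↥(centralizer ({z} : Set G)))) ≤ 2 ^ 9 := by
  set σ := rep Q c.D a with hσd
  obtain ⟨q, hq⟩ := P.mem_AB.mp (show σ ∈ P.AB from ha.1)
  obtain ⟨b, hb⟩ := P.RB_onto (P.rr_mem (yv q))
  obtain ⟨i, -, hi⟩ := kk_d8 (q 2) (q 3)
  have hform : P.rr (evn b) * P.gp (d8 i) = σ := by rw [← hq, hb, hi]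
  let U : AddSubgroup (c.ι → ZMod 2) :=
    { carrier := {u | σ u = u}
      zero_mem' := rep_zero a
      add_mem' := fun {u w} hu hw => by
        show σ (u + w) = u + w
        rw [hσd, rep_add, show rep Q c.D a u = u from hu, show rep Q c.D a w = w from hw]
      neg_mem' := fun {u} hu => by
        show σ (-u) = -u
        rw [c.F.W.neg_eq]
        exact hu }
  have hU : Nat.card ↥U ≤ 256 := by
    refine P.fix_bound (b := b) (i := i) ?_ ?_ U fun u hu => ?_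
    · rw [hform, hσd, ← map_mul, T a ha, map_one]
    · rw [hform]; exact fun e => haQ (c.rep_eq_one e)
    · rw [hform]; exact hu
  have hle : Q ⊓ centralizer ({a} : Set ↥(centralizer ({z} : Set G))) ≤ c.pre U := by
    rintro y ⟨hyQ, hya⟩
    refine c.mem_pre.mpr ⟨hyQ, ?_⟩
    show rep Q c.D a (c.pt ⟨y, hyQ⟩) = c.pt ⟨y, hyQ⟩
    rw [c.act]
    refine congrArg c.pt (Subtype.ext ?_)
    rw [MulAut.conjNormal_apply]
    exact mul_inv_eq_iff_eq_mul.mpr (mem_centralizer_singleton_iff.mp hya).symm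
  calc Nat.card ↥(Q ⊓ centralizer ({a} : Set ↥(centralizer ({z} : Set G))))
      ≤ Nat.card ↥(c.pre U) := Subgroup.card_le_of_le hle
    _ = 2 * Nat.card ↥U := c.pre_card U
    _ ≤ 2 * 256 := Nat.mul_le_mul_left 2 hU
    _ = 2 ^ 9 := by norm_num

end Ctx.LinePt

namespace Ctx

/-- The plane data exist. -/
theorem exists_plane (hF : Cfsg.IsOfLargeFischerTypeAt z Q) :
    ∃ c : Ctx z Q, Nonempty c.Plane := by
  classical
  obtain ⟨c⟩ := exists_ctx hF
  refine ⟨c, ?_⟩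
  obtain ⟨g, x, hg, hxz⟩ := Ctx.exists_conj hF
  have hz : ∃ g : G, (∃ hq : g * z * g⁻¹ ∈ centralizer ({z} : Set G),
      (⟨g * z * g⁻¹, hq⟩ : centralizer ({z} : Set G)) ∈ Q) ∧ g * z * g⁻¹ ≠ z :=
    ⟨g, ⟨hg ▸ (x : ↥(centralizer ({z} : Set G))).2, by
      convert x.2 using 1
      exact Subtype.ext hg⟩, hg ▸ hxz⟩
  obtain ⟨P⟩ := c.exists_linePt hz
  obtain ⟨X, hX, hXQ⟩ := c.exists_order_three hF
  obtain ⟨T⟩ := c.exists_three hF X hX hXQ
  have hsq : ∀ a ∈ Ctx.Three.A P, a * a = 1 := fun a ha => Ctx.Three.A_sq T P ha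
  have hAQ : Ctx.Three.A P ⊓ Q = c.pre P.SA := Ctx.Three.A_inter P
  have hnc : ∀ t, (P.lift2 t ≠ 1 ∧ ¬ IsConj z ((P.lift2 t : ↥(centralizer ({z} : Set G))) : G)) ↔
      Sh6 P.tau (pv6 t.1) := fun t => by
    have h2 : P.lift2 t * P.lift2 t = 1 := hsq _ ((hAQ.ge.trans inf_le_left) (P.lift2_mem t))
    rw [LinePt.pt_nonconj hz (y := ⟨P.lift2 t, P.lift2_Q t⟩) h2, P.pt_lift2, P.sv_short]
  refine ⟨{
    A := Ctx.Three.A P
    sq := hsq
    card := by rw [Ctx.Three.A_card T P]; norm_num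
    card0 := by rw [hAQ, c.pre_card, P.SA_card]
    uniq := ?_
    fixW := fun h hh => mem_sup_left (P.fix_of_comm fun a ha => hh a (hAQ.ge ha))
    fixBound := fun a ha haQ => P.A_fix_bound hsq ha haQ
    inner := ?_
    line := ?_
    coset := ?_
    large := P.Stab_card.trans (Subgroup.card_le_of_le P.Stab_normalizer) }⟩
  · intro S hAS B hBS hB hBc
    obtain ⟨A1, -, -, -, -, -, huniq⟩ := max_elementary hF S
    have hA1 : Ctx.Three.A P = A1 :=
      (huniq _ hAS (Ctx.Three.A_elementary T P)).2 (Ctx.Three.A_card T P).ge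
    rw [hA1]
    exact (huniq B hBS (elementary_of_sq hB)).2 (by norm_num; exact hBc)
  · have e : {a : ↥(centralizer ({z} : Set G)) | a ∈ Ctx.Three.A P ⊓ Q ∧ a ≠ 1 ∧ ¬ IsConj z (a : G)} =
        P.lift2 '' ↑((Finset.univ.filter fun p => Sh6 P.tau (pv6 p)) ×ˢ (Finset.univ : Finset Bool)) := by
      ext a
      constructor
      · rintro ⟨ha, h1⟩
        obtain ⟨t, rfl⟩ := P.lift2_onto (hAQ.le ha)
        exact ⟨t, by simpa using (hnc t).mp h1, rfl⟩
      · rintro ⟨t, ht, rfl⟩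
        exact ⟨hAQ.ge (P.lift2_mem t), (hnc t).mpr (by simpa using ht)⟩
    rw [e, Set.ncard_image_of_injective _ P.lift2_inj, Set.ncard_coe_finset, Finset.card_product,
      plane_short_card _ P.tau_ne, Finset.card_univ, Fintype.card_bool]
  · intro t ht ht1 htn
    obtain ⟨⟨p, ε⟩, rfl⟩ := P.lift2_onto (hAQ.le ht)
    have hp : Sh6 P.tau (pv6 p) := (hnc (p, ε)).mp ⟨ht1, htn⟩
    have hprod : ∀ s, (P.lift2 (p, ε) * P.lift2 s ≠ 1 ∧
        ¬ IsConj z ((P.lift2 (p, ε) * P.lift2 s : ↥(centralizer ({z} : Set G))) : G)) ↔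
        Sh6 P.tau (pv6 (p + s.1)) := fun s => by
      have hm : P.lift2 (p, ε) * P.lift2 s ∈ c.pre P.SA := (c.pre P.SA).mul_mem (P.lift2_mem _) (P.lift2_mem _)
      have hmQ : P.lift2 (p, ε) * P.lift2 s ∈ Q := c.pre_le _ hm
      have h2 : P.lift2 (p, ε) * P.lift2 s * (P.lift2 (p, ε) * P.lift2 s) = 1 :=
        hsq _ ((hAQ.ge.trans inf_le_left) hm)
      have hpt : c.pt ⟨P.lift2 (p, ε) * P.lift2 s, hmQ⟩ = P.sv (p + s.1) := by
        rw [P.sv_add, ← P.pt_lift2 (t := (p, ε)) (h := P.lift2_Q _), ← P.pt_lift2 (t := s) (h := P.lift2_Q _),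
          ← c.pt_mul]
        rfl
      rw [LinePt.pt_nonconj hz (y := ⟨_, hmQ⟩) h2, hpt, P.sv_short]
    have e : {v : ↥(centralizer ({z} : Set G)) | v ∈ Ctx.Three.A P ⊓ Q ∧ v ≠ 1 ∧ ¬ IsConj z (v : G) ∧
        P.lift2 (p, ε) * v ≠ 1 ∧
        ¬ IsConj z ((P.lift2 (p, ε) * v : ↥(centralizer ({z} : Set G))) : G)} =
        P.lift2 '' ↑((Finset.univ.filter fun v => Sh6 P.tau (pv6 v) ∧ Sh6 P.tau (pv6 (p + v))) ×ˢ
          (Finset.univ : Finset Bool)) := by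
      ext a
      constructor
      · rintro ⟨ha, h1, h2, h3⟩
        obtain ⟨s, rfl⟩ := P.lift2_onto (hAQ.le ha)
        exact ⟨s, by simpa using ⟨(hnc s).mp ⟨h1, h2⟩, (hprod s).mp h3⟩, rfl⟩
      · rintro ⟨s, hs, rfl⟩
        simp only [Finset.coe_product, Set.mem_prod, Finset.mem_coe, Finset.mem_filter, Finset.mem_univ, true_and,
          and_true] at hs
        exact ⟨hAQ.ge (P.lift2_mem s), ((hnc s).mpr hs.1).1, ((hnc s).mpr hs.1).2, (hprod s).mpr hs.2⟩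
    rw [e, Set.ncard_image_of_injective _ P.lift2_inj, Set.ncard_coe_finset, Finset.card_product,
      plane_short_line _ P.tau_ne p hp, Finset.card_univ, Fintype.card_bool]
  · intro a ha haQ b hb hbQ
    obtain ⟨h, hh, e⟩ := P.AB_trans ha.1 (fun e => haQ (c.rep_eq_one e)) hb.1 (fun e => hbQ (c.rep_eq_one e))
    refine ⟨h, P.Stab_normalizer hh, c.rep_eq_one ?_⟩
    rw [map_mul, map_mul, map_mul, map_inv, e, ← map_mul, hsq b hb, map_one]

end Ctx

end Cfsg.Lib.LargeFischer
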