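import Cfsg.Agent.LargeFischer.LineFour
import Cfsg.Agent.LargeFischer.PlaneInstance
import Cfsg.Agent.LargeFischer.OuterPoints

/-!
A square in the centralizer of the first short involution moving the second one onto the product of the three.
-/

set_option autoImplicit false
set_option maxRecDepth 100000
set_option maxHeartbeats 1000000
set_option linter.unusedSectionVars false
set_option linter.style.haveILetI false

namespace Cfsg.Lib.LargeFischer

open Subgroup

universe u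

variable {G : Type u} [Group G] [Finite G] {z : G}

attribute [local instance] Sextet.Model.fintype Sextet.Model.deceq

namespace Sextet

variable {D : Sextet G z}

theorem not_T_self : z ∉ D.T := fun h => h.2.2 (IsConj.refl z)

namespace Model

variable (M : D.Model)

theorem f_comm (a b : M.Pt) : M.f a * M.f b = M.f b * M.f a := (D.commA (M.mem a) (M.mem b))

theorem f_sq (a : M.Pt) : M.f a * M.f a = 1 := D.sq _ (M.mem a)

theorem sm_quad {a b p q : M.Pt} (hab : a ≠ b) (hap : a ≠ p) (haq : a ≠ q) (hbp : b ≠ p) (hbq : b ≠ q)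
    (hpq : p ≠ q) : M.sm {a, b, p, q} = M.f a * (M.f b * (M.f p * M.f q)) := by
  rw [M.sm_insert a _ (by simp [hab, hap, haq]), M.sm_insert b _ (by simp [hbp, hbq]),
    M.sm_insert p _ (by simp [hpq]), show ({q} : Finset M.Pt) = insert q ∅ from rfl, M.sm_insert q _ (by simp),
    M.sm_empty, mul_one]

/-- A member of the second class whose translate by the central involution is again one gives a quadruple. -/
theorem quad_of_shift {a b : M.Pt} (hab : a ≠ b) (hz1 : z ≠ 1) (h : M.f a * M.f b * z ∈ D.T) :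
    ∃ p q, a ≠ p ∧ a ≠ q ∧ b ≠ p ∧ b ≠ q ∧ p ≠ q ∧ M.sm {a, b, p, q} = z := by
  obtain ⟨p, q, hpq, e⟩ := M.surj _ h
  have hz : z = M.f a * M.f b * (M.f p * M.f q) := by
    have hA : M.f a * M.f b ∈ D.A := mul_mem (M.mem a) (M.mem b)
    rw [← e, D.mul_mul_cancel hA]
  have hT : ∀ x y, x ≠ y → z ≠ M.f x * M.f y := fun x y hne e' => not_T_self ((congrArg (· ∈ D.T) e').mpr (M.pair x y hne))
  have hA : ∀ r, M.f b * M.f a * (M.f a * M.f r) = M.f b * M.f r := fun r => by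
    rw [mul_assoc, ← mul_assoc (M.f a), M.f_sq, one_mul]
  have hB : ∀ r, M.f a * M.f b * (M.f b * M.f r) = M.f a * M.f r := fun r => by
    rw [mul_assoc, ← mul_assoc (M.f b), M.f_sq, one_mul]
  have hap : a ≠ p := by
    rintro rfl
    rw [M.f_comm a b, hA] at hz
    rcases eq_or_ne b q with rfl | hne
    · exact hz1 (hz.trans (M.f_sq b))
    · exact hT _ _ hne hz
  have haq : a ≠ q := by
    rintro rfl
    rw [M.f_comm p a, M.f_comm a b, hA] at hz
    rcases eq_or_ne b p with rfl | hne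
    · exact hz1 (hz.trans (M.f_sq b))
    · exact hT _ _ hne hz
  have hbp : b ≠ p := by
    rintro rfl
    rw [hB] at hz
    exact hT _ _ haq hz
  have hbq : b ≠ q := by
    rintro rfl
    rw [M.f_comm p b, hB] at hz
    exact hT _ _ hap hz
  exact ⟨p, q, hap, haq, hbp, hbq, hpq, (M.sm_quad hab hap haq hbp hbq hpq).trans ((mul_assoc _ _ _).symm.trans hz.symm)⟩

/-- Two adjacent members of the second class share a point. -/
theorem share {t t' : G} (ht : t ∈ D.T) (ht' : t' ∈ D.T) (hne : t ≠ t') (htt : t * t' ∈ D.T) :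
    ∃ a b c, a ≠ b ∧ a ≠ c ∧ b ≠ c ∧ t = M.f a * M.f b ∧ t' = M.f a * M.f c := by
  obtain ⟨a, b, hab, rfl⟩ := M.surj t ht
  obtain ⟨p, q, hpq, rfl⟩ := M.surj t' ht'
  by_cases hap : a = p
  · subst hap
    refine ⟨a, b, q, hab, hpq, fun e => hne (by rw [e]), rfl, rfl⟩
  by_cases haq : a = q
  · subst haq
    exact ⟨a, b, p, hab, hap, fun e => hne (by rw [e, M.f_comm]), rfl, M.f_comm p a⟩
  by_cases hbp : b = p
  · subst hbp
    exact ⟨b, a, q, hab.symm, hpq, haq, M.f_comm a b, rfl⟩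
  by_cases hbq : b = q
  · subst hbq
    exact ⟨b, a, p, hab.symm, hbp, hap, M.f_comm a b, M.f_comm p b⟩
  exact absurd (M.four a b p q hab hpq hap haq hbp hbq).2 htt.2.2

include M in
/-- Inside the normaliser a square fixes a member of the second class and carries a neighbour to the product with
the central involution. -/
theorem exists_flip_T (hM : 138240 * 2048 ≤ Nat.card ↥(normalizer (D.A : Set G) ⊓ centralizer ({z} : Set G)))
    (hz1 : z ≠ 1) {t t' : G} (ht : t ∈ D.T) (ht' : t' ∈ D.T) (hne : t ≠ t') (htt : t * t' ∈ D.T)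
    (htz : t * z ∈ D.T) (htz' : t' * z ∈ D.T) :
    ∃ g : G, g * t * g⁻¹ = t ∧ g * g * t' * (g * g)⁻¹ = t * t' * z := by
  classical
  obtain ⟨a, b, c, hab, hac, hbc, rfl, rfl⟩ := M.share ht ht' hne htt
  obtain ⟨p, q, hap, haq, hbp, hbq, hpq, hs⟩ := M.quad_of_shift hab hz1 htz
  obtain ⟨p', q', hap', haq', hcp', hcq', hpq', hs'⟩ := M.quad_of_shift hac hz1 htz'
  have hcard : ∀ {x y u w : M.Pt}, x ≠ y → x ≠ u → x ≠ w → y ≠ u → y ≠ w → u ≠ w →
      ({x, y, u, w} : Finset M.Pt).card = 4 := fun h1 h2 h3 h4 h5 h6 => by simp [h1, h2, h3, h4, h5, h6]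
  have hee := M.sm_inj _ _ (hs.trans hs'.symm) (by
      have h0 : 1 ≤ (({a, b, p, q} : Finset M.Pt) ∩ {a, c, p', q'}).card :=
        Finset.card_pos.mpr ⟨a, by simp⟩
      rw [hcard hab hap haq hbp hbq hpq, hcard hac hap' haq' hcp' hcq' hpq']
      omega)
    (by rw [hcard hab hap haq hbp hbq hpq, hcard hac hap' haq' hcp' hcq' hpq']; decide)
  have hc : c = p ∨ c = q := by
    have : c ∈ ({a, b, p, q} : Finset M.Pt) := hee.symm ▸ (by simp)
    simpa [hac.symm, hbc.symm] using this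
  obtain ⟨d, had, hbd, hcd, hzd⟩ : ∃ d, a ≠ d ∧ b ≠ d ∧ c ≠ d ∧ z = M.f a * (M.f b * (M.f c * M.f d)) := by
    rw [M.sm_quad hab hap haq hbp hbq hpq] at hs
    rcases hc with rfl | rfl
    · exact ⟨q, haq, hbq, hpq, hs.symm⟩
    · exact ⟨p, hap, hbp, hpq.symm, by rw [M.f_comm c p, hs]⟩
  obtain ⟨g, ga, gb, gc⟩ := M.exists_square hM hab hac had hbc hbd
  refine ⟨(g : G), by rw [M.equiv g a b hab, ga, gb], ?_⟩
  have h2 : ((g * g : ↥(normalizer (D.A : Set G))) : G) * (M.f a * M.f c) *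
      ((g * g : ↥(normalizer (D.A : Set G))) : G)⁻¹ = M.f a * M.f d := by
    rw [M.equiv (g * g) a c hac, map_mul, Equiv.Perm.mul_apply, Equiv.Perm.mul_apply, ga, ga, gc]
  rw [Subgroup.coe_mul] at h2
  rw [h2]
  refine Eq.trans ?_ (congrArg (M.f a * M.f b * (M.f a * M.f c) * ·) hzd.symm)
  letI : CommGroup ↥D.A := { (inferInstance : Group ↥D.A) with mul_comm := fun x y => Subtype.ext (D.commA x.2 y.2) }
  have key : ∀ x y u w : ↥D.A, x * w = x * y * (x * u) * (x * (y * (u * w))) := fun x y u w => by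
    have h1 : ∀ r : ↥D.A, r * r = 1 := fun r => Subtype.ext (D.sq _ r.2)
    calc x * w = x * x * (y * y) * (u * u) * (x * w) := by simp only [h1, one_mul]
      _ = _ := by simp only [mul_comm, mul_left_comm, mul_assoc]
  exact congrArg Subtype.val (key ⟨_, M.mem a⟩ ⟨_, M.mem b⟩ ⟨_, M.mem c⟩ ⟨_, M.mem d⟩)

end Model

end Sextet

variable {Q : Subgroup (centralizer ({z} : Set G))} [Q.Normal] {c : Ctx z Q}

namespace Ctx.Four

variable (L : c.Four)

theorem exists_flip (P : c.Plane) (k : ↥(centralizer ({z} : Set G)))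
    (hta : (k : G) * L.ga * (k : G)⁻¹ ∈ P.sextet.A) (htb : (k : G) * L.gb * (k : G)⁻¹ ∈ P.sextet.A) :
    ∃ g : G, g * L.ga * g⁻¹ = L.ga ∧ g * g * L.gb * (g * g)⁻¹ = L.ga * L.gb * z := by
  obtain ⟨M⟩ := P.sextet.exists_model
  obtain ⟨hna, hnb, hab⟩ := L.ab_ne
  have hkz : (k : G) * z = z * (k : G) := mem_centralizer_singleton_iff.mp k.2
  have hzc : (k : G) * z * (k : G)⁻¹ = z := mul_inv_eq_iff_eq_mul.mpr hkz
  have hT : ∀ e, e ≠ 1 → ¬ IsConj z e → (k : G) * e * (k : G)⁻¹ ∈ P.sextet.A →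
      (k : G) * e * (k : G)⁻¹ ∈ P.sextet.T := fun e h1 hn hA =>
    ⟨hA, fun e' => h1 (conj_eq_one_iff.mp e'), fun hc => hn (hc.trans (isConj_iff.mpr ⟨(k : G), rfl⟩).symm)⟩
  have hmul : ∀ x y : G, (k : G) * x * (k : G)⁻¹ * ((k : G) * y * (k : G)⁻¹) = (k : G) * (x * y) * (k : G)⁻¹ :=
    fun x y => by group
  have hshift : ∀ e ∈ L.E, e ≠ 1 → (k : G) * e * (k : G)⁻¹ ∈ P.sextet.A →
      (k : G) * e * (k : G)⁻¹ * z ∈ P.sextet.T := fun e he h1 hA => by
    have hA' : (k : G) * (e * z) * (k : G)⁻¹ ∈ P.sextet.A := by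
      rw [← hmul, hzc]; exact mul_mem hA P.sextet.memA
    have hez : e * z = z * e := mem_centralizer_iff.mp L.z_mem_C e he
    have h0 : e * z ≠ 1 := fun e' => L.z_notMem (by
      rw [mul_eq_one_iff_eq_inv] at e'
      have := inv_mem he
      rwa [e', inv_inv] at this)
    have h := hT (e * z) h0 (hez ▸ L.not_conj_mul he h1) hA'
    rwa [← hmul, hzc] at h
  have hA' : (k : G) * (L.ga * L.gb) * (k : G)⁻¹ ∈ P.sextet.A := hmul _ _ ▸ mul_mem hta htb
  have htt := hT (L.ga * L.gb) (fun e => hab ((inv_eq_of_mul_eq_one_right L.sq_a).symm.trans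
    (inv_eq_of_mul_eq_one_right e))) (L.not_conj (mul_mem L.a_mem L.b_mem)) hA'
  rw [← hmul] at htt
  obtain ⟨g, hg1, hg2⟩ := M.exists_flip_T P.large_sextet c.X2g.ne (hT _ hna (L.not_conj L.a_mem) hta)
    (hT _ hnb (L.not_conj L.b_mem) htb) (fun e => hab (mul_left_cancel (mul_right_cancel e))) htt
    (hshift _ L.a_mem hna hta) (hshift _ L.b_mem hnb htb)
  have hback : ∀ w, (k : G)⁻¹ * ((k : G) * w * (k : G)⁻¹) * (k : G) = w := fun w => by group
  refine ⟨(k : G)⁻¹ * g * (k : G), ?_, ?_⟩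
  · calc (k : G)⁻¹ * g * (k : G) * L.ga * ((k : G)⁻¹ * g * (k : G))⁻¹
        = (k : G)⁻¹ * (g * ((k : G) * L.ga * (k : G)⁻¹) * g⁻¹) * (k : G) := by group
      _ = L.ga := by rw [hg1, hback]
  · calc (k : G)⁻¹ * g * (k : G) * ((k : G)⁻¹ * g * (k : G)) * L.gb *
          ((k : G)⁻¹ * g * (k : G) * ((k : G)⁻¹ * g * (k : G)))⁻¹
        = (k : G)⁻¹ * (g * g * ((k : G) * L.gb * (k : G)⁻¹) * (g * g)⁻¹) * (k : G) := by group
      _ = (k : G)⁻¹ * ((k : G) * (L.ga * L.gb) * (k : G)⁻¹ * z) * (k : G) := by rw [hg2, hmul]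
      _ = (k : G)⁻¹ * ((k : G) * (L.ga * L.gb) * ((k : G)⁻¹ * z * (k : G))) := by group
      _ = _ := by rw [mul_assoc _ z, ← hkz, inv_mul_cancel_left]; group

end Ctx.Four

end Cfsg.Lib.LargeFischer
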