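import Mathlib

/-!
The transfer to a group of order two at an involution with a single fixed coset of the kernel class: the value is odd
when a two-group commuting with the involution fixes only the base coset.
-/

set_option autoImplicit false
set_option linter.unusedSectionVars false

namespace Cfsg.Lib.LargeFischer

open Subgroup

universe u

variable {Y : Type u} [Group Y] [Finite Y]

theorem two_valued : ∀ a : Multiplicative (ZMod 2), a ≠ Multiplicative.ofAdd 1 → a = 1 := by decide

theorem two_valued_pow : ∀ n : ℕ, n % 2 = 1 →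
    (Multiplicative.ofAdd (1 : ZMod 2)) ^ n = Multiplicative.ofAdd 1 := fun n hn => by
  rw [← Nat.div_add_mod n 2, hn, pow_add, pow_mul, pow_one,
    show (Multiplicative.ofAdd (1 : ZMod 2)) ^ 2 = 1 from by decide, one_pow, one_mul]

/-- The transfer of a character of order two at an involution is non-trivial when a two-group of elements commuting
with it lies in the subgroup and fixes no other coset. -/
theorem transfer_involution_odd {H : Subgroup Y} (χ : ↥H →* Multiplicative (ZMod 2)) {g : Y} (hg : g * g = 1)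
    (hgH : g ∈ H) (hχ : χ ⟨g, hgH⟩ = Multiplicative.ofAdd 1) (P : Subgroup Y) (hP : IsPGroup 2 P)
    (hcomm : ∀ p ∈ P, p * g = g * p) (hPH : P ≤ H)
    (hfix : ∀ y : Y, (∀ p ∈ P, y⁻¹ * p * y ∈ H) → y ∈ H) :
    MonoidHom.transfer χ g = Multiplicative.ofAdd 1 := by
  classical
  haveI : Fact (Nat.Prime 2) := ⟨Nat.prime_two⟩
  letI := Fintype.ofFinite (Y ⧸ H)
  have hginv : g⁻¹ = g := inv_eq_of_mul_eq_one_right hg
  let T : H.LeftTransversal :=
    ⟨Set.range (fun x : Y ⧸ H => x.out), Subgroup.isComplement_range_left fun x => x.out_eq'⟩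
  have hT : ∀ x : Y ⧸ H, ((T.2.leftQuotientEquiv x : (T : Set Y)) : Y) = x.out := fun x =>
    IsComplement.leftQuotientEquiv_apply (f := fun x : Y ⧸ H => x.out) (fun x => x.out_eq') x
  have hmem : ∀ x : Y ⧸ H, x.out⁻¹ * (g * (g • x).out) ∈ H := fun x => by
    rw [← QuotientGroup.eq]
    rw [QuotientGroup.out_eq', ← smul_eq_mul, ← MulAction.Quotient.smul_coe, QuotientGroup.out_eq', smul_smul, hg,
      one_smul]
  let f : Y ⧸ H → Multiplicative (ZMod 2) := fun x => χ ⟨_, hmem x⟩
  have htr : MonoidHom.transfer χ g = ∏ x : Y ⧸ H, f x := by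
    rw [MonoidHom.transfer_def χ T g]
    simp only [Subgroup.leftTransversals.diff]
    refine Finset.prod_congr (Finset.ext fun x => by simp) fun x _ => congrArg χ (Subtype.ext ?_)
    show ((T.2.leftQuotientEquiv x : (T : Set Y)) : Y)⁻¹ * ((g • T).2.leftQuotientEquiv x : Y) =
      x.out⁻¹ * (g * (g • x).out)
    rw [hT, Subgroup.smul_apply_eq_smul_apply_inv_smul, hT, hginv, smul_eq_mul]
  -- the value at a fixed coset is the value of the conjugate
  have hval : ∀ (x : Y ⧸ H) (y : Y), (y : Y ⧸ H) = x → g • x = x →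
      ∃ h : y⁻¹ * g * y ∈ H, f x = χ ⟨_, h⟩ := by
    intro x y hy hfx
    have hu : x.out⁻¹ * y ∈ H := by rw [← QuotientGroup.eq, QuotientGroup.out_eq', hy]
    have hm : x.out⁻¹ * (g * x.out) ∈ H := by
      have := hmem x
      rwa [hfx] at this
    set u : ↥H := ⟨_, hu⟩
    have e : y⁻¹ * g * y = (u : Y)⁻¹ * (x.out⁻¹ * (g * x.out)) * u := by
      simp only [u]; group
    refine ⟨e ▸ mul_mem (mul_mem (inv_mem u.2) hm) u.2, ?_⟩
    have e2 : f x = χ ⟨_, hm⟩ := congrArg χ (Subtype.ext (by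
      show x.out⁻¹ * (g * (g • x).out) = _
      rw [hfx]))
    rw [e2, show (⟨y⁻¹ * g * y, e ▸ mul_mem (mul_mem (inv_mem u.2) hm) u.2⟩ : ↥H) = u⁻¹ * ⟨_, hm⟩ * u from
      Subtype.ext e, map_mul, map_mul, map_inv, mul_comm (χ u)⁻¹, inv_mul_cancel_right]
  set S := Finset.univ.filter fun x : Y ⧸ H => g • x = x with hS
  set O := Finset.univ.filter fun x : Y ⧸ H => g • x = x ∧ f x = Multiplicative.ofAdd 1 with hO
  have hsplit : ∏ x : Y ⧸ H, f x = ∏ x ∈ S, f x := by
    rw [← Finset.prod_filter_mul_prod_filter_not Finset.univ (fun x : Y ⧸ H => g • x = x) f, ← hS]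
    refine (mul_eq_left).mpr ?_
    refine Finset.prod_involution (fun x _ => g • x) (fun x hx => ?_) (fun x hx _ => (Finset.mem_filter.mp hx).2)
      (fun x hx => ?_) (fun x _ => by rw [smul_smul, hg, one_smul])
    · show χ _ * χ _ = 1
      rw [← map_mul, ← map_one χ]
      refine congrArg χ (Subtype.ext ?_)
      show x.out⁻¹ * (g * (g • x).out) * ((g • x).out⁻¹ * (g * (g • g • x).out)) = 1
      rw [smul_smul, hg, one_smul]
      calc x.out⁻¹ * (g * (g • x).out) * ((g • x).out⁻¹ * (g * x.out))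
          = x.out⁻¹ * (g * g) * x.out := by group
        _ = 1 := by rw [hg, mul_one, inv_mul_cancel]
    · refine Finset.mem_filter.mpr ⟨Finset.mem_univ _, fun h => (Finset.mem_filter.mp hx).2 ?_⟩
      rwa [smul_smul, hg, one_smul, eq_comm] at h
  have hone : ∏ x ∈ S, f x = Multiplicative.ofAdd 1 ^ O.card := by
    have hOS : O = S.filter fun x => f x = Multiplicative.ofAdd 1 := by
      rw [hO, hS, Finset.filter_filter]
    rw [hOS, ← Finset.prod_const]
    conv_rhs => rw [Finset.prod_filter]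
    refine Finset.prod_congr rfl fun x _ => ?_
    split
    · assumption
    · exact two_valued _ (by assumption)
  rw [htr, hsplit, hone]
  refine two_valued_pow _ ?_
  -- the two-group permutes the fixed cosets with non-trivial value
  have hinv : ∀ p ∈ P, ∀ x ∈ O, p • x ∈ O := by
    intro p hp x hx
    obtain ⟨-, hfx, hf⟩ := Finset.mem_filter.mp hx
    have hfx' : g • p • x = p • x := by rw [smul_smul, ← hcomm p hp, mul_smul, hfx]
    refine Finset.mem_filter.mpr ⟨Finset.mem_univ _, hfx', ?_⟩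
    obtain ⟨h1, e1⟩ := hval x x.out x.out_eq' hfx
    obtain ⟨h2, e2⟩ := hval (p • x) (p * x.out)
      (by rw [← smul_eq_mul, ← MulAction.Quotient.smul_coe, QuotientGroup.out_eq']) hfx'
    rw [← hf, e1, e2]
    refine congrArg χ (Subtype.ext ?_)
    show (p * x.out)⁻¹ * g * (p * x.out) = x.out⁻¹ * g * x.out
    calc (p * x.out)⁻¹ * g * (p * x.out) = x.out⁻¹ * p⁻¹ * (g * p) * x.out := by group
      _ = x.out⁻¹ * p⁻¹ * (p * g) * x.out := by rw [hcomm p hp]
      _ = _ := by group
  letI act : MulAction ↥P ↥O :=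
    { smul := fun p x => ⟨(p : Y) • (x : Y ⧸ H), hinv p p.2 x x.2⟩
      one_smul := fun x => Subtype.ext (one_smul Y (x : Y ⧸ H))
      mul_smul := fun p q x => Subtype.ext (mul_smul (p : Y) (q : Y) (x : Y ⧸ H)) }
  have hbase : ((1 : Y) : Y ⧸ H) ∈ O := by
    have hfx : g • ((1 : Y) : Y ⧸ H) = ((1 : Y) : Y ⧸ H) := by
      rw [MulAction.Quotient.smul_coe, QuotientGroup.eq, smul_eq_mul, mul_one, mul_one]; exact inv_mem hgH
    refine Finset.mem_filter.mpr ⟨Finset.mem_univ _, hfx, ?_⟩
    obtain ⟨h1, e1⟩ := hval _ 1 rfl hfx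
    rw [e1, ← hχ]
    exact congrArg χ (Subtype.ext (by simp))
  have hcard := hP.card_modEq_card_fixedPoints (↥O)
  have hfixed : Nat.card (MulAction.fixedPoints ↥P ↥O) = 1 := by
    rw [Nat.card_eq_one_iff_unique]
    refine ⟨⟨fun a b => ?_⟩, ⟨⟨⟨_, hbase⟩, fun p => Subtype.ext ?_⟩⟩⟩
    · have key : ∀ a : MulAction.fixedPoints ↥P ↥O, ((a : ↥O) : Y ⧸ H) = ((1 : Y) : Y ⧸ H) := by
        intro a
        rw [← QuotientGroup.out_eq' ((a : ↥O) : Y ⧸ H), QuotientGroup.eq, mul_one]
        refine inv_mem (hfix _ fun p hp => ?_)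
        have h := congrArg Subtype.val (a.2 ⟨p, hp⟩)
        change p • ((a : ↥O) : Y ⧸ H) = _ at h
        rw [mul_assoc, ← QuotientGroup.eq, ← smul_eq_mul p, ← MulAction.Quotient.smul_coe, QuotientGroup.out_eq', h]
      exact Subtype.ext (Subtype.ext ((key a).trans (key b).symm))
    · show (p : Y) • ((1 : Y) : Y ⧸ H) = ((1 : Y) : Y ⧸ H)
      rw [MulAction.Quotient.smul_coe, QuotientGroup.eq, smul_eq_mul, mul_one, mul_one]
      exact inv_mem (hPH p.2)
  rw [hfixed, Nat.card_eq_fintype_card, Fintype.card_coe] at hcard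
  exact hcard

end Cfsg.Lib.LargeFischer
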