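import Cfsg.Agent.LargeFischer.LineFour
import Cfsg.Agent.LargeFischer.OuterTransfer

/-!
A character of order two of the centralizer of a short involution, non-trivial on an element of the extraspecial
subgroup moving the second short involution of the line.
-/

set_option autoImplicit false
set_option maxRecDepth 100000
set_option maxHeartbeats 1000000
set_option linter.unusedSectionVars false
set_option linter.style.haveILetI false

namespace Cfsg.Lib.LargeFischer

open Subgroup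
open Cfsg.Lib.LargeExtra.OutExtra

universe u

variable {G : Type u} [Group G] [Finite G] {z : G} {Q : Subgroup (centralizer ({z} : Set G))} [Q.Normal]

theorem zmod_two_cases : ∀ r : ZMod 2, r = 0 ∨ r = 1 := by decide

namespace Ctx

variable (c : Ctx z Q)

/-- A short vector on a second line through the first plane. -/
noncomputable def uvec : c.ι → ZMod 2 := c.F.mk6 ![1, 0, 1, 0, 0, 0]

/-- First splitting vector. -/
noncomputable def wone : c.ι → ZMod 2 := c.F.mk6 ![0, 1, 0, 0, 0, 0]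

/-- Second splitting vector. -/
noncomputable def wtwo : c.ι → ZMod 2 := c.F.mk6 ![0, 0, 1, 0, 0, 0]

theorem B_uvec (v : c.ι → ZMod 2) : c.F.B v c.uvec = (c.F.co 0 v + c.F.co 2 v).im := by
  rw [c.F.B_co, uvec]
  simp [c.F.co_mk6, Fin.sum_univ_six]

theorem pair_data : c.F.B c.uvec c.F.v0 = 0 ∧ c.F.B c.uvec (c.F.om c.F.v0) = 1 ∧
    c.F.B c.wone c.F.v0 = 0 ∧ c.F.B c.wone c.uvec = 0 ∧ c.F.B c.wtwo c.F.v0 = 0 ∧ c.F.B c.wtwo c.uvec = 0 ∧
    c.F.B (c.F.om c.wone) c.F.v0 = 1 ∧ c.F.B (c.F.om c.wone) c.uvec = 0 ∧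
    c.F.B (c.F.om c.wtwo) c.F.v0 = 0 ∧ c.F.B (c.F.om c.wtwo) c.uvec = 1 := by
  simp only [c.F.B_wv0, c.F.B_v0, c.B_uvec]
  simp only [uvec, wone, wtwo, c.F.co_om, c.F.co_mk6]
  decide +kernel

variable {c}

theorem short_of_two (P : c.LinePt) (x : Fin 6 → F4) (hx : (Finset.univ.filter fun i => x i ≠ 0).card = 2) :
    c.F.mk6 x ∈ c.F.orb c.F.v0 := by
  refine P.mem_short.mpr (Or.inl ?_)
  rw [nzc]
  refine (congrArg Finset.card (Finset.filter_congr fun i _ => ?_)).trans hx
  rw [P.rc_ne_zero_iff, c.F.co_mk6]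

theorem uvec_short (P : c.LinePt) : c.uvec ∈ c.F.orb c.F.v0 := short_of_two P _ (by decide +kernel)

theorem uvec_add_short (P : c.LinePt) : c.F.v0 + c.uvec ∈ c.F.orb c.F.v0 := by
  have e : c.F.v0 + c.uvec = c.F.mk6 ![0, 1, 1, 0, 0, 0] := c.F.co_ext fun i => by
    rw [c.F.co_add, c.F.co_v0, uvec, c.F.co_mk6, c.F.co_mk6]
    revert i
    decide +kernel
  rw [e]
  exact short_of_two P _ (by decide +kernel)

/-- A conjugate of the central involution centralizing the lifts of the perpendicular space of the two short vectors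
is the central involution. -/
theorem axis_fix (P : c.LinePt) (hz : ∃ g : G, (∃ hq : g * z * g⁻¹ ∈ centralizer ({z} : Set G),
      (⟨g * z * g⁻¹, hq⟩ : centralizer ({z} : Set G)) ∈ Q) ∧ g * z * g⁻¹ ≠ z)
    {h : ↥(centralizer ({z} : Set G))} (hh : h * h = 1) (hc : IsConj z (h : G))
    (hcom : ∀ w : ↥Q, c.F.B (c.pt w) c.F.v0 = 0 → c.F.B (c.pt w) c.uvec = 0 →
      Commute h (w : ↥(centralizer ({z} : Set G)))) :
    (h : G) = z := by
  obtain ⟨hd1, hd2, a1, a2, b1, b2, e11, e12, e21, e22⟩ := c.pair_data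
  have hfix : ∀ v, c.F.B v c.F.v0 = 0 → c.F.B v c.uvec = 0 → rep Q c.D h v = v := by
    intro v h1 h2
    obtain ⟨w, hw⟩ := c.D.surj v
    have hw' : c.pt w = v := hw
    subst hw'
    rw [c.act]
    refine congrArg c.pt (Subtype.ext ?_)
    rw [MulAut.conjNormal_apply]
    exact mul_inv_eq_iff_eq_mul.mpr (hcom w h1 h2).eq
  have hM : h ∈ c.M := by
    by_contra hM
    set v := c.F.mk6 ![0, 0, 0, 0, 1, 0] with hv
    have hv1 : c.F.B v c.F.v0 = 0 ∧ c.F.B v c.uvec = 0 ∧ c.F.B (c.F.om v) c.F.v0 = 0 ∧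
        c.F.B (c.F.om v) c.uvec = 0 := by
      simp only [c.F.B_v0, c.B_uvec, hv, c.F.co_om, c.F.co_mk6]
      decide +kernel
    have e := P.om_outside hM v
    rw [hfix v hv1.1 hv1.2.1, hfix _ hv1.2.2.1 hv1.2.2.2] at e
    have h0 : v = 0 := c.F.central_fpf ((c.F.t_inj _) e.symm)
    have h4 : c.F.co 4 v = c.F.co 4 0 := by rw [h0]
    rw [hv, c.F.co_mk6, c.F.co_zero] at h4
    revert h4
    decide +kernel
  have hfix' : ∀ v, c.F.B v c.F.v0 = 0 → c.F.B v c.uvec = 0 → rep Q c.D h (c.F.om v) = c.F.om v := fun v h1 h2 => by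
    rw [LinePt.om_comm_M hM, hfix v h1 h2]
  -- the perpendicular space and two translates span
  have hdec : ∀ v, ∃ x y, (x = 0 ∨ x = c.F.om c.wone) ∧ (y = 0 ∨ y = c.F.om c.wtwo) ∧
      c.F.B (v + (x + y)) c.F.v0 = 0 ∧ c.F.B (v + (x + y)) c.uvec = 0 := by
    intro v
    refine ⟨if c.F.B v c.F.v0 = 0 then 0 else c.F.om c.wone, if c.F.B v c.uvec = 0 then 0 else c.F.om c.wtwo,
      by split <;> simp, by split <;> simp, ?_, ?_⟩ <;> rw [c.F.B_add, c.F.B_add] <;>
      rcases zmod_two_cases (c.F.B v c.F.v0) with r | r <;> rcases zmod_two_cases (c.F.B v c.uvec) with s | s <;>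
      simp [r, s, e11, e12, e21, e22, c.F.B_zero] <;> decide
  have hall : ∀ v, rep Q c.D h v = v := by
    intro v
    obtain ⟨x, y, hx, hy, h1, h2⟩ := hdec v
    have h0 : rep Q c.D h 0 = 0 := hfix 0 (c.F.B_zero _) (c.F.B_zero _)
    have hxy : rep Q c.D h (x + y) = x + y := by
      rw [rep_add]
      rcases hx with rfl | rfl <;> rcases hy with rfl | rfl <;> simp only [h0, hfix' _ a1 a2, hfix' _ b1 b2]
    have e := hfix _ h1 h2
    rw [rep_add, hxy] at e
    exact add_right_cancel e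
  have hQ : h ∈ Q := c.rep_eq_one (Equiv.ext hall)
  set y : ↥Q := ⟨h, hQ⟩ with hy
  have hperp : ∀ v, c.F.B v c.F.v0 = 0 → c.F.B v c.uvec = 0 → c.F.B (c.pt y) v = 0 := by
    intro v h1 h2
    obtain ⟨w, hw⟩ := c.D.surj v
    have hw' : c.pt w = v := hw
    subst hw'
    exact B_of_commute (hcom w h1 h2)
  obtain ⟨p, q, hp, hq, hp1, hp2⟩ : ∃ p q, (p = 0 ∨ p = c.F.v0) ∧ (q = 0 ∨ q = c.uvec) ∧
      c.F.B (c.pt y + (p + q)) (c.F.om c.wone) = 0 ∧ c.F.B (c.pt y + (p + q)) (c.F.om c.wtwo) = 0 := by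
    refine ⟨if c.F.B (c.pt y) (c.F.om c.wone) = 0 then 0 else c.F.v0,
      if c.F.B (c.pt y) (c.F.om c.wtwo) = 0 then 0 else c.uvec,
      by split <;> simp, by split <;> simp, ?_, ?_⟩ <;> rw [c.F.B_add, c.F.B_add] <;>
      rcases zmod_two_cases (c.F.B (c.pt y) (c.F.om c.wone)) with r | r <;>
      rcases zmod_two_cases (c.F.B (c.pt y) (c.F.om c.wtwo)) with s | s <;>
      simp [r, s, c.F.B_symm c.F.v0, c.F.B_symm c.uvec, e11, e12, e21, e22, c.F.B_zero] <;> decide
  have hzero : c.pt y + (p + q) = 0 := by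
    refine c.F.nondeg _ fun v => ?_
    obtain ⟨x, x', hx, hx', h1, h2⟩ := hdec v
    have hpq : c.F.B (p + q) (v + (x + x')) = 0 := by
      rw [c.F.B_add]
      rcases hp with rfl | rfl <;> rcases hq with rfl | rfl <;>
        simp [c.F.B_zero, c.F.B_symm c.F.v0, c.F.B_symm c.uvec, h1, h2]
    have hxx : c.F.B (c.pt y + (p + q)) (x + x') = 0 := by
      rw [c.F.B_symm, c.F.B_add, c.F.B_symm x, c.F.B_symm x']
      rcases hx with rfl | rfl <;> rcases hx' with rfl | rfl <;>
        simp [hp1, hp2, c.F.B_symm _ (0 : c.ι → ZMod 2), c.F.B_zero]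
    have e : v = v + (x + x') + (x + x') := by rw [add_assoc, c.F.dbl, add_zero]
    rw [e, c.F.B_symm, c.F.B_add, c.F.B_symm, c.F.B_symm (x + x'), hxx, c.F.B_add, hperp _ h1 h2, hpq]
    simp
  have hpt : c.pt y = p + q := by
    have h3 := congrArg (· + (p + q)) hzero
    simpa [add_assoc, c.F.dbl] using h3
  have h1 : (h : G) ≠ 1 := fun e => c.X2g.ne (isConj_one_left.mp (e ▸ hc))
  have hnot : c.pt y ∉ c.F.orb c.F.v0 := fun hm => ((LinePt.pt_nonconj hz (y := y) hh).mpr hm).2 hc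
  have hy0 : c.pt y = 0 := by
    rcases hp with rfl | rfl <;> rcases hq with rfl | rfl
    · rw [hpt, add_zero]
    · exact absurd (hpt.trans (zero_add _) ▸ uvec_short P) hnot
    · exact absurd (hpt.trans (add_zero _) ▸ c.F.orb_self _) hnot
    · exact absurd (hpt ▸ uvec_add_short P) hnot
  rcases c.pt_zero.mp hy0 with e | e
  · exact absurd (congrArg Subtype.val e) h1
  · exact (congrArg Subtype.val e).trans c.zH_val

namespace Four

variable (L : c.Four)

/-- The centralizer of the first involution. -/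
abbrev Y : Subgroup G := centralizer ({L.ga} : Set G)

theorem mem_Y {g : G} : g ∈ L.Y ↔ g * L.ga = L.ga * g := mem_centralizer_singleton_iff

theorem C_le_Y : L.C ≤ L.Y := fun _ hg => L.mem_Y.mpr (L.mem_C.mp hg).1.eq

/-- The part centralizing the central involution. -/
abbrev HY : Subgroup ↥L.Y := (centralizer ({z} : Set G)).subgroupOf L.Y

/-- The displacement of the second involution. -/
def disp (x : ↥L.HY) : G := ((x : ↥L.Y) : G) * L.gb * ((x : ↥L.Y) : G)⁻¹ * L.gb

theorem disp_cases (x : ↥L.HY) : L.disp x = 1 ∨ L.disp x = z ∨ L.disp x = L.ga ∨ L.disp x = z * L.ga := by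
  obtain ⟨P⟩ := c.exists_linePt L.hz
  set g : G := ((x : ↥L.Y) : G) with hg
  set h : ↥(centralizer ({z} : Set G)) := ⟨g, mem_subgroupOf.mp x.2⟩ with hh
  have hv0 : rep Q c.D h c.F.v0 = c.F.v0 := by
    rw [← L.pa, c.act]
    refine congrArg c.pt (Subtype.ext (Subtype.ext ?_))
    rw [MulAut.conjNormal_apply]
    exact mul_inv_eq_iff_eq_mul.mpr (L.mem_Y.mp (x : ↥L.Y).2)
  have hval : ((MulAut.conjNormal h L.b : ↥Q) : ↥(centralizer ({z} : Set G))).val = g * L.gb * g⁻¹ := by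
    rw [MulAut.conjNormal_apply]; rfl
  have hzb : z * L.gb = L.gb * z := (mem_centralizer_singleton_iff.mp (L.b : ↥(centralizer ({z} : Set G))).2).symm
  show g * L.gb * g⁻¹ * L.gb = 1 ∨ g * L.gb * g⁻¹ * L.gb = z ∨ g * L.gb * g⁻¹ * L.gb = L.ga ∨
    g * L.gb * g⁻¹ * L.gb = z * L.ga
  rw [← hval]
  by_cases hM : h ∈ c.M
  · have e : c.pt L.b = c.pt (MulAut.conjNormal h L.b) := by
      rw [← c.act, L.pb, LinePt.om_comm_M hM, hv0]
    rcases c.pt_eq e with e1 | e1 <;> rw [e1]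
    · exact Or.inl L.sq_b
    · refine Or.inr (Or.inl ?_)
      show L.gb * (c.zH : G) * L.gb = z
      rw [c.zH_val, ← hzb, mul_assoc, L.sq_b, mul_one]
  · have e : c.pt (L.a * L.b) = c.pt (MulAut.conjNormal h L.b) := by
      rw [← c.act, L.pb, P.om_outside hM, hv0, c.pt_mul, L.pa, L.pb, ← c.F.sm_w, ← c.F.sm_w, c.F.sm_sm,
        show w4 * w4 = 1 + w4 by decide +kernel, c.F.sm_add_left, c.F.sm_one]
    rcases c.pt_eq e with e1 | e1 <;> rw [e1]
    · refine Or.inr (Or.inr (Or.inl ?_))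
      show L.ga * L.gb * L.gb = L.ga
      rw [mul_assoc, L.sq_b, mul_one]
    · refine Or.inr (Or.inr (Or.inr ?_))
      show L.ga * L.gb * (c.zH : G) * L.gb = z * L.ga
      rw [c.zH_val, mul_assoc L.ga, ← hzb, mul_assoc, mul_assoc, L.sq_b, mul_one]
      exact (mem_centralizer_singleton_iff.mp (L.a : ↥(centralizer ({z} : Set G))).2)

theorem disp_mul (x y : ↥L.HY) : L.disp (x * y) = L.disp y * L.disp x := by
  set g : G := ((x : ↥L.Y) : G) with hg
  set k : G := ((y : ↥L.Y) : G) with hk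
  have hcom : g * L.disp y = L.disp y * g := by
    have hgz : g * z = z * g := mem_centralizer_singleton_iff.mp (mem_subgroupOf.mp x.2)
    have hga : g * L.ga = L.ga * g := L.mem_Y.mp (x : ↥L.Y).2
    rcases L.disp_cases y with e | e | e | e <;> rw [e]
    exacts [by rw [mul_one, one_mul], hgz, hga, by rw [← mul_assoc, hgz, mul_assoc, hga, mul_assoc]]
  show g * k * L.gb * (g * k)⁻¹ * L.gb = L.disp y * (g * L.gb * g⁻¹ * L.gb)
  have hkb : k * L.gb * k⁻¹ = L.disp y * L.gb := by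
    show k * L.gb * k⁻¹ = k * L.gb * k⁻¹ * L.gb * L.gb
    rw [mul_assoc _ L.gb L.gb, L.sq_b, mul_one]
  calc g * k * L.gb * (g * k)⁻¹ * L.gb = g * (k * L.gb * k⁻¹) * g⁻¹ * L.gb := by group
    _ = g * (L.disp y * L.gb) * g⁻¹ * L.gb := by rw [hkb]
    _ = (g * L.disp y) * L.gb * g⁻¹ * L.gb := by group
    _ = _ := by rw [hcom]; group

/-- The character. -/
theorem exists_char : ∃ χ : ↥L.HY →* Multiplicative (ZMod 2),
    ∀ x : ↥L.HY, L.disp x = z → χ x = Multiplicative.ofAdd 1 := by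
  classical
  obtain ⟨hna, -, -⟩ := L.ab_ne
  have hz1 : z ≠ 1 := c.X2g.ne
  have haz : L.ga ≠ z := fun e => L.z_notMem ((congrArg (· ∈ L.E) e).mp L.a_mem)
  have hzz : z * z = 1 := c.X2g.zz
  have haa := L.sq_a
  have hza : L.ga * z = z * L.ga := mem_centralizer_singleton_iff.mp (L.a : ↥(centralizer ({z} : Set G))).2
  have h1 : z * L.ga ≠ z := fun e => hna (mul_eq_left.mp e)
  have h2 : z * L.ga ≠ L.ga := fun e => hz1 (mul_eq_right.mp e)
  have h3 : z * (z * L.ga) = L.ga := by rw [← mul_assoc, hzz, one_mul]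
  have h4 : z * L.ga * z = L.ga := by rw [mul_assoc, hza, h3]
  have h5 : L.ga * (z * L.ga) = z := by rw [← mul_assoc, hza, mul_assoc, haa, mul_one]
  have h6 : z * L.ga * L.ga = z := by rw [mul_assoc, haa, mul_one]
  have h7 : z * L.ga * (z * L.ga) = 1 := by rw [← mul_assoc, h4, haa]
  let f : G → Multiplicative (ZMod 2) := fun d => if d = z ∨ d = L.ga then Multiplicative.ofAdd 1 else 1
  refine ⟨{ toFun := fun x => f (L.disp x), map_one' := ?_, map_mul' := fun x y => ?_ }, fun x hx => ?_⟩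
  · have e : L.disp 1 = 1 := by
      show (1 : G) * L.gb * (1 : G)⁻¹ * L.gb = 1
      rw [inv_one, one_mul, mul_one, L.sq_b]
    rw [e]
    simp [f, hz1.symm, hna.symm]
  · show f (L.disp (x * y)) = f (L.disp x) * f (L.disp y)
    rw [L.disp_mul]
    rcases L.disp_cases x with e | e | e | e <;> rcases L.disp_cases y with e' | e' | e' | e' <;>
      simp [f, e, e', hz1.symm, hna.symm, haz, haz.symm, hzz, haa, hza, h1, h2, h3, h4, h5, h6, h7] <;> decide
  · show f (L.disp x) = _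
    rw [hx]
    simp [f]

/-- The element of the extraspecial subgroup shifting the second involution by the central one. -/
theorem exists_shift_short : ∃ q : ↥Q, ((q : ↥(centralizer ({z} : Set G))) : G) ∈ L.Y ∧ c.pt q = c.uvec ∧
    ((q : ↥(centralizer ({z} : Set G))) : G) * L.gb * ((q : ↥(centralizer ({z} : Set G))) : G)⁻¹ = z * L.gb := by
  obtain ⟨q, hq⟩ := c.D.surj c.uvec
  obtain ⟨hd1, hd2, -⟩ := c.pair_data
  have hq' : c.pt q = c.uvec := hq
  refine ⟨q, L.mem_Y.mpr (congrArg Subtype.val (c.commute_of_B (by rw [hq', L.pa, hd1])).eq), hq', ?_⟩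
  rcases c.conj_cases q.2 L.b.2 with e | e
  · exfalso
    have h := B_of_commute (c := c) (mul_inv_eq_iff_eq_mul.mp e : Commute (q : ↥(centralizer ({z} : Set G))) L.b)
    rw [hq', L.pb, hd2] at h
    exact one_ne_zero h
  · have h := congrArg Subtype.val e
    simp only [Subgroup.coe_mul, Subgroup.coe_inv, c.zH_val] at h
    exact h

/-- The centralizer of the first involution has a character of order two that is non-trivial on the shifting
element. -/
theorem exists_outer : ∃ (τ : ↥L.Y →* Multiplicative (ZMod 2)) (q : ↥L.Y),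
    (∃ r : ↥Q, ((r : ↥(centralizer ({z} : Set G))) : G) = q) ∧
    (q : G) * L.gb * (q : G)⁻¹ = z * L.gb ∧ τ q = Multiplicative.ofAdd 1 := by
  obtain ⟨P⟩ := c.exists_linePt L.hz
  obtain ⟨q, hqY, hqu, hqb⟩ := L.exists_shift_short
  obtain ⟨χ, hχ⟩ := L.exists_char
  set gq : G := ((q : ↥(centralizer ({z} : Set G))) : G) with hgq
  refine ⟨MonoidHom.transfer χ, ⟨gq, hqY⟩, ⟨q, rfl⟩, hqb, ?_⟩
  have hq2 : gq * gq = 1 := congrArg (fun y : ↥Q => ((y : ↥(centralizer ({z} : Set G))) : G))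
    (sq_short (y := q) (hqu ▸ uvec_short P))
  let PG : Subgroup G := Q.map (centralizer ({z} : Set G)).subtype ⊓ centralizer ({gq} : Set G)
  have hP : IsPGroup 2 ↥(PG.subgroupOf L.Y) := by
    have h0 : IsPGroup 2 ↥(Q.map (centralizer ({z} : Set G)).subtype) := (IsPGroup.of_card c.card).map _
    exact (h0.to_le inf_le_left).comap_of_injective L.Y.subtype L.Y.subtype_injective
  refine transfer_involution_odd χ (Subtype.ext hq2) (mem_subgroupOf.mpr (q : ↥(centralizer ({z} : Set G))).2) ?_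
    (PG.subgroupOf L.Y) hP (fun p hp => Subtype.ext (mem_centralizer_singleton_iff.mp hp.2))
    (fun p hp => ?_) (fun y hy => ?_)
  · refine hχ _ ?_
    show gq * L.gb * gq⁻¹ * L.gb = z
    rw [hqb, mul_assoc, L.sq_b, mul_one]
  · obtain ⟨r, -, hr⟩ := hp.1
    exact mem_subgroupOf.mpr (show (p : G) ∈ centralizer ({z} : Set G) from
      (show (r : G) = (p : G) from hr) ▸ r.2)
  · set z' : G := (y : G) * z * (y : G)⁻¹ with hz'
    have hcm : ∀ p ∈ PG, p ∈ L.Y → z' * p = p * z' := by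
      intro p hp hpY
      have h := mem_centralizer_singleton_iff.mp (mem_subgroupOf.mp (hy ⟨p, hpY⟩ (mem_subgroupOf.mpr hp)))
      simp only [Subgroup.coe_mul, Subgroup.coe_inv] at h
      calc z' * p = (y : G) * (z * ((y : G)⁻¹ * p * (y : G))) * (y : G)⁻¹ := by rw [hz']; group
        _ = (y : G) * ((y : G)⁻¹ * p * (y : G) * z) * (y : G)⁻¹ := by rw [h]
        _ = p * z' := by rw [hz']; group
    have hzY : z ∈ L.Y := L.C_le_Y L.z_mem_C
    have hzP : z ∈ PG := ⟨⟨c.zH, c.zH_mem, c.zH_val⟩,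
      mem_centralizer_singleton_iff.mpr (mem_centralizer_singleton_iff.mp (q : ↥(centralizer ({z} : Set G))).2).symm⟩
    let h : ↥(centralizer ({z} : Set G)) := ⟨z', mem_centralizer_singleton_iff.mpr (hcm z hzP hzY)⟩
    have hres : z' = z := by
      refine axis_fix P L.hz (h := h) (Subtype.ext ?_) (isConj_iff.mpr ⟨(y : G), rfl⟩) fun w h1 h2 => ?_
      · show z' * z' = 1
        rw [hz', show (y : G) * z * (y : G)⁻¹ * ((y : G) * z * (y : G)⁻¹) = (y : G) * (z * z) * (y : G)⁻¹ by group,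
          c.X2g.zz, mul_one, mul_inv_cancel]
      · refine Subtype.ext (hcm _ ⟨⟨w, w.2, rfl⟩, ?_⟩ ?_)
        · exact mem_centralizer_singleton_iff.mpr (congrArg Subtype.val (c.commute_of_B (by rw [hqu]; exact h2)).eq)
        · exact L.mem_Y.mpr (congrArg Subtype.val (c.commute_of_B (by rw [L.pa]; exact h1)).eq)
    exact mem_subgroupOf.mpr (mem_centralizer_singleton_iff.mpr (mul_inv_eq_iff_eq_mul.mp hres))

end Four

end Ctx

end Cfsg.Lib.LargeFischer
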