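import Cfsg.Agent.LargeFischer.FourGroupMain
import Cfsg.Agent.LargeFischer.OuterCharacter
import Cfsg.Agent.S1713
import Cfsg.Agent.FiOuter.Core
import Cfsg.Agent.FiPres.Simple
import Cfsg.Agent.ThreeTransposition.PairNormaliser.QuasiNormal
import Cfsg.Agent.CpQuot.Base

/-!
The centralizer of a short involution: a double cover of the smallest Fischer group extended by an outer automorphism.
-/

set_option autoImplicit false
set_option maxRecDepth 100000
set_option maxHeartbeats 1000000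
set_option linter.unusedSectionVars false
set_option linter.style.haveILetI false

namespace Cfsg.Lib.LargeFischer

open Subgroup
open Cfsg.Lib.PrimeGraph (KQuad)
open scoped commutatorElement

universe u

variable {G : Type u} [Group G] [Finite G] {z : G} {Q : Subgroup (centralizer ({z} : Set G))} [Q.Normal]
  {c : Ctx z Q}

/-- An involution whose centralizer is a quasisimple cover of the unitary group of dimension six and which is not
weakly closed in it. -/
def UnitaryInvol (R : Type u) [Group R] : Prop :=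
  ∃ d' : R, orderOf d' = 2 ∧ Cfsg.IsQuasisimple ↥(centralizer ({d'} : Set R)) ∧
    (∃ (F : Type) (_ : Field F) (_ : Fintype F), Fintype.card F = 4 ∧
      ∃ _ : ((zpowers d').subgroupOf (centralizer ({d'} : Set R))).Normal,
        Nonempty (↥(centralizer ({d'} : Set R)) ⧸ (zpowers d').subgroupOf (centralizer ({d'} : Set R)) ≃*
          Cfsg.PSU 6 F 2)) ∧
    ∃ g, g * d' * g⁻¹ ∈ centralizer ({d'} : Set R) ∧ g * d' * g⁻¹ ≠ d'

/-- What is known on the subgroup of index two in the centralizer of the first involution. -/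
structure Ctx.Four.Inner (L : c.Four) (q : ↥L.Y) (K : Subgroup ↥L.Y) : Prop where
  fstar : K = Cfsg.generalizedFittingSubgroup ↥L.Y
  qs : Cfsg.IsQuasisimple ↥K
  index : K.index = 2
  mem : ∀ x : ↥L.Y, (x : G) ∈ L.C → x ∈ K
  q_not : q ∉ K
  swap : ∃ x : ↥L.Y, x ∉ K ∧ (x : G) * L.gb * (x : G)⁻¹ = L.ga * L.gb
  cent : ∀ x : ↥L.Y, (∀ y ∈ K, x * y = y * x) → (x : G) = 1 ∨ (x : G) = L.ga
  surj : ∀ β : MulAut ↥K, ∃ y : ↥L.Y, ∀ (n : ↥K) (h : y * (n : ↥L.Y) * y⁻¹ ∈ K),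
    (⟨_, h⟩ : ↥K)⁻¹ * β n ∈ center ↥K
  invol : ∀ (aK : ↥K), ((aK : ↥L.Y) : G) = L.ga → ∀ [(zpowers aK).Normal],
    UnitaryInvol (↥K ⧸ zpowers aK)
  autIso : ∀ [((zpowers L.ga).subgroupOf L.Y).Normal],
    Nonempty (↥L.Y ⧸ (zpowers L.ga).subgroupOf L.Y ≃* MulAut Cfsg.Spor.Fi22)

namespace Ctx.Four

variable (L : c.Four)

/-- The centralizer of the first involution, given a character separating the shift and a square moving the second
involution. -/
theorem outer_core (e : L.Bar ≃* Cfsg.PSU 6 KQuad 2)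
    (τ : ↥(centralizer ({L.ga} : Set G)) →* Multiplicative (ZMod 2)) (q : ↥(centralizer ({L.ga} : Set G)))
    (hqb : (q : G) * L.gb * (q : G)⁻¹ = z * L.gb) (hqτ : τ q = Multiplicative.ofAdd 1)
    {g : G} (hg : g * L.ga * g⁻¹ = L.ga) (hg2 : g * g * L.gb * (g * g)⁻¹ = L.ga * L.gb * z) :
    ∃ K : Subgroup ↥L.Y, L.Inner q K := by
  classical
  obtain ⟨hna, hnb, hab⟩ := L.ab_ne
  have hmem : ∀ {x : G}, x ∈ L.Y ↔ x * L.ga = L.ga * x := mem_centralizer_singleton_iff
  have hCY : L.C ≤ L.Y := fun x hx => hmem.mpr (L.mem_C.mp hx).1.eq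
  have hzb : z * L.gb = L.gb * z := (mem_centralizer_singleton_iff.mp (L.b : ↥(centralizer ({z} : Set G))).2).symm
  have hqsC := L.quasisimple e
  set kk : ↥L.Y := (⟨g, hmem.mpr (mul_inv_eq_iff_eq_mul.mp hg)⟩ : ↥L.Y) * ⟨g, hmem.mpr (mul_inv_eq_iff_eq_mul.mp hg)⟩
    with hkk
  have hkv : (kk : G) = g * g := rfl
  have hkτ : τ kk = 1 := by
    rw [hkk, map_mul]
    exact (show ∀ r : Multiplicative (ZMod 2), r * r = 1 by decide) _
  have hne1 : Multiplicative.ofAdd (1 : ZMod 2) ≠ 1 := by decide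
  set K := τ.ker with hK
  have hidx : K.index = 2 := by
    have htop : τ.range = ⊤ := eq_top_iff.mpr fun r _ => by
      by_cases hr : r = Multiplicative.ofAdd 1
      · exact ⟨q, hqτ.trans hr.symm⟩
      · exact ⟨1, (map_one τ).trans ((show ∀ a : Multiplicative (ZMod 2), a ≠ Multiplicative.ofAdd 1 → a = 1 by
          decide) r hr).symm⟩
    rw [hK, Subgroup.index_ker, htop, card_top, Nat.card_eq_fintype_card]
    rfl
  have hCK : ∀ x : ↥L.C, Subgroup.inclusion hCY x ∈ K := fun x => by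
    have h := hqsC.1.1 ▸ mem_top x
    exact Abelianization.commutator_subset_ker (τ.comp (Subgroup.inclusion hCY)) h
  -- the shift composed with the square exchanges the second and third involutions
  set x0 : ↥L.Y := kk⁻¹ * q with hx0
  have hx0b : (x0 : G) * L.gb * (x0 : G)⁻¹ = L.ga * L.gb := by
    have hk2 : (kk : G) * (L.ga * L.gb) * (kk : G)⁻¹ = L.gb * z := by
      have hka : (kk : G) * L.ga * (kk : G)⁻¹ = L.ga := mul_inv_eq_iff_eq_mul.mpr (hmem.mp kk.2)
      calc (kk : G) * (L.ga * L.gb) * (kk : G)⁻¹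
          = (kk : G) * L.ga * (kk : G)⁻¹ * ((kk : G) * L.gb * (kk : G)⁻¹) := by group
        _ = L.gb * z := by rw [hka, hkv, hg2, ← mul_assoc, ← mul_assoc, L.sq_a, one_mul]
    rw [hx0, Subgroup.coe_mul, Subgroup.coe_inv]
    calc (kk : G)⁻¹ * (q : G) * L.gb * ((kk : G)⁻¹ * (q : G))⁻¹
        = (kk : G)⁻¹ * ((q : G) * L.gb * (q : G)⁻¹) * (kk : G) := by group
      _ = (kk : G)⁻¹ * ((kk : G) * (L.ga * L.gb) * (kk : G)⁻¹) * (kk : G) := by rw [hqb, hzb, hk2]
      _ = L.ga * L.gb := by group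
  have hsep : ∀ x ∈ K, (x : G) * L.gb * (x : G)⁻¹ = L.gb ∨ (x : G) * L.gb * (x : G)⁻¹ = L.ga * L.gb →
      (x : G) ∈ L.C := by
    intro x hx h
    rcases h with h | h
    · exact L.mem_C.mpr ⟨hmem.mp x.2, mul_inv_eq_iff_eq_mul.mp h⟩
    · exfalso
      set y : ↥L.Y := x0⁻¹ * x with hy
      have hyC : (y : G) ∈ L.C := L.mem_C.mpr ⟨hmem.mp y.2, mul_inv_eq_iff_eq_mul.mp (by
        rw [hy, Subgroup.coe_mul, Subgroup.coe_inv]
        calc (x0 : G)⁻¹ * (x : G) * L.gb * ((x0 : G)⁻¹ * (x : G))⁻¹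
            = (x0 : G)⁻¹ * ((x : G) * L.gb * (x : G)⁻¹) * (x0 : G) := by group
          _ = (x0 : G)⁻¹ * ((x0 : G) * L.gb * (x0 : G)⁻¹) * (x0 : G) := by rw [h, hx0b]
          _ = L.gb := by group)⟩
      have h1 : τ y = 1 := hCK ⟨_, hyC⟩
      rw [hy, map_mul, map_inv, MonoidHom.mem_ker.mp hx, mul_one, inv_eq_one, hx0, map_mul, map_inv, hkτ, inv_one,
        one_mul, hqτ] at h1
      exact hne1 h1
  -- the quotient by the first involution
  let aY : ↥L.Y := ⟨L.ga, hmem.mpr rfl⟩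
  have haK : aY ∈ K := hCK ⟨L.ga, L.E_le_C L.a_mem⟩
  let aK : ↥K := ⟨aY, haK⟩
  let bK : ↥K := ⟨_, hCK ⟨L.gb, L.E_le_C L.b_mem⟩⟩
  set Z : Subgroup ↥K := zpowers aK with hZ
  have hZc : Z ≤ center ↥K := zpowers_le.mpr (mem_center_iff.mpr fun x =>
    Subtype.ext (Subtype.ext (hmem.mp (x : ↥L.Y).2)))
  haveI hZn : Z.Normal := ⟨fun n hn x => by rw [mem_center_iff.mp (hZc hn) x, mul_inv_cancel_right]; exact hn⟩
  have hZm : ∀ x : ↥K, x ∈ Z ↔ ((x : ↥L.Y) : G) = 1 ∨ ((x : ↥L.Y) : G) = L.ga := fun x => by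
    rw [hZ, Cfsg.Lib.LargeExtra.mem_zpowers_two (show aK * aK = 1 from Subtype.ext (Subtype.ext L.sq_a)),
      Subtype.ext_iff, Subtype.ext_iff, Subtype.ext_iff, Subtype.ext_iff]
    rfl
  set d : ↥K ⧸ Z := QuotientGroup.mk bK with hd
  have hmk : ∀ x y : ↥K, (QuotientGroup.mk x : ↥K ⧸ Z) = QuotientGroup.mk y ↔
      ((y : ↥L.Y) : G) = ((x : ↥L.Y) : G) ∨ ((y : ↥L.Y) : G) = ((x : ↥L.Y) : G) * L.ga := fun x y => by
    rw [QuotientGroup.eq, hZm]
    show ((x : ↥L.Y) : G)⁻¹ * ((y : ↥L.Y) : G) = 1 ∨ ((x : ↥L.Y) : G)⁻¹ * ((y : ↥L.Y) : G) = L.ga ↔ _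
    rw [inv_mul_eq_one, inv_mul_eq_iff_eq_mul, eq_comm]
  have hdd : d * d = 1 := by
    rw [hd, ← QuotientGroup.mk_mul, show bK * bK = 1 from Subtype.ext (Subtype.ext L.sq_b), QuotientGroup.mk_one]
  have hd1 : d ≠ 1 := fun h => by
    rw [hd, ← QuotientGroup.mk_one Z, hmk] at h
    rcases h with h | h
    · exact hnb h.symm
    · exact hab (by
        have h' : (1 : G) = L.gb * L.ga := h
        rw [eq_comm, mul_eq_one_iff_eq_inv, inv_eq_of_mul_eq_one_right L.sq_a] at h'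
        exact h'.symm)
  let ι : ↥L.C →* ↥K :=
    { toFun := fun x => ⟨Subgroup.inclusion hCY x, hCK x⟩
      map_one' := rfl
      map_mul' := fun _ _ => rfl }
  let ψ : ↥L.C →* ↥(centralizer ({d} : Set (↥K ⧸ Z))) := ((QuotientGroup.mk' Z).comp ι).codRestrict _ fun x => by
    refine mem_centralizer_singleton_iff.mpr ?_
    show (QuotientGroup.mk (ι x) : ↥K ⧸ Z) * QuotientGroup.mk bK = QuotientGroup.mk bK * QuotientGroup.mk (ι x)
    rw [← QuotientGroup.mk_mul, ← QuotientGroup.mk_mul]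
    exact congrArg _ (Subtype.ext (Subtype.ext (L.mem_C.mp x.2).2.eq))
  have hψ : Function.Surjective ψ := by
    rintro ⟨w, hw⟩
    obtain ⟨x, rfl⟩ := QuotientGroup.mk_surjective w
    have h := mem_centralizer_singleton_iff.mp hw
    rw [hd, ← QuotientGroup.mk_mul, ← QuotientGroup.mk_mul, hmk] at h
    have h' : ((x : ↥L.Y) : G) * L.gb * ((x : ↥L.Y) : G)⁻¹ = L.gb ∨
        ((x : ↥L.Y) : G) * L.gb * ((x : ↥L.Y) : G)⁻¹ = L.ga * L.gb := by
      rcases h with h | h <;> simp only [Subgroup.coe_mul, bK, Subgroup.coe_inclusion] at h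
      · exact Or.inl (mul_inv_eq_iff_eq_mul.mpr h.symm)
      · refine Or.inr (mul_inv_eq_iff_eq_mul.mpr ?_)
        have hxa : L.ga * ((x : ↥L.Y) : G) = ((x : ↥L.Y) : G) * L.ga := (hmem.mp (x : ↥L.Y).2).symm
        have e1 : L.ga * (L.gb * ((x : ↥L.Y) : G)) = L.ga * (((x : ↥L.Y) : G) * L.gb * L.ga) := by rw [← h]
        rw [mul_assoc L.ga, e1, ← mul_assoc, ← mul_assoc, hxa, mul_assoc _ L.ga, L.comm_ab.eq, mul_assoc,
          mul_assoc L.gb, L.sq_a, mul_one]
    exact ⟨⟨_, hsep _ x.2 h'⟩, Subtype.ext rfl⟩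
  have hψ1 : ∀ x : ↥L.C, ψ x = 1 ↔ (x : G) = 1 ∨ (x : G) = L.ga := fun x => by
    rw [Subtype.ext_iff]
    exact (QuotientGroup.eq_one_iff (ι x)).trans (hZm _)
  have hker : ψ.ker ≠ ⊤ := fun h => by
    have h1 := (hψ1 ⟨z, L.z_mem_C⟩).mp (MonoidHom.mem_ker.mp (h ▸ mem_top _))
    rcases h1 with h1 | h1
    · exact c.X2g.ne h1
    · exact L.z_notMem ((congrArg (· ∈ L.E) h1).mpr L.a_mem)
  have hqd : Cfsg.IsQuasisimple ↥(centralizer ({d} : Set (↥K ⧸ Z))) :=
    (Cfsg.Lib.Components.isQuasisimple_congr (QuotientGroup.quotientKerEquivOfSurjective ψ hψ)).mp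
      (Cfsg.Lib.CpQuot.isQuasisimple_quot hqsC hker)
  haveI hdn : ((zpowers d).subgroupOf (centralizer ({d} : Set (↥K ⧸ Z)))).Normal := ⟨fun n hn x => by
    have hc : x * n = n * x := by
      refine Subtype.ext ?_
      obtain ⟨i, hi⟩ := mem_zpowers_iff.mp (mem_subgroupOf.mp hn)
      rw [Subgroup.coe_mul, Subgroup.coe_mul, ← hi]
      exact (Commute.zpow_right (mem_centralizer_singleton_iff.mp x.2) i).eq
    rw [hc, mul_inv_cancel_right]; exact hn⟩
  let φ := (QuotientGroup.mk' ((zpowers d).subgroupOf (centralizer ({d} : Set (↥K ⧸ Z))))).comp ψ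
  have hφ : φ.ker = L.E.subgroupOf L.C := by
    ext x
    rw [MonoidHom.mem_ker, MonoidHom.comp_apply, QuotientGroup.mk'_apply, QuotientGroup.eq_one_iff, mem_subgroupOf,
      mem_subgroupOf, Cfsg.Lib.LargeExtra.mem_zpowers_two hdd, L.mem_E]
    have h1 : ((ψ x : ↥(centralizer ({d} : Set (↥K ⧸ Z)))) : ↥K ⧸ Z) = 1 ↔ (x : G) = 1 ∨ (x : G) = L.ga :=
      (Subtype.ext_iff (a2 := (1 : ↥(centralizer ({d} : Set (↥K ⧸ Z)))))).symm.trans (hψ1 x)
    have h2 : ((ψ x : ↥(centralizer ({d} : Set (↥K ⧸ Z)))) : ↥K ⧸ Z) = d ↔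
        (x : G) = L.gb ∨ (x : G) = L.ga * L.gb := by
      refine ((eq_comm).trans (hmk bK (ι x))).trans ?_
      show (x : G) = L.gb ∨ (x : G) = L.gb * L.ga ↔ _
      rw [L.comm_ab.eq]
    rw [h1, h2, or_assoc]
  let eC : ↥(centralizer ({d} : Set (↥K ⧸ Z))) ⧸ (zpowers d).subgroupOf (centralizer ({d} : Set (↥K ⧸ Z))) ≃*
      Cfsg.PSU 6 KQuad 2 :=
    ((QuotientGroup.quotientMulEquivOfEq hφ.symm).trans (QuotientGroup.quotientKerEquivOfSurjective φ
      ((QuotientGroup.mk'_surjective _).comp hψ))).symm.trans e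
  have hnwc : ∃ w, w * d * w⁻¹ ∈ centralizer ({d} : Set (↥K ⧸ Z)) ∧ w * d * w⁻¹ ≠ d := by
    set kK : ↥K := ⟨kk, MonoidHom.mem_ker.mpr hkτ⟩ with hkK
    have e1 : (((kK * bK * kK⁻¹ : ↥K) : ↥L.Y) : G) = L.ga * L.gb * z := hg2
    refine ⟨QuotientGroup.mk kK, ?_, ?_⟩
    · rw [hd, ← QuotientGroup.mk_inv, ← QuotientGroup.mk_mul, ← QuotientGroup.mk_mul, mem_centralizer_singleton_iff,
        ← QuotientGroup.mk_mul, ← QuotientGroup.mk_mul]
      refine congrArg _ (Subtype.ext (Subtype.ext ?_))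
      show (((kK * bK * kK⁻¹ : ↥K) : ↥L.Y) : G) * L.gb = L.gb * (((kK * bK * kK⁻¹ : ↥K) : ↥L.Y) : G)
      rw [e1]
      rw [mul_assoc _ z, hzb, ← mul_assoc, mul_assoc L.ga, L.sq_b, mul_one, ← mul_assoc, ← mul_assoc,
        ← L.comm_ab.eq, mul_assoc L.ga, L.sq_b, mul_one]
    · intro h
      rw [hd, ← QuotientGroup.mk_inv, ← QuotientGroup.mk_mul, ← QuotientGroup.mk_mul, hmk, e1] at h
      have hz1 : z ≠ 1 := c.X2g.ne
      rcases h with h | h
      · have h' : L.gb = L.gb * (L.ga * z) := by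
          rw [← mul_assoc, ← L.comm_ab.eq]; exact h
        rw [left_eq_mul] at h'
        exact L.z_notMem ((congrArg (· ∈ L.E) (eq_inv_of_mul_eq_one_right h')).mpr (inv_mem L.a_mem))
      · have h' : L.gb = L.gb * z := by
          have hza : z * L.ga = L.ga * z := (mem_centralizer_singleton_iff.mp (L.a : ↥(centralizer ({z} : Set G))).2).symm
          calc L.gb = L.ga * L.gb * z * L.ga := h
            _ = L.gb * L.ga * L.ga * z := by rw [L.comm_ab.eq, mul_assoc _ z, hza, ← mul_assoc]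
            _ = L.gb * z := by rw [mul_assoc L.gb, L.sq_a, mul_one]
        exact hz1 (left_eq_mul.mp h')
  haveI : Fact (Nat.Prime 2) := ⟨Nat.prime_two⟩
  obtain ⟨f⟩ := Cfsg.Agent.S1713.result d (orderOf_eq_prime (by rw [pow_two]; exact hdd) hd1) hqd KQuad
    (by rw [← Nat.card_eq_fintype_card]; simpa using KQuad.card_eq) eC hnwc
  haveI hsimp : IsSimpleGroup Cfsg.Spor.Fi22 := Cfsg.Lib.FiPres.simple_fi
  haveI : IsSimpleGroup (↥K ⧸ Z) := f.isSimpleGroup
  have hncomm : ∀ N : Subgroup ↥K, N.Normal → N.map (QuotientGroup.mk' Z) = ⊤ → ¬ N ≤ center ↥K := by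
    intro N _ hN hNc
    obtain ⟨r, s, hr, hs, hrs⟩ := L.JG_noncomm
    set P : ↥K := ι ⟨_, hr⟩
    set R : ↥K := ι ⟨_, hs⟩
    obtain ⟨w, hw, hwP⟩ : QuotientGroup.mk' Z P ∈ N.map (QuotientGroup.mk' Z) := hN ▸ mem_top _
    have hPc : P ∈ center ↥K := by
      have h1 : w⁻¹ * P ∈ Z := QuotientGroup.eq.mp hwP
      simpa using mul_mem (hNc hw) (hZc h1)
    have h2 := congrArg (fun x : ↥K => ((x : ↥L.Y) : G)) (mem_center_iff.mp hPc R)
    simp only [Subgroup.coe_mul] at h2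
    refine c.X2g.ne (hrs.symm.trans ?_)
    exact commutatorElement_eq_one_iff_mul_comm.mpr h2.symm
  have hcenter : center ↥K = Z := by
    refine le_antisymm ?_ hZc
    rcases IsSimpleGroup.eq_bot_or_eq_top_of_normal ((center ↥K).map (QuotientGroup.mk' Z))
      (Subgroup.Normal.map inferInstance _ (QuotientGroup.mk'_surjective _)) with h | h
    · rwa [Subgroup.map_eq_bot_iff, QuotientGroup.ker_mk'] at h
    · exact absurd le_rfl (hncomm _ inferInstance h)
  have hperf : _root_.commutator ↥K = ⊤ := by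
    have hZle : Z ≤ _root_.commutator ↥K := by
      have h1 : (⟨L.ga, L.E_le_C L.a_mem⟩ : ↥L.C) ∈ _root_.commutator ↥L.C := hqsC.1.1 ▸ mem_top _
      refine zpowers_le.mpr ?_
      have h2 := mem_map_of_mem ι h1
      rw [_root_.commutator_def, Subgroup.map_commutator] at h2
      exact commutator_mono le_top le_top h2
    rcases IsSimpleGroup.eq_bot_or_eq_top_of_normal ((_root_.commutator ↥K).map (QuotientGroup.mk' Z))
      (Subgroup.Normal.map inferInstance _ (QuotientGroup.mk'_surjective _)) with h | h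
    · exfalso
      rw [Subgroup.map_eq_bot_iff, QuotientGroup.ker_mk'] at h
      obtain ⟨r, s, hr, hs, hrs⟩ := L.JG_noncomm
      have h1 : ⁅ι ⟨_, hr⟩, ι ⟨_, hs⟩⁆ ∈ Z := h (commutator_mem_commutator (mem_top _) (mem_top _))
      have e1 : (((⁅ι ⟨_, hr⟩, ι ⟨_, hs⟩⁆ : ↥K) : ↥L.Y) : G) = z := hrs
      rw [hZm, e1] at h1
      rcases h1 with h1 | h1
      · exact c.X2g.ne h1
      · exact L.z_notMem ((congrArg (· ∈ L.E) h1).mpr L.a_mem)
    · refine eq_top_iff.mpr fun x _ => ?_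
      obtain ⟨w, hw, hwx⟩ : QuotientGroup.mk' Z x ∈ (_root_.commutator ↥K).map (QuotientGroup.mk' Z) := h ▸ mem_top _
      have := mul_mem hw (hZle (QuotientGroup.eq.mp hwx))
      rwa [mul_inv_cancel_left] at this
  have hqsK : Cfsg.IsQuasisimple ↥K := ⟨⟨hperf⟩, (QuotientGroup.quotientMulEquivOfEq hcenter).isSimpleGroup⟩
  haveI hKn : K.Normal := MonoidHom.normal_ker τ
  set J := (zpowers L.ga).subgroupOf L.Y with hJ
  have hJm : ∀ x : ↥L.Y, x ∈ J ↔ (x : G) = 1 ∨ (x : G) = L.ga := fun x => by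
    rw [hJ, mem_subgroupOf, Cfsg.Lib.LargeExtra.mem_zpowers_two L.sq_a]
  have hcK : centralizer (K : Set ↥L.Y) = J := by
    ext x
    constructor
    · intro hx
      have hxC : (x : G) ∈ L.C := L.mem_C.mpr ⟨hmem.mp x.2,
        (congrArg Subtype.val (mem_centralizer_iff.mp hx _ bK.2)).symm⟩
      have h1 : (⟨x, hCK ⟨_, hxC⟩⟩ : ↥K) ∈ center ↥K :=
        mem_center_iff.mpr fun y => Subtype.ext (mem_centralizer_iff.mp hx _ y.2)
      rw [hcenter, hZm] at h1
      exact (hJm x).mpr h1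
    · intro hx
      refine mem_centralizer_iff.mpr fun y _ => Subtype.ext ?_
      rcases (hJm x).mp hx with h | h
      · simp [h]
      · rw [Subgroup.coe_mul, Subgroup.coe_mul, h]
        exact hmem.mp y.2
  haveI hJn : J.Normal := ⟨fun n hn x => by
    have hc : x * n = n * x := Subtype.ext (by
      rcases (hJm n).mp hn with h | h
      · simp [h]
      · rw [Subgroup.coe_mul, Subgroup.coe_mul, h]; exact hmem.mp x.2)
    rw [hc, mul_inv_cancel_right]; exact hn⟩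
  have hJK : J ≤ K := fun x hx => by
    rcases (hJm x).mp hx with h | h
    · exact (show x = 1 from Subtype.ext h) ▸ one_mem _
    · exact (show x = aY from Subtype.ext h) ▸ haK
  haveI := Cfsg.Lib.FiOuter.finite_aut
  let fC : ↥K ⧸ center ↥K ≃* Cfsg.Spor.Fi22 := (QuotientGroup.quotientMulEquivOfEq hcenter).trans f
  have hcount : Nat.card (MulAut Cfsg.Spor.Fi22) ≤ Nat.card (↥L.Y ⧸ J) := by
    have hA := (MulAut.conj : Cfsg.Spor.Fi22 →* MulAut Cfsg.Spor.Fi22).range.card_mul_index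
    rw [Cfsg.Lib.FiOuter.inn_index, ← Nat.card_congr
      (MonoidHom.ofInjective Cfsg.Lib.FiOuter.conj_inj).toEquiv] at hA
    rw [← hA, ← Nat.card_congr f.toEquiv]
    have h1 := K.card_mul_index
    rw [hidx, card_eq_card_quotient_mul_card_subgroup Z] at h1
    have h2 := card_eq_card_quotient_mul_card_subgroup J
    have hcZ : Nat.card ↥J = Nat.card ↥Z := by
      rw [hJ, Nat.card_congr (subgroupOfEquivOfLe (zpowers_le.mpr (hmem.mpr rfl : L.ga ∈ L.Y))).toEquiv, hZ,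
        Nat.card_zpowers, Nat.card_zpowers]
      exact ((orderOf_injective (L.Y.subtype.comp K.subtype) (L.Y.subtype_injective.comp K.subtype_injective) aK).symm.trans
        rfl).symm
    rw [hcZ] at h2
    have hpos : 0 < Nat.card ↥Z := Nat.card_pos
    refine le_of_eq (Nat.eq_of_mul_eq_mul_right hpos ?_)
    rw [← h2, ← h1]
    ring
  have hquot : Nonempty (↥L.Y ⧸ J ≃* MulAut Cfsg.Spor.Fi22) :=
    Cfsg.Lib.ThreeTr.quotient_equiv_mulAut hperf hcK fC hcount
  refine ⟨K, ⟨(Cfsg.Lib.ThreeTr.genFitting_of_quasisimple_normal hqsK (hcK ▸ hJK)).symm, hqsK, hidx,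
    fun x hx => hCK ⟨_, hx⟩, fun h => hne1 (hqτ ▸ MonoidHom.mem_ker.mp h), ⟨x0, fun h => hne1 ?_, hx0b⟩,
    fun x hx => (hJm x).mp (hcK ▸ mem_centralizer_iff.mpr fun y hy => (hx y hy).symm), fun β => ?_,
    fun aK' haK' => ?_, hquot⟩⟩
  · have h' := MonoidHom.mem_ker.mp h
    rwa [hx0, map_mul, map_inv, hkτ, inv_one, one_mul, hqτ] at h'
  · -- conjugations induce all automorphisms of the simple quotient
    set ψ0 : ↥L.Y →* MulAut (↥K ⧸ center ↥K) := (Cfsg.Lib.ThreeTr.autQuot ↥K).comp MulAut.conjNormal with hψ0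
    have hker : ψ0.ker = J := by
      ext x
      rw [MonoidHom.mem_ker, ← hcK]
      refine ⟨fun h => Cfsg.Lib.ThreeTr.mem_centralizer_of_trivial hperf h, fun h => ?_⟩
      have h1 : MulAut.conjNormal x = (1 : MulAut ↥K) := by
        ext n
        rw [MulAut.conjNormal_apply, ← mem_centralizer_iff.mp h n n.2, mul_inv_cancel_right]
        rfl
      rw [hψ0, MonoidHom.comp_apply, h1, map_one]
    haveI : Finite (MulAut (↥K ⧸ center ↥K)) := Finite.of_equiv _ (MulAut.congr fC).symm.toEquiv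
    have htop : ψ0.range = ⊤ := by
      refine Subgroup.eq_top_of_le_card _ ?_
      rw [Nat.card_congr (MulAut.congr fC).toEquiv]
      exact hcount.trans (le_of_eq (Nat.card_congr
        ((QuotientGroup.quotientMulEquivOfEq hker.symm).trans (QuotientGroup.quotientKerEquivRange ψ0)).toEquiv))
    obtain ⟨y, hy⟩ : Cfsg.Lib.ThreeTr.autQuot ↥K β ∈ ψ0.range := htop ▸ mem_top _
    refine ⟨y, fun n h => ?_⟩
    rw [← QuotientGroup.eq, ← Cfsg.Lib.ThreeTr.autQuot_mk β n, ← hy]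
    exact (congrArg QuotientGroup.mk (Subtype.ext (by rw [MulAut.conjNormal_apply]))).trans
      (Cfsg.Lib.ThreeTr.autQuot_mk (MulAut.conjNormal y) n).symm
  · obtain rfl : aK' = aK := Subtype.ext (Subtype.ext haK')
    intro inst
    exact ⟨d, orderOf_eq_prime (by rw [pow_two]; exact hdd) hd1, hqd,
      ⟨KQuad, inferInstance, inferInstance, by rw [← Nat.card_eq_fintype_card]; simpa using KQuad.card_eq,
        hdn, ⟨eC⟩⟩, hnwc⟩

/-- The centralizer of the first involution is a double cover of the smallest Fischer group extended by an outer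
automorphism. -/
theorem outer_structure (e : L.Bar ≃* Cfsg.PSU 6 KQuad 2)
    (τ : ↥(centralizer ({L.ga} : Set G)) →* Multiplicative (ZMod 2)) (q : ↥(centralizer ({L.ga} : Set G)))
    (hqb : (q : G) * L.gb * (q : G)⁻¹ = z * L.gb) (hqτ : τ q = Multiplicative.ofAdd 1)
    {g : G} (hg : g * L.ga * g⁻¹ = L.ga) (hg2 : g * g * L.gb * (g * g)⁻¹ = L.ga * L.gb * z) :
    ∃ (K : Subgroup ↥(centralizer ({L.ga} : Set G)))
      (_ : ((zpowers L.ga).subgroupOf (centralizer ({L.ga} : Set G))).Normal),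
      K = Cfsg.generalizedFittingSubgroup ↥(centralizer ({L.ga} : Set G)) ∧ Cfsg.IsQuasisimple ↥K ∧ K.index = 2 ∧
      (∃ h : L.ga ∈ centralizer ({L.ga} : Set G), (⟨L.ga, h⟩ : ↥(centralizer ({L.ga} : Set G))) ∈ K) ∧
      Nonempty (↥(centralizer ({L.ga} : Set G)) ⧸ (zpowers L.ga).subgroupOf (centralizer ({L.ga} : Set G)) ≃*
        MulAut Cfsg.Spor.Fi22) := by
  obtain ⟨K, hK⟩ := L.outer_core e τ q hqb hqτ hg hg2
  have ha : L.ga ∈ L.Y := mem_centralizer_singleton_iff.mpr rfl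
  haveI hn : ((zpowers L.ga).subgroupOf L.Y).Normal := ⟨fun n hn x => by
    have hc : x * n = n * x := Subtype.ext (by
      obtain ⟨i, hi⟩ := mem_zpowers_iff.mp (mem_subgroupOf.mp hn)
      rw [Subgroup.coe_mul, Subgroup.coe_mul, ← hi]
      exact (Commute.zpow_right (mem_centralizer_singleton_iff.mp x.2) i).eq)
    rw [hc, mul_inv_cancel_right]; exact hn⟩
  exact ⟨K, hn, hK.fstar, hK.qs, hK.index, ⟨ha, hK.mem ⟨_, ha⟩ (L.E_le_C L.a_mem)⟩, hK.autIso⟩

end Ctx.Four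

end Cfsg.Lib.LargeFischer
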