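import Cfsg.Agent.LargeFischer.EightRadical
import Cfsg.Agent.SolvStruct.AltAutPrimeGraph
import Cfsg.Agent.Classical.SL

/-!
The normaliser of the subgroup of order eight.
-/

set_option autoImplicit false
set_option maxRecDepth 100000
set_option maxHeartbeats 1000000
set_option linter.unusedSectionVars false
set_option linter.style.haveILetI false

namespace Cfsg.Lib.LargeFischer

open Subgroup QuadraticMap
open Cfsg.Lib.LargeExtra
open Cfsg.Lib.LargeExtra.OutExtra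
open Matrix (SpecialLinearGroup)
open scoped commutatorElement

universe u

/-- The special linear group of dimension three over two elements. -/
abbrev L32 : Type := Matrix.SpecialLinearGroup (Fin 3) (ZMod 2)

theorem card_L32 : Nat.card L32 = 168 := by
  rw [Nat.card_eq_fintype_card]; decide +kernel

theorem simple_L32 : IsSimpleGroup L32 := by
  haveI : IsSimpleGroup (Matrix.ProjectiveSpecialLinearGroup (Fin 3) (ZMod 2)) :=
    Cfsg.Lib.Classical.isSimpleGroup_PSL (by simp)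
  have hbot : Subgroup.center L32 = ⊥ := by
    rw [← Subgroup.card_eq_one, Cfsg.Lib.Classical.card_center_SL, Nat.card_zmod]
    simp
  exact (QuotientGroup.quotientBot.symm.trans (QuotientGroup.quotientMulEquivOfEq hbot.symm)).isSimpleGroup

theorem two_cases : ∀ r : ZMod 2, r = 0 ∨ r = 1 := by decide

theorem l32_orders (e : ZMod 2) (he : (!![1, 0, 0; 1, 1, e; 0, 0, 1] : Matrix (Fin 3) (Fin 3) (ZMod 2)).det = 1)
    (hm : (!![1, 0, 0; 0, 0, 1; 0, 1, 1] : Matrix (Fin 3) (Fin 3) (ZMod 2)).det = 1)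
    (ht : (!![1, 0, 1; 0, 1, 0; 0, 0, 1] : Matrix (Fin 3) (Fin 3) (ZMod 2)).det = 1) :
    orderOf (@id L32 ⟨_, hm⟩ * @id L32 ⟨_, ht⟩ * @id L32 ⟨_, he⟩) = 7 ∧
    orderOf (@id L32 ⟨_, ht⟩ * @id L32 ⟨_, he⟩) = 4 := by
  haveI : Fact (Nat.Prime 7) := ⟨by norm_num⟩
  haveI : Fact (Nat.Prime 2) := ⟨Nat.prime_two⟩
  simp only [id]
  rcases two_cases e with rfl | rfl <;>
    refine ⟨orderOf_eq_prime (Subtype.ext ?_) (fun h => absurd (congrArg Subtype.val h) ?_),
      orderOf_eq_prime_pow (p := 2) (n := 1) (fun h => absurd (congrArg Subtype.val h) ?_) (Subtype.ext ?_)⟩ <;>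
    decide +kernel +revert

theorem l32_trans : ∀ a : Fin 3 → ZMod 2, a ≠ 0 →
    ∃ A : L32, (A : Matrix (Fin 3) (Fin 3) (ZMod 2)).mulVec (Pi.single 0 1) = a := by
  decide +kernel

theorem alt_no_seven (φ : MulAut ↥(alternatingGroup (Fin 6))) (h : φ ^ 7 = 1) : φ = 1 := by
  obtain ⟨σ, hσ⟩ := Cfsg.Lib.SolvStruct.AltAut.sq_mem_range (n := 6) (by norm_num) φ
  have h7 : σ ^ 7 = 1 := by
    refine Cfsg.Lib.SolvStruct.AltAut.conjNormal_injective (n := 6) (by norm_num) ?_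
    rw [map_pow, hσ, map_one, ← pow_two, ← pow_mul, mul_comm 2 7, pow_mul, h, one_pow]
  have hd : orderOf σ ∣ Nat.card (Equiv.Perm (Fin 6)) := orderOf_dvd_natCard σ
  rw [Nat.card_perm, Nat.card_fin] at hd
  have hd7 := orderOf_dvd_of_pow_eq_one h7
  have h1 : orderOf σ = 1 := Nat.eq_one_of_dvd_coprimes (by decide : Nat.Coprime 7 (Nat.factorial 6)) hd7 hd
  rw [orderOf_eq_one_iff] at h1
  rw [h1, map_one] at hσ
  calc φ = φ ^ 7 * (φ * φ)⁻¹ * (φ * φ)⁻¹ * (φ * φ)⁻¹ := by group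
    _ = 1 := by rw [h, ← hσ]; simp

variable {G : Type u} [Group G] [Finite G] {z : G} {Q : Subgroup (centralizer ({z} : Set G))} [Q.Normal]

namespace Ctx.LinePt

variable {c : Ctx z Q} (P : c.LinePt)

/-- The normaliser. -/
noncomputable def N : Subgroup G := normalizer (P.V : Set G)

/-- The coordinates. -/
noncomputable def eV : Multiplicative (Fin 3 → ZMod 2) ≃* ↥P.V := MonoidHom.ofInjective P.emb_injective

theorem conj_mem (n : ↥P.N) (w : ↥P.V) : (n : G) * w * (n : G)⁻¹ ∈ P.V := (mem_normalizer_iff.mp n.2 _).mp w.2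

/-- The action. -/
noncomputable def act3 (n : ↥P.N) : (Fin 3 → ZMod 2) →+ (Fin 3 → ZMod 2) :=
  AddMonoidHom.mk' (fun a => (P.eV.symm ⟨_, P.conj_mem n (P.eV (Multiplicative.ofAdd a))⟩).toAdd) fun a b => by
    rw [← toAdd_mul, ← map_mul]
    congr 1
    refine congrArg _ (Subtype.ext ?_)
    simp only [ofAdd_add, map_mul, Subgroup.coe_mul]
    group

theorem act3_spec (n : ↥P.N) (a : Fin 3 → ZMod 2) :
    P.emb (Multiplicative.ofAdd (P.act3 n a)) = (n : G) * P.emb (Multiplicative.ofAdd a) * (n : G)⁻¹ :=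
  congrArg Subtype.val (P.eV.apply_symm_apply ⟨_, P.conj_mem n (P.eV (Multiplicative.ofAdd a))⟩)

theorem act3_eq {n : ↥P.N} {a b : Fin 3 → ZMod 2}
    (h : (n : G) * P.emb (Multiplicative.ofAdd a) * (n : G)⁻¹ = P.emb (Multiplicative.ofAdd b)) : P.act3 n a = b :=
  Multiplicative.ofAdd.injective (P.emb_injective ((P.act3_spec n a).trans h))

/-- The matrix. -/
noncomputable def mat (n : ↥P.N) : Matrix (Fin 3) (Fin 3) (ZMod 2) :=
  LinearMap.toMatrix' ((P.act3 n).toZModLinearMap 2)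

theorem mat_mulVec (n : ↥P.N) (a : Fin 3 → ZMod 2) : (P.mat n).mulVec a = P.act3 n a := by
  rw [mat]; exact LinearMap.toMatrix'_mulVec _ a

/-- The matrix representation. -/
noncomputable def matHom : ↥P.N →* Matrix (Fin 3) (Fin 3) (ZMod 2) where
  toFun := P.mat
  map_one' := Matrix.toLin'.injective (LinearMap.ext fun a => by
    rw [Matrix.toLin'_apply, Matrix.toLin'_apply, Matrix.one_mulVec, mat_mulVec]
    exact P.act3_eq (by simp))
  map_mul' n m := Matrix.toLin'.injective (LinearMap.ext fun a => by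
    rw [Matrix.toLin'_apply, Matrix.toLin'_apply, ← Matrix.mulVec_mulVec, mat_mulVec, mat_mulVec, mat_mulVec]
    refine P.act3_eq ?_
    rw [act3_spec, act3_spec, Subgroup.coe_mul]
    group)

theorem det_one (n : ↥P.N) : (P.matHom n).det = 1 := by
  have h : (P.matHom n).det * (P.matHom n⁻¹).det = 1 := by
    rw [← Matrix.det_mul, ← map_mul, mul_inv_cancel, map_one, Matrix.det_one]
  generalize (P.matHom n).det = a, (P.matHom n⁻¹).det = b at h
  revert a b
  decide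

/-- The map onto the special linear group. -/
noncomputable def θ : ↥P.N →* L32 where
  toFun n := ⟨P.matHom n, P.det_one n⟩
  map_one' := Subtype.ext (map_one P.matHom)
  map_mul' n m := Subtype.ext (map_mul P.matHom n m)

theorem θ_eq (n : ↥P.N) (A : L32)
    (h : ∀ i : Fin 3, (n : G) * P.emb (Multiplicative.ofAdd (Pi.single i 1)) * (n : G)⁻¹ =
      P.emb (Multiplicative.ofAdd fun j => (A : Matrix (Fin 3) (Fin 3) (ZMod 2)) j i)) : P.θ n = A :=
  Subtype.ext (Matrix.ext fun j i => by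
    show P.mat n j i = _
    have h1 := congrFun (P.act3_eq (h i)) j
    rw [← mat_mulVec, Matrix.mulVec_single_one] at h1
    exact h1)

theorem θ_ker : P.θ.ker = (centralizer (P.V : Set G)).subgroupOf P.N := by
  ext n
  rw [MonoidHom.mem_ker, mem_subgroupOf, mem_centralizer_iff]
  constructor
  · rintro h _ ⟨a, rfl⟩
    have h1 : P.act3 n a.toAdd = a.toAdd := by
      rw [← mat_mulVec, show P.mat n = 1 from congrArg Subtype.val h, Matrix.one_mulVec]
    have h2 := P.act3_spec n a.toAdd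
    rw [h1] at h2
    exact (mul_inv_eq_iff_eq_mul.mp h2.symm).symm
  · intro h
    refine P.θ_eq n 1 fun i => ?_
    rw [← h _ ⟨_, rfl⟩, mul_inv_cancel_right]
    refine congrArg P.emb (congrArg Multiplicative.ofAdd (funext fun j => ?_))
    rw [Matrix.SpecialLinearGroup.coe_one, Matrix.one_apply, Pi.single_apply]

theorem emb_eq (a : Fin 3 → ZMod 2) : P.emb (Multiplicative.ofAdd a) = ((P.comb a : ↥(centralizer ({z} : Set G))) : G) := rfl

theorem mem_N {n : G} (h : ∀ w ∈ P.V, n * w * n⁻¹ ∈ P.V) : n ∈ P.N := by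
  haveI : Finite ↥P.V := inferInstance
  exact mem_normalizer_fintype (fun w hw => h w hw)

theorem comb_basis : P.comb (Pi.single 0 1) = c.zq ∧ P.comb (Pi.single 1 1) = P.x ∧ P.comb (Pi.single 2 1) = P.x' ∧
    P.comb ![0, 1, 1] = P.x * P.x' ∧ P.comb ![1, 0, 1] = c.zq * P.x' ∧ P.comb ![1, 1, 0] = c.zq * P.x := by
  refine ⟨?_, ?_, ?_, ?_, ?_, ?_⟩ <;> simp [comb, ZMod.val_one, Pi.single_apply]

/-- The matrices of four elements. -/
theorem θ_gens : ∃ m t y : ↥P.N, P.θ m = ⟨!![1, 0, 0; 0, 0, 1; 0, 1, 1], by decide⟩ ∧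
    P.θ t = ⟨!![1, 0, 1; 0, 1, 0; 0, 0, 1], by decide⟩ ∧
    ∃ e : ZMod 2, ∃ (he : (!![1, 0, 0; 1, 1, e; 0, 0, 1] : Matrix (Fin 3) (Fin 3) (ZMod 2)).det = 1),
      P.θ y = ⟨!![1, 0, 0; 1, 1, e; 0, 0, 1], he⟩ := by
  obtain ⟨b0, b1, b2, b11, b01, b10⟩ := P.comb_basis
  have hzc : ∀ h : ↥(centralizer ({z} : Set G)), (h : G) * z * (h : G)⁻¹ = z := fun h =>
    mul_inv_eq_iff_eq_mul.mpr (mem_centralizer_singleton_iff.mp h.2)
  have hxc : ((P.x : ↥(centralizer ({z} : Set G))) : G) * z = z * ((P.x : ↥(centralizer ({z} : Set G))) : G) :=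
    (c.X2g.central _ ⟨_, P.x.2, rfl⟩).eq
  have hx'c : ((P.x' : ↥(centralizer ({z} : Set G))) : G) * z = z * ((P.x' : ↥(centralizer ({z} : Set G))) : G) :=
    (c.X2g.central _ ⟨_, P.x'.2, rfl⟩).eq
  -- an element of `Q` moving only the third generator
  let H2 : Subgroup G :=
      (({ carrier := {y : ↥Q | ∃ a, a 2 = 0 ∧ P.comb a = y}
          one_mem' := ⟨0, rfl, by simp [comb]⟩
          mul_mem' := fun {y w} ⟨a, ha, hy⟩ ⟨b, hb, hw⟩ => ⟨a + b, by simp [ha, hb], by rw [P.comb_mul, hy, hw]⟩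
          inv_mem' := fun {y} ⟨a, ha, hy⟩ => ⟨a, ha, by
            rw [← hy]
            exact eq_inv_of_mul_eq_one_left (P.q_line (P.mem_line.mpr ⟨_, (P.pt_comb a).symm⟩))⟩ } : Subgroup ↥Q).map
          Q.subtype).map (centralizer ({z} : Set G)).subtype
  have hnot : ((P.x' : ↥(centralizer ({z} : Set G))) : G) ∉ H2 := by
    rintro ⟨_, ⟨y, ⟨a, ha, rfl⟩, rfl⟩, hy⟩
    have := P.comb_injective ((Subtype.ext (Subtype.ext hy) : P.comb a = P.x').trans b2.symm)
    rw [this] at ha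
    simp at ha
  obtain ⟨_, ⟨q, hqQ, rfl⟩, hqc, hqx'⟩ := c.X2g.exists_split (H := H2) (fun w hw => by
    obtain ⟨y, ⟨y', -, rfl⟩, rfl⟩ := hw
    exact ⟨_, y'.2, rfl⟩) ⟨c.zq, ⟨c.zq, ⟨Pi.single 0 1, by simp, b0⟩, rfl⟩, c.zv⟩ ⟨_, P.x'.2, rfl⟩ hnot
  have hqx : (q : G) * ((P.x : ↥(centralizer ({z} : Set G))) : G) * (q : G)⁻¹ = ((P.x : ↥(centralizer ({z} : Set G))) : G) :=
    mul_inv_eq_iff_eq_mul.mpr (hqc _ ⟨P.x, ⟨P.x, ⟨Pi.single 1 1, by simp, b1⟩, rfl⟩, rfl⟩).eq
  have hqN : (q : G) ∈ P.N := P.mem_N fun w hw => by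
    obtain ⟨y, hy, rfl⟩ := P.mem_V.mp hw
    rcases c.X2g.conj_cases ⟨_, hqQ, rfl⟩ ⟨_, y.2, rfl⟩ with e | e
    · exact e.symm ▸ P.mem_V.mpr ⟨y, hy, rfl⟩
    · exact e.symm ▸ mul_mem P.z_mem (P.mem_V.mpr ⟨y, hy, rfl⟩)
  -- the lift of the cube root
  have hm2 : MulAut.conjNormal P.mω P.x' = P.x * P.x' ∨ MulAut.conjNormal P.mω P.x' = c.zq * (P.x * P.x') := by
    have hp : c.pt (P.x * P.x') = c.pt (MulAut.conjNormal P.mω P.x') := by
      rw [c.pt_add, ← c.act, P.pt_x', P.mω_rep]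
      rw [← c.F.sm_w, ← c.F.sm_w, c.F.sm_sm, show w4 * w4 = 1 + w4 by decide +kernel, c.F.sm_add_left, c.F.sm_one]
    rcases center_cases c.D.es (c.D.eq_iff.mp hp) with e | e
    · exact Or.inl (inv_mul_eq_one.mp e).symm
    · refine Or.inr ?_
      rw [inv_mul_eq_iff_eq_mul] at e
      rw [e]
      exact (commute_of_B (by rw [show c.pt c.zq = 0 from c.D.π_z, c.F.B_symm]; exact c.F.B_zero _))
  have hmN : (P.mω : G) ∈ P.N := P.mem_N fun w hw => by
    obtain ⟨y, hy, rfl⟩ := P.mem_V.mp hw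
    refine P.mem_V.mpr ⟨MulAut.conjNormal P.mω y, ?_, by rw [MulAut.conjNormal_apply]; rfl⟩
    obtain ⟨a, ha⟩ := P.mem_line.mp hy
    rw [← c.act, ← ha, P.mω_rep, ← c.F.sm_w, c.F.sm_sm]
    exact ⟨_, rfl⟩
  have hmx : (P.mω : G) * ((P.x : ↥(centralizer ({z} : Set G))) : G) * (P.mω : G)⁻¹ = ((P.x' : ↥(centralizer ({z} : Set G))) : G) := by
    rw [x', MulAut.conjNormal_apply]; rfl
  -- an element of the conjugate group moving `z`
  obtain ⟨y, hy, hyz⟩ := P.X2s.exists_swap (P.V_le_Qs P.z_mem) fun hz => by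
    rcases (mem_zpowers_two P.X2s.zz).mp hz with e | e
    · exact c.X2g.ne e
    · exact P.hxz e.symm
  have hyN : y ∈ P.N := P.mem_N fun w hw => by
    rcases P.X2s.conj_cases hy (P.V_le_Qs hw) with e | e
    · exact e.symm ▸ hw
    · exact e.symm ▸ mul_mem P.x_mem_V hw
  obtain ⟨t, ht⟩ : ∃ t : ↥P.N, P.θ t = ⟨!![1, 0, 1; 0, 1, 0; 0, 0, 1], by decide⟩ := by
    refine ⟨⟨(q : G), hqN⟩, P.θ_eq _ _ ?_⟩
    intro i
    fin_cases i
    · show (q : G) * P.emb (Multiplicative.ofAdd (Pi.single 0 1)) * (q : G)⁻¹ = _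
      rw [show (fun j => (!![1, 0, 1; 0, 1, 0; 0, 0, 1] : Matrix (Fin 3) (Fin 3) (ZMod 2)) j ((fun i => i) ⟨0, by decide⟩)) =
        Pi.single 0 1 by decide, emb_eq, b0, c.zv]
      exact hzc q
    · show (q : G) * P.emb (Multiplicative.ofAdd (Pi.single 1 1)) * (q : G)⁻¹ = _
      rw [show (fun j => (!![1, 0, 1; 0, 1, 0; 0, 0, 1] : Matrix (Fin 3) (Fin 3) (ZMod 2)) j ((fun i => i) ⟨1, by decide⟩)) =
        Pi.single 1 1 by decide, emb_eq, b1]
      exact hqx
    · show (q : G) * P.emb (Multiplicative.ofAdd (Pi.single 2 1)) * (q : G)⁻¹ = _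
      rw [show (fun j => (!![1, 0, 1; 0, 1, 0; 0, 0, 1] : Matrix (Fin 3) (Fin 3) (ZMod 2)) j ((fun i => i) ⟨2, by decide⟩)) =
        ![1, 0, 1] by decide, emb_eq, b2, emb_eq, b01, Subgroup.coe_mul, Subgroup.coe_mul, c.zv]
      exact hqx'
  obtain ⟨m, hm⟩ : ∃ m : ↥P.N, P.θ m = ⟨!![1, 0, 0; 0, 0, 1; 0, 1, 1], by decide⟩ := by
    -- correct by the translation
    have cases : ∀ i : Fin 3, ∀ e : ZMod 2, True := fun _ _ => trivial
    have h2 : ∃ e : ZMod 2, (P.mω : G) * ((P.x' : ↥(centralizer ({z} : Set G))) : G) * (P.mω : G)⁻¹ =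
        P.emb (Multiplicative.ofAdd ![e, 1, 1]) := by
      rcases hm2 with e | e <;> have e' := congrArg (fun w : ↥Q => ((w : ↥(centralizer ({z} : Set G))) : G)) e <;>
        simp only [MulAut.conjNormal_apply, Subgroup.coe_mul, Subgroup.coe_inv] at e'
      · exact ⟨0, by rw [emb_eq, b11, e']; rfl⟩
      · refine ⟨1, ?_⟩
        rw [emb_eq, show (![1, 1, 1] : Fin 3 → ZMod 2) = Pi.single 0 1 + ![0, 1, 1] by decide, P.comb_mul, b0, b11, e']
        rfl
    obtain ⟨e, he⟩ := h2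
    have hθ : ∀ (d : (!![1, 0, 0; 0, 0, 1; 0, 1, 1] : Matrix (Fin 3) (Fin 3) (ZMod 2)).det = 1)
        (d' : (!![1, 0, e; 0, 0, 1; 0, 1, 1] : Matrix (Fin 3) (Fin 3) (ZMod 2)).det = 1),
        P.θ ⟨(P.mω : G), hmN⟩ = ⟨!![1, 0, e; 0, 0, 1; 0, 1, 1], d'⟩ := by
      intro _ d'
      refine P.θ_eq _ _ ?_
      intro i
      fin_cases i
      · show (P.mω : G) * P.emb (Multiplicative.ofAdd (Pi.single 0 1)) * (P.mω : G)⁻¹ = _
        rw [show (fun j => (!![1, 0, e; 0, 0, 1; 0, 1, 1] : Matrix (Fin 3) (Fin 3) (ZMod 2)) j ((fun i => i) ⟨0, by decide⟩)) =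
          Pi.single 0 1 by rcases (show ∀ r : ZMod 2, r = 0 ∨ r = 1 by decide) e with rfl | rfl <;> decide, emb_eq, b0, c.zv]
        exact hzc P.mω
      · show (P.mω : G) * P.emb (Multiplicative.ofAdd (Pi.single 1 1)) * (P.mω : G)⁻¹ = _
        rw [show (fun j => (!![1, 0, e; 0, 0, 1; 0, 1, 1] : Matrix (Fin 3) (Fin 3) (ZMod 2)) j ((fun i => i) ⟨1, by decide⟩)) =
          Pi.single 2 1 by rcases (show ∀ r : ZMod 2, r = 0 ∨ r = 1 by decide) e with rfl | rfl <;> decide, emb_eq, b1, emb_eq, b2]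
        exact hmx
      · show (P.mω : G) * P.emb (Multiplicative.ofAdd (Pi.single 2 1)) * (P.mω : G)⁻¹ = _
        rw [show (fun j => (!![1, 0, e; 0, 0, 1; 0, 1, 1] : Matrix (Fin 3) (Fin 3) (ZMod 2)) j ((fun i => i) ⟨2, by decide⟩)) =
          ![e, 1, 1] by rcases (show ∀ r : ZMod 2, r = 0 ∨ r = 1 by decide) e with rfl | rfl <;> decide, emb_eq P (Pi.single 2 1), b2]
        exact he
    rcases (show ∀ r : ZMod 2, r = 0 ∨ r = 1 by decide) e with rfl | rfl
    · exact ⟨_, hθ (by decide) (by decide)⟩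
    · refine ⟨⟨(P.mω : G), hmN⟩ * t, ?_⟩
      rw [map_mul, hθ (by decide) (by decide), ht]
      exact Subtype.ext (by decide +kernel)
  refine ⟨m, t, ⟨y, hyN⟩, hm, ht, ?_⟩
  obtain ⟨e, he⟩ : ∃ e : ZMod 2, y * ((P.x' : ↥(centralizer ({z} : Set G))) : G) * y⁻¹ = P.emb (Multiplicative.ofAdd ![0, e, 1]) := by
    rcases P.X2s.conj_cases hy (P.V_le_Qs P.x'_mem_V) with e | e
    · refine ⟨0, ?_⟩
      rw [e, emb_eq, show (![0, 0, 1] : Fin 3 → ZMod 2) = Pi.single 2 1 by decide, b2]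
    · refine ⟨1, ?_⟩
      rw [e, emb_eq, b11]; rfl
  have hd : (!![1, 0, 0; 1, 1, e; 0, 0, 1] : Matrix (Fin 3) (Fin 3) (ZMod 2)).det = 1 := by rcases (show ∀ r : ZMod 2, r = 0 ∨ r = 1 by decide) e with rfl | rfl <;> decide
  refine ⟨e, hd, P.θ_eq _ _ ?_⟩
  intro i
  fin_cases i
  · show y * P.emb (Multiplicative.ofAdd (Pi.single 0 1)) * y⁻¹ = _
    rw [show (fun j => (!![1, 0, 0; 1, 1, e; 0, 0, 1] : Matrix (Fin 3) (Fin 3) (ZMod 2)) j ((fun i => i) ⟨0, by decide⟩)) =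
      ![1, 1, 0] by rcases (show ∀ r : ZMod 2, r = 0 ∨ r = 1 by decide) e with rfl | rfl <;> decide, emb_eq, b0, c.zv, hyz, emb_eq, b10, Subgroup.coe_mul, Subgroup.coe_mul, c.zv, hxc]
  · show y * P.emb (Multiplicative.ofAdd (Pi.single 1 1)) * y⁻¹ = _
    rw [show (fun j => (!![1, 0, 0; 1, 1, e; 0, 0, 1] : Matrix (Fin 3) (Fin 3) (ZMod 2)) j ((fun i => i) ⟨1, by decide⟩)) =
      Pi.single 1 1 by rcases (show ∀ r : ZMod 2, r = 0 ∨ r = 1 by decide) e with rfl | rfl <;> decide, emb_eq, b1]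
    exact mul_inv_eq_iff_eq_mul.mpr (P.X2s.central _ hy).eq
  · show y * P.emb (Multiplicative.ofAdd (Pi.single 2 1)) * y⁻¹ = _
    rw [show (fun j => (!![1, 0, 0; 1, 1, e; 0, 0, 1] : Matrix (Fin 3) (Fin 3) (ZMod 2)) j ((fun i => i) ⟨2, by decide⟩)) =
      ![0, e, 1] by rcases (show ∀ r : ZMod 2, r = 0 ∨ r = 1 by decide) e with rfl | rfl <;> decide, emb_eq P (Pi.single 2 1), b2]
    exact he

theorem θ_surjective : Function.Surjective P.θ := by
  obtain ⟨m, t, y, hm, ht, e, he, hy⟩ := P.θ_gens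
  have h3 : orderOf (P.θ m) = 3 := by
    haveI : Fact (Nat.Prime 3) := ⟨by norm_num⟩
    rw [hm]
    exact orderOf_eq_prime (Subtype.ext (by decide +kernel)) fun h => by
      have h' := congrArg (fun A : L32 => (A : Matrix (Fin 3) (Fin 3) (ZMod 2))) h
      revert h'; decide +kernel
  have h7 : orderOf (P.θ (m * t * y)) = 7 := by
    rw [map_mul, map_mul, hm, ht, hy]; exact (l32_orders e he _ _).1
  have h4 : orderOf (P.θ (t * y)) = 4 := by
    rw [map_mul, ht, hy]; exact (l32_orders e he (by decide) (by decide)).2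
  have hd : ∀ n : ↥P.N, orderOf (P.θ n) ∣ Nat.card ↥P.θ.range := fun n =>
    ((Subgroup.orderOf_coe (⟨P.θ n, n, rfl⟩ : ↥P.θ.range)).symm ▸ orderOf_dvd_natCard (⟨P.θ n, n, rfl⟩ : ↥P.θ.range))
  have h84 : 84 ∣ Nat.card ↥P.θ.range := by
    have h12 : 12 ∣ Nat.card ↥P.θ.range :=
      Nat.Coprime.mul_dvd_of_dvd_of_dvd (by norm_num : Nat.Coprime 3 4) ((dvd_of_eq h3.symm).trans (hd m)) ((dvd_of_eq h4.symm).trans (hd (t * y)))
    exact Nat.Coprime.mul_dvd_of_dvd_of_dvd (by norm_num : Nat.Coprime 12 7) h12 ((dvd_of_eq h7.symm).trans (hd (m * t * y)))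
  have hmul := P.θ.range.card_mul_index
  rw [card_L32] at hmul
  obtain ⟨k, hk⟩ := h84
  rw [hk] at hmul
  have hidx : P.θ.range.index = 1 ∨ P.θ.range.index = 2 := by
    rcases k with _ | _ | _ | k
    · simp at hmul
    · right; omega
    · left; omega
    · exfalso
      have : 0 < P.θ.range.index := Nat.pos_of_ne_zero fun h => by rw [h] at hmul; simp at hmul
      nlinarith
  rcases hidx with h | h
  · exact MonoidHom.range_eq_top.mp (index_eq_one.mp h)
  · exfalso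
    haveI := simple_L32
    haveI : P.θ.range.Normal := normal_of_index_eq_two h
    rcases IsSimpleGroup.eq_bot_or_eq_top_of_normal P.θ.range inferInstance with hb | hb
    · rw [hb, index_bot, card_L32] at h; norm_num at h
    · rw [hb, index_top] at h; norm_num at h

theorem card_N : Nat.card ↥P.N = 168 * (360 * 2 ^ 15) := by
  have h := card_eq_card_quotient_mul_card_subgroup P.θ.ker
  rw [Nat.card_congr (QuotientGroup.quotientKerEquivOfSurjective P.θ P.θ_surjective).toEquiv, card_L32, P.θ_ker,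
    Nat.card_congr (subgroupOfEquivOfLe (K := P.N) (Subgroup.centralizer_le_normalizer _)).toEquiv,
    ← Nat.card_congr (subgroupOfEquivOfLe P.cen_le).toEquiv] at h
  rw [h]
  congr 1
  exact P.C_card

/-- The radical in the group. -/
noncomputable def RG : Subgroup G := P.R.map (centralizer ({z} : Set G)).subtype

theorem RG_le : P.RG ≤ centralizer (P.V : Set G) := by
  rintro _ ⟨r, hr, rfl⟩
  exact mem_subgroupOf.mp (P.R_le hr)

theorem RG_le_N : P.RG ≤ P.N := P.RG_le.trans (Subgroup.centralizer_le_normalizer _)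

theorem RG_card : Nat.card ↥P.RG = 2 ^ 15 := by
  rw [RG, card_map_of_injective (centralizer ({z} : Set G)).subtype_injective, P.R_card]

theorem RG_isP : IsPGroup 2 ↥P.RG := P.R_isP.map _

/-- Normal two-subgroups of the centraliser lie in the radical. -/
theorem le_R {S : Subgroup ↥P.C} [S.Normal] (hS : IsPGroup 2 ↥S) : S ≤ P.R.subgroupOf P.C := by
  haveI := P.R_normal
  obtain ⟨e⟩ := P.C_quot
  haveI : IsSimpleGroup (↥P.C ⧸ P.R.subgroupOf P.C) := by
    haveI : IsSimpleGroup ↥(alternatingGroup (Fin 6)) := alternatingGroup.isSimpleGroup (by simp)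
    exact e.isSimpleGroup
  haveI : (S.map (QuotientGroup.mk' (P.R.subgroupOf P.C))).Normal :=
    ‹S.Normal›.map _ (QuotientGroup.mk'_surjective _)
  rcases IsSimpleGroup.eq_bot_or_eq_top_of_normal (S.map (QuotientGroup.mk' (P.R.subgroupOf P.C))) inferInstance with h | h
  · rwa [Subgroup.map_eq_bot_iff, QuotientGroup.ker_mk'] at h
  · exfalso
    haveI : Fact (Nat.Prime 2) := ⟨Nat.prime_two⟩
    obtain ⟨k, hk⟩ := IsPGroup.iff_card.mp (hS.map (QuotientGroup.mk' (P.R.subgroupOf P.C)))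
    rw [h, card_top, Nat.card_congr e.toEquiv, nat_card_alternatingGroup, Nat.card_fin] at hk
    have h3 : 3 ∣ 2 ^ k := hk ▸ (show 3 ∣ Nat.factorial 6 / 2 from by decide)
    exact absurd ((Nat.prime_three).dvd_of_dvd_pow h3) (by norm_num)

theorem RG_normal : (P.RG.subgroupOf P.N).Normal := by
  refine ⟨fun r hr n => ?_⟩
  rw [mem_subgroupOf] at hr ⊢
  obtain ⟨r', hr', hrr⟩ := hr
  haveI := P.R_normal
  -- conjugation maps the centraliser to itself
  have hC : ∀ h : ↥(centralizer ({z} : Set G)), h ∈ P.C → (n : G) * (h : G) * (n : G)⁻¹ ∈ centralizer (P.V : Set G) := by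
    intro h hh
    have hn : (centralizer (P.V : Set G)).subgroupOf P.N = P.θ.ker := P.θ_ker.symm
    have hhN : (h : G) ∈ P.N := Subgroup.centralizer_le_normalizer _ (mem_subgroupOf.mp hh)
    have h1 : (⟨(h : G), hhN⟩ : ↥P.N) ∈ P.θ.ker := hn ▸ (mem_subgroupOf.mpr (mem_subgroupOf.mp hh))
    have h2 := (MonoidHom.normal_ker P.θ).conj_mem _ h1 n
    rw [← hn] at h2
    exact mem_subgroupOf.mp h2
  let ψ : ↥P.C →* ↥P.C := MonoidHom.mk' (fun h => ⟨⟨_, P.cen_le (hC _ h.2)⟩, mem_subgroupOf.mpr (hC _ h.2)⟩) fun a b => by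
    refine Subtype.ext (Subtype.ext ?_)
    show (n : G) * ((a : ↥(centralizer ({z} : Set G))) * (b : ↥(centralizer ({z} : Set G))) : G) * (n : G)⁻¹ = _
    show _ = ((n : G) * _ * (n : G)⁻¹) * ((n : G) * _ * (n : G)⁻¹)
    group
  have hψ : Function.Bijective ψ := by
    refine Finite.injective_iff_bijective.mp fun a b h => Subtype.ext (Subtype.ext ?_)
    exact mul_left_cancel (mul_right_cancel (congrArg (fun w : ↥P.C => ((w : ↥(centralizer ({z} : Set G))) : G)) h))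
  haveI : ((P.R.subgroupOf P.C).map ψ).Normal := P.R_normal.map _ hψ.2
  have h := P.le_R ((IsPGroup.of_equiv P.R_isP (subgroupOfEquivOfLe P.R_le).symm).map ψ)
    (mem_map_of_mem ψ (show (⟨r', P.R_le hr'⟩ : ↥P.C) ∈ P.R.subgroupOf P.C from hr'))
  refine ⟨_, mem_subgroupOf.mp h, ?_⟩
  show (n : G) * (r' : G) * (n : G)⁻¹ = ((n * r * n⁻¹ : ↥P.N) : G)
  rw [Subgroup.coe_mul, Subgroup.coe_mul, Subgroup.coe_inv, ← hrr]
  rfl

theorem quot_iso : ∃ _ : (P.RG.subgroupOf P.N).Normal,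
    Nonempty (↥P.N ⧸ P.RG.subgroupOf P.N ≃* L32 × ↥(alternatingGroup (Fin 6))) := by
  haveI := P.RG_normal
  haveI := P.R_normal
  refine ⟨P.RG_normal, ?_⟩
  set K := P.RG.subgroupOf P.N with hK
  have hKle : K ≤ P.θ.ker := by
    intro k hk
    rw [P.θ_ker, mem_subgroupOf]
    exact P.RG_le (mem_subgroupOf.mp hk)
  let θ' : ↥P.N ⧸ K →* L32 := QuotientGroup.lift K P.θ hKle
  have hθ' : Function.Surjective θ' := fun a => by
    obtain ⟨n, rfl⟩ := P.θ_surjective a
    exact ⟨QuotientGroup.mk n, rfl⟩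
  -- the kernel
  let j : ↥P.C →* ↥P.N ⧸ K := (QuotientGroup.mk' K).comp
    (((centralizer ({z} : Set G)).subtype.comp P.C.subtype).codRestrict P.N fun h =>
      Subgroup.centralizer_le_normalizer _ (mem_subgroupOf.mp h.2))
  have hjker : j.ker = P.R.subgroupOf P.C := by
    ext h
    rw [MonoidHom.mem_ker, mem_subgroupOf]
    refine (QuotientGroup.eq_one_iff _).trans ?_
    rw [hK, mem_subgroupOf]
    exact Subgroup.mem_map_iff_mem (centralizer ({z} : Set G)).subtype_injective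
  have hjr : j.range = θ'.ker := by
    refine le_antisymm ?_ fun a ha => ?_
    · rintro _ ⟨h, rfl⟩
      show P.θ _ = 1
      refine MonoidHom.mem_ker.mp ?_
      rw [P.θ_ker, mem_subgroupOf]
      exact mem_subgroupOf.mp h.2
    · induction a using QuotientGroup.induction_on with
      | H n =>
        have h1 : n ∈ P.θ.ker := ha
        rw [P.θ_ker, mem_subgroupOf] at h1
        exact ⟨⟨⟨n, P.cen_le h1⟩, mem_subgroupOf.mpr h1⟩, rfl⟩
  obtain ⟨eC⟩ := P.C_quot
  let eA : ↥θ'.ker ≃* ↥(alternatingGroup (Fin 6)) :=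
    (MulEquiv.subgroupCongr hjr).symm.trans ((QuotientGroup.quotientKerEquivRange j).symm.trans
      ((QuotientGroup.quotientMulEquivOfEq hjker).trans eC))
  set Z := centralizer (θ'.ker : Set (↥P.N ⧸ K)) with hZ
  haveI : Z.Normal := inferInstance
  have hAZ : θ'.ker ⊓ Z = ⊥ := by
    refine (eq_bot_iff_forall _).mpr fun a ha => ?_
    haveI : IsSimpleGroup ↥(alternatingGroup (Fin 6)) := alternatingGroup.isSimpleGroup (by simp)
    have hc : eA ⟨a, ha.1⟩ ∈ center ↥(alternatingGroup (Fin 6)) := mem_center_iff.mpr fun b => by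
      obtain ⟨b, rfl⟩ := eA.surjective b
      rw [← map_mul, ← map_mul]
      exact congrArg eA (Subtype.ext (mem_centralizer_iff.mp ha.2 _ b.2))
    rw [alternatingGroup.center_eq_bot (by simp : 4 ≤ Nat.card (Fin 6)), mem_bot] at hc
    exact congrArg Subtype.val (eA.injective (hc.trans eA.map_one.symm))
  have hZs : Function.Surjective (θ'.comp Z.subtype) := by
    haveI := simple_L32
    rw [← MonoidHom.range_eq_top, MonoidHom.range_comp, range_subtype]
    haveI : (Z.map θ').Normal := (inferInstance : Z.Normal).map _ hθ'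
    refine (IsSimpleGroup.eq_bot_or_eq_top_of_normal (Z.map θ') inferInstance).resolve_left fun hb => ?_
    rw [Subgroup.map_eq_bot_iff] at hb
    haveI : Fact (Nat.Prime 7) := ⟨by norm_num⟩
    have h7 : 7 ∣ Nat.card (↥P.N ⧸ K) := by
      have h := card_eq_card_quotient_mul_card_subgroup θ'.ker
      rw [Nat.card_congr (QuotientGroup.quotientKerEquivOfSurjective θ' hθ').toEquiv, card_L32] at h
      exact h ▸ Dvd.dvd.mul_right (by norm_num) _
    obtain ⟨y, hy⟩ := exists_prime_orderOf_dvd_card' 7 h7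
    have hφ : MulAut.congr eA (MulAut.conjNormal (H := θ'.ker) y) = 1 := by
      refine alt_no_seven _ ?_
      rw [← map_pow, ← map_pow, ← hy, pow_orderOf_eq_one, map_one, map_one]
    have hyZ : y ∈ Z := mem_centralizer_iff.mpr fun a ha => by
      have h := congrArg (fun φ : MulAut ↥θ'.ker => ((φ ⟨a, ha⟩ : ↥θ'.ker) : ↥P.N ⧸ K))
        ((MulAut.congr eA).injective (hφ.trans (map_one _).symm))
      simp only [MulAut.conjNormal_apply, MulAut.one_apply] at h
      exact (mul_inv_eq_iff_eq_mul.mp h).symm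
    have hy1 : (⟨y, hb hyZ⟩ : ↥θ'.ker) ^ 7 = 1 := Subtype.ext (by
      rw [SubmonoidClass.coe_pow, ← hy, pow_orderOf_eq_one]; rfl)
    have hd := orderOf_dvd_natCard (⟨y, hb hyZ⟩ : ↥θ'.ker)
    rw [← Subgroup.orderOf_coe, hy, Nat.card_congr eA.toEquiv, nat_card_alternatingGroup, Nat.card_fin] at hd
    exact absurd hd (by decide)
  -- the product
  let f : ↥θ'.ker × ↥Z →* ↥P.N ⧸ K := MonoidHom.noncommCoprod θ'.ker.subtype Z.subtype fun a b =>
    mem_centralizer_iff.mp b.2 _ a.2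
  have hf : Function.Bijective f := by
    constructor
    · refine (injective_iff_map_eq_one f).mpr fun ⟨a, b⟩ h => ?_
      change (a : ↥P.N ⧸ K) * (b : ↥P.N ⧸ K) = 1 at h
      have hab : (a : ↥P.N ⧸ K) ∈ θ'.ker ⊓ Z := ⟨a.2, eq_inv_of_mul_eq_one_left h ▸ Z.inv_mem b.2⟩
      rw [hAZ, mem_bot] at hab
      rw [hab, one_mul] at h
      exact Prod.ext (Subtype.ext hab) (Subtype.ext h)
    · intro a
      obtain ⟨b, hb⟩ := hZs (θ' a)
      refine ⟨(⟨a * (b : ↥P.N ⧸ K)⁻¹, ?_⟩, b), ?_⟩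
      · rw [MonoidHom.mem_ker, map_mul, map_inv, show θ' (b : ↥P.N ⧸ K) = θ' a from hb, mul_inv_cancel]
      · exact inv_mul_cancel_right a _
  have hZi : Function.Injective (θ'.comp Z.subtype) := (injective_iff_map_eq_one _).mpr fun b hb => by
    have h : (b : ↥P.N ⧸ K) ∈ θ'.ker ⊓ Z := ⟨hb, b.2⟩
    rw [hAZ, mem_bot] at h
    exact Subtype.ext h
  exact ⟨((MulEquiv.ofBijective f hf).symm.trans (eA.prodCongr (MulEquiv.ofBijective _ ⟨hZi, hZs⟩))).trans MulEquiv.prodComm⟩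

theorem RG_eq_core : P.RG = (Cfsg.pCore 2 ↥P.N).map P.N.subtype := by
  haveI := P.RG_normal
  haveI := P.R_normal
  have hR : P.RG.subgroupOf P.N = Cfsg.pCore 2 ↥P.N := by
    refine le_antisymm (le_sSup ⟨P.RG_normal, IsPGroup.of_equiv P.RG_isP (subgroupOfEquivOfLe P.RG_le_N).symm⟩) ?_
    refine sSup_le ?_
    rintro S ⟨hSn, hS⟩
    haveI := hSn
    haveI := simple_L32
    haveI : (S.map P.θ).Normal := hSn.map _ P.θ_surjective
    have hker : S ≤ P.θ.ker := by
      rcases IsSimpleGroup.eq_bot_or_eq_top_of_normal (S.map P.θ) inferInstance with h | h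
      · rwa [Subgroup.map_eq_bot_iff] at h
      · exfalso
        haveI : Fact (Nat.Prime 2) := ⟨Nat.prime_two⟩
        obtain ⟨k, hk⟩ := IsPGroup.iff_card.mp (hS.map P.θ)
        rw [h, card_top, card_L32] at hk
        exact absurd ((Nat.prime_three).dvd_of_dvd_pow (hk ▸ (by norm_num : 3 ∣ 168))) (by norm_num)
    let i : ↥P.C →* ↥P.N := ((centralizer ({z} : Set G)).subtype.comp P.C.subtype).codRestrict P.N fun h =>
      Subgroup.centralizer_le_normalizer _ (mem_subgroupOf.mp h.2)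
    have hi : Function.Injective i := fun a b h => Subtype.ext (Subtype.ext (congrArg Subtype.val h :))
    haveI : (S.comap i).Normal := hSn.comap i
    have h2 : IsPGroup 2 ↥(S.comap i) := hS.comap_of_injective i hi
    intro s hs
    have hsC : (s : G) ∈ centralizer (P.V : Set G) := by
      have h := hker hs
      rwa [P.θ_ker, mem_subgroupOf] at h
    have h3 := P.le_R h2 (show (⟨⟨(s : G), P.cen_le hsC⟩, mem_subgroupOf.mpr hsC⟩ : ↥P.C) ∈ S.comap i from hs)
    rw [mem_subgroupOf]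
    exact ⟨_, mem_subgroupOf.mp h3, rfl⟩
  rw [← hR, subgroupOf_map_subtype, inf_of_le_left P.RG_le_N]

theorem V_le_RG : P.V ≤ P.RG := fun w hw => by
  obtain ⟨y, hy, rfl⟩ := P.mem_V.mp hw
  exact ⟨_, Subgroup.mem_sup_right (P.Vh_le (P.mem_Vh hy)), rfl⟩

theorem RG_special : Cfsg.IsSpecial 2 ↥P.RG ∧ (center ↥P.RG).map P.RG.subtype = P.V := by
  haveI : Fact (Nat.Prime 2) := ⟨Nat.prime_two⟩
  obtain ⟨hsq, hcomm⟩ := P.R_elementary
  have hcen : center ↥P.RG = P.V.subgroupOf P.RG := by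
    refine le_antisymm ?_ fun w hw => mem_center_iff.mpr fun r => Subtype.ext
      (mem_centralizer_iff.mp (P.RG_le r.2) _ (mem_subgroupOf.mp hw)).symm
    rintro ⟨_, r, hr, rfl⟩ hc
    rw [mem_subgroupOf]
    exact mem_subgroupOf.mp (P.R_center hr fun s hs => Subtype.ext
      (congrArg Subtype.val (mem_center_iff.mp hc ⟨_, s, hs, rfl⟩)).symm)
  have hle : commutator ↥P.RG ≤ P.V.subgroupOf P.RG := by
    rw [commutator_def, Subgroup.commutator_le]
    rintro ⟨_, a, ha, rfl⟩ - ⟨_, b, hb, rfl⟩ -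
    rw [mem_subgroupOf, commutatorElement_def]
    exact mem_subgroupOf.mp (hcomm a ha b hb)
  -- the commutator subgroup is invariant under the normaliser
  haveI := P.RG_normal
  set D := (commutator ↥P.RG).map P.RG.subtype with hD
  have hDinv : ∀ n ∈ P.N, ∀ d ∈ D, n * d * n⁻¹ ∈ D := by
    intro n hn d hd
    have hconj : P.RG.map (MulAut.conj n).toMonoidHom ≤ P.RG := by
      rintro _ ⟨r, hr, rfl⟩
      exact mem_subgroupOf.mp (P.RG_normal.conj_mem ⟨r, P.RG_le_N hr⟩ (mem_subgroupOf.mpr hr) ⟨n, hn⟩)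
    have h : D.map (MulAut.conj n).toMonoidHom ≤ D := by
      rw [hD, commutator_def, Subgroup.map_commutator, ← MonoidHom.range_eq_map, range_subtype, Subgroup.map_commutator]
      exact Subgroup.commutator_mono hconj hconj
    exact h (mem_map_of_mem _ hd)
  have hzD : z ∈ D := by
    obtain ⟨a, b, ha, hb, hab⟩ := P.CQ_not_comm
    refine ⟨⁅(⟨_, _, ha, rfl⟩ : ↥P.RG), ⟨_, _, hb, rfl⟩⁆, commutator_mem_commutator (mem_top _) (mem_top _), ?_⟩
    exact (congrArg (fun w : ↥(centralizer ({z} : Set G)) => (w : G)) hab).trans c.zv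
  obtain ⟨m, t, y, hm, ht, e, he, hy⟩ := P.θ_gens
  have htrans : ∀ a : Fin 3 → ZMod 2, P.emb (Multiplicative.ofAdd a) ∈ D := by
    intro a
    rcases eq_or_ne a 0 with rfl | ha
    · exact (map_one P.emb).symm ▸ one_mem D
    obtain ⟨A, hA⟩ := l32_trans a ha
    obtain ⟨n, hn⟩ := P.θ_surjective A
    have h1 : P.act3 n (Pi.single 0 1) = a := by
      rw [← mat_mulVec, show P.mat n = (A : Matrix (Fin 3) (Fin 3) (ZMod 2)) from congrArg Subtype.val hn, hA]
    have h2 := P.act3_spec n (Pi.single 0 1)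
    rw [h1, emb_eq P (Pi.single 0 1), P.comb_basis.1, c.zv] at h2
    rw [h2]
    exact hDinv _ n.2 _ hzD
  have heq : commutator ↥P.RG = P.V.subgroupOf P.RG := by
    refine le_antisymm hle ?_
    rintro ⟨w, hw⟩ hwV
    obtain ⟨a, ha⟩ := mem_subgroupOf.mp hwV
    obtain ⟨d, hd, hdw⟩ := htrans a.toAdd
    obtain rfl : d = ⟨w, hw⟩ := Subtype.ext (hdw.trans ha)
    exact hd
  refine ⟨⟨P.RG_isP, ?_, heq.trans hcen.symm⟩, ?_⟩
  · haveI : (P.V.subgroupOf P.RG).Normal := hcen ▸ (inferInstance : (center ↥P.RG).Normal)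
    refine le_antisymm ?_ (hcen.le.trans (heq.symm.le.trans (Cfsg.Lib.PGroups.commutator_le_frattini P.RG_isP)))
    rw [hcen]
    refine Cfsg.Lib.PGroups.SpecialCoprime.frattini_le_of_elementary (p := 2) _ ?_ hle
    rintro ⟨_, r, hr, rfl⟩
    rw [mem_subgroupOf, pow_two]
    exact mem_subgroupOf.mp (hsq r hr)
  · rw [hcen, subgroupOf_map_subtype, inf_of_le_left P.V_le_RG]

/-- The local subgroup. -/
theorem eight_local (hz : ∃ g : G, (∃ hq : g * z * g⁻¹ ∈ centralizer ({z} : Set G),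
      (⟨g * z * g⁻¹, hq⟩ : centralizer ({z} : Set G)) ∈ Q) ∧ g * z * g⁻¹ ≠ z) (c : Ctx z Q) :
    ∃ V : Subgroup G, Cfsg.IsElementaryAbelian 2 V ∧ Nat.card V = 8 ∧ z ∈ V ∧ ∃ R : Subgroup G,
      R = (Cfsg.pCore 2 ↥(normalizer (V : Set G))).map (normalizer (V : Set G)).subtype ∧ Cfsg.IsSpecial 2 ↥R ∧
      Nat.card R = 2 ^ 15 ∧ (center ↥R).map R.subtype = V ∧
      ∃ _ : (R.subgroupOf (normalizer (V : Set G))).Normal,
        Nonempty (↥(normalizer (V : Set G)) ⧸ R.subgroupOf (normalizer (V : Set G)) ≃* L32 × ↥(alternatingGroup (Fin 6))) := by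
  obtain ⟨P⟩ := c.exists_linePt hz
  exact ⟨P.V, P.V_elementary, P.V_card, P.z_mem, P.RG, P.RG_eq_core, P.RG_special.1, P.RG_card, P.RG_special.2, P.quot_iso⟩

end Ctx.LinePt

end Cfsg.Lib.LargeFischer
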