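import Cfsg.Agent.LargeFischer.DuadModel

/-!
The centraliser of a member of the second class of a sextet setting normalises the elementary abelian subgroup,
once this holds inside the centraliser of each member of the first class.
-/

set_option autoImplicit false
set_option maxRecDepth 100000
set_option maxHeartbeats 1000000
set_option linter.unusedSectionVars false
set_option linter.style.haveILetI false

namespace Cfsg.Lib.LargeFischer

open Subgroup

universe u

namespace Sextet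

variable {G : Type u} [Group G] [Finite G] {z : G} (D : Sextet G z)

namespace Model

variable {D} (M : D.Model)

attribute [local instance] Model.fintype Model.deceq

theorem sqf (a : M.Pt) : M.f a * M.f a = 1 := D.sq _ (M.mem a)

theorem cancel (a : M.Pt) (x : G) : M.f a * (M.f a * x) = x := by rw [← mul_assoc, M.sqf, one_mul]

theorem comm (a b : M.Pt) : M.f a * M.f b = M.f b * M.f a := D.commA (M.mem a) (M.mem b)

theorem shift (a b c : M.Pt) : M.f a * M.f b * (M.f a * M.f c) = M.f b * M.f c := by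
  rw [← mul_assoc, mul_assoc (M.f a), M.comm b a, M.cancel]

/-- A neighbour of a pair shares one point with it, up to translation by the pair. -/
theorem adj {a b : M.Pt} (hab : a ≠ b) {u : G} (hu : u ∈ D.T) (htu : M.f a * M.f b * u ∈ D.T) :
    ∃ c, c ≠ a ∧ c ≠ b ∧ (u = M.f a * M.f c ∨ M.f a * M.f b * u = M.f a * M.f c) := by
  have hsame : M.f a * M.f b * (M.f a * M.f b) = 1 := by rw [M.shift, M.sqf]
  obtain ⟨p, q, hpq, rfl⟩ := M.surj u hu
  by_cases hpa : p = a
  · subst hpa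
    exact ⟨q, hpq.symm, fun e => htu.2.1 (by rw [e]; exact hsame), Or.inl rfl⟩
  by_cases hqa : q = a
  · subst hqa
    exact ⟨p, hpq, fun e => htu.2.1 (by rw [e, M.comm b q]; exact hsame), Or.inl (M.comm _ _)⟩
  by_cases hpb : p = b
  · subst hpb
    exact ⟨q, hqa, hpq.symm, Or.inr (by rw [mul_assoc, M.cancel])⟩
  by_cases hqb : q = b
  · subst hqb
    exact ⟨p, hpa, hpq, Or.inr (by rw [M.comm p q, mul_assoc, M.cancel])⟩
  exact absurd (M.four a b p q hab hpq (Ne.symm hpa) (Ne.symm hqa) (Ne.symm hpb) (Ne.symm hqb)).2 htu.2.2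

end Model

/-- In one of the two senses a member belongs to the first class with respect to `t`. -/
def RT (t u : G) : Prop := IsConj z u ∨ IsConj z (t * u)

theorem U_of_not {t u : G} (ht : t ∈ D.T) (hu : u ∈ D.A) (h1 : u ≠ 1) (hut : u ≠ t) (hR : ¬ RT (z := z) t u) :
    u ∈ D.T ∧ t * u ∈ D.T := by
  simp only [RT, not_or] at hR
  refine ⟨⟨hu, h1, hR.1⟩, mul_mem ht.1 hu, fun e => hut ?_, hR.2⟩
  rw [← D.inv_eq ht.1]
  exact eq_inv_of_mul_eq_one_right e

theorem R_mul {t u u' : G} (ht : t ∈ D.T) (hu : u ∈ D.T) (htu : t * u ∈ D.T) (hu' : u' ∈ D.T) (htu' : t * u' ∈ D.T)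
    (hne : u' ≠ u) (hne' : u' ≠ t * u) : RT (z := z) t (u * u') := by
  obtain ⟨M⟩ := D.exists_model
  obtain ⟨a, b, hab, rfl⟩ := M.surj t ht
  set t := M.f a * M.f b with htdef
  have key : ∀ c d, c ≠ a → c ≠ b → d ≠ a → d ≠ b → c ≠ d → IsConj z (t * (M.f a * M.f c * (M.f a * M.f d))) :=
    fun c d h1 h2 h3 h4 h5 => by
      rw [M.shift]
      exact (M.four a b c d hab h5 h1.symm h3.symm h2.symm h4.symm).2
  have hcan : ∀ x, t * (t * x) = x := fun x => D.mul_mul_cancel ht.1 x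
  obtain ⟨c, hca, hcb, ec⟩ := M.adj hab hu htu
  obtain ⟨d, hda, hdb, ed⟩ := M.adj hab hu' htu'
  rw [← htdef] at ec ed
  have hA : ∀ x ∈ D.A, ∀ y ∈ D.A, t * (t * x * y) = x * y := fun x _ y _ => by rw [← mul_assoc, hcan]
  by_cases hcd : c = d
  · subst hcd
    rcases ec with e | e <;> rcases ed with e' | e'
    · exact absurd (e'.trans e.symm) hne
    · exact absurd (by rw [← hcan u', e', ← e] : u' = t * u) hne'
    · exact absurd (e'.trans e.symm) hne'
    · exact absurd (mul_left_cancel (e'.trans e.symm)) hne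
  have h := key c d hca hcb hda hdb hcd
  rcases ec with e | e <;> rcases ed with e' | e' <;> rw [← e, ← e'] at h
  · exact Or.inr h
  · exact Or.inl ((show t * (u * (t * u')) = u * u' by
      rw [← mul_assoc u, D.commA hu.1 ht.1, mul_assoc t u u', hcan]) ▸ h)
  · exact Or.inl ((hA u hu.1 u' hu'.1) ▸ h)
  · exact Or.inr ((show t * (t * u * (t * u')) = t * (u * u') by
      rw [hA u hu.1 _ (mul_mem ht.1 hu'.1), ← mul_assoc u, D.commA hu.1 ht.1, mul_assoc]) ▸ h)

/-- A member of the first class adjacent to a pair and to both pairs meeting it in a given point. -/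
theorem pick {t u : G} (ht : t ∈ D.T) (hu : u ∈ D.T) (htu : t * u ∈ D.T) :
    ∃ v ∈ D.Z, t * v ∈ D.T ∧ u * v ∈ D.T ∧ t * u * v ∈ D.T := by
  obtain ⟨M⟩ := D.exists_model
  letI := M.fintype
  letI := M.deceq
  obtain ⟨a, b, hab, rfl⟩ := M.surj t ht
  obtain ⟨c, hca, hcb, ec⟩ := M.adj hab hu htu
  obtain ⟨d, -, hd⟩ := Finset.exists_mem_notMem_of_card_lt_card (s := ({a, b, c} : Finset M.Pt)) (t := Finset.univ) (by
    refine lt_of_le_of_lt Finset.card_le_three ?_
    rw [Finset.card_univ, M.card]; norm_num)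
  simp only [Finset.mem_insert, Finset.mem_singleton, not_or] at hd
  obtain ⟨hda, hdb, hdc⟩ := hd
  set t := M.f a * M.f b with htdef
  refine ⟨t * (M.f c * M.f d), M.four a b c d hab (Ne.symm hdc) hca.symm (Ne.symm hda) hcb.symm (Ne.symm hdb), ?_⟩
  have hcd : M.f c * M.f d ∈ D.A := mul_mem (M.mem c) (M.mem d)
  have hcan : ∀ x, t * (t * x) = x := fun x => D.mul_mul_cancel ht.1 x
  have e1 : M.f a * M.f c * (M.f c * M.f d) = M.f a * M.f d := by rw [M.comm a c, M.shift]
  have e2 : t * (M.f a * M.f d) = M.f b * M.f d := M.shift a b d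
  refine ⟨by rw [hcan]; exact M.pair c d (Ne.symm hdc), ?_⟩
  have hs : ∀ x ∈ D.A, x = M.f a * M.f c → x * (t * (M.f c * M.f d)) ∈ D.T ∧ t * x * (t * (M.f c * M.f d)) ∈ D.T := by
    intro x hx e
    constructor
    · rw [← mul_assoc, D.commA hx ht.1, mul_assoc, e, e1, e2]
      exact M.pair b d (Ne.symm hdb)
    · rw [D.commA ht.1 hx, mul_assoc, hcan, e, e1]
      exact M.pair a d (Ne.symm hda)
  rcases ec with e | e
  · exact hs u hu.1 e
  · obtain ⟨p1, p2⟩ := hs (t * u) (mul_mem ht.1 hu.1) e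
    rw [hcan] at p2
    exact ⟨p2, p1⟩

/-- Two commuting involutions of the normaliser that differ modulo the subgroup: one of them moves a fixed vector of
the other by a member of the first class. -/
theorem pair_good {g h : G} (hg : g ∈ normalizer (D.A : Set G)) (hh : h ∈ normalizer (D.A : Set G))
    (hg2 : g * g = 1) (hh2 : h * h = 1) (hgh : Commute g h) (hne : g * h ∉ D.A) :
    ∃ c ∈ D.A, (h * c * h⁻¹ = c ∧ IsConj z (g * c * g⁻¹ * c)) ∨ (g * c * g⁻¹ = c ∧ IsConj z (h * c * h⁻¹ * c)) := by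
  obtain ⟨M⟩ := D.exists_model
  letI := M.fintype
  letI := M.deceq
  classical
  by_contra! hcon
  let gg : ↥(normalizer (D.A : Set G)) := ⟨g, hg⟩
  let hh' : ↥(normalizer (D.A : Set G)) := ⟨h, hh⟩
  have bad : ∀ (g h : ↥(normalizer (D.A : Set G))),
      (∀ c ∈ D.A, (h : G) * c * (h : G)⁻¹ = c → ¬ IsConj z ((g : G) * c * (g : G)⁻¹ * c)) →
      ∀ a b, a ≠ b → (M.σ h a = a ∧ M.σ h b = b ∨ M.σ h a = b ∧ M.σ h b = a) →
        M.σ g a ≠ a → M.σ g a ≠ b → M.σ g b ≠ a → M.σ g b ≠ b → False := by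
    intro g h hb a b hab hc h1 h2 h3 h4
    refine hb (M.f a * M.f b) (mul_mem (M.mem a) (M.mem b)) ?_ ?_
    · rw [M.equiv h a b hab]
      rcases hc with ⟨e1, e2⟩ | ⟨e1, e2⟩ <;> rw [e1, e2]
      exact M.comm b a
    · rw [M.equiv g a b hab]
      exact (M.four _ _ a b (fun e => hab ((M.σ g).injective e)) hab h1 h2 h3 h4).2
  have hinv : ∀ {g : ↥(normalizer (D.A : Set G))}, (g : G) * g = 1 → ∀ x, M.σ g (M.σ g x) = x := fun {g} e x => by
    show (M.σ g * M.σ g) x = x
    rw [← map_mul, show g * g = 1 from Subtype.ext e, map_one]; rfl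
  have hcomm : ∀ x, M.σ gg (M.σ hh' x) = M.σ hh' (M.σ gg x) := fun x => by
    show (M.σ gg * M.σ hh') x = (M.σ hh' * M.σ gg) x
    rw [← map_mul, ← map_mul, show gg * hh' = hh' * gg from Subtype.ext hgh.eq]
  have one : ∀ (p q : ↥(normalizer (D.A : Set G))),
      (∀ c ∈ D.A, (q : G) * c * (q : G)⁻¹ = c → ¬ IsConj z ((p : G) * c * (p : G)⁻¹ * c)) →
      (∀ x, M.σ p (M.σ p x) = x) → (∀ x, M.σ q (M.σ q x) = x) → (∀ x, M.σ p (M.σ q x) = M.σ q (M.σ p x)) →
      (∀ x, M.σ p x ≠ x → M.σ q x ≠ x → M.σ q x = M.σ p x) ∧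
      ∃ m : Finset M.Pt, m.card ≤ 2 ∧ ∀ x, M.σ p x ≠ x → M.σ q x = x → x ∈ m := by
    intro p q hb hp hq hpq
    refine ⟨fun x h1 h2 => ?_, ?_⟩
    · by_contra hne
      refine bad p q hb x (M.σ q x) (Ne.symm h2) (Or.inr ⟨rfl, hq x⟩) h1 (Ne.symm hne) ?_ ?_
      · intro e
        exact hne (((M.σ p).injective (e.trans (hp x).symm)))
      · intro e
        rw [hpq] at e
        exact h1 ((M.σ q).injective e)
    · by_cases hx : ∃ x, M.σ p x ≠ x ∧ M.σ q x = x
      · obtain ⟨x, hx1, hx2⟩ := hx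
        refine ⟨{x, M.σ p x}, Finset.card_le_two, fun y h1 h2 => ?_⟩
        simp only [Finset.mem_insert, Finset.mem_singleton]
        by_contra! hy
        refine bad p q hb x y (Ne.symm hy.1) (Or.inl ⟨hx2, h2⟩) hx1 (Ne.symm hy.2) ?_ h1
        intro e
        exact hy.2 ((M.σ p).injective (e.trans (hp x).symm))
      · exact ⟨∅, by simp, fun y h1 h2 => absurd ⟨y, h1, h2⟩ hx⟩
  obtain ⟨k1, m1, c1, hm1⟩ := one gg hh' (fun c hc e => (hcon c hc).1 e) (hinv hg2) (hinv hh2) hcomm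
  obtain ⟨k2, m2, c2, hm2⟩ := one hh' gg (fun c hc e => (hcon c hc).2 e) (hinv hh2) (hinv hg2) (fun x => (hcomm x).symm)
  have h1 := M.few (gg * hh') (m1 ∪ m2) ((Finset.card_union_le _ _).trans (by omega)) fun x hx => by
    simp only [Finset.mem_union, not_or] at hx
    rw [map_mul]
    show M.σ gg (M.σ hh' x) = x
    by_cases p : M.σ gg x = x
    · by_cases q : M.σ hh' x = x
      · rw [q, p]
      · exact absurd (hm2 x q p) hx.2
    · by_cases q : M.σ hh' x = x
      · exact absurd (hm1 x p q) hx.1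
      · rw [k1 x p q, hinv hg2]
  exact hne (M.faithful _ h1)

section main

variable (huniq : ∀ g : G, (∀ a ∈ D.A, g * a * g⁻¹ ∈ normalizer (D.A : Set G)) → g ∈ normalizer (D.A : Set G))
  (hFu : ∀ t ∈ D.T, ∀ h : G, h * z = z * h → h * t = t * h → h ∈ normalizer (D.A : Set G))
  {t : G} (ht : t ∈ D.T)

include hFu ht in
theorem comm_le {u : G} (hu : u ∈ D.A) (hR : RT (z := z) t u) {h : G} (hht : Commute h t) (hhu : Commute h u) :
    h ∈ normalizer (D.A : Set G) := by
  suffices hZ : ∀ v ∈ D.A, IsConj z v → Commute h v → h ∈ normalizer (D.A : Set G) by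
    rcases hR with e | e
    exacts [hZ u hu e hhu, hZ _ (mul_mem ht.1 hu) e (hht.mul_right hhu)]
  intro v hv hz hhv
  obtain ⟨m, hm, rfl⟩ := D.fuse v hv hz
  have h1 := hFu _ (D.conj_T (inv_mem hm) ht) (m⁻¹ * h * m)
    (by
      calc m⁻¹ * h * m * z = m⁻¹ * (h * (m * z * m⁻¹)) * m := by group
        _ = m⁻¹ * (m * z * m⁻¹ * h) * m := by rw [hhv.eq]
        _ = z * (m⁻¹ * h * m) := by group)
    (by
      calc m⁻¹ * h * m * (m⁻¹ * t * m⁻¹⁻¹) = m⁻¹ * (h * t) * m := by group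
        _ = m⁻¹ * (t * h) * m := by rw [hht.eq]
        _ = m⁻¹ * t * m⁻¹⁻¹ * (m⁻¹ * h * m) := by group)
  have := mul_mem (mul_mem hm h1) (inv_mem hm)
  rwa [show m * (m⁻¹ * h * m) * m⁻¹ = h by group] at this

include huniq hFu ht in
theorem meet_not_R {g : G} (hgt : Commute g t) (hgN : g ∉ normalizer (D.A : Set G)) {v : G} (hv : v ∈ D.A)
    (hgv : g * v * g⁻¹ ∈ D.A) : ¬ RT (z := z) t (g * v * g⁻¹) := fun hR => by
  refine hgN (huniq g fun a ha => D.comm_le hFu ht hgv hR ?_ ?_)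
  · exact ((hgt.mul_left (D.commA ha ht.1 : Commute a t)).mul_left hgt.inv_left)
  · exact (Commute.map (show Commute a v from D.commA ha hv) (MulAut.conj g) :)

theorem R_conj {g u : G} (hgt : Commute g t) : RT (z := z) t (g * u * g⁻¹) ↔ RT (z := z) t u := by
  have e : t * (g * u * g⁻¹) = g * (t * u) * g⁻¹ := by
    rw [← mul_assoc, ← mul_assoc, ← hgt.eq]; group
  have h : ∀ x, IsConj x (g * x * g⁻¹) := fun x => isConj_iff.mpr ⟨g, rfl⟩
  rw [RT, RT, e]
  exact or_congr ⟨fun k => k.trans (h u).symm, fun k => k.trans (h u)⟩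
    ⟨fun k => k.trans (h _).symm, fun k => k.trans (h _)⟩

include ht in
theorem subgroup_bound {K : Subgroup G} (hK : K ≤ D.A) {n : ℕ} (hn : {x : G | x ∈ K ∧ RT (z := z) t x}.ncard ≤ n) :
    Nat.card ↥K ≤ 4 + 2 * n := by
  classical
  set R := {x : G | x ∈ K ∧ RT (z := z) t x} with hRdef
  set S := {x : G | x ∈ K ∧ x ≠ 1 ∧ x ≠ t ∧ ¬ RT (z := z) t x} with hSdef
  have hsub : (K : Set G) ⊆ ({1, t} : Set G) ∪ R ∪ S := by
    intro x hx
    by_cases h : RT (z := z) t x
    · exact Or.inl (Or.inr ⟨hx, h⟩)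
    rcases eq_or_ne x 1 with e | e
    · exact Or.inl (Or.inl (Or.inl e))
    rcases eq_or_ne x t with e' | e'
    · exact Or.inl (Or.inl (Or.inr e'))
    exact Or.inr ⟨hx, e, e', h⟩
  have hS : S.ncard ≤ 2 + n := by
    rcases S.eq_empty_or_nonempty with e | ⟨u, hu⟩
    · rw [e, Set.ncard_empty]; omega
    obtain ⟨huK, hu1, hut, huR⟩ := hu
    obtain ⟨huT, htu⟩ := D.U_of_not ht (hK huK) hu1 hut huR
    have h1 : S ⊆ ({u, t * u} : Set G) ∪ (fun x => u * x) '' R := by
      rintro x ⟨hxK, hx1, hxt, hxR⟩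
      by_cases h : x = u ∨ x = t * u
      · exact Or.inl h
      rw [not_or] at h
      obtain ⟨hxT, htx⟩ := D.U_of_not ht (hK hxK) hx1 hxt hxR
      exact Or.inr ⟨u * x, ⟨mul_mem huK hxK, D.R_mul ht huT htu hxT htx h.1 h.2⟩, D.mul_mul_cancel (hK huK) x⟩
    refine (Set.ncard_le_ncard h1 (Set.toFinite _)).trans ((Set.ncard_union_le _ _).trans ?_)
    have h2 := Set.ncard_image_le (f := fun x => u * x) (Set.toFinite R)
    have h3 := Set.ncard_insert_le u ({t * u} : Set G)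
    rw [Set.ncard_singleton] at h3
    omega
  have h1 := Set.ncard_le_ncard hsub (Set.toFinite _)
  have h2 := Set.ncard_union_le (({1, t} : Set G) ∪ R) S
  have h3 := Set.ncard_union_le ({1, t} : Set G) R
  have h4 := Set.ncard_insert_le (1 : G) ({t} : Set G)
  rw [Set.ncard_singleton] at h4
  rw [← Nat.card_coe_set_eq (K : Set G)] at *
  simp only [SetLike.coe_sort_coe] at *
  omega

include huniq hFu ht in
theorem no_normalizing {g : G} (hgt : Commute g t) (hgN : g ∉ normalizer (D.A : Set G)) {v : G} (hv : v ∈ D.A)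
    (hR : RT (z := z) t v) : g * v * g⁻¹ ∉ normalizer (D.A : Set G) := by
  classical
  intro hw
  set w := g * v * g⁻¹ with hwdef
  have hw2 : w * w = 1 := by
    rw [hwdef, show g * v * g⁻¹ * (g * v * g⁻¹) = g * (v * v) * g⁻¹ by group, D.sq v hv]; group
  -- the part of the subgroup centralising the element
  let K : Subgroup G := D.A ⊓ centralizer ({w} : Set G)
  have hKA : K ≤ D.A := inf_le_left
  have hKw : ∀ {x}, x ∈ K → Commute x w := fun {x} hx => mem_centralizer_singleton_iff.mp hx.2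
  have hK : 2048 ≤ Nat.card ↥K * Nat.card ↥K := by
    let φ : ↥D.A →* ↥K :=
      { toFun := fun a => ⟨w * a * w⁻¹ * a, mul_mem (D.conjA hw a.2) a.2, by
          refine mem_centralizer_singleton_iff.mpr ?_
          have hwi : w⁻¹ = w := inv_eq_of_mul_eq_one_right hw2
          have hc : w * (a : G) * w⁻¹ * a = a * (w * a * w⁻¹) := D.commA (D.conjA hw a.2) a.2
          calc w * (a : G) * w⁻¹ * a * w = a * (w * a * w⁻¹) * w := by rw [hc]
            _ = a * w * a := by group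
            _ = (w * w) * a * w⁻¹ * a := by rw [hw2, hwi, one_mul]
            _ = w * (w * a * w⁻¹ * a) := by group⟩
        map_one' := Subtype.ext (by show w * ((1 : ↥D.A) : G) * w⁻¹ * ((1 : ↥D.A) : G) = 1; simp)
        map_mul' := fun a b => Subtype.ext (by
          show w * ((a : G) * b) * w⁻¹ * ((a : G) * b) = w * a * w⁻¹ * a * (w * b * w⁻¹ * b)
          rw [show w * ((a : G) * b) * w⁻¹ * ((a : G) * b) = w * a * w⁻¹ * ((w * b * w⁻¹) * a) * b by group,
            D.commA (D.conjA hw b.2) a.2]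
          group) }
    have hker : Nat.card ↥φ.ker ≤ Nat.card ↥K := by
      refine Nat.card_le_card_of_injective (fun a : ↥φ.ker => (⟨(a : ↥D.A), (a : ↥D.A).2, ?_⟩ : ↥K))
        fun a b e => Subtype.ext (Subtype.ext (congrArg Subtype.val e :))
      have h : w * ((a : ↥D.A) : G) * w⁻¹ * ((a : ↥D.A) : G) = 1 := congrArg Subtype.val (MonoidHom.mem_ker.mp a.2)
      rw [← eq_inv_iff_mul_eq_one, D.inv_eq (a : ↥D.A).2, mul_inv_eq_iff_eq_mul] at h
      exact mem_centralizer_singleton_iff.mpr h.symm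
    have h := φ.ker.card_mul_index
    rw [index_ker, D.cardA] at h
    calc 2048 = Nat.card ↥φ.ker * Nat.card ↥φ.range := h.symm
      _ ≤ _ := Nat.mul_le_mul hker (Finite.card_subtype_le _)
  -- the part common with the conjugate
  let B : Subgroup G := D.A ⊓ D.A.map (MulAut.conj g).toMonoidHom
  have hB : ∀ x ∈ B, ¬ RT (z := z) t x := by
    rintro x ⟨hx, y, hy, rfl⟩
    exact D.meet_not_R huniq hFu ht hgt hgN hy hx
  have hBcard : Nat.card ↥B ≤ 4 := by
    have := D.subgroup_bound ht (inf_le_left : B ≤ D.A) (n := 0) (le_of_eq ((Set.ncard_eq_zero (Set.toFinite _)).mpr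
      (Set.eq_empty_iff_forall_notMem.mpr fun x hx => hB x hx.1 hx.2)))
    omega
  -- two members of the first class independent modulo the common part
  obtain ⟨a, haK, haR, b, hbK, hbR, hab⟩ : ∃ a ∈ K, RT (z := z) t a ∧ ∃ b ∈ K, RT (z := z) t b ∧ a * b ∉ B := by
    by_contra! hno
    have hcount : {x : G | x ∈ K ∧ RT (z := z) t x}.ncard ≤ 4 := by
      rcases Set.eq_empty_or_nonempty {x : G | x ∈ K ∧ RT (z := z) t x} with e | ⟨a, haK, haR⟩
      · rw [e, Set.ncard_empty]; omega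
      refine (Set.ncard_le_ncard_of_injOn (t := (B : Set G)) (fun x => a * x) (fun x hx => hno a haK haR x hx.1 hx.2)
        (fun x _ y _ e => mul_left_cancel e) (Set.toFinite _)).trans ?_
      rwa [← Nat.card_coe_set_eq]
    have h12 := D.subgroup_bound ht hKA hcount
    nlinarith
  -- they act on the conjugate as commuting involutions
  have hnor : ∀ {x}, x ∈ K → g⁻¹ * x * g ∈ normalizer (D.A : Set G) ∧ Commute (g⁻¹ * x * g) t := fun {x} hx => by
    have hc : Commute (g⁻¹ * x * g) t := (hgt.inv_left.mul_left (D.commA (hKA hx) ht.1 : Commute x t)).mul_left hgt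
    refine ⟨D.comm_le hFu ht hv hR hc ?_, hc⟩
    have h := (hKw hx).map (MulAut.conj g⁻¹)
    simpa [hwdef, mul_assoc] using h
  have hsq : ∀ {x}, x ∈ K → g⁻¹ * x * g * (g⁻¹ * x * g) = 1 := fun {x} hx => by
    rw [show g⁻¹ * x * g * (g⁻¹ * x * g) = g⁻¹ * (x * x) * g by group, D.sq x (hKA hx)]; group
  have hcom : Commute (g⁻¹ * a * g) (g⁻¹ * b * g) := by
    have h := Commute.map (show Commute a b from D.commA (hKA haK) (hKA hbK)) (MulAut.conj g⁻¹)
    simpa using h
  have hne : g⁻¹ * a * g * (g⁻¹ * b * g) ∉ D.A := fun h => hab ⟨mul_mem (hKA haK) (hKA hbK), _, h, by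
    show g * (g⁻¹ * a * g * (g⁻¹ * b * g)) * g⁻¹ = a * b
    group⟩
  have key : ∀ a b, a ∈ K → b ∈ K → RT (z := z) t b → ∀ c ∈ D.A,
      g⁻¹ * b * g * c * (g⁻¹ * b * g)⁻¹ = c → ¬ IsConj z (g⁻¹ * a * g * c * (g⁻¹ * a * g)⁻¹ * c) := by
    intro a b haK hbK hbR c hc hfix hz
    have hgc : g * c * g⁻¹ ∈ normalizer (D.A : Set G) := by
      refine D.comm_le hFu ht (hKA hbK) hbR ?_ ?_
      · exact ((hgt.mul_left (D.commA hc ht.1 : Commute c t)).mul_left hgt.inv_left)
      · have h : Commute (g⁻¹ * b * g) c := mul_inv_eq_iff_eq_mul.mp hfix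
        have h' := h.symm.map (MulAut.conj g)
        simpa [mul_assoc] using h'
    have he : g⁻¹ * a * g * c * (g⁻¹ * a * g)⁻¹ * c ∈ D.A := mul_mem (D.conjA (hnor haK).1 hc) hc
    have hmem : g * (g⁻¹ * a * g * c * (g⁻¹ * a * g)⁻¹ * c) * g⁻¹ ∈ D.A := by
      rw [show g * (g⁻¹ * a * g * c * (g⁻¹ * a * g)⁻¹ * c) * g⁻¹ = a * ((g * c * g⁻¹) * a⁻¹ * (g * c⁻¹ * g⁻¹)) by
        rw [D.inv_eq hc]; group]
      refine mul_mem (hKA haK) ?_
      rw [show g * c⁻¹ * g⁻¹ = (g * c * g⁻¹)⁻¹ by group]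
      exact D.conjA hgc (inv_mem (hKA haK))
    exact D.meet_not_R huniq hFu ht hgt hgN he hmem ((R_conj hgt).mpr (Or.inl hz))
  obtain ⟨c, hc, hgood⟩ := D.pair_good (hnor haK).1 (hnor hbK).1 (hsq haK) (hsq hbK) hcom hne
  rcases hgood with ⟨e1, e2⟩ | ⟨e1, e2⟩
  exacts [key a b haK hbK hbR c hc e1 e2, key b a hbK haK haR c hc e1 e2]

theorem shift_pow {v v' : G} (hv : v * v = 1) (hv' : v' * v' = 1) (j : ℕ) :
    v * ((v * v') ^ j)⁻¹ = (v * v') ^ j * v := by
  induction j with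
  | zero => simp
  | succ j ih =>
    have e : v * (v * v')⁻¹ = v * v' * v := by
      rw [mul_inv_rev, inv_eq_of_mul_eq_one_right hv, inv_eq_of_mul_eq_one_right hv', ← mul_assoc]
    calc v * ((v * v') ^ (j + 1))⁻¹ = v * (v * v')⁻¹ * ((v * v') ^ j)⁻¹ := by rw [pow_succ]; group
      _ = v * v' * (v * ((v * v') ^ j)⁻¹) := by rw [e]; group
      _ = v * v' * (v * v') ^ j * v := by rw [ih]; group
      _ = _ := by rw [pow_succ']

theorem dihedral {v v' : G} (hv : v * v = 1) (hv' : v' * v' = 1) {t : G} (h : Commute v t) (h' : Commute v' t) (m : ℕ) :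
    ∃ x : G, Commute x t ∧ ((v * v') ^ m * v = x * v * x⁻¹ ∨ (v * v') ^ m * v = x * v' * x⁻¹) := by
  have hshift := shift_pow hv hv'
  refine ⟨(v * v') ^ (m / 2) * (if m % 2 = 0 then 1 else v), ((h.mul_left h').pow_left _).mul_left ?_, ?_⟩
  · split
    exacts [Commute.one_left _, h]
  rcases Nat.mod_two_eq_zero_or_one m with e | e
  · refine Or.inl ?_
    rw [if_pos e, mul_one, mul_assoc, hshift, ← mul_assoc, ← pow_add, show m / 2 + m / 2 = m by omega]
  · refine Or.inr ?_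
    rw [if_neg (by omega)]
    calc (v * v') ^ m * v = (v * v') ^ (m / 2) * (v * v') * ((v * v') ^ (m / 2) * v) := by
          rw [← pow_succ, ← mul_assoc, ← pow_add, show m / 2 + 1 + m / 2 = m by omega]
      _ = (v * v') ^ (m / 2) * (v * v') * (v * ((v * v') ^ (m / 2))⁻¹) := by rw [hshift]
      _ = (v * v') ^ (m / 2) * v * v' * v * ((v * v') ^ (m / 2))⁻¹ := by group
      _ = _ := by
        rw [mul_inv_rev, inv_eq_of_mul_eq_one_right hv]; group

include huniq hFu ht in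
theorem centralizer_le : centralizer ({t} : Set G) ≤ normalizer (D.A : Set G) := by
  classical
  intro g hg
  replace hg : Commute g t := mem_centralizer_singleton_iff.mp hg
  by_contra hgN
  have hgiN : g⁻¹ ∉ normalizer (D.A : Set G) := fun h => hgN (by simpa using inv_mem h)
  -- the neighbours normalising the conjugate
  have huni : ∀ u ∈ D.T, t * u ∈ D.T → g⁻¹ * u * g ∈ normalizer (D.A : Set G) →
      ∀ u' ∈ D.T, t * u' ∈ D.T → g⁻¹ * u' * g ∈ normalizer (D.A : Set G) → u' = u ∨ u' = t * u := by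
    intro u hu htu hun u' hu' htu' hu'n
    by_contra h
    rw [not_or] at h
    refine D.no_normalizing huniq hFu ht hg.inv_left hgiN (mul_mem hu.1 hu'.1) (D.R_mul ht hu htu hu' htu' h.1 h.2) ?_
    rw [inv_inv, show g⁻¹ * (u * u') * g = g⁻¹ * u * g * (g⁻¹ * u' * g) by group]
    exact mul_mem hun hu'n
  obtain ⟨u₀, hu₀, htu₀, hu₀n⟩ : ∃ u₀ ∈ D.T, t * u₀ ∈ D.T ∧ ∀ u ∈ D.T, t * u ∈ D.T →
      g⁻¹ * u * g ∈ normalizer (D.A : Set G) → u = u₀ ∨ u = t * u₀ := by
    by_cases h : ∃ u ∈ D.T, t * u ∈ D.T ∧ g⁻¹ * u * g ∈ normalizer (D.A : Set G)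
    · obtain ⟨u, hu, htu, hun⟩ := h
      exact ⟨u, hu, htu, huni u hu htu hun⟩
    · obtain ⟨u, hu, htu⟩ : {u | u ∈ D.T ∧ t * u ∈ D.T}.Nonempty :=
        Set.nonempty_of_ncard_ne_zero (by rw [D.valency ht]; norm_num)
      exact ⟨u, hu, htu, fun u' a b c => absurd ⟨u', a, b, c⟩ h⟩
  obtain ⟨v, hvZ, htv, huv, htuv⟩ := D.pick ht hu₀ htu₀
  obtain ⟨v₀, hv₀, htv₀⟩ : ∃ v₀ ∈ D.Z, t * v₀ ∉ D.T := by
    by_contra! h
    exact D.no_total h
  have htz : IsConj z (t * v₀) := by
    by_contra h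
    exact htv₀ ⟨mul_mem ht.1 hv₀.1, fun e => ht.2.2 (by
      rw [← D.inv_eq hv₀.1] at hv₀
      rw [eq_inv_of_mul_eq_one_left e]
      exact hv₀.2), h⟩
  set v' := g * v₀ * g⁻¹ with hv'def
  have hvt : Commute v t := D.commA hvZ.1 ht.1
  have hv't : Commute v' t := (hg.mul_left (D.commA hv₀.1 ht.1 : Commute v₀ t)).mul_left hg.inv_left
  have hv2 : v * v = 1 := D.sq v hvZ.1
  have hv'2 : v' * v' = 1 := by
    rw [hv'def, show g * v₀ * g⁻¹ * (g * v₀ * g⁻¹) = g * (v₀ * v₀) * g⁻¹ by group, D.sq v₀ hv₀.1]; group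
  -- they are not conjugate in the centraliser
  have hnc : ∀ x, Commute x t → x * v * x⁻¹ ≠ v' := by
    intro x hx e
    refine htv.2.2 ?_
    have h1 : (x⁻¹ * g) * (t * v₀) * (x⁻¹ * g)⁻¹ = t * v := by
      calc (x⁻¹ * g) * (t * v₀) * (x⁻¹ * g)⁻¹ = x⁻¹ * (g * t) * v₀ * g⁻¹ * x := by group
        _ = x⁻¹ * t * (g * v₀ * g⁻¹) * x := by rw [hg.eq]; group
        _ = (x⁻¹ * t) * (x * v * x⁻¹) * x := by rw [← hv'def, ← e]
        _ = (t * x⁻¹) * (x * v * x⁻¹) * x := by rw [hx.inv_left.eq]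
        _ = t * v := by group
    exact htz.trans (isConj_iff.mpr ⟨_, h1⟩)
  obtain ⟨m, hm⟩ : ∃ m, orderOf (v * v') = 2 * m := by
    rcases Nat.even_or_odd' (orderOf (v * v')) with ⟨m, e | e⟩
    · exact ⟨m, e⟩
    · exfalso
      -- an odd order makes them conjugate
      have h1 : (v * v') ^ (m + m + 1) = 1 := by rw [← two_mul, ← e, pow_orderOf_eq_one]
      refine hnc (v * (v * v') ^ (m + 1)) (hvt.mul_left ((hvt.mul_left hv't).pow_left _)) ?_
      rw [mul_inv_rev, inv_eq_of_mul_eq_one_right hv2,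
        show v * (v * v') ^ (m + 1) * v * (((v * v') ^ (m + 1))⁻¹ * v) =
          v * ((v * v') ^ (m + 1) * (v * ((v * v') ^ (m + 1))⁻¹)) * v by group,
        shift_pow hv2 hv'2, ← mul_assoc ((v * v') ^ (m + 1)), ← pow_add,
        show m + 1 + (m + 1) = m + m + 1 + 1 by omega, pow_succ, h1, one_mul,
        show v * (v * v' * v) * v = v * v * v' * (v * v) by group, hv2, one_mul, mul_one]
  set u := (v * v') ^ m with hudef
  have hu1 : u ≠ 1 := fun e => by
    have hpos : 0 < orderOf (v * v') := orderOf_pos _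
    exact absurd (orderOf_le_of_pow_eq_one (by omega) e) (by omega)
  have hu2 : u * u = 1 := by rw [hudef, ← pow_add, ← two_mul, ← hm, pow_orderOf_eq_one]
  have hut : Commute u t := (hvt.mul_left hv't).pow_left m
  have huv' : Commute u v := by
    have h : v * u⁻¹ = u * v := by
      rw [hudef]
      exact shift_pow hv2 hv'2 m
    rw [inv_eq_of_mul_eq_one_right hu2] at h
    exact h.symm
  have huvp : Commute u v' := by
    have h : Commute u (v * v') := (Commute.refl (v * v')).pow_left m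
    have h' := huv'.mul_right h
    rwa [← mul_assoc, hv2, one_mul] at h'
  have huN : u ∈ normalizer (D.A : Set G) := D.comm_le hFu ht hvZ.1 (Or.inl hvZ.2) hut huv'
  have hun : g⁻¹ * u * g ∈ normalizer (D.A : Set G) := by
    refine D.comm_le hFu ht hv₀.1 (Or.inl hv₀.2) ((hg.inv_left.mul_left hut).mul_left hg) ?_
    have h := huvp.map (MulAut.conj g⁻¹)
    simpa [hv'def, mul_assoc] using h
  obtain ⟨hzuv, huvA⟩ : IsConj z (u * v) ∧ u * v ∈ D.A := by
    have huvN : u * v ∈ normalizer (D.A : Set G) := mul_mem huN ((le_normalizer : D.A ≤ _) hvZ.1)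
    have key : ∀ y c, Commute y t → c ∈ D.Z → u * v = y * c * y⁻¹ → IsConj z (u * v) ∧ u * v ∈ D.A := by
      intro y c hy hc e
      refine ⟨e ▸ hc.2.trans (isConj_iff.mpr ⟨y, rfl⟩), ?_⟩
      by_contra hn
      exact D.no_normalizing huniq hFu ht hy (fun h => hn (e ▸ D.conjA h hc.1)) hc.1 (Or.inl hc.2) (e ▸ huvN)
    obtain ⟨x, hx, e | e⟩ := dihedral hv2 hv'2 hvt hv't m
    · exact key x v hx hvZ e
    · exact key (x * g) v₀ (hx.mul_left hg) hv₀ (by rw [hudef, e, hv'def]; group)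
  have huA : u ∈ D.A := by
    have := mul_mem huvA hvZ.1
    rwa [mul_assoc, hv2, mul_one] at this
  have hune : u ≠ t := fun e => htv.2.2 (e ▸ hzuv)
  have huR : ¬ RT (z := z) t u := fun h => D.no_normalizing huniq hFu ht hg.inv_left hgiN huA h (by rwa [inv_inv])
  obtain ⟨huT, htu⟩ := D.U_of_not ht huA hu1 hune huR
  rcases hu₀n u huT htu hun with e | e
  · exact huv.2.2 (e ▸ hzuv)
  · exact htuv.2.2 (e ▸ hzuv)

end main

end Sextet

end Cfsg.Lib.LargeFischer
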