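import Cfsg.Agent.LargeFischer.DuadModel

/-!
An involution of the normaliser with a displacement group of order sixteen and more than twelve fixed members of the
second class: every vector fixed by it lies, up to a displacement, in the sextet subgroup of a displacement of the
first class.
-/

set_option autoImplicit false
set_option maxRecDepth 100000
set_option maxHeartbeats 1000000
set_option linter.unusedSectionVars false
set_option linter.style.haveILetI false

namespace Cfsg.Lib.LargeFischer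

open Finset
open Subgroup (normalizer)

universe u

namespace Sextet

variable {G : Type u} [Group G] [Finite G] {z : G} {D : Sextet G z}

attribute [local instance] Model.fintype Model.deceq

namespace Model

variable (M : D.Model)

theorem sm_one (x : M.Pt) : M.sm {x} = M.f x := by
  rw [show ({x} : Finset M.Pt) = insert x ∅ from rfl, M.sm_insert x ∅ (notMem_empty x), M.sm_empty, mul_one]

theorem sm_two {a b : M.Pt} (h : a ≠ b) : M.sm {a, b} = M.f a * M.f b := by
  rw [M.sm_insert a {b} (by simpa using h), M.sm_one]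

theorem sm_split {R : Finset M.Pt} {p : M.Pt} (hp : p ∈ R) : M.sm R = M.f p * M.sm (R.erase p) := by
  rw [← M.sm_insert p (R.erase p) (notMem_erase p R), insert_erase hp]

theorem pair_eq {a b c d : M.Pt} (hab : a ≠ b) (hcd : c ≠ d) (e : M.f a * M.f b = M.f c * M.f d) :
    ({a, b} : Finset M.Pt) = {c, d} :=
  M.sm_inj _ _ (by rw [M.sm_two hab, M.sm_two hcd, e]) (by rw [card_pair hab, card_pair hcd]; omega)
    (by rw [card_pair hab, card_pair hcd]; decide)

theorem quad_eq {s s' : Finset M.Pt} (hs : s.card = 4) (hs' : s'.card = 4) (e : M.sm s = M.sm s') {x : M.Pt}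
    (hx : x ∈ s) (hx' : x ∈ s') : s = s' :=
  M.sm_inj _ _ e (by have : 0 < (s ∩ s').card := card_pos.mpr ⟨x, mem_inter.mpr ⟨hx, hx'⟩⟩; omega)
    (by rw [hs, hs']; decide)

/-- Two points moved inside the second class by a member of the first class lie in one of its tetrads. -/
theorem tetrad_of_P {w : G} {R : Finset M.Pt} (hR : R.card = 4) (hw : M.sm R = w) {p q : M.Pt}
    (hp : p ∈ R) (hT : M.f p * M.f q * w ∈ D.T) : q ∈ R := by
  by_contra hq
  have hR' : (insert q (R.erase p)).card = 4 := by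
    rw [card_insert_of_notMem fun h => hq (mem_of_mem_erase h), card_erase_of_mem hp, hR]
  have e : M.f p * M.f q * w = M.sm (insert q (R.erase p)) := by
    rw [← hw, M.sm_insert q (R.erase p) fun h => hq (mem_of_mem_erase h), M.sm_split hp,
      D.commA (M.mem p) (M.mem q), mul_assoc, D.mul_mul_cancel (M.mem p)]
  exact hT.2.2 (e ▸ (M.sm_four _ hR').2)

/-- The complementary pair of a tetrad. -/
theorem mem_P_of_tetrad {w : G} {R : Finset M.Pt} (hR : R.card = 4) (hw : M.sm R = w) {p q : M.Pt}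
    (hpq : p ≠ q) (hp : p ∈ R) (hq : q ∈ R) : M.f p * M.f q ∈ D.P w := by
  refine ⟨M.pair p q hpq, ?_⟩
  have hq' : q ∈ R.erase p := mem_erase.mpr ⟨hpq.symm, hq⟩
  obtain ⟨x, y, hxy, he⟩ := card_eq_two.mp (show ((R.erase p).erase q).card = 2 by
    rw [card_erase_of_mem hq', card_erase_of_mem hp, hR])
  rw [← hw, M.sm_split hp, M.sm_split hq', he, M.sm_two hxy, D.commA (M.mem p) (M.mem q), mul_assoc,
    D.mul_mul_cancel (M.mem p), D.mul_mul_cancel (M.mem q)]
  exact M.pair x y hxy

end Model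

theorem fixed_cover (D : Sextet G z) {g : G} (hg : g ∈ normalizer (D.A : Set G)) (hg2 : g * g = 1) (hgA : g ∉ D.A)
    (hI : {x : G | ∃ u ∈ D.A, g * u * g⁻¹ * u = x}.ncard = 16)
    (hT12 : 12 < {t : G | t ∈ D.T ∧ g * t * g⁻¹ = t}.ncard) {v : G} (hv : v ∈ D.A) (hgv : g * v * g⁻¹ = v) :
    ∃ w ∈ D.Z, ∃ u ∈ D.A, g * w * g⁻¹ = w ∧ (∀ y ∈ D.P w, g * y * g⁻¹ * y = 1 ∨ g * y * g⁻¹ * y = w) ∧
      (g * u * g⁻¹ * u * v = 1 ∨ g * u * g⁻¹ * u * v ∈ D.P w) := by
  classical
  obtain ⟨M⟩ := D.exists_model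
  letI := M.fintype
  letI := M.deceq
  let gg : ↥(normalizer (D.A : Set G)) := ⟨g, hg⟩
  set s := M.σ gg with hs
  have hs2 : s * s = 1 := by rw [hs, ← map_mul, show gg * gg = 1 from Subtype.ext hg2, map_one]
  have hss : ∀ x, s (s x) = x := fun x => Equiv.congr_fun hs2 x
  have hs1 : s ≠ 1 := fun e => hgA (M.faithful gg e)
  have hconj : ∀ a b, a ≠ b → g * (M.f a * M.f b) * g⁻¹ = M.f (s a) * M.f (s b) := fun a b h => M.equiv gg a b h
  -- the displacements
  let φ : ↥D.A →* ↥D.A :=
    { toFun := fun u => ⟨g * u * g⁻¹ * u, mul_mem (D.conjA hg u.2) u.2⟩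
      map_one' := Subtype.ext (by simp)
      map_mul' := fun a b => Subtype.ext (by
        show g * ((a : G) * b) * g⁻¹ * ((a : G) * b) = g * a * g⁻¹ * a * (g * b * g⁻¹ * b)
        rw [show g * ((a : G) * b) * g⁻¹ * ((a : G) * b) = g * a * g⁻¹ * ((g * b * g⁻¹) * a) * b by group,
          D.commA (D.conjA hg b.2) a.2]
        group) }
  set I : Subgroup G := φ.range.map D.A.subtype with hIdef
  have hImem : ∀ x, x ∈ I ↔ ∃ u ∈ D.A, g * u * g⁻¹ * u = x := fun x =>
    ⟨by rintro ⟨_, ⟨u, rfl⟩, rfl⟩; exact ⟨u, u.2, rfl⟩, fun ⟨u, hu, e⟩ => ⟨_, ⟨⟨u, hu⟩, rfl⟩, e⟩⟩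
  have hIA : I ≤ D.A := Subgroup.map_subtype_le _
  have hIc : Nat.card ↥I = 16 := by
    rw [← hI, ← Nat.card_coe_set_eq]
    exact Nat.card_congr (Equiv.subtypeEquivRight hImem)
  -- the fixed points are eight
  set F := univ.filter fun x => s x = x with hF
  have hmemF : ∀ x, x ∈ F ↔ s x = x := fun x => by simp [hF]
  have hF8 : F.card = 8 := by
    rcases M.fix gg hs2 hs1 with h | h
    · exfalso
      have hall : ∀ x, s x ≠ x := fun x e => notMem_empty x (card_eq_zero.mp h ▸ (hmemF x).mpr e)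
      let P : Finset G := univ.image fun x => M.f x * M.f (s x)
      have hsub : {t : G | t ∈ D.T ∧ g * t * g⁻¹ = t} ⊆ P := by
        rintro t ⟨ht, htg⟩
        obtain ⟨a, b, hab, rfl⟩ := M.surj t ht
        rw [hconj a b hab] at htg
        have e := M.pair_eq (fun e => hab (s.injective e)) hab htg
        have ha : s a ∈ ({a, b} : Finset M.Pt) := e ▸ mem_insert_self _ _
        rcases mem_insert.mp ha with e' | e'
        · exact absurd e' (hall a)
        · rw [mem_singleton] at e'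
          exact mem_coe.mpr (mem_image.mpr ⟨a, mem_univ _, by rw [e']⟩)
      have h12 : 2 * P.card ≤ 24 := by
        have := mul_card_image_le_card (f := fun x => M.f x * M.f (s x)) (univ : Finset M.Pt) 2 fun t ht => by
          obtain ⟨a, -, rfl⟩ := mem_image.mp ht
          refine le_trans (card_pair (hall a).symm).ge (card_le_card fun x hx => mem_filter.mpr ⟨mem_univ _, ?_⟩)
          rcases mem_insert.mp hx with r | r
          · rw [r]
          · rw [mem_singleton.mp r, hss, D.commA (M.mem _) (M.mem _)]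
        rwa [card_univ, M.card] at this
      have := (Set.ncard_le_ncard hsub (Set.toFinite _)).trans_eq (Set.ncard_coe_finset P)
      omega
    · exact h
  set Mv := univ \ F with hMv
  have hmemM : ∀ x, x ∈ Mv ↔ s x ≠ x := fun x => by simp [hMv, hmemF]
  have hM16 : Mv.card = 16 := by rw [hMv, card_sdiff_of_subset (subset_univ F), card_univ, M.card, hF8]
  obtain ⟨p, hp⟩ : F.Nonempty := card_pos.mp (by omega)
  have hsp := (hmemF p).mp hp
  -- tetrads made of two moved pairs
  let Q : M.Pt → M.Pt → Finset M.Pt := fun a b => {a, s a, b, s b}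
  have hQ : ∀ a ∈ Mv, ∀ b ∈ Mv, b ≠ a → b ≠ s a → (Q a b).card = 4 ∧
      M.sm (Q a b) = M.f (s a) * M.f (s b) * (M.f a * M.f b) ∧ M.sm (Q a b) ∈ I := by
    intro a ha b hb h1 h2
    have ha' := (hmemM a).mp ha
    have hb' := (hmemM b).mp hb
    have h3 : s b ≠ a := fun e => h2 (by rw [← e, hss])
    have h4 : s b ≠ s a := fun e => h1 (s.injective e)
    have e : M.sm (Q a b) = M.f (s a) * M.f (s b) * (M.f a * M.f b) := by
      show M.sm {a, s a, b, s b} = _
      rw [M.sm_insert a _ (by simp [ha'.symm, h1.symm, h3.symm]), M.sm_insert (s a) _ (by simp [h2.symm, h4.symm]),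
        M.sm_two hb'.symm]
      have hA := fun x => M.mem x
      calc M.f a * (M.f (s a) * (M.f b * M.f (s b)))
          = M.f a * (M.f (s a) * (M.f (s b) * M.f b)) := by rw [D.commA (hA b) (hA (s b))]
        _ = (M.f a * (M.f (s a) * M.f (s b))) * M.f b := by group
        _ = (M.f (s a) * M.f (s b) * M.f a) * M.f b := by rw [D.commA (hA a) (mul_mem (hA _) (hA _))]
        _ = _ := by group
    refine ⟨?_, e, (hImem _).mpr ⟨M.f a * M.f b, mul_mem (M.mem _) (M.mem _), by rw [hconj a b h1.symm, e]⟩⟩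
    show ({a, s a, b, s b} : Finset M.Pt).card = 4
    rw [card_insert_of_notMem, card_insert_of_notMem, card_pair hb'.symm]
    · simp only [mem_insert, mem_singleton, not_or]
      exact ⟨h2.symm, h4.symm⟩
    · simp only [mem_insert, mem_singleton, not_or]
      exact ⟨ha'.symm, h1.symm, h3.symm⟩
  -- the displacement group
  let D8 : Finset G := Mv.image fun a => M.f a * M.f (s a)
  let Wset : M.Pt → Finset G := fun a => ((Mv.erase a).erase (s a)).image fun b => M.sm (Q a b)
  have hD8I : ∀ x ∈ D8, x ∈ I ∧ x ∈ D.T := by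
    intro x hx
    obtain ⟨a, ha, rfl⟩ := mem_image.mp hx
    have hpa : a ≠ p := fun e => (hmemM a).mp ha (e ▸ hsp)
    refine ⟨(hImem _).mpr ⟨M.f a * M.f p, mul_mem (M.mem _) (M.mem _), ?_⟩, M.pair _ _ ((hmemM a).mp ha).symm⟩
    rw [hconj a p hpa, hsp, mul_assoc, D.commA (M.mem a) (M.mem p), D.mul_mul_cancel (M.mem p),
      D.commA (M.mem (s a)) (M.mem a)]
  have hWI : ∀ a ∈ Mv, ∀ x ∈ Wset a, x ∈ I ∧ x ∈ D.Z := by
    intro a ha x hx
    obtain ⟨b, hb, rfl⟩ := mem_image.mp hx
    simp only [mem_erase] at hb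
    obtain ⟨h4, -, hI'⟩ := hQ a ha b hb.2.2 hb.2.1 hb.1
    exact ⟨hI', M.sm_four _ h4⟩
  have hD8 : 16 ≤ 2 * D8.card := by
    rw [← hM16]
    refine card_le_mul_card_image _ 2 fun x hx => ?_
    obtain ⟨a, ha, rfl⟩ := mem_image.mp hx
    refine (card_le_card (t := {a, s a}) fun b hb => ?_).trans card_le_two
    obtain ⟨hbM, e⟩ := mem_filter.mp hb
    exact M.pair_eq ((hmemM b).mp hbM).symm ((hmemM a).mp ha).symm e ▸ mem_insert_self _ _
  have hWc : ∀ a ∈ Mv, 14 ≤ 2 * (Wset a).card := by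
    intro a ha
    have h14 : ((Mv.erase a).erase (s a)).card = 14 := by
      rw [card_erase_of_mem (mem_erase.mpr ⟨(hmemM a).mp ha, (hmemM _).mpr (by rw [hss]; exact ((hmemM a).mp ha).symm)⟩),
        card_erase_of_mem ha, hM16]
    rw [← h14]
    refine card_le_mul_card_image _ 2 fun x hx => ?_
    obtain ⟨c, hc, rfl⟩ := mem_image.mp hx
    simp only [mem_erase] at hc
    refine (card_le_card (t := {c, s c}) fun b hb => ?_).trans card_le_two
    obtain ⟨hb', e⟩ := mem_filter.mp hb
    simp only [mem_erase] at hb'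
    have e' := M.quad_eq (hQ a ha b hb'.2.2 hb'.2.1 hb'.1).1 (hQ a ha c hc.2.2 hc.2.1 hc.1).1 e (x := a)
      (by simp [Q]) (by simp [Q])
    have hbm : b ∈ Q a c := e' ▸ (by simp [Q] : b ∈ Q a b)
    simp only [Q, mem_insert, mem_singleton] at hbm
    rcases hbm with r | r | r | r
    exacts [absurd r hb'.2.1, absurd r hb'.1, by simp [r], by simp [r]]
  let IF : Finset G := (Set.toFinite (I : Set G)).toFinset
  have hIF : ∀ x, x ∈ IF ↔ x ∈ I := fun x => by simp [IF]
  have hIFc : IF.card = 16 := by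
    rw [← hIc, ← Set.ncard_eq_toFinset_card (I : Set G)]
    exact (Nat.card_coe_set_eq _).symm
  have hclass : ∀ a ∈ Mv, ∀ x ∈ I, x = 1 ∨ x ∈ D8 ∨ x ∈ Wset a := by
    intro a ha x hx
    have hd : Disjoint D8 (Wset a) :=
      Finset.disjoint_left.mpr fun y h1 h2 => (hD8I y h1).2.2.2 (hWI a ha y h2).2.2
    have h1n : (1 : G) ∉ D8 ∪ Wset a := fun h => (mem_union.mp h).elim (fun h => (hD8I _ h).2.2.1 rfl)
      fun h => D.one_not_Z (hWI a ha _ h).2
    have he : insert 1 (D8 ∪ Wset a) = IF := by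
      refine eq_of_subset_of_card_le (fun y hy => (hIF y).mpr ?_) ?_
      · rcases mem_insert.mp hy with r | r
        · exact r ▸ one_mem I
        · exact (mem_union.mp r).elim (fun r => (hD8I y r).1) fun r => (hWI a ha y r).1
      · rw [hIFc, card_insert_of_notMem h1n, card_union_of_disjoint hd]
        have := hWc a ha
        omega
    have hx' := he ▸ (hIF x).mpr hx
    simpa [or_assoc] using hx'
  have hWI7 : ∀ a ∈ Mv, ∀ x ∈ I, x ∈ D.Z → x ∈ Wset a := fun a ha x hx hz => by
    rcases hclass a ha x hx with r | r | r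
    exacts [absurd (r ▸ hz) D.one_not_Z, absurd hz.2 (hD8I x r).2.2.2, r]
  have hfixT : ∀ x y, x ≠ y → s x = x → M.f x * M.f y ∉ I := by
    intro x y hxy hx h
    obtain ⟨a, ha⟩ : Mv.Nonempty := card_pos.mp (by omega)
    rcases hclass a ha _ h with r | r | r
    · exact (M.pair x y hxy).2.1 r
    · obtain ⟨b, hb, e⟩ := mem_image.mp r
      have e' := M.pair_eq ((hmemM b).mp hb).symm hxy e
      have hxm : x ∈ ({b, s b} : Finset M.Pt) := e'.symm ▸ mem_insert_self _ _
      rcases mem_insert.mp hxm with q | q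
      · exact (hmemM b).mp hb (q ▸ hx)
      · rw [mem_singleton] at q
        exact (hmemM b).mp hb (by rw [q, hss] at hx; exact hx.symm)
    · exact (M.pair x y hxy).2.2 (hWI a ha _ r).2.2
  -- the tetrads of a displacement of the first class
  have htet : ∀ w ∈ I, w ∈ D.Z → ∀ x, (s x = x → ∃ R : Finset M.Pt, R.card = 4 ∧ M.sm R = w ∧ x ∈ R ∧ R ⊆ F) ∧
      (s x ≠ x → ∃ b ∈ Mv, b ≠ x ∧ b ≠ s x ∧ M.sm (Q x b) = w) := by
    intro w hw hwZ x
    have hmoved : ∀ a ∈ Mv, ∃ b ∈ Mv, b ≠ a ∧ b ≠ s a ∧ M.sm (Q a b) = w := fun a ha => by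
      obtain ⟨b, hb, e⟩ := mem_image.mp (hWI7 a ha w hw hwZ)
      simp only [mem_erase] at hb
      exact ⟨b, hb.2.2, hb.2.1, hb.1, e⟩
    refine ⟨fun hx => ?_, fun hx => hmoved x ((hmemM x).mpr hx)⟩
    obtain ⟨a, ha⟩ : Mv.Nonempty := card_pos.mp (by omega)
    obtain ⟨b, hb, h1, h2, e⟩ := hmoved a ha
    obtain ⟨R, hR, hRw, hxR⟩ := M.sextet _ (hQ a ha b hb h1 h2).1 x
    refine ⟨R, hR, hRw.trans e, hxR, fun y hy => ?_⟩
    by_contra hyF
    have hyM : y ∈ Mv := mem_sdiff.mpr ⟨mem_univ _, hyF⟩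
    obtain ⟨c, hc, h3, h4, e'⟩ := hmoved y hyM
    have hRQ := M.quad_eq hR (hQ y hyM c hc h3 h4).1 ((hRw.trans e).trans e'.symm) hy (by simp [Q])
    rw [hRQ] at hxR
    simp only [Q, mem_insert, mem_singleton] at hxR
    rcases hxR with r | r | r | r
    · exact (hmemM y).mp hyM (r ▸ hx)
    · exact (hmemM y).mp hyM (by rw [r, hss] at hx; exact hx.symm)
    · exact (hmemM c).mp hc (r ▸ hx)
    · exact (hmemM c).mp hc (by rw [r, hss] at hx; exact hx.symm)
  have hwfix : ∀ w ∈ I, g * w * g⁻¹ = w := by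
    intro w hw
    obtain ⟨u, hu, rfl⟩ := (hImem w).mp hw
    rw [show g * (g * u * g⁻¹ * u) * g⁻¹ = g * g * u * (g * g)⁻¹ * (g * u * g⁻¹) by group, hg2, D.commA (D.conjA hg hu) hu]
    group
  have hwP : ∀ w ∈ I, w ∈ D.Z → ∀ y ∈ D.P w, g * y * g⁻¹ * y = 1 ∨ g * y * g⁻¹ * y = w := by
    rintro w hw hwZ _ ⟨hy, hyw⟩
    obtain ⟨a, b, hab, rfl⟩ := M.surj _ hy
    rw [hconj a b hab]
    by_cases ha : s a = a
    · obtain ⟨R, hR, hRw, haR, hRF⟩ := (htet w hw hwZ a).1 ha
      rw [ha, (hmemF b).mp (hRF (M.tetrad_of_P hR hRw haR hyw))]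
      exact Or.inl (D.sq _ (mul_mem (M.mem _) (M.mem _)))
    · obtain ⟨c, hc, h1, h2, e⟩ := (htet w hw hwZ a).2 ha
      have hbQ := M.tetrad_of_P (hQ a ((hmemM a).mpr ha) c hc h1 h2).1 e (by simp [Q]) hyw
      simp only [Q, mem_insert, mem_singleton] at hbQ
      rcases hbQ with r | r | r | r
      · exact absurd r.symm hab
      · left
        rw [r, hss, D.commA (M.mem (s a)) (M.mem a)]
        exact D.sq _ (mul_mem (M.mem _) (M.mem _))
      · right
        rw [r, ← (hQ a ((hmemM a).mpr ha) c hc h1 h2).2.1, e]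
      · right
        have hb : b ∈ Mv := (hmemM b).mpr (by rw [r, hss]; exact ((hmemM c).mp hc).symm)
        rw [← (hQ a ((hmemM a).mpr ha) b hb hab.symm (fun e' => h1 (s.injective (r.symm.trans e')))).2.1, ← e, r]
        congr 1
        ext y
        simp only [Q, hss, mem_insert, mem_singleton]
        tauto
  -- the fixed vectors
  let C : Subgroup G := D.A ⊓ Subgroup.centralizer ({g} : Set G)
  have hCmem : ∀ x, x ∈ C ↔ x ∈ D.A ∧ g * x * g⁻¹ = x := fun x => by
    rw [Subgroup.mem_inf, Subgroup.mem_centralizer_singleton_iff, mul_inv_eq_iff_eq_mul]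
    exact and_congr_right fun _ => eq_comm
  have hC : Nat.card ↥C = 128 := by
    have h := φ.ker.card_mul_index
    rw [Subgroup.index_ker, D.cardA] at h
    have hr : Nat.card ↥φ.range = 16 :=
      (Subgroup.card_map_of_injective D.A.subtype_injective).symm.trans hIc
    have hk : Nat.card ↥φ.ker = Nat.card ↥C := by
      refine Nat.card_congr
        { toFun := fun u => ⟨(u : ↥D.A), (hCmem _).mpr ⟨(u : ↥D.A).2, ?_⟩⟩
          invFun := fun x => ⟨⟨x, ((hCmem _).mp x.2).1⟩, MonoidHom.mem_ker.mpr (Subtype.ext ?_)⟩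
          left_inv := fun u => rfl
          right_inv := fun x => rfl }
      · have e : g * ((u : ↥D.A) : G) * g⁻¹ * ((u : ↥D.A) : G) = 1 := congrArg Subtype.val (MonoidHom.mem_ker.mp u.2)
        rw [eq_inv_of_mul_eq_one_left e, D.inv_eq (u : ↥D.A).2]
      · show g * (x : G) * g⁻¹ * x = 1
        rw [((hCmem _).mp x.2).2, D.sq _ ((hCmem _).mp x.2).1]
    rw [hr, hk] at h
    omega
  let val : Option {q // q ∈ F.erase p} → G := fun o => o.elim 1 fun q => M.f p * M.f q.1
  have hvalF : ∀ q : {q // q ∈ F.erase p}, p ≠ q.1 ∧ s q.1 = q.1 := fun q =>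
    ⟨(mem_erase.mp q.2).1.symm, (hmemF _).mp (mem_erase.mp q.2).2⟩
  have hvalC : ∀ o, val o ∈ C := by
    rintro (_ | q)
    · exact one_mem C
    · refine (hCmem _).mpr ⟨mul_mem (M.mem _) (M.mem _), ?_⟩
      show g * (M.f p * M.f q.1) * g⁻¹ = M.f p * M.f q.1
      rw [hconj _ _ (hvalF q).1, hsp, (hvalF q).2]
  let f : ↥I × Option {q // q ∈ F.erase p} → ↥C := fun t =>
    ⟨t.1 * val t.2, mul_mem ((hCmem _).mpr ⟨hIA t.1.2, hwfix _ t.1.2⟩) (hvalC _)⟩
  have hf : Function.Injective f := by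
    rintro ⟨i, o⟩ ⟨i', o'⟩ e
    have e' : (i : G) * val o = i' * val o' := congrArg Subtype.val e
    have ho : o = o' := by
      by_contra hne
      have hm : val o' * val o ∈ I := by
        have : (i' : G) * i = val o' * val o := by
          have hA : ∀ o, val o ∈ D.A := fun o => ((hCmem _).mp (hvalC o)).1
          calc (i' : G) * i = i' * (i * val o) * val o := by rw [mul_assoc, mul_assoc (i : G), D.sq _ (hA o), mul_one]
            _ = i' * i' * val o' * val o := by rw [e']; group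
            _ = _ := by rw [D.sq _ (hIA i'.2), one_mul]
        exact this ▸ mul_mem i'.2 i.2
      rcases o with _ | q <;> rcases o' with _ | q'
      · exact hne rfl
      · exact hfixT p q'.1 (hvalF q').1 hsp (by simpa [val] using hm)
      · exact hfixT p q.1 (hvalF q).1 hsp (by simpa [val] using hm)
      · refine hfixT q'.1 q.1 (fun h => hne (congrArg some (Subtype.ext h.symm))) (hvalF q').2 ?_
        have h : M.f p * M.f q'.1 * (M.f p * M.f q.1) ∈ I := hm
        rwa [D.commA (M.mem p) (M.mem q'.1), mul_assoc, D.mul_mul_cancel (M.mem p)] at h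
    subst ho
    exact Prod.ext (Subtype.ext (mul_right_cancel e')) rfl
  have hbij := hf.bijective_of_nat_card_le (by
    rw [Nat.card_prod, hIc, hC, Nat.card_eq_fintype_card, Fintype.card_option, Fintype.card_coe, card_erase_of_mem hp, hF8])
  obtain ⟨⟨i, o⟩, he⟩ := hbij.2 ⟨v, (hCmem v).mpr ⟨hv, hgv⟩⟩
  have hvo : v = i * val o := (congrArg Subtype.val he).symm
  obtain ⟨u, hu, hui⟩ := (hImem _).mp i.2
  have hv1 : g * u * g⁻¹ * u * v = val o := by rw [hui, hvo, D.mul_mul_cancel (hIA i.2)]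
  obtain ⟨a, ha⟩ : Mv.Nonempty := card_pos.mp (by omega)
  rcases o with _ | q
  · obtain ⟨w, hw⟩ : (Wset a).Nonempty := card_pos.mp (by have := hWc a ha; omega)
    obtain ⟨h1, h2⟩ := hWI a ha w hw
    exact ⟨w, h2, u, hu, hwfix w h1, hwP w h1 h2, Or.inl hv1⟩
  -- some tetrad contains both fixed points
  obtain ⟨w, hwI, hwZ, R, hR, hRw, hpR, hqR⟩ : ∃ w ∈ I, w ∈ D.Z ∧
      ∃ R : Finset M.Pt, R.card = 4 ∧ M.sm R = w ∧ p ∈ R ∧ q.1 ∈ R := by
    by_contra! hno
    choose R hR hRw hpR hRF using fun w : {w // w ∈ Wset a} =>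
      (htet w.1 (hWI a ha _ w.2).1 (hWI a ha _ w.2).2 p).1 hsp
    set F' := (F.erase p).erase q.1 with hF'
    have hsub : ∀ w, (R w).erase p ⊆ F' := fun w x hx => by
      obtain ⟨hxp, hxR⟩ := mem_erase.mp hx
      refine mem_erase.mpr ⟨fun e => ?_, mem_erase.mpr ⟨hxp, hRF w hxR⟩⟩
      exact hno w.1 (hWI a ha _ w.2).1 (hWI a ha _ w.2).2 (R w) (hR w) (hRw w) (hpR w) (e ▸ hxR)
    have hle := card_le_card_of_injOn (s := (univ : Finset {w // w ∈ Wset a}).sigma fun w => (R w).erase p)
      (t := F'.powersetCard 2) (fun t => ((R t.1).erase p).erase t.2) (fun t ht => by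
        have hm := (mem_sigma.mp ht).2
        exact mem_powersetCard.mpr ⟨(erase_subset _ _).trans (hsub _),
          by rw [card_erase_of_mem hm, card_erase_of_mem (hpR _), hR]⟩) (by
        rintro ⟨w, x⟩ hx ⟨w', y⟩ hy e
        simp only at e
        have hx' : x ∈ (R w).erase p := (mem_sigma.mp hx).2
        have hy' : y ∈ (R w').erase p := (mem_sigma.mp hy).2
        by_cases hw : w = w'
        · subst hw
          by_contra hne
          have hxy : x ≠ y := fun h => hne (by rw [h])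
          have hmem : x ∈ ((R w).erase p).erase y := mem_erase.mpr ⟨hxy, hx'⟩
          rw [← e] at hmem
          exact (mem_erase.mp hmem).1 rfl
        · exfalso
          have hs1 : M.sm (R w) = M.f p * (M.f x * M.sm (((R w).erase p).erase x)) := by
            rw [M.sm_split (hpR w), M.sm_split hx']
          have hs2 : M.sm (R w') = M.f p * (M.f y * M.sm (((R w).erase p).erase x)) := by
            rw [M.sm_split (hpR w'), M.sm_split hy', e]
          have hxy : x ≠ y := fun h => hw (Subtype.ext (by rw [← hRw w, ← hRw w', hs1, hs2, h]))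
          refine hfixT x y hxy ((hmemF x).mp (hRF w (mem_erase.mp hx').2)) ?_
          have hm := mul_mem (hWI a ha _ w.2).1 (hWI a ha _ w'.2).1
          rw [← hRw w, ← hRw w', hs1, hs2] at hm
          set k := M.sm (((R w).erase p).erase x)
          have hA := M.sm_mem (((R w).erase p).erase x)
          rwa [D.commA (M.mem y) hA, D.commA (M.mem p) (mul_mem (M.mem x) hA), mul_assoc,
            D.mul_mul_cancel (M.mem p), mul_assoc, D.mul_mul_cancel hA] at hm)
    rw [card_sigma, sum_const_nat (m := 3) (fun w _ => by rw [card_erase_of_mem (hpR w), hR]), card_univ,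
      Fintype.card_coe, card_powersetCard, hF', card_erase_of_mem q.2, card_erase_of_mem hp, hF8,
      show Nat.choose (8 - 1 - 1) 2 = 15 by decide] at hle
    have := hWc a ha
    omega
  exact ⟨w, hwZ, u, hu, hwfix w hwI, hwP w hwI hwZ, Or.inr (hv1 ▸ M.mem_P_of_tetrad hR hRw (hvalF q).1 hpR hqR)⟩

end Sextet

end Cfsg.Lib.LargeFischer
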