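import Cfsg.Agent.LargeFischer.DuadCentralizer

/-!
Neighbours of a member of the second class and families of pairwise non-adjacent members.
-/

set_option autoImplicit false
set_option maxRecDepth 100000
set_option maxHeartbeats 1000000
set_option linter.unusedSectionVars false
set_option linter.style.haveILetI false

namespace Cfsg.Lib.LargeFischer

open Subgroup

universe u

namespace Sextet

variable {G : Type u} [Group G] [Finite G] {z : G} (D : Sextet G z)

attribute [local instance] Model.fintype Model.deceq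

theorem neighbour_pair {t u u' : G} (ht : t ∈ D.T) (hu : u ∈ D.T) (htu : t * u ∈ D.T) (hu' : u' ∈ D.T)
    (htu' : t * u' ∈ D.T) (hne : u' ≠ u) (hne' : u' ≠ t * u) :
    (u * u' ∈ D.T ∧ IsConj z (t * (u * u'))) ∨ (t * (u * u') ∈ D.T ∧ IsConj z (u * u')) := by
  obtain ⟨M⟩ := D.exists_model
  obtain ⟨a, b, hab, rfl⟩ := M.surj t ht
  set t := M.f a * M.f b with htdef
  have key : ∀ c d, c ≠ a → c ≠ b → d ≠ a → d ≠ b → c ≠ d →
      M.f a * M.f c * (M.f a * M.f d) ∈ D.T ∧ IsConj z (t * (M.f a * M.f c * (M.f a * M.f d))) :=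
    fun c d h1 h2 h3 h4 h5 => by
      rw [M.shift]
      exact ⟨M.pair c d h5, (M.four a b c d hab h5 h1.symm h3.symm h2.symm h4.symm).2⟩
  have hcan : ∀ x, t * (t * x) = x := fun x => D.mul_mul_cancel ht.1 x
  obtain ⟨c, hca, hcb, ec⟩ := M.adj hab hu htu
  obtain ⟨d, hda, hdb, ed⟩ := M.adj hab hu' htu'
  rw [← htdef] at ec ed
  by_cases hcd : c = d
  · subst hcd
    rcases ec with e | e <;> rcases ed with e' | e'
    · exact absurd (e'.trans e.symm) hne
    · exact absurd (by rw [← hcan u', e', ← e] : u' = t * u) hne'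
    · exact absurd (e'.trans e.symm) hne'
    · exact absurd (mul_left_cancel (e'.trans e.symm)) hne
  obtain ⟨h1, h2⟩ := key c d hca hcb hda hdb hcd
  have e2 : u * (t * u') = t * (u * u') := by
    rw [← mul_assoc u, D.commA hu.1 ht.1, mul_assoc]
  rcases ec with e | e <;> rcases ed with e' | e' <;> rw [← e, ← e'] at h1 h2
  · exact Or.inl ⟨h1, h2⟩
  · rw [e2] at h1 h2
    rw [hcan] at h2
    exact Or.inr ⟨h1, h2⟩
  · rw [mul_assoc t u u'] at h1 h2
    rw [hcan] at h2
    exact Or.inr ⟨h1, h2⟩
  · rw [mul_assoc t u (t * u'), e2, hcan] at h1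
    rw [mul_assoc t u (t * u'), e2, hcan] at h2
    exact Or.inl ⟨h1, h2⟩

/-- At most twelve members of the second class are pairwise non-adjacent. -/
theorem disjoint_le {ι : Type*} [Fintype ι] (t : ι → G) (ht : ∀ i, t i ∈ D.T) (hinj : Function.Injective t)
    (hno : ∀ i j, i ≠ j → t i * t j ∉ D.T) : Fintype.card ι ≤ 12 := by
  classical
  obtain ⟨M⟩ := D.exists_model
  choose a b hab he using fun i => M.surj (t i) (ht i)
  let g : ι ⊕ ι → M.Pt := Sum.elim a b
  have key : ∀ i j x y x' y', x ≠ y → x' ≠ y' → t i = M.f x * M.f y → t j = M.f x' * M.f y' → x = x' → i = j := by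
    intro i j x y x' y' hxy hxy' hi hj e
    by_contra hne
    subst e
    refine hno i j hne ?_
    rw [hi, hj, M.shift]
    refine M.pair y y' fun e => hne (hinj ?_)
    rw [hi, hj, e]
  have hrev : ∀ i, t i = M.f (b i) * M.f (a i) := fun i => by rw [he i, M.comm]
  have hg : Function.Injective g := by
    rintro (i | i) (j | j) e <;> simp only [g, Sum.elim_inl, Sum.elim_inr] at e
    · rw [key i j _ _ _ _ (hab i) (hab j) (he i) (he j) e]
    · have h := key i j _ _ _ _ (hab i) (hab j).symm (he i) (hrev j) e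
      subst h
      exact absurd e (hab i)
    · have h := key i j _ _ _ _ (hab i).symm (hab j) (hrev i) (he j) e
      subst h
      exact absurd e (hab i).symm
    · rw [key i j _ _ _ _ (hab i).symm (hab j).symm (hrev i) (hrev j) e]
  have := Fintype.card_le_of_injective g hg
  rw [Fintype.card_sum, M.card] at this
  omega

end Sextet

end Cfsg.Lib.LargeFischer
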