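import Cfsg.Agent.LargeFischer.SextetCount
import Cfsg.Agent.Golay.M24

/-!
The second class of a sextet setting has the parameters of the triangular graph, so the normaliser of the
elementary abelian subgroup induces the largest Mathieu group on it.
-/

set_option autoImplicit false
set_option maxRecDepth 100000
set_option maxHeartbeats 1000000
set_option linter.unusedSectionVars false
set_option linter.style.haveILetI false

namespace Cfsg.Lib.LargeFischer

open Subgroup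
open scoped Pointwise

universe u

namespace Sextet

variable {G : Type u} [Group G] [Finite G] {z : G} (D : Sextet G z)

/-- The members of the second class moved inside it by an element. -/
def P (r : G) : Set G := {t | t ∈ D.T ∧ t * r ∈ D.T}

theorem inv_eq {a : G} (ha : a ∈ D.A) : a⁻¹ = a := inv_eq_of_mul_eq_one_right (D.sq a ha)

theorem mul_mul_cancel {a : G} (ha : a ∈ D.A) (b : G) : a * (a * b) = b := by
  rw [← mul_assoc, D.sq a ha, one_mul]

theorem not_both {r : G} (hr : r ∈ D.Z) : ¬ ∀ t ∈ D.T, t * r ∈ D.T ∧ ∀ r' ∈ D.Z, t * r' ∈ D.T := by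
  intro h
  obtain ⟨t, ht⟩ : D.T.Nonempty := Set.nonempty_of_ncard_ne_zero (by rw [D.counts.1]; norm_num)
  have hle : D.Z.ncard ≤ D.T.ncard :=
    Set.ncard_le_ncard_of_injOn (fun r' => t * r') (fun r' hr' => (h t ht).2 r' hr')
      (fun x _ y _ e => mul_left_cancel e) (Set.toFinite _)
  rw [D.counts.1, D.counts.2.1] at hle
  omega

theorem z_mem_Z : z ∈ D.Z := ⟨D.memA, IsConj.refl z⟩

theorem no_total {t : G} : ¬ ∀ r ∈ D.Z, t * r ∈ D.T := by
  intro h
  have hle : D.Z.ncard ≤ D.T.ncard :=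
    Set.ncard_le_ncard_of_injOn (fun r' => t * r') h (fun x _ y _ e => mul_left_cancel e) (Set.toFinite _)
  rw [D.counts.1, D.counts.2.1] at hle
  omega

theorem inv0' {m : G} (hm : m ∈ normalizer (D.A : Set G)) (hmz : m * z = z * m) {a : G} (ha : m * a * m⁻¹ ∈ D.A0) :
    a ∈ D.A0 := by
  have h := D.inv0 m⁻¹ (inv_mem hm) (Commute.inv_left (hmz : Commute m z)) _ ha
  rwa [show m⁻¹ * (m * a * m⁻¹) * m⁻¹⁻¹ = a by group] at h

/-- The centraliser of the central involution is transitive on the outer part of the second class. -/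
theorem orbit_outer {t u : G} (ht : t ∈ D.T) (ht0 : t ∉ D.A0) (hu : u ∈ D.T) (hu0 : u ∉ D.A0) :
    ∃ g ∈ normalizer (D.A : Set G), g * z = z * g ∧ g * t * g⁻¹ = u := by
  obtain ⟨m, hm, hmz, htu⟩ := D.coset t ht.1 ht0 u hu.1 hu0
  obtain ⟨q, hq, e⟩ := D.q_transitive (D.conj_T hm ht) (fun h => ht0 (D.inv0' hm hmz h)) hu htu
  refine ⟨q * m, mul_mem (D.qN q hq).1 hm, ?_, ?_⟩
  · exact Commute.mul_left ((D.qN q hq).2 : Commute q z) (hmz : Commute m z)
  · rw [← e]; group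

theorem inner_translate {t : G} (ht : t ∈ D.T) (ht0 : t ∈ D.A0) : t * z ∈ D.T := by
  have htz : t ≠ z := fun e => ht.2.2 (e ▸ IsConj.refl z)
  refine ⟨mul_mem ht.1 D.memA, fun e => htz ?_, fun h => ht.2.2 (h.trans (D.swap t ht0 ht.2.1 htz).symm)⟩
  rw [← D.inv_eq D.memA]
  exact eq_inv_of_mul_eq_one_left e

/-- Only the inner part of the second class is moved inside it by the central involution. -/
theorem mem_P_z {t : G} (ht : t ∈ D.T) : t * z ∈ D.T ↔ t ∈ D.A0 := by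
  refine ⟨fun h => ?_, D.inner_translate ht⟩
  by_contra ht0
  have hall : ∀ u ∈ D.T, u * z ∈ D.T := fun u hu => by
    by_cases hu0 : u ∈ D.A0
    · exact D.inner_translate hu hu0
    obtain ⟨g, hg, hgz, rfl⟩ := D.orbit_outer ht ht0 hu hu0
    have := D.conj_T hg h
    rwa [show g * (t * z) * g⁻¹ = g * t * g⁻¹ * (g * z * g⁻¹) by group, hgz, mul_inv_cancel_right] at this
  refine D.no_total (t := t) fun r hr => ?_
  obtain ⟨m, hm, rfl⟩ := D.fuse r hr.1 hr.2
  have h1 := D.conj_T hm (hall _ (D.conj_T (inv_mem hm) ht))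
  rwa [show m * (m⁻¹ * t * m⁻¹⁻¹ * z) * m⁻¹ = t * (m * z * m⁻¹) by group] at h1

theorem P_z_ncard : (D.P z).ncard = 36 := by
  rw [← D.inner]
  congr 1
  ext t
  constructor
  · rintro ⟨h1, h2⟩
    exact ⟨(D.mem_P_z h1).mp h2, h1.2⟩
  · rintro ⟨h0, h⟩
    have h1 : t ∈ D.T := ⟨D.le0 h0, h⟩
    exact ⟨h1, (D.mem_P_z h1).mpr h0⟩

theorem P_ncard {r : G} (hr : r ∈ D.Z) : (D.P r).ncard = 36 := by
  obtain ⟨m, hm, rfl⟩ := D.fuse r hr.1 hr.2
  rw [← D.P_z_ncard]
  symm
  refine Set.ncard_congr (fun t _ => m * t * m⁻¹) (fun t ht => ⟨D.conj_T hm ht.1, ?_⟩)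
    (fun a b _ _ e => by simpa using e) (fun b hb => ⟨m⁻¹ * b * m, ⟨?_, ?_⟩, by group⟩)
  · have := D.conj_T hm ht.2
    rwa [show m * (t * z) * m⁻¹ = m * t * m⁻¹ * (m * z * m⁻¹) by group] at this
  · have := D.conj_T (inv_mem hm) hb.1
    rwa [inv_inv] at this
  · have := D.conj_T (inv_mem hm) hb.2
    rwa [show m⁻¹ * (b * (m * z * m⁻¹)) * m⁻¹⁻¹ = m⁻¹ * b * m * z by group] at this

theorem exists_outer {t : G} (ht : t ∈ D.T) :
    ∃ g ∈ normalizer (D.A : Set G), g * t * g⁻¹ ∈ D.T ∧ g * t * g⁻¹ ∉ D.A0 := by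
  by_contra h
  push Not at h
  refine D.no_total (t := t) fun r hr => ?_
  obtain ⟨m, hm, rfl⟩ := D.fuse r hr.1 hr.2
  have h1 := h m⁻¹ (inv_mem hm) (D.conj_T (inv_mem hm) ht)
  have h2 := D.conj_T hm (D.inner_translate (D.conj_T (inv_mem hm) ht) h1)
  rwa [show m * (m⁻¹ * t * m⁻¹⁻¹ * z) * m⁻¹ = t * (m * z * m⁻¹) by group] at h2

/-- The normaliser is transitive on the second class. -/
theorem transitive {t u : G} (ht : t ∈ D.T) (hu : u ∈ D.T) :
    ∃ g ∈ normalizer (D.A : Set G), g * t * g⁻¹ = u := by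
  obtain ⟨a, ha, hat, hat0⟩ := D.exists_outer ht
  obtain ⟨b, hb, hbu, hbu0⟩ := D.exists_outer hu
  obtain ⟨g, hg, -, e⟩ := D.orbit_outer hat hat0 hbu hbu0
  refine ⟨b⁻¹ * g * a, mul_mem (mul_mem (inv_mem hb) hg) ha, ?_⟩
  rw [show b⁻¹ * g * a * t * (b⁻¹ * g * a)⁻¹ = b⁻¹ * (g * (a * t * a⁻¹) * g⁻¹) * b by group, e]
  group

/-- Each member of the second class has forty-four neighbours. -/
theorem valency {t : G} (ht : t ∈ D.T) : {u | u ∈ D.T ∧ t * u ∈ D.T}.ncard = 44 := by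
  classical
  haveI := Fintype.ofFinite G
  let TF : Finset G := D.T.toFinset
  let ZF : Finset G := D.Z.toFinset
  have hTF : TF.card = 276 := by rw [← Set.ncard_eq_toFinset_card']; exact D.counts.1
  have hZF : ZF.card = 1771 := by rw [← Set.ncard_eq_toFinset_card']; exact D.counts.2.1
  let nn : G → ℕ := fun a => (TF.filter fun u => a * u ∈ D.Z).card
  have hconst : ∀ a ∈ TF, nn a = nn t := fun a ha => by
    obtain ⟨g, hg, rfl⟩ := D.transitive ht (Set.mem_toFinset.mp ha)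
    refine Finset.card_bij' (fun u _ => g⁻¹ * u * g) (fun u _ => g * u * g⁻¹) ?_ ?_
      (fun u _ => by group) (fun u _ => by group)
    · intro u hu
      simp only [TF, Finset.mem_filter, Set.mem_toFinset] at hu ⊢
      have h1 := D.conj_T (inv_mem hg) hu.1
      have h2 := D.conj_Z (inv_mem hg) hu.2
      rw [inv_inv] at h1 h2
      refine ⟨h1, ?_⟩
      rwa [show g⁻¹ * (g * t * g⁻¹ * u) * g = t * (g⁻¹ * u * g) by group] at h2
    · intro u hu
      simp only [TF, Finset.mem_filter, Set.mem_toFinset] at hu ⊢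
      refine ⟨D.conj_T hg hu.1, ?_⟩
      have h2 := D.conj_Z hg hu.2
      rwa [show g * (t * u) * g⁻¹ = g * t * g⁻¹ * (g * u * g⁻¹) by group] at h2
  have hP : ∀ r ∈ ZF, (TF.filter fun a => a * r ∈ D.T).card = 36 := fun r hr => by
    rw [← D.P_ncard (Set.mem_toFinset.mp hr), Set.ncard_eq_toFinset_card' (D.P r)]
    congr 1
    ext a
    rw [Finset.mem_filter, Set.mem_toFinset, Set.mem_toFinset]
    exact Iff.rfl
  have hsum : ∑ a ∈ TF, nn a = ∑ r ∈ ZF, (TF.filter fun a => a * r ∈ D.T).card := by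
    simp only [nn]
    rw [← Finset.card_sigma, ← Finset.card_sigma]
    refine Finset.card_bij' (fun p _ => ⟨p.1 * p.2, p.1⟩) (fun p _ => ⟨p.2, p.2 * p.1⟩) ?_ ?_ ?_ ?_
    · rintro ⟨a, b⟩ h
      simp only [Finset.mem_sigma, TF, ZF, Finset.mem_filter, Set.mem_toFinset] at h ⊢
      exact ⟨h.2.2, h.1, by rw [D.mul_mul_cancel h.1.1]; exact h.2.1⟩
    · rintro ⟨r, a⟩ h
      simp only [Finset.mem_sigma, TF, ZF, Finset.mem_filter, Set.mem_toFinset] at h ⊢
      exact ⟨h.2.1, h.2.2, by rw [D.mul_mul_cancel h.2.1.1]; exact h.1⟩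
    · rintro ⟨a, b⟩ h
      simp only [Finset.mem_sigma, TF, Finset.mem_filter, Set.mem_toFinset] at h
      exact Sigma.ext rfl (heq_of_eq (D.mul_mul_cancel h.1.1 b))
    · rintro ⟨r, a⟩ h
      simp only [Finset.mem_sigma, TF, Finset.mem_filter, Set.mem_toFinset] at h
      exact Sigma.ext (D.mul_mul_cancel h.2.1.1 r) (heq_of_eq rfl)
  rw [Finset.sum_const_nat hconst, Finset.sum_const_nat hP, hTF, hZF] at hsum
  have hnn : nn t = 231 := by omega
  have hsplit := Finset.card_filter_add_card_filter_not (s := TF.erase t) (fun u => t * u ∈ D.T)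
  rw [Finset.card_erase_of_mem (Set.mem_toFinset.mpr ht), hTF] at hsplit
  have h1 : (TF.erase t).filter (fun u => t * u ∈ D.T) = TF.filter fun u => t * u ∈ D.T := by
    ext u
    simp only [Finset.mem_filter, Finset.mem_erase]
    refine ⟨fun h => ⟨h.1.2, h.2⟩, fun h => ⟨⟨?_, h.1⟩, h.2⟩⟩
    rintro rfl
    exact h.2.2.1 (D.sq u ht.1)
  have h2 : (TF.erase t).filter (fun u => ¬ t * u ∈ D.T) = TF.filter fun u => t * u ∈ D.Z := by
    ext u
    simp only [Finset.mem_filter, Finset.mem_erase, TF, Set.mem_toFinset]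
    constructor
    · rintro ⟨⟨hne, hu⟩, hn⟩
      have hA := mul_mem ht.1 hu.1
      refine ⟨hu, hA, ?_⟩
      by_contra hc
      exact hn ⟨hA, fun e => hne (by rw [← D.inv_eq ht.1]; exact eq_inv_of_mul_eq_one_right e), hc⟩
    · rintro ⟨hu, hz⟩
      exact ⟨⟨fun e => D.one_not_Z (by rw [e, D.sq t ht.1] at hz; exact hz), hu⟩, fun h => h.2.2 hz.2⟩
  rw [h1, h2] at hsplit
  rw [Set.ncard_eq_toFinset_card', show ({u | u ∈ D.T ∧ t * u ∈ D.T} : Set G).toFinset = TF.filter fun u => t * u ∈ D.T by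
    ext u; simp [TF]]
  have : (TF.filter fun u => t * u ∈ D.Z).card = 231 := hnn
  omega

theorem mul_conj (g a b : G) : g * (a * b) * g⁻¹ = g * a * g⁻¹ * (g * b * g⁻¹) := by group

/-- A pair with sum in the first class is the translate of an inner pair. -/
theorem to_inner {t u : G} (ht : t ∈ D.T) (hu : u ∈ D.T) (hne : t ≠ u) (hn : t * u ∉ D.T) :
    ∃ m ∈ normalizer (D.A : Set G), ∃ t' ∈ D.T, t' ∈ D.A0 ∧ t = m * t' * m⁻¹ ∧ u = m * (t' * z) * m⁻¹ := by
  have hA := mul_mem ht.1 hu.1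
  have hZ : IsConj z (t * u) := by
    by_contra hc
    exact hn ⟨hA, fun e => hne (by rw [← D.inv_eq hu.1]; exact eq_inv_of_mul_eq_one_left e), hc⟩
  obtain ⟨m, hm, e⟩ := D.fuse _ hA hZ
  have ht' : m⁻¹ * t * m ∈ D.T := by
    have := D.conj_T (inv_mem hm) ht
    rwa [inv_inv] at this
  have hu' : u = m * (m⁻¹ * t * m * z) * m⁻¹ := by
    rw [show m * (m⁻¹ * t * m * z) * m⁻¹ = t * (m * z * m⁻¹) by group, e, D.mul_mul_cancel ht.1]
  refine ⟨m, hm, _, ht', (D.mem_P_z ht').mp ?_, by group, hu'⟩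
  have h3 := D.conj_T (inv_mem hm) hu
  rw [inv_inv, hu'] at h3
  rwa [show m⁻¹ * (m * (m⁻¹ * t * m * z) * m⁻¹) * m = m⁻¹ * t * m * z by group] at h3

theorem common_inner {t v : G} (ht : t ∈ D.T) (ht0 : t ∈ D.A0) (hv : v ∈ D.T) (h1 : t * v ∈ D.T)
    (h2 : t * z * v ∈ D.T) : v ∈ D.A0 := by
  rw [mul_assoc, D.commA D.memA hv.1, ← mul_assoc] at h2
  have h := mul_mem ht0 ((D.mem_P_z h1).mp h2)
  rwa [D.mul_mul_cancel ht.1] at h

theorem conj_back {m : G} (hm : m ∈ normalizer (D.A : Set G)) {a : G} (ha : m * a * m⁻¹ ∈ D.T) : a ∈ D.T := by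
  have := D.conj_T (inv_mem hm) ha
  rwa [show m⁻¹ * (m * a * m⁻¹) * m⁻¹⁻¹ = a by group] at this

theorem mu {t u : G} (ht : t ∈ D.T) (hu : u ∈ D.T) (hne : t ≠ u) (hn : t * u ∉ D.T) :
    {v | v ∈ D.T ∧ t * v ∈ D.T ∧ u * v ∈ D.T}.ncard = 4 := by
  obtain ⟨m, hm, t', ht', ht0, rfl, rfl⟩ := D.to_inner ht hu hne hn
  rw [← D.line t' ht0 ht'.2.1 ht'.2.2]
  symm
  refine Set.ncard_congr (fun v _ => m * v * m⁻¹) ?_ (fun a b _ _ e => by simpa using e) ?_
  · rintro v ⟨hv0, hv1, hvz, htv1, htvz⟩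
    have hv : v ∈ D.T := ⟨D.le0 hv0, hv1, hvz⟩
    have htv : t' * v ∈ D.T := ⟨mul_mem ht'.1 hv.1, htv1, htvz⟩
    refine ⟨D.conj_T hm hv, ?_, ?_⟩
    · rw [← mul_conj]; exact D.conj_T hm htv
    · rw [← mul_conj, mul_assoc t' z v, D.commA D.memA hv.1, ← mul_assoc t' v z]
      exact D.conj_T hm (D.inner_translate htv (mul_mem ht0 hv0))
  · rintro w ⟨hw, h1, h2⟩
    obtain ⟨v, rfl⟩ : ∃ v, w = m * v * m⁻¹ := ⟨m⁻¹ * w * m, by group⟩
    rw [← mul_conj] at h1 h2
    have hv := D.conj_back hm hw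
    have h1' := D.conj_back hm h1
    exact ⟨v, ⟨D.common_inner ht' ht0 hv h1' (D.conj_back hm h2), hv.2.1, hv.2.2, h1'.2.1, h1'.2.2⟩, rfl⟩

theorem closed {t u v : G} (ht : t ∈ D.T) (hu : u ∈ D.T) (hv : v ∈ D.T) (hne : t ≠ u) (hn : t * u ∉ D.T)
    (h1 : t * v ∈ D.T) (h2 : u * v ∈ D.T) : t * u * v ∈ D.T := by
  obtain ⟨m, hm, t', ht', ht0, rfl, rfl⟩ := D.to_inner ht hu hne hn
  obtain ⟨v, rfl⟩ : ∃ w, v = m * w * m⁻¹ := ⟨m⁻¹ * v * m, by group⟩
  rw [← mul_conj] at h1 h2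
  have hv' := D.conj_back hm hv
  rw [← mul_conj, ← mul_conj, D.mul_mul_cancel ht'.1, D.commA D.memA hv'.1]
  exact D.conj_T hm (D.inner_translate hv'
    (D.common_inner ht' ht0 hv' (D.conj_back hm h1) (D.conj_back hm h2)))

theorem card_normalizer :
    Nat.card ↥(normalizer (D.A : Set G)) =
      1771 * Nat.card ↥(normalizer (D.A : Set G) ⊓ centralizer ({z} : Set G)) := by
  letI : MulAction ↥(normalizer (D.A : Set G)) G := MulAction.compHom G ((ConjAct.toConjAct : G ≃* ConjAct G).toMonoidHom.comp (normalizer (D.A : Set G)).subtype)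
  have hsm : ∀ (g : ↥(normalizer (D.A : Set G))) (a : G), g • a = (g : G) * a * (g : G)⁻¹ := fun g a => rfl
  have horb : MulAction.orbit ↥(normalizer (D.A : Set G)) z = D.Z := by
    ext x
    constructor
    · rintro ⟨g, rfl⟩
      exact D.conj_Z g.2 D.z_mem_Z
    · intro hx
      obtain ⟨m, hm, e⟩ := D.fuse x hx.1 hx.2
      exact ⟨⟨m, hm⟩, e⟩
  have hst : MulAction.stabilizer ↥(normalizer (D.A : Set G)) z =
      (normalizer (D.A : Set G) ⊓ centralizer ({z} : Set G)).subgroupOf (normalizer (D.A : Set G)) := by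
    ext g
    rw [MulAction.mem_stabilizer_iff, mem_subgroupOf, hsm, mul_inv_eq_iff_eq_mul, mem_inf, mem_centralizer_singleton_iff]
    exact ⟨fun h => ⟨g.2, h⟩, fun h => h.2⟩
  have h := (MulAction.stabilizer ↥(normalizer (D.A : Set G)) z).card_mul_index
  rw [MulAction.index_stabilizer, horb, D.counts.2.1, hst, Nat.card_congr (subgroupOfEquivOfLe inf_le_left).toEquiv] at h
  rw [← h, mul_comm]

/-- The action on the second class is that of the largest Mathieu group on pairs. -/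
theorem exists_hom (hM : 138240 * 2048 ≤ Nat.card ↥(normalizer (D.A : Set G) ⊓ centralizer ({z} : Set G)))
    {t : G} (ht : t ∈ D.T) : ∃ φ : ↥(normalizer (D.A : Set G)) →* ↥Cfsg.M24,
      Function.Surjective φ ∧ φ.ker = D.A.subgroupOf (normalizer (D.A : Set G)) ∧
      ∀ g : ↥(normalizer (D.A : Set G)), (g : G) * t * (g : G)⁻¹ = t ↔ (φ g : Equiv.Perm Cfsg.GolayPt) ∈
        MulAction.stabilizer (Equiv.Perm Cfsg.GolayPt) ({none, some 0} : Set Cfsg.GolayPt) := by
  classical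
  letI : CommGroup ↥D.A := { (inferInstance : Group ↥D.A) with mul_comm := fun a b => Subtype.ext (D.commA a.2 b.2) }
  haveI := Fintype.ofFinite ↥D.A
  let c : ↥D.A → Additive ↥D.A := Additive.ofMul
  let TF : Finset (Additive ↥D.A) := Finset.univ.filter fun a => ((a.toMul : ↥D.A) : G) ∈ D.T
  have hTF : ∀ a, a ∈ TF ↔ ((a.toMul : ↥D.A) : G) ∈ D.T := fun a => by simp [TF]
  have hcard : ∀ p : G → Prop, (∀ x, p x → x ∈ D.A) →
      (TF.filter fun a => p ((a.toMul : ↥D.A) : G)).card = {x | x ∈ D.T ∧ p x}.ncard := fun p _ => by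
    rw [← Set.ncard_coe_finset, ← Set.ncard_image_of_injective _ (f := fun a : Additive ↥D.A => ((a.toMul : ↥D.A) : G))
      (fun a b h => Additive.toMul.injective (Subtype.ext h))]
    congr 1
    ext x
    simp only [Finset.coe_filter, Set.mem_image, hTF]
    exact ⟨fun ⟨a, ha, e⟩ => e ▸ ha, fun h => ⟨c ⟨x, h.1.1⟩, h, rfl⟩⟩
  let E : DuadGraph (Additive ↥D.A) :=
    { T := TF
      dbl := fun a => Additive.toMul.injective (Subtype.ext (D.sq _ a.toMul.2))
      cardA := (Nat.card_congr Additive.toMul).trans D.cardA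
      zero := fun h => ((hTF 0).mp h).2.1 rfl
      card := by
        have h := hcard (fun x => x ∈ D.A) (fun x h => h)
        rw [Finset.filter_true_of_mem (fun a _ => a.toMul.2)] at h
        rw [h, ← D.counts.1]
        congr 1
        ext x
        exact ⟨fun h => h.1, fun h => ⟨h, h.1⟩⟩
      valency := fun a ha => by
        have h1 := hcard (fun x => ((a.toMul : ↥D.A) : G) * x ∈ D.T) (fun x h => by
          have := mul_mem a.toMul.2 h.1
          rwa [D.mul_mul_cancel a.toMul.2] at this)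
        rw [D.valency ((hTF a).mp ha)] at h1
        rw [← h1]
        congr 1
        exact Finset.filter_congr fun b _ => hTF (a + b)
      closed := fun a ha b hb d hd hab hn h1 h2 => (hTF _).mpr (D.closed ((hTF a).mp ha) ((hTF b).mp hb) ((hTF d).mp hd)
        (fun e => hab (Additive.toMul.injective (Subtype.ext e))) (fun h => hn ((hTF _).mpr h)) ((hTF _).mp h1)
        ((hTF _).mp h2))
      mu := fun a ha b hb hab hn => by
        have h1 := hcard (fun x => ((a.toMul : ↥D.A) : G) * x ∈ D.T ∧ ((b.toMul : ↥D.A) : G) * x ∈ D.T) (fun x h => by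
          have := mul_mem a.toMul.2 h.1.1
          rwa [D.mul_mul_cancel a.toMul.2] at this)
        rw [D.mu ((hTF a).mp ha) ((hTF b).mp hb) (fun e => hab (Additive.toMul.injective (Subtype.ext e)))
          (fun h => hn ((hTF _).mpr h))] at h1
        rw [← h1]
        congr 1
        ext d
        simp only [Finset.mem_filter]
        exact and_congr_right fun _ => and_congr (hTF (a + d)) (hTF (b + d)) }
  obtain ⟨Pt, _, _, F, hF⟩ := E.exists_duadMap
  have hFT : ∀ a, a ∈ F.T ↔ ((a.toMul : ↥D.A) : G) ∈ D.T := fun a => by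
    rw [hF]; exact hTF a
  let ρ : ↥(normalizer (D.A : Set G)) → Additive ↥D.A → Additive ↥D.A :=
    fun g a => c ⟨(g : G) * ((a.toMul : ↥D.A) : G) * (g : G)⁻¹, D.conjA g.2 a.toMul.2⟩
  have hext : ∀ a b : Additive ↥D.A, ((a.toMul : ↥D.A) : G) = ((b.toMul : ↥D.A) : G) → a = b :=
    fun a b h => Additive.toMul.injective (Subtype.ext h)
  obtain ⟨φ, hker, hstab⟩ := F.exists_m24_hom (ρ := ρ)
    (fun g a b => hext _ _ (mul_conj (g : G) ((a.toMul : ↥D.A) : G) ((b.toMul : ↥D.A) : G)))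
    (fun g h a => hext _ _ (by
      show ((g * h : ↥(normalizer (D.A : Set G))) : G) * _ * ((g * h : ↥(normalizer (D.A : Set G))) : G)⁻¹ = (g : G) * ((h : G) * _ * (h : G)⁻¹) * (g : G)⁻¹
      rw [Subgroup.coe_mul]; group))
    (fun a => hext _ _ (by
      show ((1 : ↥(normalizer (D.A : Set G))) : G) * _ * ((1 : ↥(normalizer (D.A : Set G))) : G)⁻¹ = _
      rw [Subgroup.coe_one, one_mul, inv_one, mul_one]))
    (fun g a ha => (hFT _).mpr (D.conj_T g.2 ((hFT a).mp ha)))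
    (t := c ⟨t, ht.1⟩) ((hFT _).mpr ht)
  have hle : φ.ker ≤ D.A.subgroupOf (normalizer (D.A : Set G)) := by
    intro g hg
    have hfixT : ∀ x ∈ D.T, (g : G) * x * (g : G)⁻¹ = x := fun x hx =>
      congrArg (fun a : Additive ↥D.A => ((a.toMul : ↥D.A) : G)) (hker g (MonoidHom.mem_ker.mp hg) (c ⟨x, hx.1⟩) ((hFT _).mpr hx))
    refine mem_subgroupOf.mpr (D.self g fun a ha => ?_)
    rcases eq_or_ne a 1 with rfl | hne
    · group
    by_cases hz : IsConj z a
    · obtain ⟨x, hx, hxa⟩ : (D.P a).Nonempty := Set.nonempty_of_ncard_ne_zero (by rw [D.P_ncard ⟨ha, hz⟩]; norm_num)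
      have e : a = x * (x * a) := (D.mul_mul_cancel hx.1 a).symm
      rw [e, mul_conj, hfixT x hx, hfixT _ hxa]
    · exact hfixT a ⟨ha, hne, hz⟩
  have hN := D.card_normalizer
  have hsplit := φ.ker.card_mul_index
  rw [index_ker] at hsplit
  have hr : Nat.card φ.range ≤ Nat.card ↥Cfsg.M24 := Finite.card_subtype_le _
  have hk : Nat.card φ.ker ≤ 2048 := by
    rw [← D.cardA, ← Nat.card_congr (subgroupOfEquivOfLe (le_normalizer : D.A ≤ normalizer (D.A : Set G))).toEquiv]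
    exact card_le_of_le hle
  rw [Cfsg.Lib.Golay.card_M24] at hr
  have hprod := Nat.mul_le_mul hk hr
  have hrange : Nat.card φ.range = 244823040 := by
    refine le_antisymm hr ?_
    by_contra hlt
    have := Nat.mul_le_mul hk (Nat.lt_succ_iff.mp (Nat.lt_succ_of_le (Nat.succ_le_of_lt (not_le.mp hlt))))
    nlinarith
  refine ⟨φ, ?_, ?_, fun g => ?_⟩
  · rw [← MonoidHom.range_eq_top]
    refine Subgroup.eq_top_of_card_eq _ ?_
    rw [hrange, Cfsg.Lib.Golay.card_M24]
  · refine eq_of_le_of_card_ge hle ?_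
    rw [Nat.card_congr (subgroupOfEquivOfLe (le_normalizer : D.A ≤ normalizer (D.A : Set G))).toEquiv, D.cardA]
    rw [hrange] at hsplit
    omega
  · rw [← hstab g]
    exact ⟨fun h => hext _ _ h, fun h => congrArg (fun a : Additive ↥D.A => ((a.toMul : ↥D.A) : G)) h⟩

theorem T_nonempty : D.T.Nonempty := Set.nonempty_of_ncard_ne_zero (by rw [D.counts.1]; norm_num)

/-- The normaliser modulo the elementary abelian subgroup. -/
theorem exists_mathieu (hM : 138240 * 2048 ≤ Nat.card ↥(normalizer (D.A : Set G) ⊓ centralizer ({z} : Set G))) :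
    ∃ _ : (D.A.subgroupOf (normalizer (D.A : Set G))).Normal,
      Nonempty (↥(normalizer (D.A : Set G)) ⧸ D.A.subgroupOf (normalizer (D.A : Set G)) ≃* ↥Cfsg.M24) := by
  obtain ⟨t, ht⟩ := D.T_nonempty
  obtain ⟨φ, hs, hk, -⟩ := D.exists_hom hM ht
  refine ⟨hk ▸ inferInstance, ⟨?_⟩⟩
  exact (QuotientGroup.quotientMulEquivOfEq hk.symm).trans (QuotientGroup.quotientKerEquivOfSurjective φ hs)

/-- The centraliser of a member of the second class modulo the elementary abelian subgroup. -/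
theorem exists_stab (hM : 138240 * 2048 ≤ Nat.card ↥(normalizer (D.A : Set G) ⊓ centralizer ({z} : Set G)))
    {t : G} (ht : t ∈ D.T) :
    ∃ _ : (D.A.subgroupOf (normalizer (D.A : Set G) ⊓ centralizer ({t} : Set G))).Normal,
      Nonempty (↥(normalizer (D.A : Set G) ⊓ centralizer ({t} : Set G)) ⧸
          D.A.subgroupOf (normalizer (D.A : Set G) ⊓ centralizer ({t} : Set G)) ≃*
        ↥(Cfsg.M24 ⊓ MulAction.stabilizer (Equiv.Perm Cfsg.GolayPt) ({none, some 0} : Set Cfsg.GolayPt))) := by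
  set N := normalizer (D.A : Set G) with hN
  obtain ⟨φ, hs, hk, hst⟩ := D.exists_hom hM ht
  set K := N ⊓ centralizer ({t} : Set G) with hK
  let ψ₀ : ↥K →* ↥Cfsg.M24 := φ.comp (Subgroup.inclusion (inf_le_left : K ≤ N))
  have hfix : ∀ g : ↥N, (g : G) * t * (g : G)⁻¹ = t ↔ (g : G) ∈ centralizer ({t} : Set G) := fun g => by
    rw [mem_centralizer_singleton_iff, mul_inv_eq_iff_eq_mul]
  let ψ : ↥K →* ↥(Cfsg.M24 ⊓ MulAction.stabilizer (Equiv.Perm Cfsg.GolayPt) ({none, some 0} : Set Cfsg.GolayPt)) :=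
    (Cfsg.M24.subtype.comp ψ₀).codRestrict _ fun g => ⟨(ψ₀ g).2,
      (hst (Subgroup.inclusion (inf_le_left : K ≤ N) g)).mp ((hfix (Subgroup.inclusion (inf_le_left : K ≤ N) g)).mpr g.2.2)⟩
  have hsψ : Function.Surjective ψ := by
    rintro ⟨m, hm, hms⟩
    obtain ⟨g, hg⟩ := hs ⟨m, hm⟩
    have hgt : (g : G) ∈ centralizer ({t} : Set G) := (hfix g).mp ((hst g).mpr (by rw [hg]; exact hms))
    refine ⟨⟨(g : G), g.2, hgt⟩, Subtype.ext ?_⟩
    show ((φ g : ↥Cfsg.M24) : Equiv.Perm Cfsg.GolayPt) = m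
    rw [hg]
  have hkψ : ψ.ker = D.A.subgroupOf K := by
    ext g
    rw [MonoidHom.mem_ker, mem_subgroupOf]
    constructor
    · intro h
      have h1 : φ (Subgroup.inclusion (inf_le_left : K ≤ N) g) = 1 :=
        Subtype.ext (congrArg Subtype.val h :)
      have h2 := MonoidHom.mem_ker.mpr h1
      rw [hk] at h2
      exact h2
    · intro h
      have h2 : Subgroup.inclusion (inf_le_left : K ≤ N) g ∈ φ.ker := by rw [hk]; exact h
      have h3 : φ (Subgroup.inclusion (inf_le_left : K ≤ N) g) = 1 := MonoidHom.mem_ker.mp h2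
      exact Subtype.ext (congrArg Subtype.val h3 :)
  haveI hn : (D.A.subgroupOf K).Normal := by rw [← hkψ]; infer_instance
  refine ⟨hn, ⟨?_⟩⟩
  exact (QuotientGroup.quotientMulEquivOfEq hkψ.symm).trans (QuotientGroup.quotientKerEquivOfSurjective ψ hsψ)

end Sextet

end Cfsg.Lib.LargeFischer
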