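import Cfsg.Agent.LargeFischer.SextetGraph
import Cfsg.Agent.Golay.Elements

/-!
The twenty-four points of a sextet setting: the second class consists of the pair products, the action on the
points is faithful modulo the elementary abelian subgroup, and a nontrivial permutation moves more than four points.
-/

set_option autoImplicit false
set_option maxRecDepth 100000
set_option maxHeartbeats 1000000
set_option linter.unusedSectionVars false
set_option linter.style.haveILetI false

namespace Cfsg.Lib.LargeFischer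

open Finset
open scoped Pointwise

universe u v

namespace DuadMap

variable {A : Type u} [AddCommGroup A] {Pt : Type v} [Fintype Pt] [DecidableEq Pt] (D : DuadMap A Pt)

/-- An additive map acting through a permutation on pair sums does so on all even sums. -/
theorem sm_image {ρ : A →+ A} {σ : Equiv.Perm Pt}
    (hσ : ∀ a b, a ≠ b → ρ (D.f a + D.f b) = D.f (σ a) + D.f (σ b)) {o : Finset Pt} (hev : Even o.card) :
    ρ (D.sm o) = D.sm (o.image σ) := by
  rcases o.eq_empty_or_nonempty with rfl | ⟨a, ha⟩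
  · simp [sm]
  have hsplit : ∀ (q : Finset Pt) (x : A), Even q.card → ∑ y ∈ q, D.f y = ∑ y ∈ q, (x + D.f y) := by
    intro q x hq
    obtain ⟨r, hr⟩ := hq
    rw [sum_add_distrib, sum_const, hr, add_smul, D.dbl, zero_add]
  show ρ (∑ y ∈ o, D.f y) = ∑ y ∈ o.image σ, D.f y
  rw [hsplit o (D.f a) hev, map_sum, hsplit _ (D.f (σ a)) (by rwa [card_image_of_injective _ σ.injective]),
    sum_image fun x _ y _ h => σ.injective h]
  refine sum_congr rfl fun y _ => ?_
  rcases eq_or_ne a y with rfl | hne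
  · rw [D.dbl, map_zero, D.dbl]
  · exact hσ a y hne

/-- A permutation respecting the zero sums that moves at most four points is trivial. -/
theorem perm_few {σ : Equiv.Perm Pt} (hz : ∀ s : Finset Pt, s.card = 8 → D.sm s = 0 → D.sm (s.image σ) = 0)
    {m : Finset Pt} (hm : m.card ≤ 4) (hfix : ∀ x ∉ m, σ x = x) : σ = 1 := by
  refine Equiv.ext fun x => ?_
  show σ x = x
  by_contra hx
  have hxm : x ∈ m := by_contra fun h => hx (hfix x h)
  have hym : σ x ∈ m := by_contra fun h => hx (σ.injective (hfix _ h))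
  obtain ⟨p, hpm, hp⟩ := exists_subset_card_eq (s := univ \ m) (n := 3) (by
    rw [card_sdiff_of_subset (subset_univ m), card_univ, D.card]; omega)
  have hp' : ∀ a ∈ p, a ∉ m := fun a ha => (mem_sdiff.mp (hpm ha)).2
  have hq : (insert x p).card = 4 := by rw [card_insert_of_notMem fun h => hp' x h hxm, hp]
  have hyq : σ x ∉ insert x p := fun h => (mem_insert.mp h).elim hx fun h => hp' _ h hym
  obtain ⟨ry, hry, hryq, hyr⟩ := D.sextet hq (σ x)
  obtain ⟨w, -, hw⟩ := exists_mem_notMem_of_card_lt_card (s := insert x p ∪ ry) (t := univ) (by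
    have := card_union_le (insert x p) ry
    rw [card_univ, D.card]; omega)
  obtain ⟨rw', hrw, hrwq, hwr⟩ := D.sextet hq w
  have hdis : ∀ r : Finset Pt, r.card = 4 → D.sm r = D.sm rw' → w ∉ r → Disjoint r rw' := fun r hr he hwn => by
    refine Finset.disjoint_left.mpr fun a ha ha' => hwn ?_
    have : 0 < (r ∩ rw').card := card_pos.mpr ⟨a, mem_inter.mpr ⟨ha, ha'⟩⟩
    rw [D.eq_of_sm he (by omega) (by rw [hr, hrw]; decide)]
    exact hwr
  have hd := hdis _ hq hrwq.symm fun h => hw (mem_union_left _ h)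
  have hy' : σ x ∉ rw' :=
    Finset.disjoint_left.mp (hdis ry hry (hryq.trans hrwq.symm) fun h => hw (mem_union_right _ h)) hyr
  set S := insert x p ∪ rw' with hSdef
  have hSc : S.card = 8 := by rw [hSdef, card_union_of_disjoint hd, hq, hrw]
  have hS0 : D.sm S = 0 := by
    rw [hSdef, sm, sum_union hd]
    exact (congrArg (D.sm (insert x p) + ·) hrwq).trans (D.dbl _)
  have hSc' : (S.image σ).card = 8 := by rw [card_image_of_injective _ σ.injective, hSc]
  have hsub : (S \ S.image σ) ∪ (S.image σ \ S) ⊆ m := by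
    intro a ha
    by_contra ham
    have h : a ∈ S.image σ ↔ a ∈ S := by
      constructor
      · intro h
        obtain ⟨b, hb, e⟩ := mem_image.mp h
        have : b = a := σ.injective (e.trans (hfix a ham).symm)
        exact this ▸ hb
      · exact fun h => mem_image.mpr ⟨a, h, hfix a ham⟩
    rcases mem_union.mp ha with h' | h'
    · exact (mem_sdiff.mp h').2 (h.mpr (mem_sdiff.mp h').1)
    · exact (mem_sdiff.mp h').2 (h.mp (mem_sdiff.mp h').1)
  have h1 := (card_le_card hsub).trans hm
  rw [card_union_of_disjoint disjoint_sdiff_sdiff] at h1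
  have h2 := card_sdiff_add_card_inter S (S.image σ)
  have h3 := card_sdiff_add_card_inter (S.image σ) S
  rw [inter_comm (S.image σ) S] at h3
  have he : S = S.image σ :=
    D.eq_of_sm (hS0.trans (hz S hSc hS0).symm) (by omega) (by rw [hSc, hSc']; decide)
  have hy : σ x ∈ S := he.symm ▸ mem_image_of_mem σ (mem_union_left _ (mem_insert_self x p))
  exact (mem_union.mp hy).elim hyq hy'

/-- An involution respecting the zero sums fixes no point or eight points. -/
theorem perm_involution {σ : Equiv.Perm Pt} (hz : ∀ s : Finset Pt, s.card = 8 → D.sm s = 0 → D.sm (s.image σ) = 0)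
    (h2 : σ * σ = 1) (hne : σ ≠ 1) :
    (univ.filter fun x => σ x = x).card = 0 ∨ (univ.filter fun x => σ x = x).card = 8 := by
  classical
  obtain ⟨e, he⟩ := Cfsg.Lib.Golay.exists_equiv_octads D.card D.steiner
  set τ : Equiv.Perm Cfsg.GolayPt := e.permCongr σ with hτ
  have hτx : ∀ x, τ (e x) = e (σ x) := fun x => by simp [hτ]
  have hmaps : ∀ o : Finset Cfsg.GolayPt, o ∈ Cfsg.octads → τ • o ∈ Cfsg.octads := by
    intro o ho
    obtain ⟨q, rfl⟩ : ∃ q : Finset Pt, q.image e = o :=
      ⟨o.image e.symm, by rw [image_image, Equiv.self_comp_symm, image_id]⟩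
    obtain ⟨h8, h0⟩ := (he q).mp ho
    have himg : τ • q.image e = (q.image σ).image e := by
      rw [Finset.smul_finset_def, image_image, image_image]
      exact image_congr fun x _ => hτx x
    rw [himg, he]
    exact ⟨(card_image_of_injective _ σ.injective).trans h8, hz q h8 h0⟩
  have hτ2 : τ * τ = 1 := Equiv.ext fun y => by
    obtain ⟨x, rfl⟩ := e.surjective y
    show τ (τ (e x)) = e x
    rw [hτx, hτx, show σ (σ x) = x from Equiv.congr_fun h2 x]
  have hmem : τ ∈ Cfsg.M24 := by
    rw [Cfsg.Lib.Golay.M24_eq_octadAut, MulAction.mem_stabilizer_iff]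
    refine Set.Subset.antisymm ?_ fun o ho => ⟨τ • o, hmaps o ho, ?_⟩
    · rintro _ ⟨o, ho, rfl⟩
      exact hmaps o ho
    · show τ • τ • o = o
      rw [← mul_smul, hτ2, one_smul]
  have hτ1 : τ ≠ 1 := fun h => hne (Equiv.ext fun x => e.injective (by rw [← hτx, h]; rfl))
  have hfix : (univ.filter fun x => σ x = x).card = Cfsg.Lib.Golay.fixCard τ := by
    rw [Cfsg.Lib.Golay.fixCard, ← card_map e.toEmbedding]
    congr 1
    ext y
    obtain ⟨x, rfl⟩ := e.surjective y
    rw [mem_map_equiv, e.symm_apply_apply, mem_filter, mem_filter, hτx, e.injective.eq_iff]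
    simp
  obtain ⟨-, -, ⟨-, h⟩ | ⟨-, h⟩⟩ :=
    Cfsg.Lib.Golay.involution_classes hmem (orderOf_eq_prime (by rw [pow_two, hτ2]) hτ1)
  exacts [Or.inr (hfix.trans h), Or.inl (hfix.trans h)]

end DuadMap

namespace Sextet

open Subgroup (normalizer)

variable {G : Type u} [Group G] [Finite G] {z : G}

/-- The points of a sextet setting. -/
structure Model (D : Sextet G z) where
  Pt : Type u
  [fintype : Fintype Pt]
  [deceq : DecidableEq Pt]
  f : Pt → G
  mem : ∀ a, f a ∈ D.A
  card : Fintype.card Pt = 24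
  pair : ∀ a b, a ≠ b → f a * f b ∈ D.T
  surj : ∀ x ∈ D.T, ∃ a b, a ≠ b ∧ x = f a * f b
  four : ∀ a b c d, a ≠ b → c ≠ d → a ≠ c → a ≠ d → b ≠ c → b ≠ d → f a * f b * (f c * f d) ∈ D.Z
  σ : ↥(normalizer (D.A : Set G)) →* Equiv.Perm Pt
  equiv : ∀ (g : ↥(normalizer (D.A : Set G))) a b, a ≠ b →
    (g : G) * (f a * f b) * (g : G)⁻¹ = f (σ g a) * f (σ g b)
  faithful : ∀ g, σ g = 1 → (g : G) ∈ D.A
  few : ∀ g (m : Finset Pt), m.card ≤ 4 → (∀ x ∉ m, σ g x = x) → σ g = 1
  sm : Finset Pt → G
  sm_empty : sm ∅ = 1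
  sm_insert : ∀ x (s : Finset Pt), x ∉ s → sm (insert x s) = f x * sm s
  sm_mem : ∀ s, sm s ∈ D.A
  sm_four : ∀ s : Finset Pt, s.card = 4 → sm s ∈ D.Z
  sm_inj : ∀ s s' : Finset Pt, sm s = sm s' → s.card + s'.card ≤ 6 + 2 * (s ∩ s').card →
    Even (s.card + s'.card) → s = s'
  sextet : ∀ q : Finset Pt, q.card = 4 → ∀ x, ∃ r : Finset Pt, r.card = 4 ∧ sm r = sm q ∧ x ∈ r
  sm_conj : ∀ (g : ↥(normalizer (D.A : Set G))) (s : Finset Pt), Even s.card →
    (g : G) * sm s * (g : G)⁻¹ = sm (s.image (σ g))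
  fix : ∀ g, σ g * σ g = 1 → σ g ≠ 1 →
    (Finset.univ.filter fun x => σ g x = x).card = 0 ∨ (Finset.univ.filter fun x => σ g x = x).card = 8

theorem exists_model (D : Sextet G z) : Nonempty D.Model := by
  classical
  letI : CommGroup ↥D.A := { (inferInstance : Group ↥D.A) with mul_comm := fun a b => Subtype.ext (D.commA a.2 b.2) }
  haveI := Fintype.ofFinite ↥D.A
  let c : ↥D.A → Additive ↥D.A := Additive.ofMul
  let val : Additive ↥D.A → G := fun a => ((a.toMul : ↥D.A) : G)
  have hext : ∀ a b : Additive ↥D.A, val a = val b → a = b :=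
    fun a b h => Additive.toMul.injective (Subtype.ext h)
  let TF : Finset (Additive ↥D.A) := Finset.univ.filter fun a => val a ∈ D.T
  have hTF : ∀ a, a ∈ TF ↔ val a ∈ D.T := fun a => by simp [TF]
  have hcard : ∀ p : G → Prop, (TF.filter fun a => p (val a)).card = {x | x ∈ D.T ∧ p x}.ncard := fun p => by
    rw [← Set.ncard_coe_finset, ← Set.ncard_image_of_injective _ (f := val) (fun a b h => hext a b h)]
    congr 1
    ext x
    simp only [Finset.coe_filter, Set.mem_image, hTF]
    exact ⟨fun ⟨a, ha, e⟩ => e ▸ ha, fun h => ⟨c ⟨x, h.1.1⟩, h, rfl⟩⟩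
  let E : DuadGraph (Additive ↥D.A) :=
    { T := TF
      dbl := fun a => Additive.toMul.injective (Subtype.ext (D.sq _ a.toMul.2))
      cardA := (Nat.card_congr Additive.toMul).trans D.cardA
      zero := fun h => ((hTF 0).mp h).2.1 rfl
      card := by
        have h := hcard (fun x => x ∈ D.A)
        rw [Finset.filter_true_of_mem (fun a _ => a.toMul.2)] at h
        rw [h, ← D.counts.1]
        congr 1
        ext x
        exact ⟨fun h => h.1, fun h => ⟨h, h.1⟩⟩
      valency := fun a ha => by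
        have h1 := hcard (fun x => val a * x ∈ D.T)
        rw [D.valency ((hTF a).mp ha)] at h1
        rw [← h1]
        congr 1
        exact Finset.filter_congr fun b _ => hTF (a + b)
      closed := fun a ha b hb d hd hab hn h1 h2 => (hTF _).mpr (D.closed ((hTF a).mp ha) ((hTF b).mp hb) ((hTF d).mp hd)
        (fun e => hab (hext _ _ e)) (fun h => hn ((hTF _).mpr h)) ((hTF _).mp h1) ((hTF _).mp h2))
      mu := fun a ha b hb hab hn => by
        have h1 := hcard (fun x => val a * x ∈ D.T ∧ val b * x ∈ D.T)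
        rw [D.mu ((hTF a).mp ha) ((hTF b).mp hb) (fun e => hab (hext _ _ e)) (fun h => hn ((hTF _).mpr h))] at h1
        rw [← h1]
        congr 1
        ext d
        simp only [Finset.mem_filter]
        exact and_congr_right fun _ => and_congr (hTF (a + d)) (hTF (b + d)) }
  obtain ⟨Pt, _, _, F, hF⟩ := E.exists_duadMap
  have hFT : ∀ a, a ∈ F.T ↔ val a ∈ D.T := fun a => by
    rw [hF]; exact hTF a
  let ρ : ↥(normalizer (D.A : Set G)) → Additive ↥D.A → Additive ↥D.A :=
    fun g a => c ⟨(g : G) * val a * (g : G)⁻¹, D.conjA g.2 a.toMul.2⟩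
  have hadd : ∀ g a b, ρ g (a + b) = ρ g a + ρ g b := fun g a b => hext _ _ (mul_conj (g : G) (val a) (val b))
  obtain ⟨σ, hσ⟩ := F.exists_points_hom (ρ := ρ) hadd
    (fun g h a => hext _ _ (by
      show ((g * h : ↥(normalizer (D.A : Set G))) : G) * _ * ((g * h : ↥(normalizer (D.A : Set G))) : G)⁻¹ = (g : G) * ((h : G) * _ * (h : G)⁻¹) * (g : G)⁻¹
      rw [Subgroup.coe_mul]; group))
    (fun a => hext _ _ (by
      show ((1 : ↥(normalizer (D.A : Set G))) : G) * _ * ((1 : ↥(normalizer (D.A : Set G))) : G)⁻¹ = _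
      rw [Subgroup.coe_one, one_mul, inv_one, mul_one]))
    (fun g a ha => (hFT _).mpr (D.conj_T g.2 ((hFT a).mp ha)))
  refine ⟨{
    Pt := Pt, f := fun a => val (F.f a), mem := fun a => (F.f a).toMul.2, card := F.card
    pair := fun a b hab => (hFT _).mp ⟨{a, b}, Finset.card_pair hab, F.sm_pair hab⟩
    surj := fun x hx => ?_
    four := fun a b p q hab hpq hap haq hbp hbq => ?_
    σ := σ
    equiv := fun g a b hab => congrArg val (hσ g a b hab)
    faithful := fun g hg => ?_
    few := fun g m hm hfix => ?_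
    sm := fun s => val (F.sm s)
    sm_empty := by simp [DuadMap.sm, val]
    sm_insert := fun x s hx => by simp only [DuadMap.sm, Finset.sum_insert hx]; rfl
    sm_mem := fun s => (F.sm s).toMul.2
    sm_four := fun s hs => ?_
    sm_inj := fun s s' h => F.eq_of_sm (hext _ _ h)
    sextet := fun q hq x => ?_
    sm_conj := fun g s hs => congrArg val
      (F.sm_image (ρ := AddMonoidHom.mk' (ρ g) (hadd g)) (fun a b hab => hσ g a b hab) hs)
    fix := fun g h2 hne => F.perm_involution (fun s hs h0 => ?_) h2 hne }⟩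
  · obtain ⟨s, hs, he⟩ := (hFT (c ⟨x, hx.1⟩)).mpr hx
    obtain ⟨a, b, hab, rfl⟩ := Finset.card_eq_two.mp hs
    rw [F.sm_pair hab] at he
    exact ⟨a, b, hab, (congrArg val he).symm⟩
  · have h4 : (({a, b} : Finset Pt) ∪ {p, q}).card = 4 := by
      rw [Finset.card_union_of_disjoint (by simp [hap.symm, haq.symm, hbp.symm, hbq.symm]), Finset.card_pair hab, Finset.card_pair hpq]
    obtain ⟨hnT, hn0⟩ := F.four_not_T h4
    rw [DuadMap.sm, Finset.sum_union (by simp [hap.symm, haq.symm, hbp.symm, hbq.symm]), Finset.sum_pair hab, Finset.sum_pair hpq] at hnT hn0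
    have hA : val (F.f a) * val (F.f b) * (val (F.f p) * val (F.f q)) ∈ D.A :=
      mul_mem (mul_mem (F.f a).toMul.2 (F.f b).toMul.2) (mul_mem (F.f p).toMul.2 (F.f q).toMul.2)
    refine ⟨hA, ?_⟩
    by_contra hz
    exact hnT ((hFT _).mpr ⟨hA, fun e => hn0 (hext _ _ e), hz⟩)
  · have hfixT : ∀ x ∈ D.T, (g : G) * x * (g : G)⁻¹ = x := fun x hx => by
      obtain ⟨s, hs, he⟩ := (hFT (c ⟨x, hx.1⟩)).mpr hx
      obtain ⟨a, b, hab, rfl⟩ := Finset.card_eq_two.mp hs
      rw [F.sm_pair hab] at he
      have h := hσ g a b hab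
      rw [hg, he] at h
      exact (congrArg val h).trans (congrArg val he)
    refine D.self g fun a ha => ?_
    rcases eq_or_ne a 1 with rfl | hne
    · group
    by_cases hz : IsConj z a
    · obtain ⟨x, hx, hxa⟩ : (D.P a).Nonempty := Set.nonempty_of_ncard_ne_zero (by rw [D.P_ncard ⟨ha, hz⟩]; norm_num)
      rw [show a = x * (x * a) from (D.mul_mul_cancel hx.1 a).symm, mul_conj, hfixT x hx, hfixT _ hxa]
    · exact hfixT a ⟨ha, hne, hz⟩
  · refine F.perm_few (fun s hs h0 => ?_) hm hfix
    rw [← F.sm_image (ρ := AddMonoidHom.mk' (ρ g) (hadd g)) (fun a b hab => hσ g a b hab) (by rw [hs]; decide), h0,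
      map_zero]

  · obtain ⟨hnT, hn0⟩ := F.four_not_T hs
    refine ⟨(F.sm s).toMul.2, ?_⟩
    by_contra hz
    exact hnT ((hFT _).mpr ⟨(F.sm s).toMul.2, fun e => hn0 (hext _ _ e), hz⟩)
  · obtain ⟨r, hr, e, hx⟩ := F.sextet hq x
    exact ⟨r, hr, congrArg val e, hx⟩
  · rw [← F.sm_image (ρ := AddMonoidHom.mk' (ρ g) (hadd g)) (fun a b hab => hσ g a b hab) (by rw [hs]; decide), h0,
      map_zero]

end Sextet

end Cfsg.Lib.LargeFischer
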