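import Cfsg.Agent.LargeFischer.Coords

/-!
The five classes of singular vectors and the linking of vectors in one class.
-/

set_option autoImplicit false
set_option maxRecDepth 100000
set_option maxHeartbeats 1000000
set_option linter.unusedSectionVars false
set_option linter.style.haveILetI false

namespace Cfsg.Lib.LargeFischer

open Matrix Finset

universe u v w

/-- The singular non-zero coordinate vectors. -/
def Sing6 (f : Cd) : Prop := (supp6 f).card = 2 ∨ (supp6 f).card = 4 ∨ (supp6 f).card = 6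

instance : DecidablePred Sing6 := fun f => by unfold Sing6; infer_instance

/-- The sum of the coordinates. -/
def tot (f : Cd) : ZMod 3 := ∑ i, (f i).getD 0

/-- The class of a vector. -/
def cls (f : Cd) : Fin 5 :=
  if (supp6 f).card = 2 then 0 else if (supp6 f).card = 4 then 1 else
    if tot f = 0 then 2 else if tot f = 1 then 3 else 4

/-- The class sizes. -/
def size5 : Fin 5 → ℕ := ![135, 1215, 243, 243, 243]

theorem cls_card : ∀ c : Fin 5, (univ.filter fun f : Cd => Sing6 f ∧ cls f = c).card = size5 c := by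
  decide +kernel

theorem parity_iff (f : Cd) : (((supp6 f).card : ZMod 2) = 0 ∧ supp6 f ≠ ∅) ↔ Sing6 f := by
  have h : (supp6 f).card ≤ 6 := (card_le_univ _).trans_eq (Fintype.card_fin 6)
  rw [ne_eq, ← card_eq_zero, Sing6]
  generalize (supp6 f).card = n at h ⊢
  interval_cases n <;> decide

theorem exists_even_map {s t : Finset (Fin 6)} (hc : s.card = t.card) (h2 : 2 ≤ t.card) :
    ∃ π : Equiv.Perm (Fin 6), π ∈ alternatingGroup (Fin 6) ∧ s.image π = t := by
  classical
  let e : {x // x ∈ s} ≃ {x // x ∈ t} := Finset.equivOfCardEq hc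
  let π : Equiv.Perm (Fin 6) := e.extendSubtype
  have hπ : s.image π = t := by
    ext y
    simp only [mem_image]
    constructor
    · rintro ⟨x, hx, rfl⟩
      exact e.extendSubtype_mem x hx
    · intro hy
      refine ⟨(e.symm ⟨y, hy⟩).1, (e.symm ⟨y, hy⟩).2, ?_⟩
      rw [show π = e.extendSubtype from rfl, Equiv.extendSubtype_apply_of_mem _ _ (e.symm ⟨y, hy⟩).2]
      simp
  rcases Int.units_eq_one_or (Equiv.Perm.sign π) with h | h
  · exact ⟨π, Equiv.Perm.mem_alternatingGroup.mpr h, hπ⟩
  · obtain ⟨a, ha, b, hb, hab⟩ := one_lt_card.mp h2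
    refine ⟨Equiv.swap a b * π, ?_, ?_⟩
    · rw [Equiv.Perm.mem_alternatingGroup, map_mul, Equiv.Perm.sign_swap hab, h]; rfl
    · rw [show (⇑(Equiv.swap a b * π) : Fin 6 → Fin 6) = Equiv.swap a b ∘ π from rfl, ← image_image, hπ]
      ext y
      simp only [mem_image]
      constructor
      · rintro ⟨x, hx, rfl⟩
        rcases eq_or_ne x a with rfl | hxa
        · rwa [Equiv.swap_apply_left]
        · rcases eq_or_ne x b with rfl | hxb
          · rwa [Equiv.swap_apply_right]
          · rwa [Equiv.swap_apply_of_ne_of_ne hxa hxb]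
      · intro hy
        refine ⟨Equiv.swap a b y, ?_, Equiv.swap_apply_self a b y⟩
        rcases eq_or_ne y a with rfl | hxa
        · rwa [Equiv.swap_apply_left]
        · rcases eq_or_ne y b with rfl | hxb
          · rwa [Equiv.swap_apply_right]
          · rwa [Equiv.swap_apply_of_ne_of_ne hxa hxb]

theorem sing_cases {f : Cd} (hf : Sing6 f) :
    (cls f = 0 ∧ (supp6 f).card = 2) ∨ (cls f = 1 ∧ (supp6 f).card = 4) ∨
      ((cls f ≠ 0 ∧ cls f ≠ 1) ∧ (supp6 f).card = 6) := by
  rcases hf with h | h | h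
  · exact Or.inl ⟨by simp [cls, h], h⟩
  · exact Or.inr (Or.inl ⟨by simp [cls, h], h⟩)
  · refine Or.inr (Or.inr ⟨?_, h⟩)
    simp only [cls, h]
    generalize tot f = r
    revert r
    decide

namespace FSetting

variable {X : Type u} [Group X] {S : Type w} [Group S] {V : Type v} [AddCommGroup V] [Finite V]
  (F : FSetting X S V)

theorem rho_α (x : C5) (a : V) : F.ρ (F.E.α x) a = F.W.t x a := rfl

theorem shift_link {f f' : Cd} (hs : supp6 f = supp6 f') (h : supp6 f = univ → tot f = tot f') :
    ∃ x : C5, F.W.t x (F.dec f) = F.dec f' := by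
  classical
  let d0 : Fin 6 → ZMod 3 := fun i => (f' i).getD 0 - (f i).getD 0
  obtain ⟨d, hd, hdd⟩ : ∃ d : Fin 6 → ZMod 3, ∑ i, d i = 0 ∧ ∀ i ∈ supp6 f, d i = d0 i := by
    by_cases hu : supp6 f = univ
    · refine ⟨d0, ?_, fun _ _ => rfl⟩
      simp only [d0, sum_sub_distrib]
      exact sub_eq_zero.mpr (h hu).symm
    · obtain ⟨j, hj⟩ : ∃ j, j ∉ supp6 f := by
        by_contra hh
        push Not at hh
        exact hu (eq_univ_iff_forall.mpr hh)
      refine ⟨Function.update d0 j (d0 j - ∑ i, d0 i), ?_, fun i hi => Function.update_of_ne (fun e => hj (by rw [← e]; exact hi)) _ _⟩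
      rw [sum_update_of_mem (mem_univ j), sum_eq_add_sum_sdiff_singleton_of_mem (mem_univ j) d0]
      ring
  obtain ⟨x, hx⟩ := F.exists_radical_coord hd
  refine ⟨x, ?_⟩
  rw [t_dec, hx]
  congr 1
  funext i
  have hi := congrArg (fun s => i ∈ s) hs
  simp only [eq_iff_iff, mem_supp6] at hi
  have hdi := hdd i
  rw [mem_supp6] at hdi
  cases hf : f i with
  | none =>
    cases hf' : f' i with
    | none => simp [shift, hf]
    | some k => exact absurd hf (hi.mpr (by simp [hf']))
  | some k =>
    cases hf' : f' i with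
    | none => exact absurd hf' (hi.mp (by simp [hf]))
    | some l => simp [shift, hf, hdi (by simp [hf]), d0, hf']

theorem link {f f' : Cd} (hf : Sing6 f) (hf' : Sing6 f') (hc : cls f = cls f') :
    ∃ g : X, F.ρ g (F.dec f) = F.dec f' := by
  classical
  by_cases h6 : (supp6 f).card = 6
  · have hu : ∀ {k : Cd}, (supp6 k).card = 6 → supp6 k = univ := fun h =>
      eq_univ_of_card _ (h.trans (Fintype.card_fin 6).symm)
    have h6' : (supp6 f').card = 6 := by
      rcases sing_cases hf' with ⟨e, -⟩ | ⟨e, -⟩ | ⟨-, h⟩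
      · rcases sing_cases hf with ⟨-, h⟩ | ⟨-, h⟩ | ⟨⟨h0, -⟩, -⟩
        · omega
        · omega
        · exact absurd (hc.trans e) h0
      · rcases sing_cases hf with ⟨-, h⟩ | ⟨-, h⟩ | ⟨⟨-, h1⟩, -⟩
        · omega
        · omega
        · exact absurd (hc.trans e) h1
      · exact h
    obtain ⟨x, hx⟩ := F.shift_link (f := f) (f' := f') ((hu h6).trans (hu h6').symm) fun _ => by
      simp only [cls, h6, h6'] at hc
      generalize tot f = r, tot f' = r' at hc ⊢
      revert r r'
      decide
    exact ⟨F.E.α x, hx⟩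
  · have hcard : (supp6 f).card = (supp6 f').card := by
      rcases sing_cases hf with ⟨e, h⟩ | ⟨e, h⟩ | ⟨-, h⟩
      · rcases sing_cases hf' with ⟨e', h'⟩ | ⟨e', h'⟩ | ⟨⟨h0, -⟩, -⟩
        · omega
        · exact absurd (e.symm.trans (hc.trans e')) (by decide)
        · exact absurd (hc.symm.trans e) h0
      · rcases sing_cases hf' with ⟨e', h'⟩ | ⟨e', h'⟩ | ⟨⟨-, h1⟩, -⟩
        · exact absurd (e.symm.trans (hc.trans e')) (by decide)
        · omega
        · exact absurd (hc.symm.trans e) h1
      · exact absurd h h6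
    obtain ⟨π, hπ, himg⟩ := exists_even_map hcard (by rcases hf' with h | h | h <;> omega)
    obtain ⟨g, hg⟩ := F.exists_even π hπ
    obtain ⟨f₁, hf₁⟩ := F.dec_bijective.2 (F.ρ (g : X) (F.dec f))
    have hs : supp6 f₁ = supp6 f' := by
      rw [← himg]
      ext y
      have h := F.supp_transfer (Subgroup.inclusion F.Lhat_le g) (f := f) (f' := f₁) hf₁.symm (π.symm y)
      rw [show F.π (Subgroup.inclusion F.Lhat_le g) = π from hg, Equiv.apply_symm_apply] at h
      rw [h, mem_image]
      exact ⟨fun h => ⟨_, h, π.apply_symm_apply y⟩, by rintro ⟨x, hx, rfl⟩; rwa [π.symm_apply_apply]⟩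
    obtain ⟨x, hx⟩ := F.shift_link hs fun hu => by
      rw [← card_eq_iff_eq_univ, hs, ← hcard, Fintype.card_fin] at hu
      exact absurd hu h6
    refine ⟨F.E.α x * g, ?_⟩
    rw [map_mul, Equiv.Perm.mul_apply, ← hf₁]
    exact hx

theorem sing_iff (f : Cd) : (F.q (F.dec f) = 0 ∧ F.dec f ≠ 0) ↔ Sing6 f := by
  rw [F.q_dec, ← parity_iff]
  refine and_congr Iff.rfl (not_congr ?_)
  rw [← F.dec_none, F.dec_bijective.1.eq_iff, funext_iff, eq_empty_iff_forall_notMem]
  simp [mem_supp6]

theorem card_singular : Nat.card {x : V // F.q x = 0 ∧ x ≠ 0} = 2079 := by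
  classical
  rw [← Nat.card_congr ((Equiv.ofBijective _ F.dec_bijective).subtypeEquiv (p := Sing6) fun f => (F.sing_iff f).symm),
    Nat.card_eq_fintype_card, Fintype.card_subtype,
    card_eq_sum_card_fiberwise (f := cls) (t := univ) fun _ _ => mem_univ _]
  simp only [filter_filter, cls_card]
  decide

end FSetting

end Cfsg.Lib.LargeFischer
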