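import Cfsg.Agent.LargeFischer.Six

/-!
Coordinates of the module along the six anisotropic planes.
-/

set_option autoImplicit false
set_option maxRecDepth 100000
set_option maxHeartbeats 1000000
set_option linter.unusedSectionVars false
set_option linter.style.haveILetI false

namespace Cfsg.Lib.LargeFischer

open Matrix Finset

universe u v w

/-- Coordinate vectors. -/
abbrev Cd : Type := Fin 6 → Option (ZMod 3)

/-- The support. -/
def supp6 (f : Cd) : Finset (Fin 6) := univ.filter fun i => (f i).isSome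

theorem mem_supp6 {f : Cd} {i : Fin 6} : i ∈ supp6 f ↔ f i ≠ none := by
  simp [supp6, Option.isSome_iff_ne_none]

namespace FSetting

variable {X : Type u} [Group X] {S : Type w} [Group S] {V : Type v} [AddCommGroup V] (F : FSetting X S V)

include F in
theorem add_self_zmod : ∀ r : ZMod 2, r + r = 0 := by decide

theorem B_symm (a b : V) : F.B a b = F.B b a := by
  have h := F.q_add a b
  rw [add_comm a b, F.q_add b a, add_comm (F.q b) (F.q a)] at h
  exact (add_left_cancel h).symm

theorem B_zero (a : V) : F.B 0 a = 0 := by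
  have h := F.B_add 0 0 a
  rw [add_zero] at h
  simpa using h

theorem B_sum {ι : Type*} (s : Finset ι) (f : ι → V) (a : V) : F.B (∑ i ∈ s, f i) a = ∑ i ∈ s, F.B (f i) a := by
  classical
  induction s using Finset.induction_on with
  | empty => simp [B_zero]
  | insert i s hi ih => rw [sum_insert hi, sum_insert hi, F.B_add, ih]

theorem q_zero : F.q 0 = 0 := by
  have h := F.q_add 0 0
  rw [add_zero, F.B_zero, add_zero] at h
  simpa using h

theorem B_inv (g : X) (a b : V) : F.B (F.ρ g a) (F.ρ g b) = F.B a b := by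
  have h := F.q_add (F.ρ g a) (F.ρ g b)
  rw [← F.ρ_add, F.ρ_q, F.ρ_q, F.ρ_q, F.q_add] at h
  exact (add_left_cancel h).symm

theorem avg_adjoint (c : C5) (a b : V) : F.B (F.W.avg c a) b = F.B a (F.W.avg c b) := by
  rw [WAct.avg_apply, WAct.avg_apply, B_sum, B_symm F a, B_sum]
  refine sum_bij' (fun x _ => -x) (fun x _ => -x) ?_ ?_ (fun _ _ => neg_neg _) (fun _ _ => neg_neg _) ?_
  · intro x hx; simpa using hx
  · intro x hx; simpa using hx
  · intro x _
    rw [B_symm F (F.W.t (-x) b) a, W_t, W_t, ← F.B_inv (F.E.α x) a, ← Equiv.Perm.mul_apply, ← map_mul,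
      ← F.E.α_add, add_neg_cancel, F.E.α_zero, map_one]
    rfl

theorem proj_adjoint (c : C5) (a b : V) : F.B (F.W.proj c a) b = F.B a (F.W.proj c b) := by
  rw [WAct.proj_apply, WAct.proj_apply, F.B_add, B_symm F a, F.B_add, B_symm F (F.W.avg c b), B_symm F (F.W.avg 0 b),
    avg_adjoint, avg_adjoint]

variable [Finite V]

theorem orth {i j : Fin 6} (hij : i ≠ j) {a b : V} (ha : a ∈ F.W.space (F.cs i)) (hb : b ∈ F.W.space (F.cs j)) :
    F.B a b = 0 := by
  obtain ⟨h0, hsep⟩ := F.supp_sep F.cs_mem F.cs_injective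
  rw [← F.W.proj_mem ha, proj_adjoint, ← F.W.proj_mem hb,
    F.W.proj_proj_ne (h0 i) (h0 j) (hsep i j hij).1 (hsep i j hij).2, B_symm, B_zero]

theorem exists_w (i : Fin 6) : ∃ x ∈ F.W.space (F.cs i), x ≠ 0 := by
  obtain ⟨⟨x, hx⟩, hne⟩ := AddSubgroup.ne_bot_iff_exists_ne_zero.mp (F.mem_Supp.mp (F.cs_mem i)).2
  exact ⟨x, hx, fun e => hne (Subtype.ext e)⟩

/-- A base vector of a plane. -/
noncomputable def base (i : Fin 6) : V := (F.exists_w i).choose

theorem base_mem (i : Fin 6) : F.base i ∈ F.W.space (F.cs i) := (F.exists_w i).choose_spec.1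
theorem base_ne (i : Fin 6) : F.base i ≠ 0 := (F.exists_w i).choose_spec.2

theorem cs_e0 (i : Fin 6) : F.cs i ⬝ᵥ (Pi.single 0 1 : C5) = 1 := by
  rw [dotProduct_single, mul_one, cs_zero]

/-- The vectors of a plane. -/
noncomputable def pl (i : Fin 6) : Option (ZMod 3) → V
  | none => 0
  | some k => F.W.t (k • Pi.single 0 1) (F.base i)

theorem pl_mem (i : Fin 6) : ∀ o, F.pl i o ∈ F.W.space (F.cs i)
  | none => zero_mem _
  | some _ => F.W.space_stable _ (F.base_mem i)

theorem t_inj (x : C5) : Function.Injective (F.W.t x) := fun a b h => (F.ρ (F.E.α x)).injective h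

theorem pl_injective (i : Fin 6) : Function.Injective (F.pl i) := by
  have hne : ∀ k, F.pl i (some k) ≠ 0 := fun k e => F.base_ne i (F.t_inj _ (e.trans (map_zero _).symm))
  intro o o' h
  cases o with
  | none => cases o' with
    | none => rfl
    | some k => exact absurd h.symm (hne k)
  | some j => cases o' with
    | none => exact absurd h (hne j)
    | some k =>
      by_contra hjk
      refine F.base_ne i (F.W.fixed_space (a := (j - k) • Pi.single 0 1) (c := (j - k) • F.cs i) ?_ ?_ ?_)
      · have hd : j - k ≠ 0 := sub_ne_zero.mpr fun e => hjk (by rw [e])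
        rw [smul_dotProduct, dotProduct_smul, cs_e0]
        generalize j - k = d at hd ⊢
        revert d; decide
      · have hd : j - k ≠ 0 := sub_ne_zero.mpr fun e => hjk (by rw [e])
        have : (j - k) • F.cs i = F.cs i ∨ (j - k) • F.cs i = -F.cs i := by
          rcases (show ∀ r : ZMod 3, r = 0 ∨ r = 1 ∨ r = -1 by decide) (j - k) with r | r | r
          · exact absurd r hd
          · exact Or.inl (by rw [r, one_smul])
          · exact Or.inr (by rw [r, neg_one_smul])
        rcases this with e | e <;> rw [e, WAct.space]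
        · exact F.base_mem i
        · rw [F.W.proj_neg]; exact F.base_mem i
      · refine F.t_inj (k • Pi.single 0 1) ?_
        rw [← F.W.t_comp, ← add_smul, add_sub_cancel]
        exact h

theorem pl_surj (i : Fin 6) {a : V} (ha : a ∈ F.W.space (F.cs i)) : ∃ o, F.pl i o = a := by
  let f : Option (ZMod 3) → F.W.space (F.cs i) := fun o => ⟨F.pl i o, F.pl_mem i o⟩
  have hb : Function.Bijective f := (Nat.bijective_iff_injective_and_card f).mpr
    ⟨fun o o' h => F.pl_injective i (congrArg Subtype.val h), by rw [F.bijective.2 i]; simp⟩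
  obtain ⟨o, ho⟩ := hb.2 ⟨a, ha⟩
  exact ⟨o, congrArg Subtype.val ho⟩

/-- The decoding map. -/
noncomputable def dec (f : Cd) : V := ∑ i, F.pl i (f i)

theorem proj_dec (f : Cd) (i : Fin 6) : F.W.proj (F.cs i) (F.dec f) = F.pl i (f i) := by
  obtain ⟨h0, hsep⟩ := F.supp_sep F.cs_mem F.cs_injective
  rw [dec, map_sum, sum_eq_single i]
  · exact F.W.proj_mem (F.pl_mem i _)
  · intro j _ hj
    rw [← F.W.proj_mem (F.pl_mem j _),
      F.W.proj_proj_ne (h0 i) (h0 j) (hsep i j hj.symm).1 (hsep i j hj.symm).2]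
  · simp

theorem dec_bijective : Function.Bijective F.dec := by
  refine (Nat.bijective_iff_injective_and_card _).mpr
    ⟨fun f g h => funext fun i => F.pl_injective i (by rw [← proj_dec, ← proj_dec, h]), ?_⟩
  rw [F.cardV, Nat.card_eq_fintype_card]
  simp

theorem dec_none : F.dec (fun _ => none) = 0 := by simp [dec, pl]

/-- The translated coordinates. -/
def shift (d : Fin 6 → ZMod 3) (f : Cd) : Cd := fun i => (f i).map (· + d i)

theorem t_dec (x : C5) (f : Cd) : F.W.t x (F.dec f) = F.dec (shift (F.Φ x) f) := by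
  simp only [dec, map_sum]
  refine sum_congr rfl fun i _ => ?_
  rw [F.W.t_space_eq (F.cs_e0 i) x (F.pl_mem i _), shift]
  cases f i with
  | none => simp [pl]
  | some k =>
    show F.W.t _ (F.W.t (k • Pi.single 0 1) (F.base i)) = F.W.t ((k + F.Φ x i) • Pi.single 0 1) (F.base i)
    rw [← F.W.t_comp, ← add_smul, add_comm]
    rfl

theorem q_base (i : Fin 6) : F.q (F.base i) = 1 := by
  by_contra hne
  have hb0 : F.q (F.base i) = 0 := (show ∀ r : ZMod 2, r ≠ 1 → r = 0 by decide) _ hne
  have hq : ∀ o, F.q (F.pl i o) = 0 := fun o => by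
    cases o with
    | none => exact F.q_zero
    | some k => show F.q (F.ρ _ _) = 0; rw [F.ρ_q, hb0]
  refine F.base_ne i (F.nondeg _ fun v => ?_)
  rw [F.decompose_six v, B_symm, B_sum]
  refine sum_eq_zero fun j _ => ?_
  rw [B_symm]
  by_cases hij : i = j
  · subst hij
    obtain ⟨o, ho⟩ := F.pl_surj i ⟨v, rfl⟩
    obtain ⟨o', ho'⟩ := F.pl_surj i ((F.W.space (F.cs i)).add_mem (F.base_mem i) ⟨v, rfl⟩)
    have h := F.q_add (F.base i) (F.W.proj (F.cs i) v)
    rw [← ho', hq, hb0, ← ho, hq, ho] at h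
    simpa using h.symm
  · exact F.orth hij (F.base_mem i) ⟨v, rfl⟩

theorem q_pl (i : Fin 6) : ∀ o, F.q (F.pl i o) = if o.isSome then 1 else 0
  | none => F.q_zero
  | some k => by show F.q (F.ρ _ _) = 1; rw [F.ρ_q, q_base]

theorem q_dec (f : Cd) : F.q (F.dec f) = ((supp6 f).card : ZMod 2) := by
  classical
  have key : ∀ s : Finset (Fin 6), F.q (∑ i ∈ s, F.pl i (f i)) = ∑ i ∈ s, if (f i).isSome then 1 else 0 := by
    intro s
    induction s using Finset.induction_on with
    | empty => simp [q_zero]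
    | insert i s hi ih =>
      rw [sum_insert hi, sum_insert hi, F.q_add, ih, q_pl, B_symm, B_sum,
        sum_eq_zero (s := s) fun j hj => F.orth (fun e => hi (by rw [← e]; exact hj)) (F.pl_mem j _) (F.pl_mem i _), add_zero]
  rw [dec, key, sum_boole, supp6]

theorem dec_none_iff (f : Cd) (i : Fin 6) : F.W.proj (F.cs i) (F.dec f) = 0 ↔ f i = none := by
  rw [proj_dec]
  exact ⟨fun h => F.pl_injective i h, fun h => by rw [h]; rfl⟩

theorem supp_transfer (g : F.Nh) {f f' : Cd} (h : F.ρ g (F.dec f) = F.dec f') (i : Fin 6) :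
    F.π g i ∈ supp6 f' ↔ i ∈ supp6 f := by
  rw [mem_supp6, mem_supp6, ne_eq, ne_eq, ← F.dec_none_iff, ← F.dec_none_iff f i, ← h, ← F.proj_transfer,
    cs_π]
  exact not_congr ⟨fun e => (F.ρ (g : X)).injective (e.trans (map_zero (F.rho g)).symm),
    fun e => by rw [e]; exact map_zero (F.rho g)⟩

end FSetting

end Cfsg.Lib.LargeFischer
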