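import Cfsg.Agent.LargeFischer.Setting
import Cfsg.Agent.LargeFischer.StabInvariant
import Cfsg.Agent.Coprime.SchurZassenhaus
import Cfsg.Prelude.Def_CaseTheorems

/-!
The subgroup of order three above the large extraspecial subgroup in a group of large Fischer type.
-/

set_option autoImplicit false
set_option maxRecDepth 100000
set_option maxHeartbeats 1000000
set_option linter.unusedSectionVars false
set_option linter.style.haveILetI false

namespace Cfsg.Lib.LargeFischer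

open Subgroup QuadraticMap
open Cfsg.Lib.LargeExtra (X2 mem_map_conj mem_zpowers_two mem_conj_of_mem)
open Cfsg.Lib.LargeExtra.OutExtra
open scoped commutatorElement

universe u

variable {G : Type u} [Group G] [Finite G]

theorem sq_mem_two {H : Type u} [Group H] {M : Subgroup H} (hM : M.index = 2) {x : H} (h : x ^ 3 ∈ M) : x ∈ M := by
  have h2 := M.sq_mem_of_index_two hM x
  have e : x = x ^ 3 * (x ^ 2)⁻¹ := by group
  rw [e]
  exact mul_mem h (inv_mem h2)

namespace Ctx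

variable {z : G} {Q : Subgroup (centralizer ({z} : Set G))} [Q.Normal] (c : Ctx z Q)

/-- The involution as an element of the centralizer. -/
def zH : ↥(centralizer ({z} : Set G)) := ((c.zq : ↥Q) : ↥(centralizer ({z} : Set G)))

theorem zH_val : (c.zH : G) = z := c.zv

theorem zH_comm (h : ↥(centralizer ({z} : Set G))) : Commute h c.zH :=
  Subtype.ext (by show (h : G) * (c.zH : G) = (c.zH : G) * (h : G); rw [c.zH_val]; exact mem_centralizer_singleton_iff.mp h.2)

theorem zH_sq : c.zH * c.zH = 1 :=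
  Subtype.ext (by show (c.zH : G) * (c.zH : G) = 1; rw [c.zH_val]; exact c.X2g.zz)

theorem zH_ne : c.zH ≠ 1 := fun e => c.X2g.ne (by rw [← c.zH_val, e]; rfl)

theorem zH_mem : c.zH ∈ Q := c.zq.2

theorem zH_inv : c.zH⁻¹ = c.zH := inv_eq_of_mul_eq_one_right c.zH_sq

theorem conj_cases {a b : ↥(centralizer ({z} : Set G))} (ha : a ∈ Q) (hb : b ∈ Q) :
    a * b * a⁻¹ = b ∨ a * b * a⁻¹ = c.zH * b := by
  rcases c.X2g.conj_cases (a := (a : G)) (b := (b : G)) ⟨a, ha, rfl⟩ ⟨b, hb, rfl⟩ with e | e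
  · exact Or.inl (Subtype.ext e)
  · refine Or.inr (Subtype.ext ?_)
    show (a : G) * (b : G) * (a : G)⁻¹ = (c.zH : G) * (b : G)
    rw [c.zH_val]; exact e

theorem pt_eq {a b : ↥Q} (h : c.pt a = c.pt b) :
    (b : ↥(centralizer ({z} : Set G))) = a ∨ (b : ↥(centralizer ({z} : Set G))) = a * c.zH := by
  rcases center_cases c.D.es (c.D.eq_iff.mp h) with e | e <;> rw [inv_mul_eq_iff_eq_mul] at e <;> subst e
  · exact Or.inl (by rw [mul_one])
  · exact Or.inr rfl

theorem pt_zero {a : ↥Q} : c.pt a = 0 ↔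
    (a : ↥(centralizer ({z} : Set G))) = 1 ∨ (a : ↥(centralizer ({z} : Set G))) = c.zH := by
  constructor
  · intro h
    rcases center_cases c.D.es ((c.D.ker a).mp h) with e | e <;> subst e
    · exact Or.inl rfl
    · exact Or.inr rfl
  · rintro (e | e)
    · rw [show a = 1 from Subtype.ext e]; exact c.D.π_one
    · rw [show a = c.zq from Subtype.ext e]; exact c.D.π_z

theorem pt_mul (a b : ↥Q) : c.pt (a * b) = c.pt a + c.pt b := c.D.mul a b

theorem commute_of_B {a b : ↥Q} (h : c.F.B (c.pt a) (c.pt b) = 0) :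
    Commute (a : ↥(centralizer ({z} : Set G))) b := by
  have h1 := c.F.q_add (c.pt a) (c.pt b)
  rw [h, add_zero, ← pt_mul, c.Fq, pt, pt, pt, c.D.hT, c.D.hT, c.D.hT, sq_mul c.D.es] at h1
  exact congrArg Subtype.val (commute_of_cm (add_eq_left.mp h1)).eq.symm

theorem rep_Q {q : ↥(centralizer ({z} : Set G))} (hq : q ∈ Q) : rep Q c.D q = 1 :=
  MonoidHom.mem_ker.mp (c.ker.symm ▸ hq : q ∈ (rep Q c.D).ker)

theorem rep_eq_one {q : ↥(centralizer ({z} : Set G))} (hq : rep Q c.D q = 1) : q ∈ Q :=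
  c.ker ▸ MonoidHom.mem_ker.mpr hq

theorem mem_X {m : ↥(centralizer ({z} : Set G))} (hm : m ∈ c.M) :
    rep Q c.D m ∈ ((rep Q c.D).comp c.M.subtype).range := ⟨⟨m, hm⟩, rfl⟩

theorem ρ_val (v : ↥((rep Q c.D).comp c.M.subtype).range) : c.F.ρ v = (v : Equiv.Perm (c.ι → ZMod 2)) := by
  rw [c.Fρ]; rfl

theorem orb_iff (v w : c.ι → ZMod 2) : w ∈ c.F.orb v ↔ ∃ m ∈ c.M, rep Q c.D m v = w := by
  constructor
  · rintro ⟨⟨_, m, rfl⟩, h⟩
    rw [c.ρ_val] at h
    exact ⟨m, m.2, h⟩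
  · rintro ⟨m, hm, h⟩
    exact ⟨⟨_, c.mem_X hm⟩, by rw [c.ρ_val]; exact h⟩

theorem orb_map (h : ↥(centralizer ({z} : Set G))) (v : c.ι → ZMod 2) :
    Nat.card (c.F.orb (rep Q c.D h v)) = Nat.card (c.F.orb v) := by
  have e : c.F.orb (rep Q c.D h v) = rep Q c.D h '' c.F.orb v := by
    haveI := c.Mn
    ext w
    rw [Set.mem_image]
    simp only [orb_iff]
    constructor
    · rintro ⟨m, hm, rfl⟩
      refine ⟨_, ⟨h⁻¹ * m * h, by simpa using c.Mn.conj_mem m hm h⁻¹, rfl⟩, ?_⟩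
      rw [← Equiv.Perm.mul_apply, ← map_mul, show h * (h⁻¹ * m * h) = m * h by group, map_mul, Equiv.Perm.mul_apply]
    · rintro ⟨_, ⟨m, hm, rfl⟩, rfl⟩
      refine ⟨h * m * h⁻¹, c.Mn.conj_mem m hm h, ?_⟩
      rw [← Equiv.Perm.mul_apply, ← map_mul, inv_mul_cancel_right, map_mul, Equiv.Perm.mul_apply]
  rw [e, Nat.card_image_of_injective (rep Q c.D h).injective]

/-- A conjugate of the involution lies in the long orbit. -/
theorem long_of_conj {g : G} {x : ↥(centralizer ({z} : Set G))} (hxQ : x ∈ Q) (hg : g * z * g⁻¹ = (x : G))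
    (hxz : (x : G) ≠ z) : c.F.q (c.pt ⟨x, hxQ⟩) = 0 ∧ c.pt ⟨x, hxQ⟩ ≠ 0 ∧
      Nat.card (c.F.orb (c.pt ⟨x, hxQ⟩)) = 1701 := by
  haveI : Fact (Nat.Prime 2) := ⟨Nat.prime_two⟩
  obtain ⟨s, t, -, hs2, -, hsz, -, -, -, hns, h1701, -, -, hall, -⟩ := c.exists_points
  have hord : orderOf x = 2 := by
    rw [← Subgroup.orderOf_coe, ← hg]
    exact (orderOf_injective (MulAut.conj g).toMonoidHom (MulAut.conj g).injective z).trans
      (orderOf_eq_prime (by rw [pow_two]; exact c.X2g.zz) c.X2g.ne)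
  obtain ⟨h1, h2⟩ := c.sing hxQ hord hxz
  refine ⟨h1, h2, ?_⟩
  rcases hall _ h1 h2 with h | h
  · exfalso
    obtain ⟨d, hd⟩ := c.conj_of_orb h hsz fun e => by rw [e, orderOf_one] at hs2; norm_num at hs2
    exact hns (IsConj.trans (isConj_iff.mpr ⟨g, hg⟩) (isConj_iff.mpr ⟨(d : G), congrArg Subtype.val hd⟩).symm)
  · rw [c.F.orb_eq h, h1701]

theorem exists_conj (hF : Cfsg.IsOfLargeFischerTypeAt z Q) :
    ∃ (g : G) (x : ↥Q), g * z * g⁻¹ = ((x : ↥(centralizer ({z} : Set G))) : G) ∧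
      ((x : ↥(centralizer ({z} : Set G))) : G) ≠ z := by
  obtain ⟨⟨-, -, -, -, g, ⟨hq, hgQ⟩, hne⟩, -⟩ := hF
  exact ⟨g, ⟨_, hgQ⟩, rfl, hne⟩

/-- The element generating the subgroup of order three. -/
structure Three (X : Subgroup ↥(centralizer ({z} : Set G))) where
  ξ : ↥(centralizer ({z} : Set G))
  three : ξ ^ 3 = 1
  ne : ξ ≠ 1
  mem : ξ ∈ c.M
  rep : rep Q c.D ξ = c.F.ρ c.F.E.ω
  gen : X = zpowers ξ
  N : Subgroup ↥(centralizer ({z} : Set G))
  Nn : N.Normal
  QN : Q ≤ N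
  Ncard : Nat.card N = 3 * 2 ^ 13
  K : Type
  [fK : Field K]
  [fiK : Fintype K]
  hK : Fintype.card K = 9
  simple : IsSimpleGroup (Cfsg.PSU 4 K 3)
  perfect : _root_.commutator (Cfsg.PSU 4 K 3) = ⊤
  ψ : ↥c.M →* Cfsg.PSU 4 K 3
  surj : Function.Surjective ψ
  ψker : ψ.ker = N.subgroupOf c.M
  Nrep : ∀ n ∈ N, ∃ i, Cfsg.Lib.LargeFischer.rep Q c.D n = c.F.ρ (pw3 c.F.E.ω i)

theorem exists_three (hF : Cfsg.IsOfLargeFischerTypeAt z Q) (X : Subgroup ↥(centralizer ({z} : Set G)))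
    (hX : Nat.card X = 3) (hXQ : (X ⊔ Q).Normal) : Nonempty (c.Three X) := by
  classical
  haveI := c.Mn
  have htwo : ∀ r : ZMod 3, r ≠ 0 → r = 1 ∨ r = 2 := by decide
  haveI : Fact (Nat.Prime 3) := ⟨by norm_num⟩
  obtain ⟨-, N, M, hNn, hMn, hQN, hNM, hN, ⟨K, _, _, hK, ⟨e⟩⟩, hM⟩ := hF
  haveI := hNn
  haveI := hMn
  obtain ⟨-, hS, hScard⟩ := exists_radical hK
  haveI := hS
  have hNc : Nat.card N = 3 * 2 ^ 13 := by rw [hN, c.card]
  have hN3 : ∀ n ∈ N, n ^ 3 ∈ Q := fun n hn => by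
    have h := Subgroup.card_eq_card_quotient_mul_card_subgroup (Q.subgroupOf N)
    rw [hNc, Nat.card_congr (subgroupOfEquivOfLe hQN).toEquiv, c.card] at h
    have h3 : Nat.card (↥N ⧸ Q.subgroupOf N) = 3 := by omega
    have h2 := pow_card_eq_one' (x := (QuotientGroup.mk (⟨n, hn⟩ : N) : ↥N ⧸ Q.subgroupOf N))
    rw [h3, ← QuotientGroup.mk_pow, QuotientGroup.eq_one_iff] at h2
    exact h2
  let ψ0 : ↥M →* Cfsg.PSU 4 K 3 := e.toMonoidHom.comp (QuotientGroup.mk' (N.subgroupOf M))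
  have hψ0 : Function.Surjective ψ0 := e.surjective.comp (QuotientGroup.mk'_surjective _)
  have hker : ψ0.ker = N.subgroupOf M := by
    ext m
    show e (QuotientGroup.mk m) = 1 ↔ _
    rw [map_eq_one_iff e e.injective, QuotientGroup.eq_one_iff]
  have hMc : Nat.card M = 3 * 2 ^ 13 * 3265920 := by
    have h := Subgroup.card_eq_card_quotient_mul_card_subgroup (N.subgroupOf M)
    rw [Nat.card_congr (subgroupOfEquivOfLe hNM).toEquiv, hN, c.card, Nat.card_congr e.toEquiv, hScard] at h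
    rw [h, mul_comm]
  have small : ∀ J : Subgroup ↥(centralizer ({z} : Set G)), J ≤ M → (J.subgroupOf M).Normal →
      Nat.card J < 3265920 → J ≤ N := fun J hJM hJn hJc => by
    haveI := hJn
    haveI : ((J.subgroupOf M).map ψ0).Normal := Subgroup.Normal.map inferInstance _ hψ0
    rcases IsSimpleGroup.eq_bot_or_eq_top_of_normal ((J.subgroupOf M).map ψ0) inferInstance with h | h
    · rw [Subgroup.map_eq_bot_iff, hker] at h
      intro j hj
      exact h (show (⟨j, hJM hj⟩ : M) ∈ J.subgroupOf M from hj)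
    · exfalso
      have h1 := card_map_dvd (J.subgroupOf M) ψ0
      rw [h, card_top, hScard, Nat.card_congr (subgroupOfEquivOfLe hJM).toEquiv] at h1
      have := Nat.le_of_dvd Nat.card_pos h1
      omega
  have hMeq : M = c.M := by
    have hNcM : N ≤ c.M := fun n hn => sq_mem_two c.Mi (c.QM (hN3 n hn))
    haveI : ((c.M.subgroupOf M).map ψ0).Normal := Subgroup.Normal.map inferInstance _ hψ0
    rcases IsSimpleGroup.eq_bot_or_eq_top_of_normal ((c.M.subgroupOf M).map ψ0) inferInstance with h | h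
    · exfalso
      rw [Subgroup.map_eq_bot_iff, hker] at h
      have h1 : c.M ⊓ M ≤ N := fun m hm => h (show (⟨m, hm.2⟩ : M) ∈ c.M.subgroupOf M from hm.1)
      have h2 : c.M.relIndex M ≤ 2 := by
        rw [← c.Mi, ← relIndex_top_right c.M]
        exact relIndex_le_of_le_right le_top (by rw [relIndex_top_right, c.Mi]; norm_num)
      have h3 := relIndex_mul_relIndex ⊥ (M ⊓ c.M) M bot_le inf_le_left
      rw [relIndex_bot_left, relIndex_bot_left, inf_relIndex_left, hMc] at h3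
      have h4 : Nat.card ↥(M ⊓ c.M) ≤ 3 * 2 ^ 13 := by
        rw [← hNc, inf_comm]; exact card_le_of_le h1
      have h5 := Nat.mul_le_mul h4 h2
      rw [h3] at h5
      norm_num at h5
    · have hle : M ≤ c.M := fun m hm => by
        obtain ⟨a, ha, hae⟩ : ψ0 ⟨m, hm⟩ ∈ (c.M.subgroupOf M).map ψ0 := h ▸ mem_top _
        have hk : a⁻¹ * ⟨m, hm⟩ ∈ ψ0.ker := by rw [MonoidHom.mem_ker, map_mul, map_inv, hae, inv_mul_cancel]
        rw [hker, mem_subgroupOf] at hk
        have h2 : (a : ↥(centralizer ({z} : Set G))) * ((a : ↥(centralizer ({z} : Set G)))⁻¹ * m) ∈ c.M :=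
          mul_mem ha (hNcM hk)
        rwa [mul_inv_cancel_left] at h2
      exact eq_of_le_of_card_ge hle (by rw [hMc, c.Mcard])
  subst hMeq
  -- the preimage of the centre
  let J : Subgroup ↥(centralizer ({z} : Set G)) :=
    c.M ⊓ (c.F.E.ψ.ker.map ((rep Q c.D).comp c.M.subtype).range.subtype).comap (rep Q c.D)
  have hJn : (J.subgroupOf c.M).Normal := ⟨fun j hj m => by
    rw [mem_subgroupOf] at hj ⊢
    obtain ⟨hjM, k, hk, hkj⟩ := hj
    refine ⟨((m : c.M) * j * m⁻¹).2, k, hk, ?_⟩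
    have hc := mem_center_iff.mp (c.F.E.central hk) ⟨_, c.mem_X m.2⟩
    show (k : Equiv.Perm (c.ι → ZMod 2)) = rep Q c.D ((m : ↥(centralizer ({z} : Set G))) * j * (m : ↥(centralizer ({z} : Set G)))⁻¹)
    rw [map_mul, map_mul, map_inv, ← hkj, eq_mul_inv_iff_mul_eq]
    exact (congrArg Subtype.val hc).symm⟩
  have hJc : Nat.card J = 3 * 2 ^ 13 := by
    have h := c.card_map_rep J
    have h1 : J ⊓ Q = Q := inf_of_le_right fun q hq => ⟨c.QM hq, mem_comap.mpr (by
      rw [c.rep_Q hq]; exact one_mem _)⟩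
    have h2 : J.map (rep Q c.D) = c.F.E.ψ.ker.map ((rep Q c.D).comp c.M.subtype).range.subtype := by
      refine le_antisymm (by rintro _ ⟨j, hj, rfl⟩; exact hj.2) ?_
      rintro _ ⟨⟨_, m, rfl⟩, hk, rfl⟩
      exact ⟨m, ⟨m.2, ⟨_, m, rfl⟩, hk, rfl⟩, rfl⟩
    rw [h1, h2, card_map_of_injective (subtype_injective _), c.F.E.card, c.card] at h
    exact h
  have hJN : J = N := by
    refine eq_of_le_of_card_ge (small J inf_le_left hJn (by rw [hJc]; norm_num)) ?_
    rw [hNc, hJc]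
  have hx3 : ∀ x ∈ X, x ^ 3 = 1 := fun x hx => by
    have h := pow_card_eq_one' (x := (⟨x, hx⟩ : X))
    rw [hX] at h
    exact congrArg Subtype.val h
  have hXM : X ≤ c.M := fun x hx => sq_mem_two c.Mi (by rw [hx3 x hx]; exact one_mem _)
  have hXN : X ≤ N := by
    haveI := hXQ
    refine le_sup_left.trans (small (X ⊔ Q) (sup_le hXM c.QM) (Normal.subgroupOf hXQ _) ?_)
    have h := c.card_map_rep (X ⊔ Q)
    rw [inf_of_le_right (le_sup_right : Q ≤ X ⊔ Q), c.card, Subgroup.map_sup,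
      show Q.map (rep Q c.D) = ⊥ from (Subgroup.map_eq_bot_iff _).mpr c.ker.ge, sup_bot_eq] at h
    have h1 : Nat.card ↥(X.map (rep Q c.D)) ≤ 3 :=
      Nat.le_of_dvd (by norm_num) (by rw [← hX]; exact card_map_dvd X (rep Q c.D))
    rw [h]
    exact lt_of_le_of_lt (Nat.mul_le_mul_right _ h1) (by norm_num)
  have hNrep : ∀ n ∈ N, ∃ i, rep Q c.D n = c.F.ρ (pw3 c.F.E.ω i) := fun n hn => by
    obtain ⟨-, k, hk, hkn⟩ : n ∈ J := hJN.symm ▸ hn
    obtain ⟨i, rfl⟩ := c.F.E.ω_onto hk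
    exact ⟨i, by rw [← hkn, c.ρ_val]; rfl⟩
  haveI : Nontrivial X := Finite.one_lt_card_iff_nontrivial.mp (by rw [hX]; norm_num)
  obtain ⟨⟨x, hx⟩, hx1'⟩ := exists_ne (1 : X)
  have hx1 : x ≠ 1 := fun e => hx1' (Subtype.ext e)
  obtain ⟨i, hi⟩ := hNrep x (hXN hx)
  have hi0 : i ≠ 0 := fun e => by
    rw [e, pw3_zero, map_one] at hi
    have h1 := pow_card_eq_one' (x := (⟨x, c.rep_eq_one hi⟩ : Q))
    have h2 : x ^ 2 ^ 13 = 1 := by rw [← c.card]; exact congrArg Subtype.val h1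
    refine hx1 ?_
    have := pow_gcd_eq_one.mpr ⟨h2, hx3 x hx⟩
    rwa [show Nat.gcd (2 ^ 13) 3 = 1 by norm_num, pow_one] at this
  refine ⟨{
    ξ := pw3 x i
    three := hx3 _ (pow_mem hx _)
    ne := fun e => ?_
    mem := pow_mem (hXM hx) _
    rep := ?_
    gen := ?_
    N := N, Nn := hNn, QN := hQN, Ncard := hNc, K := K, hK := hK, simple := hS
    perfect := ?_
    ψ := ψ0, surj := hψ0, ψker := hker, Nrep := hNrep }⟩
  · rcases htwo i hi0 with rfl | rfl
    · rw [pw3_one] at e; exact hx1 e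
    · exact hx1 (by
        have e2 : x ^ 2 = 1 := e
        have := pow_gcd_eq_one.mpr ⟨e2, hx3 x hx⟩
        rwa [show Nat.gcd 2 3 = 1 by norm_num, pow_one] at this)
  · rw [show rep Q c.D (pw3 x i) = (rep Q c.D x) ^ i.val from map_pow _ _ _, hi, ← map_pow]
    rcases htwo i hi0 with rfl | rfl
    · rw [pw3_one]; exact congrArg c.F.ρ (pow_one _)
    · congr 1
      rw [show (2 : ZMod 3).val = 2 from rfl, pw3, show (2 : ZMod 3).val = 2 from rfl, ← pow_mul,
        show 2 * 2 = 3 + 1 from rfl, pow_add, c.F.E.ω_three, one_mul, pow_one]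
  · refine (eq_of_le_of_card_ge (zpowers_le.mpr (pow_mem hx _)) ?_).symm
    rw [hX, Nat.card_zpowers, orderOf_eq_prime (hx3 _ (pow_mem hx _)) fun e => ?_]
    rcases htwo i hi0 with rfl | rfl
    · exact hx1 (pow_one x ▸ e)
    · exact hx1 (by
        have e2 : x ^ 2 = 1 := e
        have := pow_gcd_eq_one.mpr ⟨e2, hx3 x hx⟩
        rwa [show Nat.gcd 2 3 = 1 by norm_num, pow_one] at this)
  · refine (Subgroup.commutator_normal ⊤ ⊤).eq_bot_or_eq_top.resolve_left fun h => ?_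
    letI : CommGroup (Cfsg.PSU 4 K 3) :=
      { (inferInstance : Group (Cfsg.PSU 4 K 3)) with
        mul_comm := fun a b => commutatorElement_eq_one_iff_mul_comm.mp
          (mem_bot.mp (h ▸ commutator_mem_commutator (mem_top a) (mem_top b))) }
    haveI : IsSimpleGroup (Cfsg.PSU 4 K 3) := hS
    have := IsSimpleGroup.prime_card (α := Cfsg.PSU 4 K 3)
    rw [hScard] at this
    norm_num at this

attribute [instance] Three.fK Three.fiK

namespace Three

variable {c} {X : Subgroup ↥(centralizer ({z} : Set G))} (T : c.Three X)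

include T

theorem mem_iff {h : ↥(centralizer ({z} : Set G))} :
    h ∈ centralizer (X : Set ↥(centralizer ({z} : Set G))) ↔ Commute h T.ξ := by
  rw [show (X : Set ↥(centralizer ({z} : Set G))) = (zpowers T.ξ : Set ↥(centralizer ({z} : Set G))) from
    congrArg SetLike.coe T.gen, mem_centralizer_iff]
  refine ⟨fun hh => (hh _ (mem_zpowers T.ξ)).symm, fun hc y hy => ?_⟩
  obtain ⟨n, rfl⟩ := mem_zpowers_iff.mp hy
  exact (hc.zpow_right n).symm

/-- The translate of a point. -/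
noncomputable def rot (x : ↥Q) : ↥Q := MulAut.conjNormal T.ξ x

theorem rot_val (x : ↥Q) :
    ((T.rot x : ↥Q) : ↥(centralizer ({z} : Set G))) = T.ξ * x * T.ξ⁻¹ := MulAut.conjNormal_apply _ _

theorem pt_rot (x : ↥Q) : c.pt (T.rot x) = c.F.ρ c.F.E.ω (c.pt x) := by rw [← T.rep, c.act]; rfl

theorem fpf {v : c.ι → ZMod 2} (h : c.F.ρ c.F.E.ω v = v) : v = 0 :=
  c.F.central_fpf (by rw [FSetting.W_t, c.F.E.α_e, pw3_one]; exact h)

theorem orbit_sum (v : c.ι → ZMod 2) :
    v + c.F.ρ c.F.E.ω v + c.F.ρ c.F.E.ω (c.F.ρ c.F.E.ω v) = 0 := by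
  refine T.fpf ?_
  rw [c.F.ρ_add, c.F.ρ_add]
  have h3 : c.F.ρ c.F.E.ω (c.F.ρ c.F.E.ω (c.F.ρ c.F.E.ω v)) = v := by
    rw [← Equiv.Perm.mul_apply, ← Equiv.Perm.mul_apply, ← map_mul, ← map_mul, ← pow_three', c.F.E.ω_three, map_one]
    rfl
  rw [h3]
  abel

theorem fixQ {q : ↥(centralizer ({z} : Set G))} (hq : q ∈ Q) (h : Commute q T.ξ) : q = 1 ∨ q = c.zH := by
  refine (c.pt_zero (a := ⟨q, hq⟩)).mp (T.fpf ?_)
  rw [← T.pt_rot]
  exact congrArg c.pt (Subtype.ext (by rw [rot_val, ← h.eq, mul_inv_cancel_right]))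

theorem rep_comm {m : ↥(centralizer ({z} : Set G))} (hm : m ∈ c.M) :
    Commute (Cfsg.Lib.LargeFischer.rep Q c.D m) (Cfsg.Lib.LargeFischer.rep Q c.D T.ξ) := by
  have h := mem_center_iff.mp (c.F.E.central c.F.E.ω_mem) ⟨_, c.mem_X hm⟩
  have h' := congrArg Subtype.val h
  rw [T.rep, c.ρ_val]
  exact h'

theorem frattini {m : ↥(centralizer ({z} : Set G))} (hm : m ∈ c.M) :
    ∃ q ∈ Q, Commute (q * m) T.ξ := by
  haveI : Fact (Nat.Prime 3) := ⟨by norm_num⟩
  have hord : orderOf T.ξ = 3 := orderOf_eq_prime T.three T.ne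
  set η := m * T.ξ * m⁻¹ with hη
  have hηord : orderOf η = 3 := by rw [← hord]; exact orderOf_injective (MulAut.conj m).toMonoidHom (MulAut.conj m).injective T.ξ
  have hrepη : Cfsg.Lib.LargeFischer.rep Q c.D η = Cfsg.Lib.LargeFischer.rep Q c.D T.ξ := by
    rw [hη, map_mul, map_mul, map_inv, (T.rep_comm hm).eq, mul_inv_cancel_right]
  have hle : zpowers η ≤ Q ⊔ zpowers T.ξ := by
    rw [zpowers_le, show η = η * T.ξ⁻¹ * T.ξ by group]
    exact mul_mem (mem_sup_left (c.rep_eq_one (by rw [map_mul, map_inv, hrepη, mul_inv_cancel])))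
      (mem_sup_right (mem_zpowers _))
  obtain ⟨x, hx, hxe⟩ := Cfsg.Lib.Coprime.exists_conj_eq_of_coprime (N := Q) (H := zpowers T.ξ) (K := zpowers η)
    (le_normalizer_of_normal) (by rw [c.card, Nat.card_zpowers, hord]; norm_num)
    (Or.inl (by haveI := c.hE.1.1.isNilpotent; infer_instance)) hle
    (by rw [Nat.card_zpowers, Nat.card_zpowers, hord, hηord])
  refine ⟨x⁻¹, inv_mem hx, ?_⟩
  have hmem : x⁻¹ * η * x ∈ zpowers T.ξ := by
    have := Cfsg.Lib.Coprime.mem_conjMap.mp (hxe ▸ mem_zpowers η : η ∈ Cfsg.Lib.Coprime.conjMap x (zpowers T.ξ))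
    exact this
  obtain ⟨n, hn⟩ := Submonoid.mem_powers_iff _ _ |>.mp (mem_powers_iff_mem_zpowers.mpr hmem)
  have hrepn : Cfsg.Lib.LargeFischer.rep Q c.D T.ξ ^ n = Cfsg.Lib.LargeFischer.rep Q c.D T.ξ := by
    rw [← map_pow, hn, map_mul, map_mul, hrepη, c.rep_Q hx, c.rep_Q (inv_mem hx), mul_one, one_mul]
  have hne : Cfsg.Lib.LargeFischer.rep Q c.D T.ξ ≠ 1 := fun e => c.F.E.ω_ne
    (c.F.ρ_inj (by rw [← T.rep, e, map_one]))
  have ho : orderOf (Cfsg.Lib.LargeFischer.rep Q c.D T.ξ) = 3 :=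
    orderOf_eq_prime (by rw [← map_pow, T.three, map_one]) hne
  have hn3 : n % 3 = 1 := by
    have := pow_inj_mod (x := Cfsg.Lib.LargeFischer.rep Q c.D T.ξ) (n := n) (m := 1)
    rw [pow_one, ho] at this
    exact this.mp hrepn
  have hξn : T.ξ ^ n = T.ξ := by
    rw [← pow_mod_orderOf, hord, hn3, pow_one]
  rw [hξn] at hn
  have e : x⁻¹ * m * T.ξ * (x⁻¹ * m)⁻¹ = T.ξ := by
    conv_rhs => rw [hn, hη]
    group
  exact mul_inv_eq_iff_eq_mul.mp e

/-- A conjugate of the involution in `Q` whose three translates multiply to the identity. -/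
theorem exists_triple (hF : Cfsg.IsOfLargeFischerTypeAt z Q) :
    ∃ (g : G) (x : ↥Q), g * z * g⁻¹ = ((x : ↥(centralizer ({z} : Set G))) : G) ∧
      ((x : ↥(centralizer ({z} : Set G))) : G) ≠ z ∧ x * T.rot x * T.rot (T.rot x) = 1 := by
  obtain ⟨g, x, hg, hxz⟩ := Ctx.exists_conj hF
  have hsum : c.pt (x * T.rot x * T.rot (T.rot x)) = 0 := by
    simp only [c.pt_mul, T.pt_rot]
    exact T.orbit_sum _
  have hrotz : T.rot c.zq = c.zq := Subtype.ext (by
    show ((T.rot c.zq : ↥Q) : ↥(centralizer ({z} : Set G))) = c.zH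
    rw [rot_val]
    exact mul_inv_eq_iff_eq_mul.mpr (c.zH_comm T.ξ).eq)
  rcases c.pt_zero.mp hsum with e | e
  · exact ⟨g, x, hg, hxz, Subtype.ext e⟩
  · have hx1 : (x : ↥(centralizer ({z} : Set G))) ≠ 1 := fun e1 => by
      have h0 : g * z * g⁻¹ = 1 := by rw [hg, e1]; rfl
      exact c.X2g.ne (conj_eq_one_iff.mp h0)
    obtain ⟨q, -, hq⟩ := c.swap x (x * c.zq) (by rw [c.pt_mul, show c.pt c.zq = 0 from c.D.π_z, add_zero]) hxz hx1
    refine ⟨(q : G) * g, x * c.zq, ?_, fun e2 => ?_, ?_⟩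
    · rw [← congrArg Subtype.val hq]
      show (q : G) * g * z * ((q : G) * g)⁻¹ = (q : G) * ((x : ↥(centralizer ({z} : Set G))) : G) * (q : G)⁻¹
      rw [← hg]; group
    · refine hx1 (Subtype.ext ?_)
      rw [Subgroup.coe_mul, Subgroup.coe_mul, c.zv, mul_eq_right] at e2
      exact e2
    · have hzc : ∀ a : ↥Q, c.zq * a = a * c.zq := fun a => Subtype.ext (c.zH_comm a).eq.symm
      have hzz : c.zq * c.zq = 1 := Subtype.ext c.zH_sq
      have hrot : ∀ a, T.rot (a * c.zq) = T.rot a * c.zq := fun a => by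
        conv_rhs => rw [← hrotz]
        exact map_mul _ _ _
      have he : x * T.rot x * T.rot (T.rot x) = c.zq := Subtype.ext e
      rw [hrot, hrot, show x * c.zq * (T.rot x * c.zq) * (T.rot (T.rot x) * c.zq) =
          x * (c.zq * T.rot x) * c.zq * T.rot (T.rot x) * c.zq by group, hzc,
        show x * (T.rot x * c.zq) * c.zq = x * T.rot x * (c.zq * c.zq) by group, hzz, mul_one, he, hzz]

theorem triple_commute {x : ↥Q} (h : x * T.rot x * T.rot (T.rot x) = 1) (hx : x * x = 1) :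
    Commute (x : ↥(centralizer ({z} : Set G))) (T.rot x : ↥Q) := by
  have hr : T.rot x * T.rot x = 1 := by
    show MulAut.conjNormal T.ξ x * MulAut.conjNormal T.ξ x = 1
    rw [← map_mul, hx, map_one]
  have hr2 : T.rot (T.rot x) * T.rot (T.rot x) = 1 := by
    show MulAut.conjNormal T.ξ (T.rot x) * MulAut.conjNormal T.ξ (T.rot x) = 1
    rw [← map_mul, hr, map_one]
  have e : x * T.rot x = T.rot (T.rot x) := by
    rw [mul_eq_one_iff_eq_inv] at h
    rw [h, inv_eq_of_mul_eq_one_right hr2]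
  have hxx : x * T.rot x * (x * T.rot x) = 1 := by rw [e, hr2]
  have h2 : x * T.rot x = T.rot x * x := by
    rw [mul_eq_one_iff_eq_inv, _root_.mul_inv_rev, inv_eq_of_mul_eq_one_right hx, inv_eq_of_mul_eq_one_right hr] at hxx
    exact hxx
  exact congrArg Subtype.val h2

end Three

end Ctx

end Cfsg.Lib.LargeFischer
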