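import Cfsg.Agent.LargeFischer.CoverBasic

/-!
The outer elements of the centralizer invert the subgroup of order three.
-/

set_option autoImplicit false
set_option maxRecDepth 100000
set_option maxHeartbeats 1000000
set_option linter.unusedSectionVars false
set_option linter.style.haveILetI false

namespace Cfsg.Lib.LargeFischer

open Subgroup QuadraticMap
open Cfsg.Lib.LargeExtra (X2 mem_map_conj mem_zpowers_two mem_conj_of_mem)
open Cfsg.Lib.LargeExtra.OutExtra
open scoped commutatorElement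

universe u

variable {G : Type u} [Group G] [Finite G] {z : G} {Q : Subgroup (centralizer ({z} : Set G))} [Q.Normal]

namespace Ctx

variable (c : Ctx z Q)

include c in
theorem mem_conj {g : G} {x : ↥Q} (hg : g * z * g⁻¹ = ((x : ↥(centralizer ({z} : Set G))) : G))
    (hxz : ((x : ↥(centralizer ({z} : Set G))) : G) ≠ z) :
    g⁻¹ * z * g ∈ Q.map (centralizer ({z} : Set G)).subtype :=
  mem_conj_of_mem c.X2g c.CQ c.CN (by rw [card_map_of_injective (subtype_injective _), c.card]; norm_num)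
    (by rw [hg]; exact ⟨_, x.2, rfl⟩) (by rw [hg]; exact hxz)

end Ctx

namespace Ctx.Three

variable {c : Ctx z Q} {X : Subgroup ↥(centralizer ({z} : Set G))} (T : c.Three X)

include T

/-- The element of order three is not central modulo `Q`. -/
theorem not_central (hF : Cfsg.IsOfLargeFischerTypeAt z Q)
    (hcen : ∀ h, Commute (Cfsg.Lib.LargeFischer.rep Q c.D h) (Cfsg.Lib.LargeFischer.rep Q c.D T.ξ)) : False := by
  have h201 : ∀ r : ZMod 2, r ≠ 0 → r = 1 := by decide
  have h111 : (1 : ZMod 2) + 1 + 1 ≠ 0 := by decide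
  haveI : Fact (Nat.Prime 2) := ⟨Nat.prime_two⟩
  obtain ⟨g, x, hg, hxz, htri⟩ := T.exists_triple hF
  obtain ⟨hxq, hx0, -⟩ := c.long_of_conj x.2 hg hxz
  have hxx : x * x = 1 := by
    rw [mul_self_eq c.D.es, ← c.D.hT]
    rw [c.Fq] at hxq
    rw [show c.D.π x = c.pt x from rfl, hxq, Cfsg.Lib.ExtraOut.pw_zero]
  set y := T.rot x with hy
  have hyx : Commute (x : ↥(centralizer ({z} : Set G))) y := T.triple_commute htri hxx
  have hry : ∀ r ∈ c.RC g, r * (y : ↥(centralizer ({z} : Set G))) * r⁻¹ = y ∨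
      r * (y : ↥(centralizer ({z} : Set G))) * r⁻¹ = y * c.zH := by
    intro r hr
    have h1 : Cfsg.Lib.LargeFischer.rep Q c.D r (c.pt x) = c.pt x := by
      rw [c.act]
      exact congrArg c.pt (Subtype.ext (by rw [MulAut.conjNormal_apply]; exact c.RC_fix hg hr))
    have h2 : Cfsg.Lib.LargeFischer.rep Q c.D r (c.pt y) = c.pt y := by
      rw [hy, T.pt_rot, ← T.rep, ← Equiv.Perm.mul_apply, (hcen r).eq, Equiv.Perm.mul_apply, h1]
    rw [c.act] at h2
    have h3 := c.pt_eq h2.symm
    rwa [MulAut.conjNormal_apply] at h3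
  have hX' : X2 ((Q.map (centralizer ({z} : Set G)).subtype).map (MulAut.conj g).toMonoidHom)
      ((x : ↥(centralizer ({z} : Set G))) : G) := hg ▸ c.X2g.conj g
  have hyz : ((y : ↥(centralizer ({z} : Set G))) : G) * z = z * ((y : ↥(centralizer ({z} : Set G))) : G) :=
    (c.X2g.central _ ⟨_, y.2, rfl⟩).eq
  by_cases hyR : (y : ↥(centralizer ({z} : Set G))) ∈ c.RC g
  · have hzQ' : z ∈ (Q.map (centralizer ({z} : Set G)).subtype).map (MulAut.conj g).toMonoidHom :=
      mem_map_conj.mpr (c.mem_conj hg hxz)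
    have h1 := hX'.mem_closure_of_commute (S := {z}) (Set.singleton_subset_iff.mpr hzQ') (c.mem_RC hyR) (fun q hq hqz => by
      let r : ↥(centralizer ({z} : Set G)) := ⟨q, mem_centralizer_singleton_iff.mpr (hqz z rfl).eq⟩
      have hr : r ∈ c.RC g := ⟨hq, r.2⟩
      rw [hX'.commute_iff (c.mem_RC hyR)]
      rcases hX'.conj_cases hq (c.mem_RC hyR) with e | e
      · exact e
      rcases hry r hr with e' | e'
      · exact congrArg Subtype.val e'
      · exfalso
        have e'' : q * ((y : ↥(centralizer ({z} : Set G))) : G) * q⁻¹ = ((y : ↥(centralizer ({z} : Set G))) : G) * (c.zH : G) :=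
          congrArg Subtype.val e'
        rw [c.zH_val, hyz] at e''
        exact hxz (mul_right_cancel (e.symm.trans e'')))
    have h2 : ∀ w ∈ closure ({((x : ↥(centralizer ({z} : Set G))) : G), z} : Set G),
        ∃ hw : w ∈ centralizer ({z} : Set G), ∃ hQ : (⟨w, hw⟩ : ↥(centralizer ({z} : Set G))) ∈ Q,
          c.pt ⟨_, hQ⟩ = 0 ∨ c.pt ⟨_, hQ⟩ = c.pt x := by
      intro w hw
      induction hw using closure_induction with
      | mem w hw =>
        rcases hw with rfl | rfl
        · exact ⟨(x : ↥(centralizer ({z} : Set G))).2, x.2, Or.inr rfl⟩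
        · refine ⟨mem_centralizer_singleton_iff.mpr rfl, ?_, Or.inl ?_⟩
          · convert c.zH_mem
            exact c.zH_val.symm
          · exact c.pt_zero.mpr (Or.inr (Subtype.ext c.zH_val.symm))
      | one => exact ⟨one_mem _, one_mem _, Or.inl (c.pt_zero.mpr (Or.inl rfl))⟩
      | mul a b _ _ iha ihb =>
        obtain ⟨ha, haQ, ha'⟩ := iha
        obtain ⟨hb, hbQ, hb'⟩ := ihb
        refine ⟨mul_mem ha hb, mul_mem haQ hbQ, ?_⟩
        have e : c.pt ⟨⟨a * b, mul_mem ha hb⟩, mul_mem haQ hbQ⟩ = c.pt ⟨_, haQ⟩ + c.pt ⟨_, hbQ⟩ :=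
          c.pt_mul ⟨_, haQ⟩ ⟨_, hbQ⟩
        rw [e]
        rcases ha' with e1 | e1 <;> rcases hb' with e2 | e2 <;> rw [e1, e2]
        · exact Or.inl (add_zero _)
        · exact Or.inr (zero_add _)
        · exact Or.inr (add_zero _)
        · exact Or.inl (funext fun i => zmod2_dbl _)
      | inv a _ iha =>
        obtain ⟨ha, haQ, ha'⟩ := iha
        refine ⟨inv_mem ha, inv_mem haQ, ?_⟩
        have e : c.pt ⟨⟨a⁻¹, inv_mem ha⟩, inv_mem haQ⟩ = c.pt ⟨_, haQ⟩ :=
          (c.D.π_inv ⟨_, haQ⟩).trans (funext fun i => neg_eq_of_add_eq_zero_left (zmod2_dbl _))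
        rw [e]
        exact ha'
    obtain ⟨hw', hQ, h3⟩ := h2 _ h1
    have e : c.pt ⟨_, hQ⟩ = c.pt y := rfl
    rw [e, hy, T.pt_rot] at h3
    rcases h3 with h3 | h3
    · exact hx0 ((c.F.ρ c.F.E.ω).injective (h3.trans (map_zero (c.F.rho c.F.E.ω)).symm))
    · exact hx0 (T.fpf h3)
  · -- the conjugate of `y` acts as a transvection
    have hyc : Commute ((y : ↥(centralizer ({z} : Set G))) : G) (g * z * g⁻¹) := by
      rw [hg]; exact congrArg Subtype.val hyx.eq.symm
    have hy'H : g⁻¹ * ((y : ↥(centralizer ({z} : Set G))) : G) * g ∈ centralizer ({z} : Set G) := by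
      refine mem_centralizer_singleton_iff.mpr ?_
      have e := hyc.eq
      calc g⁻¹ * ((y : ↥(centralizer ({z} : Set G))) : G) * g * z
          = g⁻¹ * (((y : ↥(centralizer ({z} : Set G))) : G) * (g * z * g⁻¹)) * g := by group
        _ = _ := by rw [e]; group
    set y' : ↥(centralizer ({z} : Set G)) := ⟨_, hy'H⟩ with hy'
    obtain ⟨p', hp'Q, hp'⟩ := c.mem_conj hg hxz
    set p : ↥Q := ⟨p', hp'Q⟩ with hp
    have hpz : ((p : ↥(centralizer ({z} : Set G))) : G) ≠ z := fun e => by
      have e' : g⁻¹ * z * g = z := hp'.symm.trans e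
      refine hxz ?_
      rw [← hg]
      conv_lhs => rw [← e']
      group
    obtain ⟨hpq, hp0, hp1701⟩ := c.long_of_conj (g := g⁻¹) hp'Q
      (by rw [inv_inv]; exact hp'.symm) hpz
    have hy'w : ∀ w : ↥Q, Commute (w : ↥(centralizer ({z} : Set G))) p →
        c.pt (MulAut.conjNormal y' w) = c.pt w ∨ c.pt (MulAut.conjNormal y' w) = c.pt w + c.pt p := by
      intro w hw
      have hgw : g * ((w : ↥(centralizer ({z} : Set G))) : G) * g⁻¹ ∈ centralizer ({z} : Set G) := by
        refine mem_centralizer_singleton_iff.mpr ?_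
        have e : ((w : ↥(centralizer ({z} : Set G))) : G) * (g⁻¹ * z * g) = g⁻¹ * z * g * ((w : ↥(centralizer ({z} : Set G))) : G) := by
          rw [← hp']; exact congrArg Subtype.val hw.eq
        calc g * ((w : ↥(centralizer ({z} : Set G))) : G) * g⁻¹ * z
            = g * (((w : ↥(centralizer ({z} : Set G))) : G) * (g⁻¹ * z * g)) * g⁻¹ := by group
          _ = _ := by rw [e]; group
      let r : ↥(centralizer ({z} : Set G)) := ⟨_, hgw⟩
      have hr : r ∈ c.RC g := ⟨mem_map_conj.mpr (by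
        show g⁻¹ * (g * ((w : ↥(centralizer ({z} : Set G))) : G) * g⁻¹) * g ∈ _
        rw [show g⁻¹ * (g * ((w : ↥(centralizer ({z} : Set G))) : G) * g⁻¹) * g = ((w : ↥(centralizer ({z} : Set G))) : G) by group]
        exact ⟨_, w.2, rfl⟩), r.2⟩
      have key : ((y : ↥(centralizer ({z} : Set G))) : G) * (r : G) * ((y : ↥(centralizer ({z} : Set G))) : G)⁻¹ = r ∨
          ((y : ↥(centralizer ({z} : Set G))) : G) * (r : G) * ((y : ↥(centralizer ({z} : Set G))) : G)⁻¹ = z * r := by
        rcases hry r hr with e | e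
        · left
          have e' : (r : G) * ((y : ↥(centralizer ({z} : Set G))) : G) * (r : G)⁻¹ = ((y : ↥(centralizer ({z} : Set G))) : G) :=
            congrArg Subtype.val e
          rw [mul_inv_eq_iff_eq_mul] at e' ⊢
          exact e'.symm
        · right
          have e' : (r : G) * ((y : ↥(centralizer ({z} : Set G))) : G) * (r : G)⁻¹ = ((y : ↥(centralizer ({z} : Set G))) : G) * z :=
            (congrArg Subtype.val e).trans (congrArg (((y : ↥(centralizer ({z} : Set G))) : G) * ·) c.zH_val)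
          rw [mul_inv_eq_iff_eq_mul] at e' ⊢
          have hz1 : (r : G) * z = z * r := mem_centralizer_singleton_iff.mp r.2
          rw [mul_assoc z, e', hyz, ← mul_assoc z, ← mul_assoc z, c.X2g.zz, one_mul]
      have hconj : ((MulAut.conjNormal y' w : ↥Q) : ↥(centralizer ({z} : Set G))) = w ∨
          ((MulAut.conjNormal y' w : ↥Q) : ↥(centralizer ({z} : Set G))) = p * w := by
        rw [MulAut.conjNormal_apply]
        rcases key with e | e
        · left
          refine Subtype.ext ?_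
          show g⁻¹ * ((y : ↥(centralizer ({z} : Set G))) : G) * g * ((w : ↥(centralizer ({z} : Set G))) : G) *
            (g⁻¹ * ((y : ↥(centralizer ({z} : Set G))) : G) * g)⁻¹ = _
          calc _ = g⁻¹ * (((y : ↥(centralizer ({z} : Set G))) : G) * (r : G) * ((y : ↥(centralizer ({z} : Set G))) : G)⁻¹) * g := by
                show _ = g⁻¹ * (_ * (g * _ * g⁻¹) * _) * g
                group
            _ = _ := by rw [e]; show g⁻¹ * (g * _ * g⁻¹) * g = _; group
        · right
          refine Subtype.ext ?_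
          show g⁻¹ * ((y : ↥(centralizer ({z} : Set G))) : G) * g * ((w : ↥(centralizer ({z} : Set G))) : G) *
            (g⁻¹ * ((y : ↥(centralizer ({z} : Set G))) : G) * g)⁻¹ = (p' : G) * _
          calc _ = g⁻¹ * (((y : ↥(centralizer ({z} : Set G))) : G) * (r : G) * ((y : ↥(centralizer ({z} : Set G))) : G)⁻¹) * g := by
                show _ = g⁻¹ * (_ * (g * _ * g⁻¹) * _) * g
                group
            _ = _ := by
                rw [e, show (p' : G) = g⁻¹ * z * g from hp']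
                show g⁻¹ * (z * (g * _ * g⁻¹)) * g = _
                group
      rcases hconj with e | e
      · exact Or.inl (congrArg c.pt (Subtype.ext e))
      · refine Or.inr ?_
        rw [show MulAut.conjNormal y' w = p * w from Subtype.ext e, c.pt_mul, add_comm]
    set u0 := Cfsg.Lib.LargeFischer.rep Q c.D y' with hu0
    have hy'Q : y' ∉ Q := fun h => hyR ⟨mem_map_conj.mpr ⟨y', h, rfl⟩, (y : ↥(centralizer ({z} : Set G))).2⟩
    -- move `p` to a vector with four coordinates
    obtain ⟨f, hf⟩ := FSetting.exists_rep 1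
    have hfq : c.F.q (c.F.dec f) = 0 ∧ c.F.dec f ≠ 0 := (c.F.sing_iff f).mpr hf.1
    have h4 : (c.F.sp (c.F.dec f)).card = 4 := by
      rw [c.F.sp_dec]
      rcases sing_cases hf.1 with ⟨e, -⟩ | ⟨-, h⟩ | ⟨⟨-, h⟩, -⟩
      · exact absurd (hf.2.symm.trans e) (by decide)
      · exact h
      · exact absurd hf.2 h
    have hforb : c.F.orb (c.F.dec f) = c.F.orb (c.F.rep 1) :=
      c.F.orb_eq (hf.2 ▸ c.F.mem_orb_rep hf.1)
    obtain ⟨m, hm, hmp⟩ : ∃ m ∈ c.M, Cfsg.Lib.LargeFischer.rep Q c.D m (c.pt p) = c.F.dec f := by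
      rw [← c.orb_iff, c.F.orb_long ⟨hpq, hp0⟩ hp1701, ← hforb]
      exact c.F.orb_self _
    set U := m * y' * m⁻¹ with hU
    let u : (c.ι → ZMod 2) →+ (c.ι → ZMod 2) :=
      AddMonoidHom.mk' (Cfsg.Lib.LargeFischer.rep Q c.D U) (rep_add Q c.D U)
    have hUw : ∀ a, c.F.B a (c.F.dec f) = 0 → u a = a ∨ u a = a + c.F.dec f := by
      intro a ha
      obtain ⟨b, rfl⟩ := (Cfsg.Lib.LargeFischer.rep Q c.D m).surjective a
      obtain ⟨w, rfl⟩ := c.D.surj b
      have hBw : c.F.B (c.pt w) (c.pt p) = 0 := by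
        rw [← hmp] at ha
        have hh := c.F.B_inv ⟨_, c.mem_X hm⟩ (c.pt w) (c.pt p)
        rw [c.ρ_val] at hh
        exact hh.symm.trans ha
      show Cfsg.Lib.LargeFischer.rep Q c.D U (Cfsg.Lib.LargeFischer.rep Q c.D m (c.pt w)) =
          Cfsg.Lib.LargeFischer.rep Q c.D m (c.pt w) ∨
        Cfsg.Lib.LargeFischer.rep Q c.D U (Cfsg.Lib.LargeFischer.rep Q c.D m (c.pt w)) =
          Cfsg.Lib.LargeFischer.rep Q c.D m (c.pt w) + c.F.dec f
      rw [← Equiv.Perm.mul_apply, ← map_mul, hU, inv_mul_cancel_right, map_mul, Equiv.Perm.mul_apply, c.act y' w]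
      rcases hy'w w (c.commute_of_B hBw) with e | e <;> rw [e]
      · exact Or.inl rfl
      · right
        show _ = _ + c.F.dec f
        rw [rep_add, hmp]
    have hω : ∀ a, u (c.F.ρ c.F.E.ω a) = c.F.ρ c.F.E.ω (u a) := fun a => by
      show Cfsg.Lib.LargeFischer.rep Q c.D U (c.F.ρ c.F.E.ω a) = c.F.ρ c.F.E.ω (Cfsg.Lib.LargeFischer.rep Q c.D U a)
      rw [← T.rep, ← Equiv.Perm.mul_apply, (hcen U).eq]
      rfl
    have ht : ∀ (j : ZMod 3) a, c.F.W.t (j • Pi.single 0 1) a = c.F.ρ (pw3 c.F.E.ω j) a := fun j a => by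
      rw [FSetting.W_t, show (j • (Pi.single 0 1 : C5)) = Pi.single 0 j by
        rw [← Pi.single_smul', smul_eq_mul, mul_one], c.F.E.α_e]
    have hωj : ∀ (j : ZMod 3) a, u (c.F.ρ (pw3 c.F.E.ω j) a) = c.F.ρ (pw3 c.F.E.ω j) (u a) := fun j a => by
      rw [pw3, map_pow]
      induction j.val generalizing a with
      | zero => simp
      | succ k ih => rw [pow_succ, Equiv.Perm.mul_apply, ih, hω]; rfl
    have hcomp : ∀ (i j : ZMod 3) a, c.F.ρ (pw3 c.F.E.ω i) (c.F.ρ (pw3 c.F.E.ω j) a) = c.F.ρ (pw3 c.F.E.ω (i + j)) a :=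
      fun i j a => by rw [← Equiv.Perm.mul_apply, ← map_mul, pw3_add c.F.E.ω_three]
    have hzero : ∀ a, c.F.ρ (pw3 c.F.E.ω 0) a = a := fun a => by rw [pw3_zero, map_one]; rfl
    -- every vector has a translate orthogonal to the point
    have hexists : ∀ a, ∃ k : ZMod 3, c.F.B (c.F.ρ (pw3 c.F.E.ω k) a) (c.F.dec f) = 0 := fun a => by
      by_contra hno
      push Not at hno
      have h1 : ∀ k, c.F.B (c.F.ρ (pw3 c.F.E.ω k) a) (c.F.dec f) = 1 := fun k =>
        h201 _ (hno k)
      have hs := T.orbit_sum a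
      have e1 : c.F.ρ c.F.E.ω a = c.F.ρ (pw3 c.F.E.ω 1) a := by rw [pw3_one]
      have e2 : c.F.ρ c.F.E.ω (c.F.ρ (pw3 c.F.E.ω 1) a) = c.F.ρ (pw3 c.F.E.ω 2) a := by
        rw [show c.F.ρ c.F.E.ω = c.F.ρ (pw3 c.F.E.ω 1) by rw [pw3_one], hcomp]; rfl
      rw [e1, e2] at hs
      have h2 := congrArg (fun v => c.F.B v (c.F.dec f)) hs
      simp only [c.F.B_add, c.F.B_zero] at h2
      rw [show c.F.B a (c.F.dec f) = 1 from hzero a ▸ h1 0, h1, h1] at h2
      exact h111 h2
    have hmove : ∀ a, u a = a ∨ ∃ j : ZMod 3, u a = a + c.F.W.t (j • Pi.single 0 1) (c.F.dec f) := by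
      intro a
      obtain ⟨k, hk⟩ := hexists a
      have ha : a = c.F.ρ (pw3 c.F.E.ω (-k)) (c.F.ρ (pw3 c.F.E.ω k) a) := by rw [hcomp, neg_add_cancel, hzero]
      rcases hUw _ hk with e | e
      · left
        rw [ha, hωj, e]
      · right
        refine ⟨-k, ?_⟩
        rw [ht]
        conv_lhs => rw [ha, hωj, e, c.F.ρ_add, ← ha]
    have hfix : ∀ a, (∀ j : ZMod 3, c.F.B a (c.F.W.t (j • Pi.single 0 1) (c.F.dec f)) = 0) → u a = a := by
      intro a ha
      simp only [ht] at ha
      have hB : ∀ k, c.F.B (c.F.ρ (pw3 c.F.E.ω k) a) (c.F.dec f) = 0 := fun k => by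
        conv_lhs => rw [← hzero (c.F.dec f), show (0 : ZMod 3) = k + -k from (add_neg_cancel k).symm, ← hcomp]
        rw [c.F.B_inv, ha]
      rcases hUw a (hzero a ▸ hB 0) with e | e
      · exact e
      exfalso
      have e1 := hUw _ (hB 1)
      rw [hωj, e, c.F.ρ_add] at e1
      rcases e1 with e1 | e1
      · rw [add_eq_left] at e1
        exact hfq.2 ((c.F.ρ _).injective (e1.trans (map_zero (c.F.rho _)).symm))
      · rw [add_right_inj] at e1
        exact hfq.2 (T.fpf (by rwa [pw3_one] at e1))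
    have hid := c.F.no_transvection hfq.1 h4 u
      (fun a => by show c.F.q (Cfsg.Lib.LargeFischer.rep Q c.D U a) = c.F.q a; rw [c.Fq, rep_q])
      (fun a ha hua => by
        refine c.F.zero_not_long ?_
        rw [← c.F.orb_eq ha, ← c.orb_map U a]
        exact (congrArg (fun s : Set (c.ι → ZMod 2) => Nat.card s) (c.F.orb_eq hua)).trans c.F.orb_one_card)
      hmove hfix
    refine hy'Q (c.rep_eq_one ?_)
    have hU1 : Cfsg.Lib.LargeFischer.rep Q c.D U = 1 := Equiv.ext hid
    rw [hU, map_mul, map_mul, map_inv, mul_inv_eq_one, mul_eq_left] at hU1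
    exact hU1

/-- The centralizer of the subgroup of order three lies in the subgroup of index two. -/
theorem cent_le (hF : Cfsg.IsOfLargeFischerTypeAt z Q) :
    centralizer (X : Set ↥(centralizer ({z} : Set G))) ≤ c.M := by
  intro d hd
  by_contra hdM
  haveI := c.Mn
  have hdξ := T.mem_iff.mp hd
  refine T.not_central hF fun h => ?_
  by_cases hh : h ∈ c.M
  · exact T.rep_comm hh
  · have h1 : h * d ∈ c.M := (Subgroup.mul_mem_iff_of_index_two c.Mi).mpr (by simp [hh, hdM])
    have h2 := (T.rep_comm h1).mul_left ((hdξ.map (Cfsg.Lib.LargeFischer.rep Q c.D)).inv_left)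
    rwa [← map_inv, ← map_mul, mul_inv_cancel_right] at h2

end Ctx.Three

end Cfsg.Lib.LargeFischer
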