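import Cfsg.Agent.Golay.SteinerFam
import Cfsg.Agent.Golay.M24
import Cfsg.Agent.Golay.Generators
import Cfsg.Agent.Golay.Conj

/-!
Twenty-four vectors in a space of order `2 ^ 11` whose short even sums do not vanish give the Steiner system
`S(5,8,24)`; the maps preserving the pair sums embed into the largest Mathieu group.
-/

set_option autoImplicit false
set_option maxRecDepth 100000
set_option maxHeartbeats 1000000
set_option linter.unusedSectionVars false
set_option linter.style.haveILetI false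

namespace Cfsg.Lib.LargeFischer

open Finset
open scoped Pointwise symmDiff

universe u v w

/-- A system of twenty-four vectors. -/
structure DuadMap (A : Type u) [AddCommGroup A] (Pt : Type v) [Fintype Pt] [DecidableEq Pt] where
  f : Pt → A
  card : Fintype.card Pt = 24
  dbl : ∀ a : A, a + a = 0
  cardA : Nat.card A = 2048
  short : ∀ s : Finset Pt, s.Nonempty → s.card ≤ 6 → Even s.card → ∑ a ∈ s, f a ≠ 0

namespace DuadMap

variable {A : Type u} [AddCommGroup A] {Pt : Type v} [Fintype Pt] [DecidableEq Pt] (D : DuadMap A Pt)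

/-- The sum over a set. -/
def sm (s : Finset Pt) : A := ∑ a ∈ s, D.f a

/-- The pair sums. -/
def T : Set A := {x | ∃ s : Finset Pt, s.card = 2 ∧ D.sm s = x}

theorem sm_pair {a b : Pt} (h : a ≠ b) : D.sm {a, b} = D.f a + D.f b := sum_pair h

theorem sm_symmDiff (s t : Finset Pt) : D.sm (s ∆ t) = D.sm s + D.sm t := by
  have h1 : D.sm s + D.sm t = D.sm (s \ t) + D.sm (s ∩ t) + (D.sm (t \ s) + D.sm (s ∩ t)) := by
    simp only [sm]
    rw [← sum_union (disjoint_sdiff_inter s t), sdiff_union_inter, inter_comm s t,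
      ← sum_union (disjoint_sdiff_inter t s), sdiff_union_inter]
  have h2 : D.sm (s ∆ t) = D.sm (s \ t) + D.sm (t \ s) := by
    rw [symmDiff_def, sup_eq_union]
    exact sum_union disjoint_sdiff_sdiff
  rw [h1, h2, add_add_add_comm, D.dbl, add_zero]

theorem eq_of_sm {s t : Finset Pt} (he : D.sm s = D.sm t) (hle : s.card + t.card ≤ 6 + 2 * (s ∩ t).card)
    (hev : Even (s.card + t.card)) : s = t := by
  have hc : (s ∆ t).card + 2 * (s ∩ t).card = s.card + t.card := by
    rw [symmDiff_def, sup_eq_union, card_union_of_disjoint disjoint_sdiff_sdiff]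
    have h1 := card_sdiff_add_card_inter s t
    have h2 := card_sdiff_add_card_inter t s
    rw [inter_comm t s] at h2
    omega
  by_contra hne
  refine D.short (s ∆ t) ?_ (by omega) ?_ (show D.sm (s ∆ t) = 0 by rw [D.sm_symmDiff, he, D.dbl])
  · exact nonempty_iff_ne_empty.mpr fun e => hne (symmDiff_eq_bot.mp e)
  · rw [Nat.even_iff] at hev ⊢
    omega

theorem pair_inj {s t : Finset Pt} (hs : s.card = 2) (ht : t.card = 2) (he : D.sm s = D.sm t) : s = t :=
  D.eq_of_sm he (by omega) (by rw [hs, ht]; decide)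

theorem four_not_T {s : Finset Pt} (hs : s.card = 4) : D.sm s ∉ D.T ∧ D.sm s ≠ 0 := by
  refine ⟨?_, D.short s (card_pos.mp (by omega)) (by omega) (by rw [hs]; decide)⟩
  rintro ⟨t, ht, he⟩
  have := D.eq_of_sm he (by omega) (by rw [hs, ht]; decide)
  rw [this, hs] at ht
  omega

theorem zero_not_T : (0 : A) ∉ D.T := fun ⟨s, hs, he⟩ =>
  D.short s (card_pos.mp (by omega)) (by omega) (by rw [hs]; decide) he

include D in
theorem finiteA : Finite A := Nat.finite_of_card_ne_zero (by rw [D.cardA]; decide)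

theorem ncard_T : D.T.ncard = 276 := by
  classical
  have h : D.T = D.sm '' ((univ.filter fun s : Finset Pt => s.card = 2) : Finset (Finset Pt)) := by
    ext x
    simp [T, and_comm]
  rw [h, Set.InjOn.ncard_image (fun s hs t ht => D.pair_inj (mem_filter.mp hs).2 (mem_filter.mp ht).2),
    Set.ncard_coe_finset, ← powerset_univ, ← powersetCard_eq_filter, card_powersetCard, card_univ, D.card]
  rfl

/-- Each sum of four points is attained by exactly six disjoint sets of four points. -/
theorem sextet {q : Finset Pt} (hq : q.card = 4) (x : Pt) : ∃ r : Finset Pt, r.card = 4 ∧ D.sm r = D.sm q ∧ x ∈ r := by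
  classical
  haveI := D.finiteA
  haveI := Fintype.ofFinite A
  set F : Finset (Finset Pt) := univ.filter fun s => s.card = 4 with hF
  set R : Finset A := univ.filter fun a => a ∉ D.T ∧ a ≠ 0 with hR
  have hFc : F.card = 10626 := by
    rw [hF, ← powerset_univ, ← powersetCard_eq_filter, card_powersetCard, card_univ, D.card]
    rfl
  have hRc : R.card = 1771 := by
    have h : (Finset.univ : Finset A).card = R.card + (insert 0 D.T.toFinset).card := by
      rw [← card_union_of_disjoint (by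
        refine Finset.disjoint_left.mpr fun a ha hb => ?_
        simp only [hR, mem_filter] at ha
        rcases mem_insert.mp hb with e | e
        · exact ha.2.2 e
        · exact ha.2.1 (Set.mem_toFinset.mp e))]
      congr 1
      ext a
      simp only [hR, mem_univ, mem_union, mem_filter, true_and, mem_insert, Set.mem_toFinset]
      tauto
    rw [card_univ, ← Nat.card_eq_fintype_card, D.cardA, card_insert_of_notMem
      (fun e => D.zero_not_T (Set.mem_toFinset.mp e)), ← Set.ncard_eq_toFinset_card', D.ncard_T] at h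
    omega
  have hmap : ∀ s ∈ F, D.sm s ∈ R := fun s hs => mem_filter.mpr ⟨mem_univ _, D.four_not_T (mem_filter.mp hs).2⟩
  have hdis : ∀ a, ((F.filter fun s => D.sm s = a) : Set (Finset Pt)).PairwiseDisjoint id := by
    intro a s hs t ht hne
    simp only [coe_filter, Set.mem_setOf_eq, hF, mem_filter] at hs ht
    refine Finset.disjoint_left.mpr fun y hys hyt => hne (D.eq_of_sm (hs.2.trans ht.2.symm) ?_ ?_)
    · have : 0 < (s ∩ t).card := card_pos.mpr ⟨y, mem_inter.mpr ⟨hys, hyt⟩⟩
      omega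
    · rw [hs.1.2, ht.1.2]; decide
  have hsize : ∀ a, ((F.filter fun s => D.sm s = a).biUnion id).card = 4 * (F.filter fun s => D.sm s = a).card := by
    intro a
    rw [card_biUnion (hdis a), sum_const_nat (m := 4) fun s hs => ?_, mul_comm]
    exact (mem_filter.mp (mem_filter.mp hs).1).2
  have hle : ∀ a, (F.filter fun s => D.sm s = a).card ≤ 6 := fun a => by
    have h := (hsize a).symm.trans_le (card_le_univ _)
    rw [D.card] at h
    omega
  have h6 : (F.filter fun s => D.sm s = D.sm q).card = 6 := by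
    by_contra hne
    have hlt : ∑ a ∈ R, (F.filter fun s => D.sm s = a).card < ∑ _a ∈ R, 6 :=
      sum_lt_sum (fun a _ => hle a) ⟨D.sm q, hmap q (mem_filter.mpr ⟨mem_univ _, hq⟩), lt_of_le_of_ne (hle _) hne⟩
    rw [← card_eq_sum_card_fiberwise hmap, hFc, sum_const, hRc] at hlt
    simp at hlt
  have hu : (F.filter fun s => D.sm s = D.sm q).biUnion id = univ :=
    eq_univ_of_card _ (by rw [hsize, h6, D.card])
  obtain ⟨r, hr, hxr⟩ := mem_biUnion.mp (hu ▸ mem_univ x)
  simp only [hF, mem_filter] at hr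
  exact ⟨r, hr.1.2, hr.2, hxr⟩

/-- The blocks. -/
def octs : Set (Finset Pt) := {s | s.card = 8 ∧ D.sm s = 0}

theorem steiner : Cfsg.IsSteinerSystem 5 8 D.octs := by
  refine ⟨fun b hb => hb.1, fun F hF => ?_⟩
  obtain ⟨q, hqF, hq⟩ := exists_subset_card_eq (s := F) (n := 4) (by omega)
  obtain ⟨x, hxF, hxq⟩ := exists_mem_notMem_of_card_lt_card (s := q) (t := F) (by omega)
  obtain ⟨r, hr, hrq, hxr⟩ := D.sextet hq x
  have hd : Disjoint q r := by
    refine Finset.disjoint_left.mpr fun y hyq hyr => hxq ?_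
    have : 0 < (q ∩ r).card := card_pos.mpr ⟨y, mem_inter.mpr ⟨hyq, hyr⟩⟩
    rwa [D.eq_of_sm hrq.symm (by omega) (by rw [hq, hr]; decide)]
  have hsum : D.sm (q ∪ r) = 0 := by
    rw [sm, sum_union hd]
    exact (congrArg (D.sm q + ·) hrq).trans (D.dbl _)
  have hFsub : F ⊆ q ∪ r := by
    intro y hy
    rcases eq_or_ne y x with rfl | hne
    · exact mem_union_right _ hxr
    · refine mem_union_left _ ?_
      have hcard : (insert x q).card = 5 := by rw [card_insert_of_notMem hxq, hq]
      have he : insert x q = F := eq_of_subset_of_card_le (insert_subset hxF hqF) (by omega)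
      exact (mem_insert.mp (he.symm ▸ hy)).resolve_left hne
  refine ⟨q ∪ r, ⟨⟨by rw [card_union_of_disjoint hd, hq, hr], hsum⟩, hFsub⟩, fun b hb => ?_⟩
  refine D.eq_of_sm (hb.1.2.trans hsum.symm) ?_ ?_
  · have h5 : 5 ≤ (b ∩ (q ∪ r)).card := hF ▸ card_le_card (subset_inter hb.2 hFsub)
    have := hb.1.1
    rw [card_union_of_disjoint hd, hq, hr]
    omega
  · rw [hb.1.1, card_union_of_disjoint hd, hq, hr]; decide

section action

variable {M : Type w} [Group M] {ρ : M → A → A} (hadd : ∀ g a b, ρ g (a + b) = ρ g a + ρ g b)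
  (hmul : ∀ g h a, ρ (g * h) a = ρ g (ρ h a)) (hone : ∀ a, ρ 1 a = a) (hT : ∀ g, ∀ x ∈ D.T, ρ g x ∈ D.T)

include hmul hone in
theorem ρ_injective (g : M) : Function.Injective (ρ g) := fun a b h => by
  rw [← hone a, ← inv_mul_cancel g, hmul, h, ← hmul, inv_mul_cancel, hone]

/-- The point attached to the image of the star of a point. -/
def Img (ρ : M → A → A) (g : M) (a p : Pt) : Prop :=
  ∀ b, b ≠ a → ∃ c, c ≠ p ∧ ρ g (D.f a + D.f b) = D.f p + D.f c

include hadd hmul hone hT in
theorem exists_img (g : M) (a : Pt) : ∃ p, D.Img ρ g a p := by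
  classical
  have hd : ∀ b : {b // b ≠ a}, ∃ s : Finset Pt, s.card = 2 ∧ D.sm s = ρ g (D.f a + D.f b.1) := fun b =>
    hT g _ ⟨{a, b.1}, card_pair b.2.symm, D.sm_pair b.2.symm⟩
  choose d hd2 hds using hd
  have hinj : ∀ b c, b ≠ c → d b ≠ d c := fun b c hbc e => by
    have h1 := ρ_injective hmul hone g ((hds b).symm.trans ((congrArg D.sm e).trans (hds c)))
    have h2 := D.pair_inj (card_pair b.2.symm) (card_pair c.2.symm)
      ((D.sm_pair b.2.symm).trans ((h1).trans (D.sm_pair c.2.symm).symm))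
    have h3 : b.1 ∈ ({a, c.1} : Finset Pt) := h2 ▸ mem_insert_of_mem (mem_singleton_self _)
    rcases mem_insert.mp h3 with e | e
    · exact b.2 e
    · exact hbc (Subtype.ext (mem_singleton.mp e))
  have hshare : ∀ b c, b ≠ c → (d b ∩ d c).card = 1 := fun b c hbc => by
    have hle : (d b ∩ d c).card ≤ 1 := by
      by_contra hlt
      push Not at hlt
      refine hinj b c hbc ?_
      have h1 : d b ∩ d c = d b := eq_of_subset_of_card_le inter_subset_left (by rw [hd2]; omega)
      have h2 : d b ∩ d c = d c := eq_of_subset_of_card_le inter_subset_right (by rw [hd2]; omega)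
      exact h1.symm.trans h2
    by_contra hne
    have hd' : Disjoint (d b) (d c) := disjoint_iff_inter_eq_empty.mpr (card_eq_zero.mp (by omega))
    have h4 : (d b ∪ d c).card = 4 := by rw [card_union_of_disjoint hd', hd2, hd2]
    refine (D.four_not_T h4).1 ?_
    have hne' : b.1 ≠ c.1 := fun e => hbc (Subtype.ext e)
    rw [sm, sum_union hd']
    show D.sm (d b) + D.sm (d c) ∈ D.T
    rw [hds, hds, ← hadd, show D.f a + D.f b.1 + (D.f a + D.f c.1) = D.f b.1 + D.f c.1 by
      rw [add_add_add_comm, D.dbl, zero_add]]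
    exact hT g _ ⟨{b.1, c.1}, card_pair hne', D.sm_pair hne'⟩
  have hcard : Nat.card {b : Pt // b ≠ a} = 23 := by
    rw [Nat.card_eq_fintype_card, Fintype.card_subtype_compl, Fintype.card_subtype_eq, D.card]
  obtain ⟨b, c, hbc⟩ : ∃ b c : {b : Pt // b ≠ a}, b ≠ c := by
    by_contra h
    push Not at h
    have := Finite.card_le_one_iff_subsingleton.mpr (⟨h⟩ : Subsingleton {b : Pt // b ≠ a})
    omega
  obtain ⟨p, hp⟩ := card_eq_one.mp (hshare b c hbc)
  have hpb : p ∈ d b := (mem_inter.mp (hp ▸ mem_singleton_self p)).1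
  have hpc : p ∈ d c := (mem_inter.mp (hp ▸ mem_singleton_self p)).2
  have hall : ∀ x, p ∈ d x := fun x => by
    by_contra hx
    have hxb : x ≠ b := fun e => hx (e ▸ hpb)
    have hxc : x ≠ c := fun e => hx (e ▸ hpc)
    obtain ⟨y, hy⟩ := card_eq_one.mp (hshare x b hxb)
    obtain ⟨y', hy'⟩ := card_eq_one.mp (hshare x c hxc)
    have hyx : y ∈ d x ∧ y ∈ d b := mem_inter.mp (hy ▸ mem_singleton_self y)
    have hyx' : y' ∈ d x ∧ y' ∈ d c := mem_inter.mp (hy' ▸ mem_singleton_self y')
    have hyy : y ≠ y' := fun e => hx (by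
      have : y ∈ d b ∩ d c := mem_inter.mpr ⟨hyx.2, e ▸ hyx'.2⟩
      rw [hp, mem_singleton] at this
      exact this ▸ hyx.1)
    have e1 : d b = {p, y} := (eq_of_subset_of_card_le (insert_subset hpb (singleton_subset_iff.mpr hyx.2))
      (by rw [hd2, card_pair fun e : p = y => hx (e ▸ hyx.1)])).symm
    have e2 : d c = {p, y'} := (eq_of_subset_of_card_le (insert_subset hpc (singleton_subset_iff.mpr hyx'.2))
      (by rw [hd2, card_pair fun e : p = y' => hx (e ▸ hyx'.1)])).symm
    have e3 : d x = {y, y'} := (eq_of_subset_of_card_le (insert_subset hyx.1 (singleton_subset_iff.mpr hyx'.1))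
      (by rw [hd2, card_pair hyy])).symm
    have hsum : ρ g (D.f a + D.f b.1) + ρ g (D.f a + D.f c.1) + ρ g (D.f a + D.f x.1) = 0 := by
      rw [← hds, ← hds, ← hds, e1, e2, e3, D.sm_pair (fun e : p = y => hx (e ▸ hyx.1)),
        D.sm_pair (fun e : p = y' => hx (e ▸ hyx'.1)), D.sm_pair hyy,
        show D.f p + D.f y + (D.f p + D.f y') + (D.f y + D.f y') = (D.f p + D.f p) + (D.f y + D.f y) + (D.f y' + D.f y') by abel,
        D.dbl, D.dbl, zero_add, zero_add, D.dbl]
    have h4 : ({a, b.1, c.1, x.1} : Finset Pt).card = 4 := by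
      rw [card_insert_of_notMem, card_insert_of_notMem, card_pair fun e => hxc (Subtype.ext e.symm)]
      · simp only [mem_insert, mem_singleton, not_or]
        exact ⟨fun e => hbc (Subtype.ext e), fun e => hxb (Subtype.ext e.symm)⟩
      · simp only [mem_insert, mem_singleton, not_or]
        exact ⟨b.2.symm, c.2.symm, x.2.symm⟩
    refine (D.four_not_T h4).2 (ρ_injective hmul hone g ?_)
    have h0 : ρ g 0 = 0 := left_eq_add.mp (show ρ g 0 = ρ g 0 + ρ g 0 by rw [← hadd, add_zero])
    rw [h0, ← hsum, ← hadd, ← hadd, sm, sum_insert (by simp [b.2.symm, c.2.symm, x.2.symm]),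
      sum_insert (by simp [show b.1 ≠ c.1 from fun e => hbc (Subtype.ext e), show b.1 ≠ x.1 from fun e => hxb (Subtype.ext e.symm)]),
      sum_pair (fun e => hxc (Subtype.ext e.symm)),
      show D.f a + D.f b.1 + (D.f a + D.f c.1) + (D.f a + D.f x.1) =
        (D.f a + (D.f b.1 + (D.f c.1 + D.f x.1))) + (D.f a + D.f a) by abel, D.dbl, add_zero]
  refine ⟨p, fun x hx => ?_⟩
  obtain ⟨y, hy⟩ := card_eq_one.mp (show ((d ⟨x, hx⟩).erase p).card = 1 by rw [card_erase_of_mem (hall _), hd2])
  have hyp : y ≠ p := (mem_erase.mp (hy ▸ mem_singleton_self y)).1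
  refine ⟨y, hyp, ?_⟩
  have e : ({p, y} : Finset Pt) = d ⟨x, hx⟩ := by rw [← hy, insert_erase (hall _)]
  rw [← hds ⟨x, hx⟩, ← e, D.sm_pair hyp.symm]

include hmul hone in
theorem img_unique (g : M) {a p p' : Pt} (h : D.Img ρ g a p) (h' : D.Img ρ g a p') : p = p' := by
  by_contra hne
  have hall : ∀ b, b ≠ a → ρ g (D.f a + D.f b) = D.f p + D.f p' := fun b hb => by
    obtain ⟨c, hc, e⟩ := h b hb
    obtain ⟨c', hc', e'⟩ := h' b hb
    have he := D.pair_inj (card_pair hc.symm) (card_pair hc'.symm)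
      (by rw [D.sm_pair hc.symm, D.sm_pair hc'.symm, ← e, ← e'])
    have hp : p' ∈ ({p, c} : Finset Pt) := he ▸ mem_insert_self _ _
    rw [e, (mem_singleton.mp ((mem_insert.mp hp).resolve_left (Ne.symm hne)))]
  obtain ⟨b, c, hb, hc, hbc⟩ : ∃ b c, b ≠ a ∧ c ≠ a ∧ b ≠ c := by
    have h1 : 1 < (univ.erase a).card := by rw [card_erase_of_mem (mem_univ a), card_univ, D.card]; norm_num
    obtain ⟨b, hb, c, hc, hbc⟩ := one_lt_card.mp h1
    exact ⟨b, c, (mem_erase.mp hb).1, (mem_erase.mp hc).1, hbc⟩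
  have e := ρ_injective hmul hone g ((hall b hb).trans (hall c hc).symm)
  have h2 := D.pair_inj (card_pair hb.symm) (card_pair hc.symm) (by rw [D.sm_pair hb.symm, D.sm_pair hc.symm, e])
  have h3 : b ∈ ({a, c} : Finset Pt) := h2 ▸ mem_insert_of_mem (mem_singleton_self _)
  rcases mem_insert.mp h3 with e | e
  exacts [hb e, hbc (mem_singleton.mp e)]

include hadd hmul hone hT in
/-- The permutation representation on the points. -/
theorem exists_points_hom : ∃ σ : M →* Equiv.Perm Pt, ∀ g a b, a ≠ b →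
    ρ g (D.f a + D.f b) = D.f (σ g a) + D.f (σ g b) := by
  classical
  choose p hp using D.exists_img hadd hmul hone hT
  have hm : ∀ g h a, p (g * h) a = p g (p h a) := fun g h a => by
    refine D.img_unique hmul hone (g * h) (hp (g * h) a) fun b hb => ?_
    obtain ⟨c, hc, e⟩ := hp h a b hb
    obtain ⟨c', hc', e'⟩ := hp g (p h a) c hc
    exact ⟨c', hc', by rw [hmul, e, e']⟩
  have h1 : ∀ a, p 1 a = a := fun a =>
    D.img_unique hmul hone 1 (hp 1 a) fun b hb => ⟨b, hb, hone _⟩
  let P : M → Equiv.Perm Pt := fun g =>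
    ⟨p g, p g⁻¹, fun a => by rw [← hm, inv_mul_cancel, h1], fun a => by rw [← hm, mul_inv_cancel, h1]⟩
  refine ⟨{ toFun := P, map_one' := Equiv.ext h1, map_mul' := fun g h => Equiv.ext (hm g h) }, fun g a b hab => ?_⟩
  show ρ g (D.f a + D.f b) = D.f (p g a) + D.f (p g b)
  obtain ⟨c, hc, e⟩ := hp g a b hab.symm
  obtain ⟨c', hc', e'⟩ := hp g b a hab
  have he := D.pair_inj (card_pair hc.symm) (card_pair hc'.symm)
    (by rw [D.sm_pair hc.symm, D.sm_pair hc'.symm, ← e, ← e', add_comm])
  have hne : p g a ≠ p g b := fun h => hab ((P g).injective h)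
  have hm' : p g b ∈ ({p g a, c} : Finset Pt) := he ▸ mem_insert_self _ _
  rw [e, mem_singleton.mp ((mem_insert.mp hm').resolve_left hne.symm)]

include hadd hmul hone hT in
/-- Maps preserving the pair sums embed into the largest Mathieu group. -/
theorem exists_m24_hom {t : A} (ht : t ∈ D.T) : ∃ φ : M →* ↥Cfsg.M24,
    (∀ g, φ g = 1 → ∀ x ∈ D.T, ρ g x = x) ∧
    ∀ g, ρ g t = t ↔ (φ g : Equiv.Perm Cfsg.GolayPt) ∈
      MulAction.stabilizer (Equiv.Perm Cfsg.GolayPt) ({none, some 0} : Set Cfsg.GolayPt) := by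
  classical
  obtain ⟨σ, hσ⟩ := D.exists_points_hom hadd hmul hone hT
  obtain ⟨e₀, he₀⟩ := Cfsg.Lib.Golay.exists_equiv_octads D.card D.steiner
  obtain ⟨s, hs, hst⟩ := ht
  obtain ⟨a₀, b₀, hab, rfl⟩ := card_eq_two.mp hs
  rw [D.sm_pair hab] at hst
  obtain ⟨k, hk⟩ : ∃ k : ↥Cfsg.M24, (k : Equiv.Perm Cfsg.GolayPt) (e₀ a₀) = none ∧
      (k : Equiv.Perm Cfsg.GolayPt) (e₀ b₀) = some 0 := by
    haveI := Cfsg.Lib.Golay.le_five 2 (by norm_num)
    exact MulAction.is_two_pretransitive_iff.mp inferInstance (fun e => hab (e₀.injective e))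
      (show (none : Cfsg.GolayPt) ≠ some 0 by simp)
  let e : Pt ≃ Cfsg.GolayPt := e₀.trans (k : Equiv.Perm Cfsg.GolayPt)
  have hk' : ∀ o : Finset Cfsg.GolayPt, o.image (k : Equiv.Perm Cfsg.GolayPt) ∈ Cfsg.octads ↔ o ∈ Cfsg.octads := fun o => by
    have hmem : (k : Equiv.Perm Cfsg.GolayPt) ∈ Cfsg.setSystemAut Cfsg.octads := by
      rw [← Cfsg.Lib.Golay.M24_eq_octadAut]; exact k.2
    rw [MulAction.mem_stabilizer_iff] at hmem
    conv_rhs => rw [← Set.smul_mem_smul_set_iff (a := (k : Equiv.Perm Cfsg.GolayPt)), hmem]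
    exact Iff.rfl
  have he : ∀ o : Finset Pt, o.image e ∈ Cfsg.octads ↔ o ∈ D.octs := fun o => by
    rw [← he₀ o, ← hk' (o.image e₀), image_image]
    rfl
  have hsum : ∀ g, ∀ o : Finset Pt, Even o.card → o.Nonempty → ρ g (D.sm o) = D.sm (o.image (σ g)) := by
    intro g o hev hne
    obtain ⟨a, ha⟩ := hne
    let ρ' : A →+ A := AddMonoidHom.mk' (ρ g) (hadd g)
    have hsplit : ∀ (q : Finset Pt) (x : A), Even q.card → ∑ y ∈ q, D.f y = ∑ y ∈ q, (x + D.f y) := by
      intro q x hq
      obtain ⟨r, hr⟩ := hq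
      rw [sum_add_distrib, sum_const, hr, add_smul, D.dbl, zero_add]
    show ρ' (∑ y ∈ o, D.f y) = ∑ y ∈ o.image (σ g), D.f y
    rw [hsplit o (D.f a) hev, map_sum, hsplit _ (D.f (σ g a)) (by rwa [card_image_of_injective _ (σ g).injective]),
      sum_image fun x _ y _ h => (σ g).injective h]
    refine sum_congr rfl fun y _ => ?_
    rcases eq_or_ne a y with rfl | hne
    · rw [D.dbl, map_zero, D.dbl]
    · exact hσ g a y hne
  have hoct : ∀ g, ∀ o ∈ D.octs, o.image (σ g) ∈ D.octs := by
    rintro g o ⟨h8, h0⟩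
    refine ⟨by rw [card_image_of_injective _ (σ g).injective, h8], ?_⟩
    rw [← hsum g o (by rw [h8]; decide) (card_pos.mp (by omega)), h0]
    exact left_eq_add.mp (show ρ g 0 = ρ g 0 + ρ g 0 by rw [← hadd, add_zero])
  let ψ : M →* Equiv.Perm Cfsg.GolayPt := e.permCongrHom.toMonoidHom.comp σ
  have hψ : ∀ g (o : Finset Pt), ψ g • (o.image e) = (o.image (σ g)).image e := fun g o => by
    rw [Finset.smul_finset_def, image_image, image_image]
    refine image_congr fun x _ => ?_
    show e (σ g (e.symm (e x))) = e (σ g x)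
    rw [e.symm_apply_apply]
  have hmem : ∀ g, ψ g ∈ Cfsg.M24 := fun g => by
    rw [Cfsg.Lib.Golay.M24_eq_octadAut, MulAction.mem_stabilizer_iff]
    have hsub : ∀ h : M, ψ h • Cfsg.octads ⊆ Cfsg.octads := by
      rintro h _ ⟨o, ho, rfl⟩
      obtain ⟨q, rfl⟩ : ∃ q : Finset Pt, q.image e = o := ⟨o.image e.symm, by
        rw [image_image, Equiv.self_comp_symm, image_id]⟩
      show ψ h • q.image e ∈ Cfsg.octads
      rw [hψ, he]
      exact hoct h q ((he q).mp ho)
    refine Set.Subset.antisymm (hsub g) fun o ho => ⟨ψ g⁻¹ • o, hsub g⁻¹ ⟨o, ho, rfl⟩, ?_⟩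
    show ψ g • ψ g⁻¹ • o = o
    rw [← mul_smul, ← map_mul, mul_inv_cancel, map_one, one_smul]
  refine ⟨ψ.codRestrict _ hmem, fun g hg x hx => ?_, fun g => ?_⟩
  · obtain ⟨q, hq, rfl⟩ := hx
    obtain ⟨a, b, hab', rfl⟩ := card_eq_two.mp hq
    have h1 : ∀ y, σ g y = y := fun y => e.injective (by
      have h := congrArg (fun f : Equiv.Perm Cfsg.GolayPt => f (e y)) (congrArg Subtype.val hg)
      simpa [ψ] using h)
    rw [D.sm_pair hab', hσ g a b hab', h1, h1]
  · rw [← hst, hσ g a₀ b₀ hab, MulAction.mem_stabilizer_iff, Set.smul_set_insert, Set.smul_set_singleton,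
      show (none : Cfsg.GolayPt) = e a₀ from hk.1.symm, show (some 0 : Cfsg.GolayPt) = e b₀ from hk.2.symm]
    show _ ↔ ({e (σ g (e.symm (e a₀))), e (σ g (e.symm (e b₀)))} : Set Cfsg.GolayPt) = _
    rw [e.symm_apply_apply, e.symm_apply_apply]
    constructor
    · intro h
      have hne : σ g a₀ ≠ σ g b₀ := fun x => hab ((σ g).injective x)
      have h2 := D.pair_inj (card_pair hne) (card_pair hab) (by rw [D.sm_pair hne, D.sm_pair hab, h])
      have := congrArg (fun q : Finset Pt => (e '' (q : Set Pt))) h2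
      simpa [Set.image_insert_eq] using this
    · intro h
      have h' : ({σ g a₀, σ g b₀} : Set Pt) = {a₀, b₀} := by
        apply e.injective.image_injective
        rwa [Set.image_pair, Set.image_pair]
      rcases Set.pair_eq_pair_iff.mp h' with ⟨h1, h2⟩ | ⟨h1, h2⟩
      · rw [h1, h2]
      · rw [h1, h2, add_comm]

end action

end DuadMap

end Cfsg.Lib.LargeFischer
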