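import Cfsg.Agent.LargeFischer.DuadCode

/-!
A set of 276 vectors with the parameters of the triangular graph on twenty-four points consists of the pair sums
of twenty-four vectors.
-/

set_option autoImplicit false
set_option maxRecDepth 100000
set_option maxHeartbeats 1000000
set_option linter.unusedSectionVars false
set_option linter.style.haveILetI false

namespace Cfsg.Lib.LargeFischer

open Finset

universe u

/-- A set of vectors with the parameters of the triangular graph. -/
structure DuadGraph (A : Type u) [AddCommGroup A] [DecidableEq A] where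
  T : Finset A
  dbl : ∀ a : A, a + a = 0
  cardA : Nat.card A = 2048
  zero : (0 : A) ∉ T
  card : T.card = 276
  valency : ∀ t ∈ T, (T.filter fun u => t + u ∈ T).card = 44
  closed : ∀ t ∈ T, ∀ u ∈ T, ∀ v ∈ T, t ≠ u → t + u ∉ T → t + v ∈ T → u + v ∈ T → t + u + v ∈ T
  mu : ∀ t ∈ T, ∀ u ∈ T, t ≠ u → t + u ∉ T → (T.filter fun v => t + v ∈ T ∧ u + v ∈ T).card = 4

namespace DuadGraph

variable {A : Type u} [AddCommGroup A] [DecidableEq A] (D : DuadGraph A)

/-- The neighbours. -/
def nb (t : A) : Finset A := D.T.filter fun u => t + u ∈ D.T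

theorem mem_nb {t u : A} : u ∈ D.nb t ↔ u ∈ D.T ∧ t + u ∈ D.T := mem_filter

include D in
theorem add_cancel2 (a b : A) : a + (a + b) = b := by rw [← add_assoc, D.dbl, zero_add]

theorem ne_of_adj {t u : A} (h : t + u ∈ D.T) : t ≠ u := fun e => D.zero (by rwa [e, D.dbl] at h)

theorem nb_translate {t u : A} (hu : u ∈ D.nb t) : t + u ∈ D.nb t :=
  D.mem_nb.mpr ⟨(D.mem_nb.mp hu).2, by rw [D.add_cancel2]; exact (D.mem_nb.mp hu).1⟩

/-- Two neighbours that are not adjacent have only the translated neighbours in common. -/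
theorem common {t v w : A} (ht : t ∈ D.T) (hv : v ∈ D.nb t) (hw : w ∈ D.nb t) (hne : v ≠ w) (hn : v + w ∉ D.T) :
    w ≠ t + v ∧ v + (t + w) ∈ D.T ∧ ∀ u ∈ D.nb t, v + u ∈ D.T → w + u ∈ D.T → u = t + v ∨ u = t + w := by
  obtain ⟨hvT, htv⟩ := D.mem_nb.mp hv
  obtain ⟨hwT, htw⟩ := D.mem_nb.mp hw
  have hwv : w ≠ t + v := fun e => hn (by rw [e, add_comm t v, D.add_cancel2]; exact ht)
  set K := D.T.filter fun u => v + u ∈ D.T ∧ w + u ∈ D.T with hK
  have htK : t ∈ K := mem_filter.mpr ⟨ht, by rwa [add_comm], by rwa [add_comm]⟩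
  -- the fourth common neighbour is the translate of `t` by `v + w`
  have h4 : K.card = 4 := D.mu v hvT w hwT hne hn
  have hclosed : ∀ u ∈ K, v + (v + w + u) ∈ D.T ∧ w + (v + w + u) ∈ D.T := fun u hu => by
    obtain ⟨-, h1, h2⟩ := mem_filter.mp hu
    refine ⟨?_, ?_⟩
    · rw [add_assoc v w u, D.add_cancel2]; exact h2
    · rw [add_comm v w, add_assoc w v u, D.add_cancel2]; exact h1
  have htt : v + w + t ∈ D.T := D.closed v hvT w hwT t ht hne hn (by rwa [add_comm]) (by rwa [add_comm])
  have h1 : v + (t + w) ∈ D.T := by rwa [show v + (t + w) = v + w + t by abel]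
  have ha : t + v ∈ K := mem_filter.mpr ⟨htv, by rw [add_comm t v, D.add_cancel2]; exact ht,
    by rwa [show w + (t + v) = v + w + t by abel]⟩
  have hb : t + w ∈ K := mem_filter.mpr ⟨htw, h1, by rw [add_comm t w, D.add_cancel2]; exact ht⟩
  have hc : v + w + t ∈ K := mem_filter.mpr ⟨htt, hclosed t htK⟩
  have he : ({t, t + v, t + w, v + w + t} : Finset A) = K := by
    refine eq_of_subset_of_card_le (by simp only [insert_subset_iff, singleton_subset_iff]; exact ⟨htK, ha, hb, hc⟩) ?_
    rw [h4, card_insert_of_notMem, card_insert_of_notMem, card_pair]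
    · intro e
      rw [show v + w + t = t + w + v by abel] at e
      have := left_eq_add.mp e
      exact D.zero (this ▸ hvT)
    · simp only [mem_insert, mem_singleton, not_or]
      refine ⟨fun e => hne (add_left_cancel e), fun e => ?_⟩
      rw [show v + w + t = t + v + w by abel] at e
      exact D.zero (left_eq_add.mp e ▸ hwT)
    · simp only [mem_insert, mem_singleton, not_or]
      refine ⟨fun e => D.zero (left_eq_add.mp e ▸ hvT), fun e => D.zero (left_eq_add.mp e ▸ hwT), fun e => hne ?_⟩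
      rw [add_comm (v + w) t] at e
      have h := left_eq_add.mp e
      exact (eq_neg_of_add_eq_zero_left h).trans (neg_eq_of_add_eq_zero_left (D.dbl w))
  refine ⟨hwv, h1, fun u hu h2 h3 => ?_⟩
  obtain ⟨huT, htu⟩ := D.mem_nb.mp hu
  have hm : u ∈ ({t, t + v, t + w, v + w + t} : Finset A) := he ▸ mem_filter.mpr ⟨huT, h2, h3⟩
  simp only [mem_insert, mem_singleton] at hm
  rcases hm with e | e | e | e
  · exact absurd e.symm (D.ne_of_adj htu)
  · exact Or.inl e
  · exact Or.inr e
  · exact absurd (show v + w ∈ D.T by rw [e, show t + (v + w + t) = t + t + (v + w) by abel, D.dbl, zero_add] at htu; exact htu) hn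

theorem eq_of_sum_zero (D : DuadGraph A) {a b : A} (h : a + b = 0) : a = b := by
  rw [← add_zero a, ← h, D.add_cancel2]

/-- Inside the neighbours of a vector exactly one of `w`, `t + w` is adjacent to `v`. -/
theorem exactly_one {t : A} (ht : t ∈ D.T) {v w : A} (hv : v ∈ D.nb t) (hw : w ∈ D.nb t) (hne : w ≠ v) (hne' : w ≠ t + v) :
    v + w ∈ D.T ↔ v + (t + w) ∉ D.T := by
  classical
  set N := D.nb t with hN
  have hNc : N.card = 44 := D.valency t ht
  let deg : A → ℕ := fun x => (N.filter fun y => x + y ∈ D.T).card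
  have hcover : ∀ x ∈ N, ∀ y ∈ N, y ≠ x → x + y ∈ D.T ∨ x + (t + y) ∈ D.T := fun x hx y hy hxy => by
    by_cases h : x + y ∈ D.T
    · exact Or.inl h
    · exact Or.inr (D.common ht hx hy hxy.symm h).2.1
  let ι : A ↪ A := ⟨fun y => t + y, add_right_injective t⟩
  -- each neighbour has at least twenty-two neighbours among them
  have hge : ∀ x ∈ N, 22 ≤ deg x ∧ (deg x = 22 → ∀ y ∈ N, y ≠ t + x → y ≠ x → x + y ∈ D.T → x + (t + y) ∉ D.T) := by
    intro x hx
    have hxT : t + x ∈ N.filter (fun y => x + y ∈ D.T) :=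
      mem_filter.mpr ⟨D.nb_translate hx, by rw [add_comm t x, D.add_cancel2]; exact ht⟩
    set S := (N.filter fun y => x + y ∈ D.T).erase (t + x) with hS
    set U := (N.erase x).erase (t + x) with hU
    have hun : U ⊆ S ∪ S.map ι := by
      intro y hy
      obtain ⟨hy1, hy2⟩ := mem_erase.mp hy
      obtain ⟨hy3, hy4⟩ := mem_erase.mp hy2
      rcases hcover x hx y hy4 hy3 with h | h
      · exact mem_union_left _ (mem_erase.mpr ⟨hy1, mem_filter.mpr ⟨hy4, h⟩⟩)
      · exact mem_union_right _ (mem_map.mpr ⟨t + y, mem_erase.mpr ⟨fun e => hy3 (add_left_cancel e),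
          mem_filter.mpr ⟨D.nb_translate hy4, h⟩⟩, D.add_cancel2 t y⟩)
    have hxtx : t + x ≠ x := fun e => D.zero (add_eq_right.mp e ▸ ht)
    have hc1 : U.card = 42 := by
      rw [hU, card_erase_of_mem (mem_erase.mpr ⟨hxtx, D.nb_translate hx⟩), card_erase_of_mem hx, hNc]
    have hc2 : S.card + 1 = deg x := card_erase_add_one hxT
    have hle := (card_le_card hun).trans_eq rfl
    have hun2 := card_union_add_card_inter S (S.map ι)
    rw [card_map] at hun2
    rw [hc1] at hle
    refine ⟨by omega, fun hd y hy hy1 hy2 hxy hxy' => ?_⟩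
    have h1 : y ∈ S := mem_erase.mpr ⟨hy1, mem_filter.mpr ⟨hy, hxy⟩⟩
    have h2 : y ∈ S.map ι := mem_map.mpr ⟨t + y, mem_erase.mpr ⟨fun e => hy2 (add_left_cancel e),
      mem_filter.mpr ⟨D.nb_translate hy, hxy'⟩⟩, D.add_cancel2 t y⟩
    have := card_pos.mpr (⟨y, mem_inter.mpr ⟨h1, h2⟩⟩ : (S ∩ S.map ι).Nonempty)
    omega
  -- counting gives twenty-two exactly
  set O := (D.T.erase t).filter fun y => t + y ∉ D.T with hO
  have hOc : O.card = 231 := by
    have h1 : (D.T.erase t).filter (fun y => t + y ∈ D.T) = N := by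
      ext y
      simp only [hN, nb, mem_filter, mem_erase]
      exact ⟨fun h => ⟨h.1.2, h.2⟩, fun h => ⟨⟨fun e => D.ne_of_adj h.2 e.symm, h.1⟩, h.2⟩⟩
    have h := card_filter_add_card_filter_not (s := D.T.erase t) (fun y => t + y ∈ D.T)
    rw [h1, card_erase_of_mem ht, D.card, hNc] at h
    simp only [← hO] at h
    omega
  have hsplit : ∀ x ∈ N, deg x + (O.filter fun y => x + y ∈ D.T).card + 1 = 44 := by
    intro x hx
    obtain ⟨hxT, htx⟩ := D.mem_nb.mp hx
    have he : (D.T.filter fun u => x + u ∈ D.T) =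
        insert t ((N.filter fun y => x + y ∈ D.T) ∪ (O.filter fun y => x + y ∈ D.T)) := by
      ext y
      simp only [hN, nb, hO, mem_insert, mem_union, mem_filter, mem_erase]
      constructor
      · rintro ⟨h1, h2⟩
        rcases eq_or_ne y t with e | e
        · exact Or.inl e
        · exact Or.inr (if h : t + y ∈ D.T then Or.inl ⟨⟨h1, h⟩, h2⟩ else Or.inr ⟨⟨⟨e, h1⟩, h⟩, h2⟩)
      · rintro (rfl | ⟨⟨h1, -⟩, h2⟩ | ⟨⟨⟨-, h1⟩, -⟩, h2⟩)
        · exact ⟨ht, by rwa [add_comm]⟩
        · exact ⟨h1, h2⟩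
        · exact ⟨h1, h2⟩
    have h44 := D.valency x hxT
    rw [he, card_insert_of_notMem, card_union_of_disjoint] at h44
    · exact h44
    · exact Finset.disjoint_left.mpr fun y h1 h2 =>
        (mem_filter.mp (mem_filter.mp h2).1).2 (D.mem_nb.mp (mem_filter.mp h1).1).2
    · simp only [mem_union, mem_filter, hO, hN, nb, mem_erase, not_or]
      exact ⟨fun h => D.ne_of_adj h.1.2 rfl, fun h => h.1.1.1 rfl⟩
  have hdouble : ∑ x ∈ N, (O.filter fun y => x + y ∈ D.T).card = 924 := by
    rw [sum_congr rfl fun x _ => card_filter (fun y => x + y ∈ D.T) O, sum_comm,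
      sum_congr rfl fun y _ => (card_filter (fun x => x + y ∈ D.T) N).symm,
      sum_const_nat (m := 4) (fun y hy => ?_), hOc]
    obtain ⟨hy1, hy2⟩ := mem_filter.mp hy
    obtain ⟨hy3, hy4⟩ := mem_erase.mp hy1
    rw [← D.mu t ht y hy4 hy3.symm hy2]
    congr 1
    ext x
    simp only [hN, nb, mem_filter, add_comm y x, and_assoc]
  have hsum : ∑ x ∈ N, deg x = 968 := by
    have h := sum_congr rfl hsplit
    rw [sum_add_distrib, sum_add_distrib, hdouble, sum_const, sum_const, hNc] at h
    simp only [smul_eq_mul] at h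
    omega
  have h22 : deg v = 22 := by
    by_contra h
    have hlt : ∑ _x ∈ N, 22 < ∑ x ∈ N, deg x :=
      sum_lt_sum (fun x hx => (hge x hx).1) ⟨v, hv, lt_of_le_of_ne (hge v hv).1 (Ne.symm h)⟩
    rw [hsum, sum_const, hNc] at hlt
    simp at hlt
  exact ⟨(hge v hv).2 h22 w hw hne' hne, fun h => (hcover v hv w hw hne).resolve_right h⟩

/-- A largest clique among the neighbours of a vector. -/
theorem exists_side {t : A} (ht : t ∈ D.T) : ∃ X : Finset A, X.card = 22 ∧ X ⊆ D.nb t ∧
    (∀ w ∈ D.nb t, w ∈ X ↔ t + w ∉ X) ∧ ∀ x ∈ X, ∀ y ∈ X, x ≠ y → x + y ∈ D.T ∧ x + y ≠ t ∧ t + (x + y) ∉ D.T := by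
  classical
  obtain ⟨v, hv⟩ : (D.nb t).Nonempty := card_pos.mp (by rw [nb, D.valency t ht]; norm_num)
  set X := (D.nb t).filter fun w => w = v ∨ (w ≠ t + v ∧ v + w ∈ D.T) with hX
  let ι : A ↪ A := ⟨fun y => t + y, add_right_injective t⟩
  have htv : t + v ≠ v := fun e => D.zero (add_eq_right.mp e ▸ ht)
  have hXN : X ⊆ D.nb t := filter_subset _ _
  have hsides : ∀ w ∈ D.nb t, w ∈ X ↔ t + w ∉ X := by
    intro w hw
    simp only [hX, mem_filter, hw, D.nb_translate hw, true_and]
    rcases eq_or_ne w v with rfl | h1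
    · exact iff_of_true (Or.inl rfl) (by push Not; exact ⟨htv, fun h => absurd rfl h⟩)
    · rcases eq_or_ne w (t + v) with rfl | h2
      · exact iff_of_false (by push Not; exact ⟨h1, fun h => absurd rfl h⟩) (by rw [D.add_cancel2]; simp)
      · have h3 : t + w ≠ v := fun e => h2 (by rw [← e, D.add_cancel2])
        have h4 : t + w ≠ t + v := fun e => h1 (add_left_cancel e)
        simp only [h1, h2, h3, h4, false_or, true_and, ne_eq, not_false_eq_true]
        exact D.exactly_one ht hv hw h1 h2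
  have hXc : X.card = 22 := by
    have hd : Disjoint X (X.map ι) := Finset.disjoint_left.mpr fun w hw hw' => by
      obtain ⟨y, hy, rfl⟩ := mem_map.mp hw'
      exact (hsides y (hXN hy)).mp hy hw
    have he : X ∪ X.map ι = D.nb t := by
      ext w
      simp only [mem_union, mem_map]
      constructor
      · rintro (h | ⟨y, hy, rfl⟩)
        exacts [hXN h, D.nb_translate (hXN hy)]
      · intro hw
        by_cases h : w ∈ X
        · exact Or.inl h
        · exact Or.inr ⟨t + w, by_contra fun h' => h ((hsides w hw).mpr h'), D.add_cancel2 t w⟩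
    have h := congrArg Finset.card he
    rw [card_union_of_disjoint hd, card_map, nb, D.valency t ht] at h
    omega
  refine ⟨X, hXc, hXN, hsides, fun x hx y hy hxy => ?_⟩
  have hne : x + y ≠ t := fun e => (hsides x (hXN hx)).mp hx
    (by rw [show t + x = y by rw [← e, add_comm, D.add_cancel2]]; exact hy)
  have hxy' : x + y ∈ D.T := by
    by_contra hn
    obtain ⟨-, -, h3⟩ := D.common ht (hXN hx) (hXN hy) hxy hn
    have h4 : ∀ w ∈ X, w ≠ v → v + w ∈ D.T := fun w hw hne => ((mem_filter.mp hw).2.resolve_left hne).2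
    rcases eq_or_ne x v with rfl | hxv
    · exact hn (h4 y hy hxy.symm)
    · rcases eq_or_ne y v with rfl | hyv
      · exact hn (by rw [add_comm]; exact h4 x hx hxy)
      · rcases h3 v hv (by rw [add_comm]; exact h4 x hx hxv) (by rw [add_comm]; exact h4 y hy hyv) with e | e
        · exact ((mem_filter.mp hx).2.resolve_left hxv).1 (by rw [e, D.add_cancel2])
        · exact ((mem_filter.mp hy).2.resolve_left hyv).1 (by rw [e, D.add_cancel2])
  refine ⟨hxy', hne, fun h => ?_⟩
  have h1 : y ≠ t + x := fun e => hne (by rw [e, add_comm t x, D.add_cancel2])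
  refine (D.exactly_one ht (hXN hx) (hXN hy) hxy.symm h1).mp hxy' ?_
  rwa [show x + (t + y) = t + (x + y) by abel]

end DuadGraph

end Cfsg.Lib.LargeFischer
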