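import Cfsg.Agent.LargeFischer.DuadGraph

/-!
The triangular graph on 276 vectors comes from twenty-four vectors.
-/

set_option autoImplicit false
set_option maxRecDepth 100000
set_option maxHeartbeats 1000000
set_option linter.unusedSectionVars false
set_option linter.style.haveILetI false

namespace Cfsg.Lib.LargeFischer

open Finset

universe u

/-- The vectors belonging to a vector and one side of its neighbours. -/
def duadVec {A : Type u} [AddCommGroup A] (t : A) (X : Finset A) : Option (Option {x // x ∈ X}) → A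
  | none => 0
  | some none => t
  | some (some x) => x.1

namespace DuadGraph

variable {A : Type u} [AddCommGroup A] [DecidableEq A] (D : DuadGraph A)

/-- The twenty-four vectors. -/
theorem exists_duadMap : ∃ (Pt : Type u) (_ : Fintype Pt) (_ : DecidableEq Pt) (F : DuadMap A Pt), F.T = (D.T : Set A) := by
  classical
  obtain ⟨t, ht⟩ : D.T.Nonempty := card_pos.mp (by rw [D.card]; norm_num)
  obtain ⟨X, hXc, hXN, hsides, hclique⟩ := D.exists_side ht
  set f : Option (Option {x // x ∈ X}) → A := duadVec t X with hf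
  have hnbX : ∀ x : {x // x ∈ X}, x.1 ∈ D.T ∧ t + x.1 ∈ D.T := fun x => D.mem_nb.mp (hXN x.2)
  have hT2 : ∀ a b, a ≠ b → f a + f b ∈ D.T := by
    intro a b hab
    rcases a with _ | _ | x <;> rcases b with _ | _ | y <;> simp only [hf, duadVec]
    · exact absurd rfl hab
    · rw [zero_add]; exact ht
    · rw [zero_add]; exact (hnbX y).1
    · rw [add_zero]; exact ht
    · exact absurd rfl hab
    · exact (hnbX y).2
    · rw [add_zero]; exact (hnbX x).1
    · rw [add_comm]; exact (hnbX x).2
    · exact (hclique x x.2 y y.2 fun e => hab (by rw [Subtype.ext e])).1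
  let σ : Finset (Option (Option {x // x ∈ X})) → A := fun s => ∑ a ∈ s, f a
  set P := ((univ : Finset (Option (Option {x // x ∈ X}))).powersetCard 2) with hP
  have hPc : P.card = 276 := by
    rw [hP, card_powersetCard, card_univ, Fintype.card_option, Fintype.card_option, Fintype.card_coe, hXc]; rfl
  -- every member of `T` is a pair sum
  have hsurj : D.T ⊆ P.image σ := by
    intro u hu
    have key : ∀ a b, a ≠ b → f a + f b = u → u ∈ P.image σ := fun a b hab e =>
      mem_image.mpr ⟨{a, b}, mem_powersetCard.mpr ⟨subset_univ _, card_pair hab⟩, by simp only [σ, sum_pair hab, e]⟩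
    by_cases hut : u = t
    · exact key none (some none) (by simp) (by rw [hut, hf]; exact zero_add t)
    by_cases hn : t + u ∈ D.T
    · have hun : u ∈ D.nb t := D.mem_nb.mpr ⟨hu, hn⟩
      by_cases hX' : u ∈ X
      · exact key none (some (some ⟨u, hX'⟩)) (by simp) (by rw [hf]; exact zero_add u)
      · exact key (some none) (some (some ⟨t + u, by_contra fun h => hX' ((hsides u hun).mpr h)⟩)) (by simp)
          (by rw [hf]; exact D.add_cancel2 t u)
    · set K := D.T.filter fun w => t + w ∈ D.T ∧ u + w ∈ D.T with hK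
      have hKc : K.card = 4 := D.mu t ht u hu (Ne.symm hut) hn
      have hcl : ∀ w ∈ K, w ∈ D.nb t ∧ t + u + w ∈ D.T ∧ u + w ∈ D.T := fun w hw => by
        obtain ⟨h0, h1, h2⟩ := mem_filter.mp hw
        exact ⟨D.mem_nb.mpr ⟨h0, h1⟩, D.closed t ht u hu w h0 (Ne.symm hut) hn h1 h2, h2⟩
      obtain ⟨w, hwn, hwX, huw, htuw⟩ : ∃ w, w ∈ D.nb t ∧ w ∈ X ∧ u + w ∈ D.T ∧ t + (u + w) ∈ D.T := by
        obtain ⟨w, hw⟩ : K.Nonempty := card_pos.mp (by omega)
        obtain ⟨h0, h1, h2⟩ := hcl w hw
        by_cases h : w ∈ X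
        · exact ⟨w, h0, h, h2, by rwa [← add_assoc]⟩
        · refine ⟨t + w, D.nb_translate h0, by_contra fun h' => h ((hsides w h0).mpr h'), ?_, ?_⟩
          · rwa [show u + (t + w) = t + u + w by abel]
          · rwa [show t + (u + (t + w)) = t + t + (u + w) by abel, D.dbl, zero_add]
      have hun : u + w ∈ D.nb t := D.mem_nb.mpr ⟨huw, htuw⟩
      by_cases h : u + w ∈ X
      · refine key (some (some ⟨w, hwX⟩)) (some (some ⟨u + w, h⟩)) ?_ ?_
        · intro e
          exact D.zero ((right_eq_add.mp (congrArg Subtype.val (Option.some.inj (Option.some.inj e)))) ▸ hu)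
        · show w + (u + w) = u
          rw [add_left_comm, D.dbl, add_zero]
      · -- otherwise two members of one side would differ by a non-member
        exfalso
        have h' : t + (u + w) ∈ X := by_contra fun h'' => h ((hsides _ hun).mpr h'')
        have he : w + (t + (u + w)) = t + u := by
          rw [show w + (t + (u + w)) = w + w + (t + u) by abel, D.dbl, zero_add]
        rcases eq_or_ne w (t + (u + w)) with e | e
        · rw [← e, D.dbl] at he
          exact hut (D.eq_of_sum_zero he.symm).symm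
        · exact hn (he ▸ (hclique w hwX _ h' e).1)
  have hmaps : ∀ s ∈ P, σ s ∈ D.T := fun s hs => by
    obtain ⟨a, b, hab, rfl⟩ := card_eq_two.mp (mem_powersetCard.mp hs).2
    simp only [σ, sum_pair hab]
    exact hT2 a b hab
  have hinj' : Set.InjOn σ P := injOn_of_card_image_eq
    (le_antisymm card_image_le (by rw [hPc, ← D.card]; exact card_le_card hsurj))
  have hinj : ∀ a b c d, a ≠ b → c ≠ d → f a + f b = f c + f d → (c = a ∧ d = b) ∨ (c = b ∧ d = a) := by
    intro a b c d hab hcd e
    have h := hinj' (x₁ := ({a, b} : Finset _)) (x₂ := {c, d}) (mem_powersetCard.mpr ⟨subset_univ _, card_pair hab⟩)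
      (mem_powersetCard.mpr ⟨subset_univ _, card_pair hcd⟩) (by simp only [σ, sum_pair hab, sum_pair hcd, e])
    have hc : c ∈ ({a, b} : Finset _) := h ▸ mem_insert_self _ _
    have hd : d ∈ ({a, b} : Finset _) := h ▸ mem_insert_of_mem (mem_singleton_self _)
    simp only [mem_insert, mem_singleton] at hc hd
    rcases hc with rfl | rfl <;> rcases hd with rfl | rfl
    exacts [absurd rfl hcd, Or.inl ⟨rfl, rfl⟩, Or.inr ⟨rfl, rfl⟩, absurd rfl hcd]
  -- sums over disjoint pairs are not adjacent
  have hfour : ∀ a b c d, a ≠ b → c ≠ d → a ≠ c → a ≠ d → b ≠ c → b ≠ d → f a + f b + (f c + f d) ∉ D.T := by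
    intro a b c d hab hcd hac had hbc hbd hmem
    set R := ((univ : Finset (Option (Option {x // x ∈ X}))).erase a).erase b with hR
    have hRc : R.card = 22 := by
      rw [hR, card_erase_of_mem (mem_erase.mpr ⟨hab.symm, mem_univ _⟩), card_erase_of_mem (mem_univ _), card_univ,
        Fintype.card_option, Fintype.card_option, Fintype.card_coe, hXc]
    have hmemR : ∀ r ∈ R, r ≠ a ∧ r ≠ b := fun r hr =>
      ⟨(mem_erase.mp (mem_erase.mp hr).2).1, (mem_erase.mp hr).1⟩
    have hsub : (R.image fun r => f a + f r) ∪ (R.image fun r => f b + f r) ⊆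
        D.T.filter fun u => f a + f b + u ∈ D.T := by
      intro u hu
      rcases mem_union.mp hu with h | h <;> obtain ⟨r, hr, rfl⟩ := mem_image.mp h
      · refine mem_filter.mpr ⟨hT2 a r (hmemR r hr).1.symm, ?_⟩
        rw [show f a + f b + (f a + f r) = f a + f a + (f b + f r) by abel, D.dbl, zero_add]
        exact hT2 b r (hmemR r hr).2.symm
      · refine mem_filter.mpr ⟨hT2 b r (hmemR r hr).2.symm, ?_⟩
        rw [show f a + f b + (f b + f r) = f b + f b + (f a + f r) by abel, D.dbl, zero_add]
        exact hT2 a r (hmemR r hr).1.symm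
    have hc44 : ((R.image fun r => f a + f r) ∪ (R.image fun r => f b + f r)).card = 44 := by
      rw [card_union_of_disjoint, card_image_of_injOn, card_image_of_injOn, hRc]
      · intro r hr r' hr' e
        rcases hinj _ _ _ _ (hmemR r hr).2.symm (hmemR r' hr').2.symm e with ⟨-, h⟩ | ⟨h, -⟩
        exacts [h.symm, absurd h (hmemR r hr).2.symm]
      · intro r hr r' hr' e
        rcases hinj _ _ _ _ (hmemR r hr).1.symm (hmemR r' hr').1.symm e with ⟨-, h⟩ | ⟨h, -⟩
        exacts [h.symm, absurd h (hmemR r hr).1.symm]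
      · refine Finset.disjoint_left.mpr fun u h1 h2 => ?_
        obtain ⟨r, hr, rfl⟩ := mem_image.mp h1
        obtain ⟨r', hr', e⟩ := mem_image.mp h2
        rcases hinj _ _ _ _ (hmemR r' hr').2.symm (hmemR r hr).1.symm e with ⟨h, -⟩ | ⟨h, -⟩
        exacts [hab h, (hmemR r' hr').1 h.symm]
    have he := eq_of_subset_of_card_le hsub (by rw [D.valency _ (hT2 a b hab), hc44])
    have hcm : f c + f d ∈ D.T.filter fun u => f a + f b + u ∈ D.T := mem_filter.mpr ⟨hT2 c d hcd, hmem⟩
    rw [← he] at hcm
    rcases mem_union.mp hcm with h | h <;> obtain ⟨r, hr, e⟩ := mem_image.mp h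
    · rcases hinj _ _ _ _ (hmemR r hr).1.symm hcd e with ⟨h1, -⟩ | ⟨-, h1⟩
      exacts [hac h1.symm, had h1.symm]
    · rcases hinj _ _ _ _ (hmemR r hr).2.symm hcd e with ⟨h1, -⟩ | ⟨-, h1⟩
      exacts [hbc h1.symm, hbd h1.symm]
  have hshort : ∀ s : Finset (Option (Option {x // x ∈ X})), s.Nonempty → s.card ≤ 6 → Even s.card → ∑ a ∈ s, f a ≠ 0 := by
    intro s hne h6 hev h0
    obtain ⟨a, ha⟩ := hne
    obtain ⟨k, hk⟩ := hev
    have hpos := card_pos.mpr ⟨a, ha⟩
    obtain ⟨b, hb⟩ : (s.erase a).Nonempty := card_pos.mp (by rw [card_erase_of_mem ha]; omega)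
    obtain ⟨hba, hbs⟩ := mem_erase.mp hb
    set r := (s.erase a).erase b with hr
    have hrc : r.card + 2 = s.card := by
      rw [hr, card_erase_of_mem hb, card_erase_of_mem ha]
      omega
    have hrsum : ∑ x ∈ r, f x = f a + f b := by
      refine D.eq_of_sum_zero ?_
      rw [← h0, ← add_sum_erase s f ha, ← add_sum_erase (s.erase a) f hb]
      abel
    have hmem : ∀ x ∈ r, x ≠ a ∧ x ≠ b := fun x hx => ⟨(mem_erase.mp (mem_erase.mp hx).2).1, (mem_erase.mp hx).1⟩
    rcases (show r.card = 0 ∨ r.card = 2 ∨ r.card = 4 by omega) with h | h | h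
    · rw [card_eq_zero.mp h, sum_empty] at hrsum
      exact D.zero (hrsum ▸ hT2 a b hba.symm)
    · obtain ⟨c, d, hcd, hrd⟩ := card_eq_two.mp h
      rw [hrd, sum_pair hcd] at hrsum
      rcases hinj a b c d hba.symm hcd hrsum.symm with ⟨h1, -⟩ | ⟨h1, -⟩
      · exact (hmem c (hrd ▸ mem_insert_self _ _)).1 h1
      · exact (hmem c (hrd ▸ mem_insert_self _ _)).2 h1
    · obtain ⟨c, hc⟩ : r.Nonempty := card_pos.mp (by omega)
      obtain ⟨d, hd⟩ : (r.erase c).Nonempty := card_pos.mp (by rw [card_erase_of_mem hc]; omega)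
      obtain ⟨hdc, hdr⟩ := mem_erase.mp hd
      obtain ⟨e, g, heg, hrest⟩ := card_eq_two.mp (show ((r.erase c).erase d).card = 2 by
        rw [card_erase_of_mem hd, card_erase_of_mem hc]; omega)
      rw [← add_sum_erase r f hc, ← add_sum_erase (r.erase c) f hd, hrest, sum_pair heg, ← add_assoc] at hrsum
      have hmem' : ∀ x ∈ ({e, g} : Finset _), x ≠ c ∧ x ≠ d := fun x hx => by
        rw [← hrest] at hx
        exact ⟨(mem_erase.mp (mem_erase.mp hx).2).1, (mem_erase.mp hx).1⟩
      have he := hmem' e (mem_insert_self _ _)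
      have hg := hmem' g (mem_insert_of_mem (mem_singleton_self _))
      refine hfour c d e g hdc.symm heg he.1.symm hg.1.symm he.2.symm hg.2.symm ?_
      rw [hrsum]
      exact hT2 a b hba.symm
  let F : DuadMap A (Option (Option {x // x ∈ X})) :=
    { f := f, card := by simp [hXc], dbl := D.dbl, cardA := D.cardA, short := hshort }
  refine ⟨_, inferInstance, inferInstance, F, ?_⟩
  haveI := F.finiteA
  refine Set.eq_of_subset_of_ncard_le ?_ (by rw [Set.ncard_coe_finset, D.card, F.ncard_T]) (Set.toFinite _)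
  rintro _ ⟨s, hs, rfl⟩
  obtain ⟨a, b, hab, rfl⟩ := card_eq_two.mp hs
  rw [F.sm_pair hab]
  exact hT2 a b hab

end DuadGraph

end Cfsg.Lib.LargeFischer
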