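import Cfsg.Agent.LargeFischer.EightSub
import Cfsg.Agent.PGroups.SpecialCoprime
import Cfsg.Agent.PGroups.Basic
import Cfsg.Prelude.Def_Solvable

/-!
The centraliser of the subgroup of order eight and its largest normal two-subgroup.
-/

set_option autoImplicit false
set_option maxRecDepth 100000
set_option maxHeartbeats 1000000
set_option linter.unusedSectionVars false
set_option linter.style.haveILetI false

namespace Cfsg.Lib.LargeFischer

open Subgroup QuadraticMap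
open Cfsg.Lib.LargeExtra
open Cfsg.Lib.LargeExtra.OutExtra

universe u

theorem sup_ind {H : Type*} [Group H] {A B : Subgroup H} {p : H → Prop} (ha : ∀ a ∈ A, p a) (hb : ∀ b ∈ B, p b)
    (h1 : p 1) (hm : ∀ a b, a ∈ A ⊔ B → b ∈ A ⊔ B → p a → p b → p (a * b)) {x : H} (hx : x ∈ A ⊔ B) : p x := by
  rw [Subgroup.sup_eq_closure] at hx hm
  induction hx using Subgroup.closure_induction'' with
  | mem y hy => exact hy.elim (ha y) (hb y)
  | inv_mem y hy => exact hy.elim (fun h => ha _ (inv_mem h)) fun h => hb _ (inv_mem h)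
  | one => exact h1
  | mul a b iha ihb pa pb => exact hm a b iha ihb pa pb

variable {G : Type u} [Group G] [Finite G] {z : G} {Q : Subgroup (centralizer ({z} : Set G))} [Q.Normal]

namespace Ctx.LinePt

variable {c : Ctx z Q} (P : c.LinePt)

/-- The radical of the centraliser. -/
noncomputable def R : Subgroup ↥(centralizer ({z} : Set G)) := (c.RC P.g ⊓ c.M) ⊔ (P.C ⊓ Q)

theorem RCM_le : c.RC P.g ⊓ c.M ≤ P.C := by
  rintro r ⟨hr, hrM⟩
  rw [P.mem_C]
  intro y hy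
  have hfix : rep Q c.D r (c.pt y) = c.pt y := by
    obtain ⟨a, ha⟩ := P.mem_line.mp hy
    rw [← ha, c.F.map_sm (rep_add Q c.D r) (om_comm_M hrM), c.act]
    refine congrArg _ (congrArg c.pt (Subtype.ext ?_))
    rw [MulAut.conjNormal_apply]
    exact c.RC_fix P.hg hr
  rw [c.act] at hfix
  rcases center_cases c.D.es (c.D.eq_iff.mp hfix) with h | h
  · exact inv_mul_eq_one.mp h
  · exfalso
    have hy' : y = MulAut.conjNormal r y * c.zq := by rw [← h, mul_inv_cancel_left]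
    have e2 := congrArg (fun w : ↥Q => ((w : ↥(centralizer ({z} : Set G))) : G)) hy'
    simp only [MulAut.conjNormal_apply, Subgroup.coe_mul, Subgroup.coe_inv, c.zv] at e2
    rcases P.X2s.conj_cases (c.mem_RC hr) (P.V_le_Qs (P.mem_V.mpr ⟨y, hy, rfl⟩)) with e | e <;> rw [e] at e2
    · exact c.X2g.ne (left_eq_mul.mp e2)
    · have hz : ((P.x : ↥(centralizer ({z} : Set G))) : G) * ((y : ↥(centralizer ({z} : Set G))) : G) =
          ((y : ↥(centralizer ({z} : Set G))) : G) * z := by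
        have h1 := congrArg (· * z) e2
        simp only [mul_assoc, c.X2g.zz, mul_one] at h1
        exact h1.symm
      have hzy : ((y : ↥(centralizer ({z} : Set G))) : G) * z = z * ((y : ↥(centralizer ({z} : Set G))) : G) :=
        (c.X2g.central _ ⟨_, y.2, rfl⟩).eq
      rw [hzy] at hz
      exact P.hxz (mul_right_cancel hz)

theorem R_le : P.R ≤ P.C := sup_le P.RCM_le inf_le_left

theorem R_isP : IsPGroup 2 ↥P.R :=
  IsPGroup.to_sup_of_normal_right' ((c.RC_isP P.g).to_le inf_le_left)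
    ((IsPGroup.of_card (p := 2) (n := 13) c.card).to_le inf_le_right)
    (fun r hr => Cfsg.Lib.Coprime.mem_normalizer_of_conj_mem
      (fun q hq => ⟨mul_mem (mul_mem (P.RCM_le hr) hq.1) (P.C.inv_mem (P.RCM_le hr)), (inferInstance : Q.Normal).conj_mem q hq.2 r⟩)
      fun q hq => ⟨mul_mem (mul_mem (P.C.inv_mem (P.RCM_le hr)) hq.1) (P.RCM_le hr), by
        simpa using (inferInstance : Q.Normal).conj_mem q hq.2 r⁻¹⟩)

theorem R_inter : P.R ⊓ Q = P.C ⊓ Q :=
  le_antisymm (inf_le_inf_right Q P.R_le) (le_inf le_sup_right inf_le_right)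

theorem R_map : P.R.map (rep Q c.D) = (c.RC P.g ⊓ c.M).map (rep Q c.D) := by
  rw [R, Subgroup.map_sup, sup_eq_left]
  rintro _ ⟨q, hq, rfl⟩
  rw [MonoidHom.mem_ker.mp (c.ker.symm ▸ hq.2 : q ∈ (rep Q c.D).ker)]
  exact one_mem _

theorem R_card : Nat.card ↥P.R = 2 ^ 15 := by
  rw [c.card_map_rep, P.R_map, P.RB_cards.2.1, P.R_inter, P.CQ_card]
  norm_num

/-- The point stabiliser in the image of the subgroup of index two. -/
noncomputable def St : Subgroup (Equiv.Perm (c.ι → ZMod 2)) :=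
  ((rep Q c.D).comp c.M.subtype).range ⊓ MulAction.stabilizer (Equiv.Perm (c.ι → ZMod 2)) (c.pt P.x)

theorem St_card : Nat.card ↥P.St = 5760 := by
  letI : MulAction ↥((rep Q c.D).comp c.M.subtype).range (c.ι → ZMod 2) := MulAction.compHom _ c.F.ρ
  have e1 : MulAction.orbit ↥((rep Q c.D).comp c.M.subtype).range (c.pt P.x) = c.F.orb (c.pt P.x) := rfl
  have h := card_eq_card_quotient_mul_card_subgroup (MulAction.stabilizer ↥((rep Q c.D).comp c.M.subtype).range (c.pt P.x))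
  have e2 : MulAction.stabilizer ↥((rep Q c.D).comp c.M.subtype).range (c.pt P.x) =
      P.St.subgroupOf ((rep Q c.D).comp c.M.subtype).range := by
    ext y
    rw [MulAction.mem_stabilizer_iff, mem_subgroupOf]
    show c.F.ρ y (c.pt P.x) = c.pt P.x ↔ _
    rw [c.Fρ]
    exact ⟨fun h => ⟨y.2, h⟩, fun h => h.2⟩
  rw [← Nat.card_congr (MulAction.orbitEquivQuotientStabilizer ↥((rep Q c.D).comp c.M.subtype).range (c.pt P.x)), e1, e2,
    Nat.card_congr (subgroupOfEquivOfLe (H := P.St) (inf_le_left : P.St ≤ ((rep Q c.D).comp c.M.subtype).range)).toEquiv, c.F.cardX,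
    P.orb1701] at h
  omega

theorem C_map : P.C.map (rep Q c.D) = P.St := by
  refine le_antisymm ?_ ?_
  · rintro _ ⟨h, hh, rfl⟩
    exact ⟨⟨⟨h, P.C_le_M hh⟩, rfl⟩, P.C_fix hh P.x_line⟩
  rintro _ ⟨⟨m, rfl⟩, hm⟩
  obtain ⟨h, hhx, hρ, hM⟩ := c.conj_of_rep (m : ↥(centralizer ({z} : Set G))) P.x P.x hm P.hxz P.hx1
  have hhM := hM m.2
  have hpt' : rep Q c.D h (c.pt P.x') = c.pt P.x' := by
    rw [P.pt_x', om_comm_M hhM, hρ]
    exact congrArg _ hm
  rw [c.act] at hpt'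
  have hxx : MulAut.conjNormal h P.x = P.x := Subtype.ext (by rw [MulAut.conjNormal_apply]; exact hhx)
  have hfin : ∀ g : ↥(centralizer ({z} : Set G)), MulAut.conjNormal g P.x = P.x → MulAut.conjNormal g P.x' = P.x' →
      g ∈ P.C := by
    intro g h1 h2
    rw [P.mem_C]
    intro y hy
    obtain ⟨a, rfl⟩ := P.exists_comb hy
    have hz : MulAut.conjNormal g c.zq = c.zq := Subtype.ext (Subtype.ext (by
      rw [MulAut.conjNormal_apply, Subgroup.coe_mul, Subgroup.coe_mul, c.zv, Subgroup.coe_inv]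
      exact mul_inv_eq_iff_eq_mul.mpr (mem_centralizer_singleton_iff.mp g.2)))
    simp only [comb, map_mul, map_pow, hz, h1, h2]
  rcases center_cases c.D.es (c.D.eq_iff.mp hpt') with e | e
  · exact ⟨h, hfin h hxx (inv_mul_eq_one.mp e), hρ⟩
  -- correct by an element of `Q`
  have hx'not : ((P.x' : ↥(centralizer ({z} : Set G))) : G) ∉
      closure ({z, ((P.x : ↥(centralizer ({z} : Set G))) : G)} : Set G) := by
    intro hmem
    have hle : closure ({z, ((P.x : ↥(centralizer ({z} : Set G))) : G)} : Set G) ≤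
        ((({ carrier := {y : ↥Q | c.pt y ∈ ({0, c.pt P.x} : Set (c.ι → ZMod 2))}
             one_mem' := Or.inl c.D.π_one
             mul_mem' := fun {a b} ha hb => by
               show c.pt (a * b) ∈ ({0, c.pt P.x} : Set (c.ι → ZMod 2))
               rw [c.pt_add]
               rcases ha with e | e <;> rcases hb with e' | e' <;> rw [e, e'] <;> simp [c.F.dbl]
             inv_mem' := fun {a} ha => by
               show c.D.π a⁻¹ ∈ ({0, c.pt P.x} : Set (c.ι → ZMod 2))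
               rw [c.D.π_inv, c.F.W.neg_eq]
               exact ha } : Subgroup ↥Q).map Q.subtype)).map (centralizer ({z} : Set G)).subtype := by
      rw [closure_le]
      rintro w (rfl | rfl)
      · exact ⟨c.zq, ⟨c.zq, Or.inl c.D.π_z, rfl⟩, c.zv⟩
      · exact ⟨P.x, ⟨P.x, Or.inr rfl, rfl⟩, rfl⟩
    obtain ⟨_, ⟨y, hy, rfl⟩, hyx⟩ := hle hmem
    obtain rfl : y = P.x' := Subtype.ext (Subtype.ext hyx)
    rcases hy with e | e
    · exact P.v_ne ((map_eq_zero_iff c.F.om (c.F.t_inj _)).mp (P.pt_x' ▸ e))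
    · rw [P.pt_x', ← c.F.sm_w] at e
      have h0 : c.F.sm (w4 + 1) (c.pt P.x) = 0 := by
        rw [c.F.sm_add_left, c.F.sm_one, show c.F.sm w4 (c.pt P.x) = c.pt P.x from e, c.F.dbl]
      exact absurd (c.F.sm_injective P.v_ne h0) (by decide +kernel)
  obtain ⟨_, ⟨q, hqQ, rfl⟩, hqc, hqx'⟩ := c.X2g.exists_split
    (H := closure ({z, ((P.x : ↥(centralizer ({z} : Set G))) : G)} : Set G)) ((closure_le _).mpr (by
      rintro w (rfl | rfl)
      · exact c.X2g.mem
      · exact ⟨_, P.x.2, rfl⟩)) (subset_closure (Set.mem_insert _ _)) ⟨_, P.x'.2, rfl⟩ hx'not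
  refine ⟨q * h, hfin _ ?_ ?_, ?_⟩
  · rw [map_mul, MulAut.mul_apply, hxx]
    refine Subtype.ext (Subtype.ext ?_)
    rw [MulAut.conjNormal_apply]
    exact mul_inv_eq_iff_eq_mul.mpr (hqc _ (subset_closure (Set.mem_insert_of_mem _ rfl))).eq
  · rw [map_mul, MulAut.mul_apply]
    have e' : MulAut.conjNormal h P.x' = P.x' * c.zq := by
      have h1 : P.x' = MulAut.conjNormal h P.x' * c.zq := by rw [← e, mul_inv_cancel_left]
      conv_rhs => rw [h1]
      rw [mul_assoc, P.q_line P.z_line, mul_one]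
    rw [e']
    refine Subtype.ext (Subtype.ext ?_)
    rw [MulAut.conjNormal_apply, Subgroup.coe_mul, Subgroup.coe_mul, Subgroup.coe_mul, Subgroup.coe_mul, c.zv, Subgroup.coe_inv]
    calc (q : G) * (((P.x' : ↥(centralizer ({z} : Set G))) : G) * z) * (q : G)⁻¹
        = ((q : G) * ((P.x' : ↥(centralizer ({z} : Set G))) : G) * (q : G)⁻¹) * ((q : G) * z * (q : G)⁻¹) := by group
      _ = z * ((P.x' : ↥(centralizer ({z} : Set G))) : G) * z := by
        rw [show (q : G) * z * (q : G)⁻¹ = z from mul_inv_eq_iff_eq_mul.mpr (mem_centralizer_singleton_iff.mp q.2)]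
        exact congrArg (· * z) hqx'
      _ = _ := by
        rw [mul_assoc, show ((P.x' : ↥(centralizer ({z} : Set G))) : G) * z = z * ((P.x' : ↥(centralizer ({z} : Set G))) : G)
          from (c.X2g.central _ ⟨_, P.x'.2, rfl⟩).eq, ← mul_assoc, c.X2g.zz, one_mul]
  · rw [map_mul, MonoidHom.mem_ker.mp (c.ker.symm ▸ hqQ : q ∈ (rep Q c.D).ker), one_mul, hρ]
    rfl

theorem C_card : Nat.card ↥P.C = 360 * 2 ^ 15 := by
  rw [c.card_map_rep, P.C_map, P.St_card, P.CQ_card]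
  norm_num

theorem R_normal : (P.R.subgroupOf P.C).Normal := by
  haveI := c.Mn
  refine ⟨fun r hr h => ?_⟩
  rw [mem_subgroupOf] at hr ⊢
  have hh : (h : ↥(centralizer ({z} : Set G))) * (P.x : ↥(centralizer ({z} : Set G))) * (h : ↥(centralizer ({z} : Set G)))⁻¹ =
      (P.x : ↥(centralizer ({z} : Set G))) := by
    have e := congrArg Subtype.val (P.mem_C.mp h.2 P.x P.x_line)
    rwa [MulAut.conjNormal_apply] at e
  show (h : ↥(centralizer ({z} : Set G))) * (r : ↥(centralizer ({z} : Set G))) * (h : ↥(centralizer ({z} : Set G)))⁻¹ ∈ P.R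
  refine sup_ind (A := c.RC P.g ⊓ c.M) (B := P.C ⊓ Q) (p := fun r => (h : ↥(centralizer ({z} : Set G))) * r * (h : ↥(centralizer ({z} : Set G)))⁻¹ ∈ P.R)
    (fun r hr => Subgroup.mem_sup_left ⟨c.RC_conj P.hg hh hr.1, c.Mn.conj_mem r hr.2 _⟩)
    (fun q hq => Subgroup.mem_sup_right ⟨mul_mem (mul_mem h.2 hq.1) (P.C.inv_mem h.2),
      (inferInstance : Q.Normal).conj_mem q hq.2 _⟩) (by simp) (fun a b _ _ ha hb => ?_) hr
  · show _ ∈ P.R
    rw [show (h : ↥(centralizer ({z} : Set G))) * (a * b) * (h : ↥(centralizer ({z} : Set G)))⁻¹ =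
      ((h : ↥(centralizer ({z} : Set G))) * a * (h : ↥(centralizer ({z} : Set G)))⁻¹) *
        ((h : ↥(centralizer ({z} : Set G))) * b * (h : ↥(centralizer ({z} : Set G)))⁻¹) by group]
    exact mul_mem ha hb

theorem C_quot : haveI := P.R_normal; Nonempty (↥P.C ⧸ P.R.subgroupOf P.C ≃* alternatingGroup (Fin 6)) := by
  haveI := P.R_normal
  classical
  obtain ⟨eA⟩ := P.hLA
  set LP := P.L.map ((rep Q c.D).comp c.M.subtype).range.subtype with hLP
  have hLPle : LP ≤ P.St := by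
    rintro _ ⟨l, hl, rfl⟩
    refine ⟨l.2, ?_⟩
    have h := P.hL l hl
    rw [c.Fρ] at h
    exact h
  obtain ⟨-, -, hbot, -⟩ := c.local_bound P.hg P.hxz P.hx1 P.L P.hL P.hLA
  let f : ↥(LP.comap (rep Q c.D) ⊓ P.C : Subgroup ↥(centralizer ({z} : Set G))) →* ↥P.C ⧸ P.R.subgroupOf P.C :=
    (QuotientGroup.mk' _).comp (Subgroup.inclusion inf_le_right)
  let π : ↥(LP.comap (rep Q c.D) ⊓ P.C : Subgroup ↥(centralizer ({z} : Set G))) →* ↥LP :=
    ((rep Q c.D).comp (LP.comap (rep Q c.D) ⊓ P.C).subtype).codRestrict LP fun a => a.2.1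
  have hπ : Function.Surjective π := by
    rintro ⟨y, hy⟩
    obtain ⟨h, hh, rfl⟩ := P.C_map.ge (hLPle hy)
    exact ⟨⟨h, hy, hh⟩, rfl⟩
  have hker : π.ker = f.ker := by
    ext a
    rw [MonoidHom.mem_ker, MonoidHom.mem_ker]
    constructor
    · intro ha
      have hQ : (a : ↥(centralizer ({z} : Set G))) ∈ Q := by
        have h : (a : ↥(centralizer ({z} : Set G))) ∈ (rep Q c.D).ker := congrArg Subtype.val ha
        rwa [c.ker] at h
      exact (QuotientGroup.eq_one_iff _).mpr (mem_subgroupOf.mpr (P.R_inter.ge ⟨a.2.2, hQ⟩).1)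
    · intro ha
      have hR : (a : ↥(centralizer ({z} : Set G))) ∈ P.R := mem_subgroupOf.mp ((QuotientGroup.eq_one_iff (Subgroup.inclusion inf_le_right a)).mp ha)
      refine Subtype.ext ?_
      have h1 : rep Q c.D (a : ↥(centralizer ({z} : Set G))) ∈ (c.RC P.g).map (rep Q c.D) ⊓ LP :=
        ⟨map_mono inf_le_left (P.R_map.le (mem_map_of_mem _ hR)), a.2.1⟩
      rw [hbot, mem_bot] at h1
      exact h1
  let g : ↥LP →* ↥P.C ⧸ P.R.subgroupOf P.C := π.liftOfSurjective hπ ⟨f, hker.le⟩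
  have hg : ∀ a, g (π a) = f a := fun a => π.liftOfRightInverse_comp_apply _ _ _ a
  have hinj : Function.Injective g := by
    refine (injective_iff_map_eq_one g).mpr fun y hy => ?_
    obtain ⟨a, rfl⟩ := hπ y
    rw [hg] at hy
    exact MonoidHom.mem_ker.mp (hker.ge (MonoidHom.mem_ker.mpr hy))
  have e0 : ↥LP ≃* alternatingGroup (Fin 6) :=
    (P.L.equivMapOfInjective _ (Subgroup.subtype_injective _)).symm.trans eA
  have hb : Function.Bijective g := by
    refine (Nat.bijective_iff_injective_and_card _).mpr ⟨hinj, ?_⟩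
    have h := card_eq_card_quotient_mul_card_subgroup (P.R.subgroupOf P.C)
    rw [P.C_card, Nat.card_congr (subgroupOfEquivOfLe P.R_le).toEquiv, P.R_card] at h
    rw [Nat.card_congr e0.toEquiv, nat_card_alternatingGroup, Nat.card_fin]
    exact (show (Nat.factorial 6) / 2 = 360 by rfl).trans (Nat.eq_of_mul_eq_mul_right (Nat.two_pow_pos 15) h)
  exact ⟨(MulEquiv.ofBijective g hb).symm.trans e0⟩

/-- The subgroup of order eight inside the centraliser. -/
noncomputable def Vh : Subgroup ↥(centralizer ({z} : Set G)) := P.V.subgroupOf (centralizer ({z} : Set G))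

theorem mem_Vh {y : ↥Q} (hy : c.pt y ∈ P.line) : (y : ↥(centralizer ({z} : Set G))) ∈ P.Vh :=
  mem_subgroupOf.mpr (P.mem_V.mpr ⟨y, hy, rfl⟩)

theorem Vh_le : P.Vh ≤ P.C ⊓ Q := by
  intro w hw
  obtain ⟨y, hy, hyw⟩ := P.mem_V.mp (mem_subgroupOf.mp hw)
  obtain rfl : (y : ↥(centralizer ({z} : Set G))) = w := Subtype.ext hyw
  exact ⟨P.mem_CQ.mpr (P.line_le hy), y.2⟩

theorem C_commutes_Vh {h w : ↥(centralizer ({z} : Set G))} (hh : h ∈ P.C) (hw : w ∈ P.Vh) : h * w = w * h :=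
  Subtype.ext (mem_centralizer_iff.mp (mem_subgroupOf.mp hh) _ (mem_subgroupOf.mp hw)).symm

theorem Vh_normal : (P.Vh.subgroupOf P.R).Normal := ⟨fun w hw r => by
  rw [mem_subgroupOf] at hw ⊢
  rw [Subgroup.coe_mul, Subgroup.coe_mul, Subgroup.coe_inv, P.C_commutes_Vh (P.R_le r.2) hw, mul_inv_cancel_right]
  exact hw⟩

/-- Modulo the subgroup of order eight the radical is elementary abelian. -/
theorem R_elementary : (∀ a ∈ P.R, a * a ∈ P.Vh) ∧ ∀ a ∈ P.R, ∀ b ∈ P.R, a * b * a⁻¹ * b⁻¹ ∈ P.Vh := by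
  haveI := P.Vh_normal
  let π := QuotientGroup.mk' (P.Vh.subgroupOf P.R)
  have hR : ∀ {a : ↥(centralizer ({z} : Set G))}, a ∈ c.RC P.g ⊓ c.M → a ∈ P.R := fun h => Subgroup.mem_sup_left h
  have hxV : (P.x : ↥(centralizer ({z} : Set G))) ∈ P.Vh := P.mem_Vh P.x_line
  have hzV : (c.zq : ↥(centralizer ({z} : Set G))) ∈ P.Vh := P.mem_Vh P.z_line
  -- commutators of generators
  have hcomm : ∀ a ∈ ((c.RC P.g ⊓ c.M : Subgroup _) : Set ↥(centralizer ({z} : Set G))) ∪ ((P.C ⊓ Q : Subgroup _) : Set _),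
      ∀ b ∈ ((c.RC P.g ⊓ c.M : Subgroup _) : Set ↥(centralizer ({z} : Set G))) ∪ ((P.C ⊓ Q : Subgroup _) : Set _),
      a * b * a⁻¹ * b⁻¹ ∈ P.Vh := by
    have hmix : ∀ a ∈ c.RC P.g ⊓ c.M, ∀ b ∈ P.C ⊓ Q, a * b * a⁻¹ * b⁻¹ ∈ P.Vh := by
      intro a ha b hb
      have h1 := P.shift_perp ha.1 (om_comm_M ha.2) (P.mem_perp.mp (P.mem_CQ (y := ⟨b, hb.2⟩) |>.mp hb.1))
      obtain ⟨e, he⟩ := h1
      rw [c.act] at he
      have hin : c.pt (MulAut.conjNormal a ⟨b, hb.2⟩ * (⟨b, hb.2⟩ : ↥Q)⁻¹) ∈ P.line := by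
        refine P.mem_line.mpr ⟨e, ?_⟩
        rw [c.pt_add, he]
        show _ = _ + c.D.π _
        rw [c.D.π_inv, c.F.W.neg_eq]
        show c.F.sm e (c.pt P.x) = c.pt ⟨b, hb.2⟩ + c.F.sm e (c.pt P.x) + c.pt ⟨b, hb.2⟩
        rw [add_comm (c.pt ⟨b, hb.2⟩), add_assoc, c.F.dbl, add_zero]
      have h2 := P.mem_Vh hin
      rwa [Subgroup.coe_mul, MulAut.conjNormal_apply, Subgroup.coe_inv] at h2
    rintro a (ha | ha) b (hb | hb)
    · rcases P.X2s.comm _ (c.mem_RC ha.1) _ (c.mem_RC hb.1) with e | e <;> rw [commutatorElement_def] at e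
      · rw [show a * b * a⁻¹ * b⁻¹ = 1 from Subtype.ext e]; exact one_mem _
      · rw [show a * b * a⁻¹ * b⁻¹ = (P.x : ↥(centralizer ({z} : Set G))) from Subtype.ext e]; exact hxV
    · exact hmix a ha b hb
    · have h := inv_mem (hmix b hb a ha)
      rwa [show (b * a * b⁻¹ * a⁻¹)⁻¹ = a * b * a⁻¹ * b⁻¹ by group] at h
    · rcases c.X2g.comm _ ⟨a, ha.2, rfl⟩ _ ⟨b, hb.2, rfl⟩ with e | e <;> rw [commutatorElement_def] at e
      · rw [show a * b * a⁻¹ * b⁻¹ = 1 from Subtype.ext e]; exact one_mem _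
      · rw [show a * b * a⁻¹ * b⁻¹ = (c.zq : ↥(centralizer ({z} : Set G))) from Subtype.ext (e.trans c.zv.symm)]
        exact hzV
  have hsq : ∀ a ∈ ((c.RC P.g ⊓ c.M : Subgroup _) : Set ↥(centralizer ({z} : Set G))) ∪ ((P.C ⊓ Q : Subgroup _) : Set _),
      a * a ∈ P.Vh := by
    rintro a (ha | ha)
    · rcases P.X2s.sq _ (c.mem_RC ha.1) with e | e
      · rw [show a * a = 1 from Subtype.ext e]; exact one_mem _
      · rw [show a * a = (P.x : ↥(centralizer ({z} : Set G))) from Subtype.ext e]; exact hxV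
    · rcases c.X2g.sq _ ⟨a, ha.2, rfl⟩ with e | e
      · rw [show a * a = 1 from Subtype.ext e]; exact one_mem _
      · rw [show a * a = (c.zq : ↥(centralizer ({z} : Set G))) from Subtype.ext (e.trans c.zv.symm)]; exact hzV
  -- elements commuting with all generators modulo the subgroup
  have key : ∀ a ∈ P.R, ∀ b ∈ P.R, a * b * a⁻¹ * b⁻¹ ∈ P.Vh := by
    have hext : ∀ b ∈ P.R, (∀ a ∈ ((c.RC P.g ⊓ c.M : Subgroup _) : Set ↥(centralizer ({z} : Set G))) ∪ ((P.C ⊓ Q : Subgroup _) : Set _),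
        a * b * a⁻¹ * b⁻¹ ∈ P.Vh) → ∀ a ∈ P.R, a * b * a⁻¹ * b⁻¹ ∈ P.Vh := by
      intro b hb hgen a ha
      refine sup_ind (A := c.RC P.g ⊓ c.M) (B := P.C ⊓ Q) (p := fun a => a * b * a⁻¹ * b⁻¹ ∈ P.Vh) (fun a ha => hgen a (Or.inl ha))
        (fun a ha => hgen a (Or.inr ha)) (by simp) (fun a a' ha ha' iha iha' => ?_) ha
      · show _ ∈ P.Vh
        rw [show a * a' * b * (a * a')⁻¹ * b⁻¹ = (a * (a' * b * a'⁻¹ * b⁻¹) * a⁻¹) * (a * b * a⁻¹ * b⁻¹) by group]
        exact mul_mem (by rw [P.C_commutes_Vh (P.R_le ha) iha', mul_inv_cancel_right]; exact iha') iha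
    intro a ha b hb
    refine hext b hb (fun g hg => ?_) a ha
    have hgR : g ∈ P.R := hg.elim (fun h => Subgroup.mem_sup_left h) fun h => Subgroup.mem_sup_right h
    have h := inv_mem (hext g hgR (fun g' hg' => hcomm g' hg' g hg) b hb)
    rwa [show (b * g * b⁻¹ * g⁻¹)⁻¹ = g * b * g⁻¹ * b⁻¹ by group] at h
  refine ⟨fun a ha => ?_, key⟩
  refine sup_ind (A := c.RC P.g ⊓ c.M) (B := P.C ⊓ Q) (p := fun a => a * a ∈ P.Vh) (fun a ha => hsq a (Or.inl ha))
    (fun a ha => hsq a (Or.inr ha)) (by simp) (fun a b ha hb iha ihb => ?_) ha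
  · show _ ∈ P.Vh
    rw [show a * b * (a * b) = (a * (b * a * b⁻¹ * a⁻¹) * a⁻¹) * (a * a) * (b * b) by group]
    refine mul_mem (mul_mem ?_ iha) ihb
    rw [P.C_commutes_Vh (P.R_le ha) (key b hb a ha), mul_inv_cancel_right]
    exact key b hb a ha

/-- The centre of the radical. -/
theorem R_center {r : ↥(centralizer ({z} : Set G))} (hr : r ∈ P.R) (hc : ∀ s ∈ P.R, r * s = s * r) : r ∈ P.Vh := by
  have hM : r ∈ c.M := P.C_le_M (P.R_le hr)
  have hfix : ∀ u, c.F.herm u (c.pt P.x) = 0 → rep Q c.D r u = u := by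
    intro u hu
    obtain ⟨y, rfl⟩ := c.D.surj u
    show rep Q c.D r (c.pt y) = c.pt y
    rw [c.act]
    refine congrArg c.pt (Subtype.ext ?_)
    rw [MulAut.conjNormal_apply, hc _ (Subgroup.mem_sup_right ⟨P.mem_CQ.mpr hu, y.2⟩), mul_inv_cancel_right]
  have h1 := P.perm_id (om_comm_M hM) hfix
  have hQ : r ∈ Q := c.ker ▸ MonoidHom.mem_ker.mpr h1
  have hperp : c.pt ⟨r, hQ⟩ ∈ P.perp := P.mem_CQ.mp (P.R_le hr)
  obtain ⟨a, ha⟩ := c.F.perp_perp P.herm0 P.hq P.Bv (d := c.pt ⟨r, hQ⟩) fun u hu => by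
    obtain ⟨y, rfl⟩ := c.D.surj u
    exact c.B_pt_of_commute (Subtype.ext (hc _ (Subgroup.mem_sup_right ⟨P.mem_CQ.mpr hu, y.2⟩)).symm)
  exact P.mem_Vh (P.mem_line.mpr ⟨a, ha.symm⟩)

/-- The radical is not abelian. -/
theorem CQ_not_comm : ∃ a b : ↥Q, (a : ↥(centralizer ({z} : Set G))) ∈ P.R ∧ (b : ↥(centralizer ({z} : Set G))) ∈ P.R ∧
    (a : ↥(centralizer ({z} : Set G))) * b * (a : ↥(centralizer ({z} : Set G)))⁻¹ * (b : ↥(centralizer ({z} : Set G)))⁻¹ = c.zq := by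
  by_contra hno
  push Not at hno
  have h := iso_bound P.perp fun u hu w hw => by
    obtain ⟨a, rfl⟩ := c.D.surj u
    obtain ⟨b, rfl⟩ := c.D.surj w
    refine c.B_pt_of_commute (Subtype.ext ?_)
    have ha : (a : ↥(centralizer ({z} : Set G))) ∈ P.R := Subgroup.mem_sup_right ⟨P.mem_CQ.mpr hu, a.2⟩
    have hb : (b : ↥(centralizer ({z} : Set G))) ∈ P.R := Subgroup.mem_sup_right ⟨P.mem_CQ.mpr hw, b.2⟩
    refine Subtype.ext ?_
    rcases c.X2g.comm _ ⟨a, a.2, rfl⟩ _ ⟨b, b.2, rfl⟩ with e | e <;> rw [commutatorElement_def] at e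
    · exact mul_inv_eq_iff_eq_mul.mp (mul_inv_eq_one.mp e)
    · exact absurd (Subtype.ext (e.trans c.zv.symm)) (hno a b ha hb)
  rw [P.perp_card] at h
  norm_num at h

end Ctx.LinePt

end Cfsg.Lib.LargeFischer
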