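import Cfsg.Agent.LargeFischer.LineSetting

/-!
The elementary abelian subgroup of order eight spanned by a line.
-/

set_option autoImplicit false
set_option maxRecDepth 100000
set_option maxHeartbeats 1000000
set_option linter.unusedSectionVars false
set_option linter.style.haveILetI false

namespace Cfsg.Lib.LargeFischer

open Subgroup QuadraticMap
open Cfsg.Lib.LargeExtra (X2 mem_map_conj mem_zpowers_two)
open Cfsg.Lib.LargeExtra.OutExtra
open Cfsg.Lib.LargeExtra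

universe u

theorem pow2_add {H : Type*} [Group H] {x : H} (hx : x * x = 1) (a b : ZMod 2) :
    x ^ (a + b).val = x ^ a.val * x ^ b.val := by
  rcases (show ∀ r : ZMod 2, r = 0 ∨ r = 1 by decide) a with rfl | rfl <;>
    rcases (show ∀ r : ZMod 2, r = 0 ∨ r = 1 by decide) b with rfl | rfl <;>
    simp [ZMod.val_one, hx, show (1 : ZMod 2) + 1 = 0 from rfl]

theorem line_scalar : ∀ a : F4, ∃ i j : ZMod 2, a = (if i = 1 then 1 else 0) + (if j = 1 then w4 else 0) := by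
  decide +kernel

variable {G : Type u} [Group G] [Finite G] {z : G} {Q : Subgroup (centralizer ({z} : Set G))} [Q.Normal]

namespace Ctx.LinePt

variable {c : Ctx z Q} (P : c.LinePt)

/-- A lift of the cube root. -/
theorem exists_mω : ∃ m : ↥(centralizer ({z} : Set G)), m ∈ c.M ∧ ∀ a, rep Q c.D m a = c.F.om a := by
  obtain ⟨m, hm⟩ := c.F.E.ω.2
  exact ⟨(m : ↥(centralizer ({z} : Set G))), m.2, fun a => by rw [om_eq, ← hm]; rfl⟩

/-- The chosen lift. -/
noncomputable def mω (_ : c.LinePt) : ↥(centralizer ({z} : Set G)) := (exists_mω (c := c)).choose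

theorem mω_M : P.mω ∈ c.M := (exists_mω (c := c)).choose_spec.1

theorem mω_rep (a : c.ι → ZMod 2) : rep Q c.D P.mω a = c.F.om a := (exists_mω (c := c)).choose_spec.2 a

/-- The second generator. -/
noncomputable def x' : ↥Q := MulAut.conjNormal P.mω P.x

theorem pt_x' : c.pt P.x' = c.F.om (c.pt P.x) := by rw [x', ← c.act, P.mω_rep]

/-- Elements of `Q` over the line. -/
noncomputable def comb (a : Fin 3 → ZMod 2) : ↥Q := c.zq ^ (a 0).val * P.x ^ (a 1).val * P.x' ^ (a 2).val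

theorem pt_pow (y : ↥Q) (i : ZMod 2) : c.pt (y ^ i.val) = if i = 1 then c.pt y else 0 := by
  rcases (show ∀ r : ZMod 2, r = 0 ∨ r = 1 by decide) i with rfl | rfl
  · rw [if_neg (by decide), ZMod.val_zero, pow_zero]; exact c.D.π_one
  · rw [if_pos rfl, ZMod.val_one, pow_one]

theorem pt_comb (a : Fin 3 → ZMod 2) :
    c.pt (P.comb a) = c.F.sm ((if a 1 = 1 then 1 else 0) + (if a 2 = 1 then w4 else 0)) (c.pt P.x) := by
  rw [comb, c.pt_add, c.pt_add, pt_pow, pt_pow, pt_pow, P.pt_x', c.F.sm_add_left]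
  have hz : c.pt c.zq = 0 := c.D.π_z
  rw [hz, ite_self, zero_add]
  congr 1
  · split_ifs <;> simp [c.F.sm_one, c.F.sm_zero_left]
  · split_ifs <;> simp [c.F.sm_w, c.F.sm_zero_left]

theorem q_line {y : ↥Q} (hy : c.pt y ∈ P.line) : y * y = 1 := by
  obtain ⟨a, ha⟩ := P.mem_line.mp hy
  have hq : c.F.q (c.pt y) = 0 := by rw [← ha]; exact c.F.q_sm P.hq P.Bv a
  rw [c.Fq, pt, c.D.hT] at hq
  rw [mul_self_eq c.D.es, hq, Cfsg.Lib.ExtraOut.pw_zero]

theorem line_iso {u w : c.ι → ZMod 2} (hu : u ∈ P.line) (hw : w ∈ P.line) : c.F.B u w = 0 := by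
  obtain ⟨a, rfl⟩ := P.mem_line.mp hw
  exact P.B_line (P.mem_perp.mp (P.line_le hu)) a

theorem commute_of_B {a b : ↥Q} (h : c.F.B (c.pt a) (c.pt b) = 0) : a * b = b * a := by
  have h1 := c.F.q_add (c.pt a) (c.pt b)
  rw [← c.pt_add, c.Fq, pt, pt, pt, c.D.hT, c.D.hT, c.D.hT, sq_mul c.D.es] at h1
  rw [show c.F.B (c.D.π a) (c.D.π b) = 0 from h] at h1
  exact (commute_of_cm (add_left_cancel h1)).eq.symm

theorem x_line : c.pt P.x ∈ P.line := P.mem_line.mpr ⟨1, c.F.sm_one _⟩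

theorem x'_line : c.pt P.x' ∈ P.line := P.mem_line.mpr ⟨w4, by rw [c.F.sm_w, P.pt_x']⟩

theorem z_line : c.pt c.zq ∈ P.line := P.mem_line.mpr ⟨0, by rw [c.F.sm_zero_left]; exact c.D.π_z.symm⟩

theorem comb_mul (a b : Fin 3 → ZMod 2) : P.comb (a + b) = P.comb a * P.comb b := by
  have hc : ∀ {y w : ↥Q}, c.pt y ∈ P.line → c.pt w ∈ P.line → ∀ i j : ℕ, Commute (y ^ i) (w ^ j) :=
    fun hy hw i j => Commute.pow_pow (commute_of_B (P.line_iso hy hw)) i j
  simp only [comb, Pi.add_apply, pow2_add (P.q_line P.z_line), pow2_add (P.q_line P.x_line), pow2_add (P.q_line P.x'_line)]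
  have e1 := (hc P.x_line P.z_line (a 1).val (b 0).val).eq
  have e2 := (hc P.x'_line P.z_line (a 2).val (b 0).val).eq
  have e3 := (hc P.x'_line P.x_line (a 2).val (b 1).val).eq
  simp only [mul_assoc]
  congr 1
  rw [← mul_assoc (P.x' ^ (a 2).val), e2, mul_assoc, ← mul_assoc (P.x' ^ (a 2).val), e3, mul_assoc,
    ← mul_assoc (P.x ^ (a 1).val) (c.zq ^ (b 0).val), e1, mul_assoc]

theorem zq_ne : c.zq ≠ 1 := fun h => c.X2g.ne (by rw [← c.zv, h]; rfl)

theorem comb_injective : Function.Injective P.comb := fun a b h => by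
  have h1 := congrArg c.pt h
  rw [P.pt_comb, P.pt_comb] at h1
  have h2 : ((if a 1 = 1 then 1 else 0) + (if a 2 = 1 then w4 else 0) : F4) =
      (if b 1 = 1 then 1 else 0) + (if b 2 = 1 then w4 else 0) := by
    by_contra hne
    refine hne ?_
    have e : c.F.sm (((if a 1 = 1 then 1 else 0) + (if a 2 = 1 then w4 else 0)) +
        ((if b 1 = 1 then 1 else 0) + (if b 2 = 1 then w4 else 0))) (c.pt P.x) = 0 := by
      rw [c.F.sm_add_left, h1, c.F.dbl]
    have e' := c.F.sm_injective P.v_ne e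
    generalize ((if a 1 = 1 then 1 else 0) + (if a 2 = 1 then w4 else 0) : F4) = p,
      ((if b 1 = 1 then 1 else 0) + (if b 2 = 1 then w4 else 0) : F4) = q at e'
    revert p q
    decide +kernel
  have h12 : a 1 = b 1 ∧ a 2 = b 2 := by
    generalize a 1 = i, a 2 = j, b 1 = k, b 2 = l at h2
    revert i j k l
    decide +kernel
  simp only [comb, h12.1, h12.2] at h
  have h0 := mul_right_cancel (mul_right_cancel h)
  funext i
  fin_cases i
  · show a 0 = b 0
    rcases (show ∀ r : ZMod 2, r = 0 ∨ r = 1 by decide) (a 0) with ea | ea <;>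
      rcases (show ∀ r : ZMod 2, r = 0 ∨ r = 1 by decide) (b 0) with eb | eb <;>
      simp [ea, eb, ZMod.val_one, zq_ne, zq_ne.symm] at h0 ⊢
  · exact h12.1
  · exact h12.2

theorem exists_comb {y : ↥Q} (hy : c.pt y ∈ P.line) : ∃ a, P.comb a = y := by
  obtain ⟨e, he⟩ := P.mem_line.mp hy
  obtain ⟨i, j, hij⟩ := line_scalar e
  have h0 : c.pt (P.comb ![0, i, j]) = c.pt y := by rw [P.pt_comb, ← he, hij]; rfl
  rcases center_cases c.D.es (c.D.eq_iff.mp h0) with h | h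
  · exact ⟨_, inv_mul_eq_one.mp h⟩
  · refine ⟨![0, i, j] + ![1, 0, 0], ?_⟩
    rw [P.comb_mul, show P.comb ![1, 0, 0] = c.zq by simp [comb, ZMod.val_one], ← h, mul_inv_cancel_left]

/-- The embedding in the group. -/
noncomputable def emb : Multiplicative (Fin 3 → ZMod 2) →* G :=
  MonoidHom.mk' (fun a => ((P.comb a.toAdd : ↥(centralizer ({z} : Set G))) : G)) fun a b => by
    simp only [toAdd_mul, P.comb_mul, Subgroup.coe_mul]

theorem emb_injective : Function.Injective P.emb := fun a b h =>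
  Multiplicative.toAdd.injective (P.comb_injective (Subtype.ext (Subtype.ext h)))

/-- The subgroup of order eight. -/
noncomputable def V : Subgroup G := P.emb.range

theorem V_card : Nat.card ↥P.V = 8 := by
  rw [V, ← Nat.card_congr (MonoidHom.ofInjective P.emb_injective).toEquiv, Nat.card_congr Multiplicative.toAdd, Nat.card_pi]
  simp

theorem mem_V {w : G} : w ∈ P.V ↔ ∃ y : ↥Q, c.pt y ∈ P.line ∧ ((y : ↥(centralizer ({z} : Set G))) : G) = w := by
  constructor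
  · rintro ⟨a, rfl⟩
    exact ⟨P.comb a.toAdd, P.mem_line.mpr ⟨_, (P.pt_comb _).symm⟩, rfl⟩
  · rintro ⟨y, hy, rfl⟩
    obtain ⟨a, rfl⟩ := P.exists_comb hy
    exact ⟨Multiplicative.ofAdd a, rfl⟩

theorem V_elementary : Cfsg.IsElementaryAbelian 2 P.V := by
  refine ⟨⟨⟨?_⟩⟩, ?_⟩
  · rintro ⟨_, a, rfl⟩ ⟨_, b, rfl⟩
    exact Subtype.ext (by rw [Subgroup.coe_mul, Subgroup.coe_mul]; show P.emb a * P.emb b = P.emb b * P.emb a; rw [← map_mul, mul_comm, map_mul])
  · rintro _ ⟨a, rfl⟩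
    rw [← map_pow, show a ^ 2 = 1 from ?_, map_one]
    refine Multiplicative.toAdd.injective (funext fun i => ?_)
    show 2 • a.toAdd i = 0
    exact (two_nsmul _).trans ((show ∀ r : ZMod 2, r + r = 0 by decide) _)

theorem z_mem : z ∈ P.V := P.mem_V.mpr ⟨c.zq, P.z_line, c.zv⟩

theorem line_le_W : P.line ≤ P.W := by
  rintro _ ⟨a, rfl⟩
  show c.F.sm a (c.pt P.x) ∈ P.W
  rcases f4_cases a with rfl | rfl | rfl | rfl
  · rw [c.F.sm_zero_left]; exact zero_mem _
  · rw [c.F.sm_one]; exact P.v_mem_W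
  · rw [c.F.sm_w]; exact P.om_mem_W
  · rw [c.F.sm_add_left, c.F.sm_one, c.F.sm_w]; exact add_mem P.v_mem_W P.om_mem_W

/-- The conjugate extraspecial group. -/
noncomputable def Qs : Subgroup G := (Q.map (centralizer ({z} : Set G)).subtype).map (MulAut.conj P.g).toMonoidHom

theorem X2s : X2 P.Qs ((P.x : ↥(centralizer ({z} : Set G))) : G) := P.hg ▸ c.X2g.conj P.g

theorem V_le_Qs : P.V ≤ P.Qs := by
  intro w hw
  obtain ⟨y, hy, rfl⟩ := P.mem_V.mp hw
  obtain ⟨a, ha, hay⟩ := P.mem_W.mp (P.line_le_W hy)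
  have hz : z ∈ P.Qs := by
    have h := mem_conj_of_mem c.X2g c.CQ c.CN (by rw [card_map_of_injective (centralizer ({z} : Set G)).subtype_injective, c.card]; norm_num)
      (show P.g * z * P.g⁻¹ ∈ _ by rw [P.hg]; exact ⟨_, P.x.2, rfl⟩) (by rw [P.hg]; exact P.hxz)
    exact mem_map_conj.mpr h
  rcases center_cases c.D.es (c.D.eq_iff.mp hay) with h | h
  · rw [← inv_mul_eq_one.mp h]; exact c.mem_RC ha
  · rw [show y = a * c.zq by rw [← h, mul_inv_cancel_left], Subgroup.coe_mul, Subgroup.coe_mul, c.zv]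
    exact mul_mem (c.mem_RC ha) hz

theorem x_mem_V : ((P.x : ↥(centralizer ({z} : Set G))) : G) ∈ P.V := P.mem_V.mpr ⟨P.x, P.x_line, rfl⟩

theorem x'_mem_V : ((P.x' : ↥(centralizer ({z} : Set G))) : G) ∈ P.V := P.mem_V.mpr ⟨P.x', P.x'_line, rfl⟩

theorem cen_le : centralizer (P.V : Set G) ≤ centralizer ({z} : Set G) := fun h hh =>
  mem_centralizer_singleton_iff.mpr (mem_centralizer_iff.mp hh z P.z_mem).symm

/-- The centraliser inside the centraliser of `z`. -/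
noncomputable def C : Subgroup ↥(centralizer ({z} : Set G)) :=
  (centralizer (P.V : Set G)).subgroupOf (centralizer ({z} : Set G))

theorem mem_C {h : ↥(centralizer ({z} : Set G))} : h ∈ P.C ↔ ∀ y : ↥Q, c.pt y ∈ P.line → MulAut.conjNormal h y = y := by
  rw [C, mem_subgroupOf, mem_centralizer_iff]
  constructor
  · intro hh y hy
    refine Subtype.ext (Subtype.ext ?_)
    rw [MulAut.conjNormal_apply]
    show (h : G) * _ * (h : G)⁻¹ = _
    rw [← hh _ (P.mem_V.mpr ⟨y, hy, rfl⟩), mul_inv_cancel_right]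
  · intro hh w hw
    obtain ⟨y, hy, rfl⟩ := P.mem_V.mp hw
    have e := congrArg (fun w : ↥Q => ((w : ↥(centralizer ({z} : Set G))) : G)) (hh y hy)
    simp only [MulAut.conjNormal_apply, Subgroup.coe_mul, Subgroup.coe_inv] at e
    exact (mul_inv_eq_iff_eq_mul.mp e).symm

theorem C_fix {h : ↥(centralizer ({z} : Set G))} (hh : h ∈ P.C) {u : c.ι → ZMod 2} (hu : u ∈ P.line) :
    rep Q c.D h u = u := by
  obtain ⟨y, rfl⟩ := c.D.surj u
  rw [rep_apply, P.mem_C.mp hh y hu]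

theorem C_le_M : P.C ≤ c.M := fun h hh => by
  by_contra hM
  haveI := c.Mn
  refine P.no_linear hM fun a => ?_
  -- the image of the cube root under conjugation is central
  have hX : ∀ k ∈ ((rep Q c.D).comp c.M.subtype).range, rep Q c.D h * k * (rep Q c.D h)⁻¹ ∈ ((rep Q c.D).comp c.M.subtype).range := by
    rintro _ ⟨m, rfl⟩
    exact ⟨⟨h * m * h⁻¹, c.Mn.conj_mem _ m.2 h⟩, by simp⟩
  have hXi : ∀ k ∈ ((rep Q c.D).comp c.M.subtype).range, (rep Q c.D h)⁻¹ * k * rep Q c.D h ∈ ((rep Q c.D).comp c.M.subtype).range := by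
    rintro _ ⟨m, rfl⟩
    exact ⟨⟨h⁻¹ * m * h, by simpa using c.Mn.conj_mem _ m.2 h⁻¹⟩, by simp⟩
  let ω' : ↥((rep Q c.D).comp c.M.subtype).range :=
    ⟨rep Q c.D h * (c.F.E.ω : Equiv.Perm (c.ι → ZMod 2)) * (rep Q c.D h)⁻¹, hX _ c.F.E.ω.2⟩
  have hω'c : ω' ∈ center _ := mem_center_iff.mpr fun k => Subtype.ext (by
    have hc := congrArg Subtype.val (mem_center_iff.mp (c.F.E.central c.F.E.ω_mem) ⟨_, hXi _ k.2⟩)
    simp only [Subgroup.coe_mul] at hc
    show (k : Equiv.Perm (c.ι → ZMod 2)) * (rep Q c.D h * (c.F.E.ω : Equiv.Perm (c.ι → ZMod 2)) * (rep Q c.D h)⁻¹) =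
      rep Q c.D h * (c.F.E.ω : Equiv.Perm (c.ι → ZMod 2)) * (rep Q c.D h)⁻¹ * k
    calc _ = rep Q c.D h * ((rep Q c.D h)⁻¹ * k * rep Q c.D h * (c.F.E.ω : Equiv.Perm (c.ι → ZMod 2))) * (rep Q c.D h)⁻¹ := by group
      _ = _ := by rw [hc]; group)
  obtain ⟨j, hj⟩ := c.center_image c.Ssimple c.not_comm ω' hω'c
  have hom : ∀ a, rep Q c.D h (c.F.om a) = c.F.W.t (j • Pi.single 0 1) (rep Q c.D h a) := by
    intro a
    rw [FSetting.W_t, show (j • (Pi.single 0 1 : C5)) = Pi.single 0 j by rw [← Pi.single_smul', smul_eq_mul, mul_one],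
      c.F.E.α_e, ← hj, om_eq, c.Fρ]
    show rep Q c.D h ((c.F.E.ω : Equiv.Perm (c.ι → ZMod 2)) a) =
      (rep Q c.D h * (c.F.E.ω : Equiv.Perm (c.ι → ZMod 2)) * (rep Q c.D h)⁻¹) (rep Q c.D h a)
    rw [Equiv.Perm.mul_apply, Equiv.Perm.mul_apply, Equiv.Perm.coe_inv, Equiv.symm_apply_apply]
  rw [hom]
  congr 1
  have h1 := hom (c.pt P.x)
  rw [P.C_fix hh P.x_line, P.C_fix hh (P.mem_line.mpr ⟨w4, c.F.sm_w _⟩)] at h1
  obtain ⟨i, hi⟩ : ∃ i, c.F.co i (c.pt P.x) ≠ 0 := by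
    by_contra hn
    push Not at hn
    exact P.v_ne (c.F.co_ext fun i => by rw [hn, c.F.co_zero])
  have h2 := congrArg (c.F.co i) h1
  rw [c.F.co_om, c.F.co_t, FSetting.Φ, dotProduct_smul, c.F.cs_e0, smul_eq_mul, mul_one] at h2
  rw [wp_eq_w4 j _ hi h2.symm, one_smul]
  rfl

/-- The elements of `Q` centralising the subgroup. -/
theorem mem_CQ {y : ↥Q} : (y : ↥(centralizer ({z} : Set G))) ∈ P.C ↔ c.pt y ∈ P.perp := by
  rw [P.mem_C]
  constructor
  · intro hh
    have key : ∀ w : ↥Q, c.pt w ∈ P.line → c.F.B (c.pt y) (c.pt w) = 0 := fun w hw => by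
      refine c.B_pt_of_commute ?_
      have h := congrArg Subtype.val (hh w hw)
      rw [MulAut.conjNormal_apply] at h
      exact Subtype.ext (mul_inv_eq_iff_eq_mul.mp h)
    refine P.mem_perp.mpr (c.F.herm_eq_zero (key P.x P.x_line) ?_)
    rw [← P.pt_x']
    exact key P.x' P.x'_line
  · intro hy w hw
    obtain ⟨a, ha⟩ := P.mem_line.mp hw
    have hB : c.F.B (c.pt y) (c.pt w) = 0 := ha ▸ P.B_line (P.mem_perp.mp hy) a
    refine Subtype.ext ?_
    rw [MulAut.conjNormal_apply]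
    exact mul_inv_eq_iff_eq_mul.mpr (congrArg Subtype.val (commute_of_B hB))

theorem CQ_card : Nat.card ↥(P.C ⊓ Q) = 2 ^ 11 := by
  classical
  let e : ↥(P.C ⊓ Q) ≃ ↥P.perp × Bool :=
    Equiv.ofBijective (fun y => (⟨c.pt ⟨y.1, y.2.2⟩, P.mem_CQ.mp y.2.1⟩,
      decide ((⟨y.1, y.2.2⟩ : ↥Q) = c.D.s (c.pt ⟨y.1, y.2.2⟩)))) ⟨fun a b h => by
    simp only [Prod.mk.injEq, Subtype.mk.injEq, decide_eq_decide] at h
    obtain ⟨h1, h2⟩ := h
    set a' : ↥Q := ⟨a.1, a.2.2⟩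
    set b' : ↥Q := ⟨b.1, b.2.2⟩
    suffices a' = b' from Subtype.ext (congrArg (fun w : ↥Q => (w : ↥(centralizer ({z} : Set G)))) this)
    rw [h1] at h2
    by_cases hb : b' = c.D.s (c.pt b')
    · exact (h2.mpr hb).trans hb.symm
    · have key : ∀ y : ↥Q, c.pt y = c.pt b' → y ≠ c.D.s (c.pt b') → (c.D.s (c.pt b'))⁻¹ * y = c.zq := fun y hy hne =>
        (center_cases c.D.es (c.D.eq_iff.mp ((c.D.π_s _).trans hy.symm))).resolve_left fun h => hne (inv_mul_eq_one.mp h).symm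
      exact mul_left_cancel ((key a' h1 fun h => hb (h2.mp h)).trans (key b' rfl hb).symm), fun ⟨u, i⟩ => by
    let y : ↥Q := c.D.s u.1 * if i then 1 else c.zq
    have hy : c.pt y = u.1 := by
      show c.pt (c.D.s u.1 * _) = _
      rw [c.pt_add, pt, pt, c.D.π_s]
      cases i <;> simp [c.D.π_z, c.D.π_one]
    refine ⟨⟨y, P.mem_CQ.mpr (hy ▸ u.2), y.2⟩, Prod.ext (Subtype.ext hy) ?_⟩
    show decide (y = c.D.s (c.pt y)) = i
    rw [hy]
    cases i <;> simp [y, zq_ne]⟩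
  rw [Nat.card_congr e, Nat.card_prod, P.perp_card, Nat.card_eq_fintype_card, Fintype.card_bool]
  norm_num

end Ctx.LinePt

end Cfsg.Lib.LargeFischer
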