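import Cfsg.Agent.LargeFischer.LineExists
import Cfsg.Agent.Leech.UnitarySix
import Cfsg.Agent.S0283

/-!
The centralizer of the four-group is quasisimple with central quotient the unitary group of dimension six.
-/

set_option autoImplicit false
set_option maxRecDepth 100000
set_option maxHeartbeats 1000000
set_option linter.unusedSectionVars false
set_option linter.style.haveILetI false

namespace Cfsg.Lib.LargeFischer

open Subgroup
open Cfsg.Lib.PrimeGraph (KQuad)
open scoped commutatorElement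

universe u

variable {G : Type u} [Group G] [Finite G] {z : G} {Q : Subgroup (centralizer ({z} : Set G))} [Q.Normal]

namespace Ctx.Four

variable {c : Ctx z Q} (L : c.Four)

theorem bar_unitary (hCore : Cfsg.Lib.USixType.CoreGoal.{u}) {m : G} (hm : m ∈ L.C) (hne : m * z * m⁻¹ ≠ z)
    (hcom : Commute (m * z * m⁻¹) z) : Nonempty (L.Bar ≃* Cfsg.PSU 6 KQuad 2) := by
  set g : L.Bar := L.π ⟨m, hm⟩ with hg
  have e : g * L.zbar * g⁻¹ = L.π (⟨m, hm⟩ * L.zC * ⟨m, hm⟩⁻¹) := by rw [map_mul, map_mul, map_inv]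
  have h1 : Commute (g * L.zbar * g⁻¹) L.zbar := by
    rw [e]
    exact (show Commute (⟨m, hm⟩ * L.zC * ⟨m, hm⟩⁻¹ : ↥L.C) L.zC from Subtype.ext hcom.eq).map L.π
  have h2 : g * L.zbar * g⁻¹ ≠ L.zbar := by
    intro h
    rw [e, L.pi_eq] at h
    simp only [Subgroup.coe_mul, Subgroup.coe_inv, zC] at h
    set x := m * z * m⁻¹ with hx
    have hx2 : x⁻¹ = x := inv_eq_of_mul_eq_one_right (by
      rw [hx, show m * z * m⁻¹ * (m * z * m⁻¹) = m * (z * z) * m⁻¹ by group, c.X2g.zz, mul_one, mul_inv_cancel])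
    rw [hx2] at h
    have h1 : x * z ≠ 1 := fun e' => hne (by
      rw [mul_eq_one_iff_eq_inv] at e'
      rw [e', inv_eq_of_mul_eq_one_right c.X2g.zz])
    refine L.not_conj_mul h h1 (isConj_iff.mpr ⟨m, ?_⟩)
    rw [← mul_assoc z x z, ← hcom.eq, mul_assoc x z z, c.X2g.zz, mul_one]
  obtain ⟨⟨f⟩, -⟩ := hCore L.zbar L.Jbar L.natSetting ⟨g, h1, h2⟩
  obtain ⟨⟨f'⟩, -⟩ := Cfsg.Lib.Leech.UnitarySix.unitary_equiv
  exact ⟨f.trans f'⟩

theorem quasisimple (e : L.Bar ≃* Cfsg.PSU 6 KQuad 2) : Cfsg.IsQuasisimple ↥L.C := by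
  haveI hs : IsSimpleGroup (Cfsg.PSU 6 KQuad 2) :=
    Cfsg.Agent.S0283.result (by rw [KQuad.card_eq]; norm_num) 6 (by norm_num) (by simp)
  haveI : IsSimpleGroup L.Bar := e.isSimpleGroup
  obtain ⟨q, r, hq, hr, hqr⟩ := L.JG_noncomm
  set x : ↥L.C := ⟨_, hq⟩
  set y : ↥L.C := ⟨_, hr⟩
  have hxy : L.π ⁅x, y⁆ ≠ 1 := fun h => L.z_notMem (by
    have h2 : ((⁅x, y⁆ : ↥L.C) : G) ∈ L.E := L.pi_eq_one.mp h
    have e' : ((⁅x, y⁆ : ↥L.C) : G) = z := hqr
    exact (congrArg (· ∈ L.E) e').mp h2)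
  have hcbot : center L.Bar = ⊥ := by
    rcases IsSimpleGroup.eq_bot_or_eq_top_of_normal (center L.Bar) inferInstance with h | h
    · exact h
    · refine absurd ?_ hxy
      rw [map_commutatorElement]
      exact commutatorElement_eq_one_iff_mul_comm.mpr (mem_center_iff.mp (h ▸ mem_top (L.π y)) (L.π x))
  have hperfBar : _root_.commutator L.Bar = ⊤ := by
    rcases IsSimpleGroup.eq_bot_or_eq_top_of_normal (_root_.commutator L.Bar) inferInstance with h | h
    · refine absurd ?_ hxy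
      rw [map_commutatorElement, ← mem_bot, ← h]
      exact commutator_mem_commutator (mem_top _) (mem_top _)
    · exact h
  refine ⟨⟨eq_top_iff.mpr fun w _ => ?_⟩, ?_⟩
  · have hE : L.E.subgroupOf L.C ≤ _root_.commutator ↥L.C := fun w hw => by
      have h : (w : G) ∈ (_root_.commutator ↥L.C).map L.C.subtype := by
        rw [Subgroup.map_subtype_commutator]; exact L.E_le_derived hw
      obtain ⟨w', hw', hw''⟩ := h
      rwa [← Subtype.ext hw'']
    have hmap : (_root_.commutator ↥L.C).map L.π = ⊤ := by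
      rw [_root_.commutator_def, Subgroup.map_commutator, map_top_of_surjective _ (QuotientGroup.mk'_surjective _),
        ← _root_.commutator_def, hperfBar]
    obtain ⟨w', hw', hw''⟩ := (hmap ▸ mem_top (L.π w) : L.π w ∈ (_root_.commutator ↥L.C).map L.π)
    have h1 : w'⁻¹ * w ∈ L.E.subgroupOf L.C := mem_subgroupOf.mpr (by simpa using L.pi_eq.mp hw'')
    have := mul_mem hw' (hE h1)
    rwa [mul_inv_cancel_left] at this
  · have hc : center ↥L.C = L.E.subgroupOf L.C := by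
      refine le_antisymm (fun w hw => ?_) L.E_central
      refine L.pi_eq_one.mp (mem_bot.mp (hcbot ▸ mem_center_iff.mpr fun b => ?_))
      obtain ⟨v, rfl⟩ := QuotientGroup.mk'_surjective _ b
      rw [← map_mul, ← map_mul, mem_center_iff.mp hw v]
    exact (QuotientGroup.quotientMulEquivOfEq hc).isSimpleGroup

end Ctx.Four

/-- The four-group. -/
theorem four_group (hCore : Cfsg.Lib.USixType.CoreGoal.{u}) (hF : Cfsg.IsOfLargeFischerTypeAt z Q) :
    ∃ E : Subgroup G, E ≤ (Q.map (Subgroup.centralizer ({z} : Set G)).subtype) ∧ Cfsg.IsElementaryAbelian 2 E ∧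
      Nat.card E = 4 ∧ z ∉ E ∧ (∃ t ∈ E, orderOf t = 2 ∧ ¬ IsConj z t) ∧
      Cfsg.IsQuasisimple ↥(Subgroup.centralizer (E : Set G)) ∧
      ∃ (_ : (E.subgroupOf (Subgroup.centralizer (E : Set G))).Normal) (K : Type) (_ : Field K) (_ : Fintype K),
        Fintype.card K = 4 ∧ Nonempty (↥(Subgroup.centralizer (E : Set G)) ⧸
          E.subgroupOf (Subgroup.centralizer (E : Set G)) ≃* Cfsg.PSU 6 K 2) := by
  haveI : Fact (Nat.Prime 2) := ⟨Nat.prime_two⟩
  obtain ⟨c, L, m, hm, hne, hcom⟩ := Ctx.exists_four hF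
  obtain ⟨e⟩ := L.bar_unitary hCore hm hne hcom
  refine ⟨L.E, L.E_le, L.elementary, L.card_E, L.z_notMem,
    ⟨L.ga, L.a_mem, orderOf_eq_prime (by rw [pow_two]; exact L.sq_a) L.ab_ne.1, L.not_conj L.a_mem⟩,
    L.quasisimple e, inferInstance, KQuad, inferInstance, inferInstance, KQuad.card_eq, ⟨e⟩⟩

end Cfsg.Lib.LargeFischer
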