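import Cfsg.Agent.LargeFischer.Setting
import Cfsg.Prelude.Def_Transfer

/-!
The stabiliser of a pair of conjugate central involutions in a group of large Fischer type.
-/

set_option autoImplicit false
set_option maxRecDepth 100000
set_option maxHeartbeats 1000000
set_option linter.unusedSectionVars false
set_option linter.style.haveILetI false

namespace Cfsg.Lib.LargeFischer

open Subgroup QuadraticMap
open Cfsg.Lib.LargeExtra (X2 mem_map_conj mem_zpowers_two)
open Cfsg.Lib.LargeExtra.OutExtra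
open scoped commutatorElement

universe u

variable {G : Type u} [Group G] [Finite G]

theorem card_map_mk {C : Type u} [Group C] [Finite C] (Q K : Subgroup C) [Q.Normal] :
    Nat.card ↥K = Nat.card ↥(K.map (QuotientGroup.mk' Q)) * Nat.card ↥(K ⊓ Q) := by
  have h := card_eq_card_quotient_mul_card_subgroup ((QuotientGroup.mk' Q).comp K.subtype).ker
  rw [Nat.card_congr (QuotientGroup.quotientKerEquivRange _).toEquiv, MonoidHom.range_comp, range_subtype,
    ← MonoidHom.comap_ker, QuotientGroup.ker_mk'] at h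
  rw [h]
  congr 1
  rw [← card_map_of_injective K.subtype_injective]
  exact congrArg (fun H : Subgroup C => Nat.card ↥H) (map_comap_eq _ _ |>.trans (by rw [range_subtype]))

/-- The elements of the centralizer fixing a given element of it. -/
def pairCent (z s : G) : Subgroup ↥(centralizer ({z} : Set G)) :=
  (centralizer ({z} : Set G) ⊓ centralizer ({s} : Set G)).subgroupOf (centralizer ({z} : Set G))

theorem mem_pairCent {z : G} {h x : ↥(centralizer ({z} : Set G))} : h ∈ pairCent z (x : G) ↔ h * x * h⁻¹ = x := by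
  show (h : G) ∈ centralizer ({z} : Set G) ⊓ centralizer ({(x : G)} : Set G) ↔ _
  rw [mem_inf, mem_centralizer_singleton_iff (g := (x : G)), ← Subtype.val_inj (a := h * x * h⁻¹)]
  show _ ↔ (h : G) * (x : G) * (h : G)⁻¹ = x
  rw [mul_inv_eq_iff_eq_mul]
  exact ⟨fun e => e.2, fun e => ⟨h.2, e⟩⟩

namespace Ctx

variable {z : G} {Q : Subgroup (centralizer ({z} : Set G))} [Q.Normal] (c : Ctx z Q)

theorem stab_map (x : ↥Q) (hxz : ((x : ↥(centralizer ({z} : Set G))) : G) ≠ z)
    (hx1 : (x : ↥(centralizer ({z} : Set G))) ≠ 1)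
    (horb : ∀ v, v ∈ c.F.orb (c.pt x) ↔ ∃ g, rep Q c.D g (c.pt x) = v) (n : ℕ)
    (hn : Nat.card ↥(c.F.orb (c.pt x)) = n) :
    n * Nat.card ↥((pairCent z ((x : ↥(centralizer ({z} : Set G))) : G)).map (rep Q c.D)) = 2 * 9797760 := by
  letI : MulAction ↥(centralizer ({z} : Set G)) (c.ι → ZMod 2) := MulAction.compHom _ (rep Q c.D)
  set St := MulAction.stabilizer ↥(centralizer ({z} : Set G)) (c.pt x) with hSt
  have hmap : (pairCent z ((x : ↥(centralizer ({z} : Set G))) : G)).map (rep Q c.D) = St.map (rep Q c.D) := by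
    refine le_antisymm (map_mono fun h hh => ?_) ?_
    · show rep Q c.D h (c.pt x) = c.pt x
      rw [c.act]
      refine congrArg c.pt (Subtype.ext ?_)
      rw [MulAut.conjNormal_apply]
      exact mem_pairCent.mp hh
    · rintro _ ⟨g, hg, rfl⟩
      obtain ⟨h, hh, hρ, -⟩ := c.conj_of_rep g x x hg hxz hx1
      exact ⟨h, mem_pairCent.mpr hh, hρ⟩
  have horb' : MulAction.orbit ↥(centralizer ({z} : Set G)) (c.pt x) = c.F.orb (c.pt x) := by
    ext v
    rw [horb]
    rfl
  have h1 := card_eq_card_quotient_mul_card_subgroup St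
  rw [← Nat.card_congr (MulAction.orbitEquivQuotientStabilizer ↥(centralizer ({z} : Set G)) (c.pt x)), horb', hn,
    c.card_map_rep St, show St ⊓ Q = Q from inf_of_le_right (fun q hq => show rep Q c.D q (c.pt x) = c.pt x by
      rw [MonoidHom.mem_ker.mp (c.ker.symm ▸ hq : q ∈ (rep Q c.D).ker)]; rfl), ← hmap,
    ← c.M.card_mul_index, c.Mi, c.Mcard, c.card, ← mul_assoc] at h1
  exact Nat.eq_of_mul_eq_mul_right (Nat.two_pow_pos 13) (h1.symm.trans (by norm_num))

/-- The structure of the joint centralizer. -/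
theorem joint (g : G) (x : ↥Q) (hg : g * z * g⁻¹ = ((x : ↥(centralizer ({z} : Set G))) : G))
    (hxz : ((x : ↥(centralizer ({z} : Set G))) : G) ≠ z) :
    (∀ a ∈ c.RC g ⊓ Q, a ^ 2 = 1) ∧ Nat.card ↥(c.RC g ⊓ Q) = 2 ^ 7 ∧
      Nat.card ↥((c.RC g).map (QuotientGroup.mk' Q)) = 32 ∧
      ∃ (_ : (((c.RC g).map (QuotientGroup.mk' Q)).subgroupOf
          ((pairCent z ((x : ↥(centralizer ({z} : Set G))) : G)).map (QuotientGroup.mk' Q))).Normal),
        Nonempty (↥((pairCent z ((x : ↥(centralizer ({z} : Set G))) : G)).map (QuotientGroup.mk' Q)) ⧸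
          ((c.RC g).map (QuotientGroup.mk' Q)).subgroupOf
            ((pairCent z ((x : ↥(centralizer ({z} : Set G))) : G)).map (QuotientGroup.mk' Q)) ≃*
          alternatingGroup (Fin 6)) := by
  classical
  haveI : Fact (Nat.Prime 2) := ⟨Nat.prime_two⟩
  obtain ⟨s, t, Lt, hs2, ht2, hsz, htz, -, -, hns, h1701, hLt, hLtA, hall, hsep⟩ := c.exists_points
  have hord : orderOf (x : ↥(centralizer ({z} : Set G))) = 2 := by
    rw [← Subgroup.orderOf_coe, ← hg]
    exact (orderOf_injective (MulAut.conj g).toMonoidHom (MulAut.conj g).injective z).trans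
      (orderOf_eq_prime (by rw [pow_two]; exact c.X2g.zz) c.X2g.ne)
  have hx1 : (x : ↥(centralizer ({z} : Set G))) ≠ 1 := fun e => by rw [e, orderOf_one] at hord; norm_num at hord
  obtain ⟨hq0, hne0⟩ := c.sing x.2 hord hxz
  have hnot : ∀ d : ↥(centralizer ({z} : Set G)), rep Q c.D d (c.pt s) ≠ c.pt x := fun d hd => by
    obtain ⟨h, hh, -⟩ := c.conj_of_rep d s x hd hsz (fun e => by rw [e, orderOf_one] at hs2; norm_num at hs2)
    exact hns (IsConj.trans (isConj_iff.mpr ⟨g, hg⟩) (isConj_iff.mpr ⟨(h : G), congrArg Subtype.val hh⟩).symm)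
  have htorb : c.pt x ∈ c.F.orb (c.pt t) := by
    refine (hall _ hq0 hne0).resolve_left ?_
    rintro ⟨⟨_, m, rfl⟩, hm⟩
    rw [c.Fρ] at hm
    exact hnot _ hm
  have horbeq := c.F.orb_eq htorb
  obtain ⟨h0, hh0⟩ := htorb
  set L := Lt.map (MulAut.conj h0).toMonoidHom with hLdef
  have hL : ∀ l ∈ L, c.F.ρ l (c.pt x) = c.pt x := by
    rintro _ ⟨l, hl, rfl⟩
    show c.F.ρ (h0 * l * h0⁻¹) _ = _
    rw [map_mul, map_mul, Equiv.Perm.mul_apply, Equiv.Perm.mul_apply, map_inv, ← hh0, Equiv.Perm.coe_inv,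
      Equiv.symm_apply_apply, hLt l hl]
  have hLA : Nonempty (↥L ≃* alternatingGroup (Fin 6)) := by
    obtain ⟨e⟩ := hLtA
    exact ⟨(Lt.equivMapOfInjective _ (MulAut.conj h0).injective).symm.trans e⟩
  obtain ⟨h32, h2, hbot, hd⟩ := c.local_bound hg hxz hx1 L hL hLA
  rw [horbeq, h1701] at hd
  set RB := (c.RC g).map (rep Q c.D) with hRB
  have h16 : Nat.card ↥((c.RC g ⊓ c.M).map (rep Q c.D)) ≤ 16 := by
    refine Nat.le_of_dvd (by norm_num) (Nat.dvd_of_mul_dvd_mul_right (by norm_num : 0 < 360 * 1701) ?_)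
    rw [← mul_assoc, show (16 : ℕ) * (360 * 1701) = 9797760 by norm_num]
    exact hd
  have hRB32 : Nat.card ↥RB = 32 := by omega
  have hi := c.card_map_rep (c.RC g)
  rw [c.RC_card hg hxz, ← hRB, hRB32] at hi
  have hint : Nat.card ↥(c.RC g ⊓ Q) = 2 ^ 7 := by omega
  have hX' : X2 ((Q.map (centralizer ({z} : Set G)).subtype).map (MulAut.conj g).toMonoidHom)
      ((x : ↥(centralizer ({z} : Set G))) : G) := hg ▸ c.X2g.conj g
  refine ⟨fun a ha => Subtype.ext ?_, hint, ?_, ?_⟩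
  · rw [pow_two]
    show (a : G) * (a : G) = 1
    refine (c.X2g.sq _ ⟨a, ha.2, rfl⟩).resolve_right fun e1 => ?_
    rcases hX'.sq _ (c.mem_RC ha.1) with e2 | e2
    · exact c.X2g.ne (e1.symm.trans e2)
    · exact hxz (e2.symm.trans e1)
  · have h := card_map_mk Q (c.RC g)
    rw [c.RC_card hg hxz, hint] at h
    omega
  -- the quotient
  set PC := pairCent z ((x : ↥(centralizer ({z} : Set G))) : G) with hPC
  let mk := QuotientGroup.mk' Q
  have hRP : c.RC g ≤ PC := fun r hr => mem_pairCent.mpr (c.RC_fix hg hr)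
  have hn : (((c.RC g).map mk).subgroupOf (PC.map mk)).Normal := by
    refine ⟨fun a ha b => ?_⟩
    obtain ⟨r, hr, hra⟩ := (mem_subgroupOf.mp ha)
    obtain ⟨h, hh, hhb⟩ := b.2
    refine mem_subgroupOf.mpr ⟨h * r * h⁻¹, c.RC_conj hg (mem_pairCent.mp hh) hr, ?_⟩
    rw [map_mul, map_mul, map_inv, hra, hhb]
    rfl
  refine ⟨hn, ?_⟩
  let θ : ↥(centralizer ({z} : Set G)) ⧸ Q →* Equiv.Perm (c.ι → ZMod 2) :=
    QuotientGroup.lift Q (rep Q c.D) (le_of_eq c.ker.symm)
  have hθmk : ∀ K : Subgroup ↥(centralizer ({z} : Set G)), (K.map mk).map θ = K.map (rep Q c.D) := fun K => by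
    rw [map_map]; rfl
  have hθ : Function.Injective θ := by
    refine (injective_iff_map_eq_one θ).mpr fun a ha => ?_
    induction a using QuotientGroup.induction_on with
    | H a => exact (QuotientGroup.eq_one_iff a).mpr (c.ker ▸ MonoidHom.mem_ker.mpr ha)
  set LP := L.map ((rep Q c.D).comp c.M.subtype).range.subtype with hLP
  have hLPle : LP ≤ PC.map (rep Q c.D) := by
    rintro _ ⟨⟨_, m, rfl⟩, hl, rfl⟩
    have h := hL _ hl
    rw [c.Fρ] at h
    obtain ⟨h', hh', hρ, -⟩ := c.conj_of_rep (m : ↥(centralizer ({z} : Set G))) x x h hxz hx1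
    exact ⟨h', mem_pairCent.mpr hh', hρ⟩
  set LQ := LP.comap θ with hLQ
  have hLQmap : LQ.map θ = LP := map_comap_eq_self (hLPle.trans (by
    rw [← hθmk]; exact (map_mono le_top).trans (MonoidHom.range_eq_map θ).ge))
  have hLQle : LQ ≤ PC.map mk := by
    rw [← map_le_map_iff_of_injective hθ, hLQmap, hθmk]; exact hLPle
  let eLQ : ↥LQ ≃* ↥LP := (LQ.equivMapOfInjective θ hθ).trans (MulEquiv.subgroupCongr hLQmap)
  obtain ⟨eL⟩ := hLA
  let eA : ↥LQ ≃* alternatingGroup (Fin 6) :=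
    eLQ.trans ((L.equivMapOfInjective _ (Subgroup.subtype_injective _)).symm.trans eL)
  let φ : ↥LQ →* ↥(PC.map mk) ⧸ ((c.RC g).map mk).subgroupOf (PC.map mk) :=
    (QuotientGroup.mk' _).comp (Subgroup.inclusion hLQle)
  have hφ : Function.Injective φ := by
    refine (injective_iff_map_eq_one φ).mpr fun a ha => ?_
    have h1' := (QuotientGroup.eq_one_iff (Subgroup.inclusion hLQle a)).mp ha
    have h1 : (a : ↥(centralizer ({z} : Set G)) ⧸ Q) ∈ (c.RC g).map mk := mem_subgroupOf.mp h1'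
    have h2 : θ a ∈ RB ⊓ LP := ⟨by rw [hRB, ← hθmk]; exact mem_map_of_mem θ h1, a.2⟩
    rw [hbot, mem_bot] at h2
    exact Subtype.ext (hθ (h2.trans (map_one θ).symm))
  have hLQc : Nat.card ↥LQ = 360 := by
    rw [Nat.card_congr eA.toEquiv, nat_card_alternatingGroup, Nat.card_fin]; rfl
  have hst := c.stab_map x hxz hx1 (fun v => ⟨fun ⟨⟨_, m, rfl⟩, hm⟩ => ⟨(m : ↥(centralizer ({z} : Set G))),
      by rw [c.Fρ] at hm; exact hm⟩, fun ⟨d, hd⟩ => by
    subst hd
    have hq : c.F.q (rep Q c.D d (c.pt x)) = 0 := by rw [c.Fq, rep_q, ← c.Fq]; exact hq0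
    have hz : rep Q c.D d (c.pt x) ≠ 0 := fun e => hne0 ((rep Q c.D d).injective
      (e.trans (map_zero (c.D.lin (MulAut.conjNormal d))).symm))
    rw [horbeq]
    refine (hall _ hq hz).resolve_left ?_
    rintro ⟨⟨_, m, rfl⟩, hm⟩
    rw [c.Fρ] at hm
    refine hnot (d⁻¹ * (m : ↥(centralizer ({z} : Set G)))) ?_
    rw [map_mul, Equiv.Perm.mul_apply]
    rw [show rep Q c.D (m : ↥(centralizer ({z} : Set G))) (c.pt s) = rep Q c.D d (c.pt x) from hm, map_inv,
      Equiv.Perm.coe_inv, Equiv.symm_apply_apply]⟩) 1701 (horbeq ▸ h1701)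
  have hPCc : Nat.card ↥(PC.map mk) = 11520 := by
    rw [← card_map_of_injective hθ, hθmk]
    exact Nat.eq_of_mul_eq_mul_left (by norm_num : (0 : ℕ) < 1701) (hst.trans (by norm_num))
  have hEc : Nat.card ↥(((c.RC g).map mk).subgroupOf (PC.map mk)) = 32 := by
    rw [Nat.card_congr (subgroupOfEquivOfLe (map_mono hRP)).toEquiv, ← card_map_of_injective hθ, hθmk]
    exact hRB32
  have hb : Function.Bijective φ := by
    refine (Nat.bijective_iff_injective_and_card _).mpr ⟨hφ, ?_⟩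
    have h := card_eq_card_quotient_mul_card_subgroup (((c.RC g).map mk).subgroupOf (PC.map mk))
    rw [hPCc, hEc] at h
    omega
  exact ⟨(MulEquiv.ofBijective φ hb).symm.trans eA⟩

end Ctx

end Cfsg.Lib.LargeFischer
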