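import Cfsg.Agent.LargeFischer.MaxElementary

/-!
Involutions in the largest elementary abelian subgroup are conjugate into the extraspecial subgroup.
-/

set_option autoImplicit false
set_option maxRecDepth 100000
set_option maxHeartbeats 1000000
set_option linter.unusedSectionVars false
set_option linter.style.haveILetI false

namespace Cfsg.Lib.LargeFischer

open Subgroup QuadraticMap
open Cfsg.Lib.LargeExtra (X2 mem_map_conj)
open Cfsg.Lib.LargeExtra.OutExtra

universe u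

/-- Four values with even support are a translate of a scaled even subset. -/
theorem even_four : ∀ a b d e : F4, a + b + d + e = 0 →
    ((Finset.univ.filter fun i : Fin 4 => (![a, b, d, e] i : F4) ≠ 0).card : ZMod 2) = 0 →
    ∃ (k : F4) (t : F4) (s1 s2 : ZMod 2), k ≠ 0 ∧
      a = t + k * bf s1 ∧ b = t + k * bf s2 ∧ d = t + k * bf (s1 + s2) ∧ e = t := by
  decide +kernel


set_option synthInstance.maxSize 8000 in
set_option synthInstance.maxHeartbeats 400000 in
theorem even_four_real : ∀ a b d e β : F4, β ≠ 0 → a + b + d + e = 0 →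
    ((Finset.univ.filter fun i : Fin 4 => (![a, b, d, e] i : F4) ≠ 0).card : ZMod 2) = 0 →
    ((a + b) * β ^ 2).im = 0 → ((b + d) * β ^ 2).im = 0 → ((d + e) * β ^ 2).im = 0 →
    ∃ (s1 s2 : ZMod 2), a = e + β * bf s1 ∧ b = e + β * bf s2 ∧ d = e + β * bf (s1 + s2) := by
  decide +kernel

theorem supp_split : ∀ a : F4, ∀ b d e g : F4,
    ((Finset.univ.filter fun i : Fin 6 => (![a, b, a, d, e, g] i : F4) ≠ 0).card : ZMod 2) =
      ((Finset.univ.filter fun i : Fin 4 => (![b, d, e, g] i : F4) ≠ 0).card : ZMod 2) := by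
  decide +kernel

theorem f4_scale : ∀ k β : F4, k ≠ 0 → β ≠ 0 → ∃ j : ZMod 3, wp j * k = β := by decide +kernel

theorem pair_bf_sum : ∀ i j : Fin 6, i ≠ j → ∑ l, bf (pr i j l) = 0 := by decide +kernel

theorem bf_mul : ∀ r : ZMod 2, ∀ a : F4, a * bf r = if r = 1 then a else 0 := by decide +kernel

variable {G : Type u} [Group G] [Finite G] {z : G} {Q : Subgroup (centralizer ({z} : Set G))} [Q.Normal]

namespace Ctx.LinePt

variable {c : Ctx z Q} (P : c.LinePt) {π : Equiv.Perm (Fin 6)}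

theorem q_rc (u : c.ι → ZMod 2) :
    c.F.q u = ((Finset.univ.filter fun i : Fin 6 => P.rc u i ≠ 0).card : ZMod 2) := by
  classical
  have e : c.F.dec (fun i => code4 (c.F.co i u)) = u := by rw [c.F.dec_code, c.F.mk6_co]
  conv_lhs => rw [← e, c.F.q_dec]
  refine congrArg (fun s : Finset (Fin 6) => (s.card : ZMod 2)) (Finset.ext fun i => ?_)
  rw [mem_supp6, Finset.mem_filter, rc, mul_ne_zero_iff, show (none : Option (ZMod 3)) = code4 0 by decide +kernel,
    code4_bijective.1.ne_iff]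
  simp [pow_ne_zero 2 (P.full i)]

theorem W_gp (hπ : π ∈ alternatingGroup (Fin 6)) {u : c.ι → ZMod 2} (hu : u ∈ P.W) : P.gp π u ∈ P.W := by
  obtain ⟨m, hm⟩ := P.gp_XM hπ
  obtain ⟨h, hh, hρ, -⟩ := c.conj_of_rep (m : ↥(centralizer ({z} : Set G))) P.x P.x
    (by rw [show rep Q c.D (m : ↥(centralizer ({z} : Set G))) = P.gp π from hm]; exact P.gp_pt hπ) P.hxz P.hx1
  obtain ⟨a, ha, rfl⟩ := P.mem_W.mp hu
  refine P.mem_W.mpr ⟨MulAut.conjNormal h a, ?_, ?_⟩
  · rw [MulAut.conjNormal_apply]; exact c.RC_conj P.hg hh ha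
  · rw [← c.act, hρ]
    exact congrArg (fun σ : Equiv.Perm (c.ι → ZMod 2) => σ (c.pt a)) hm

theorem exists_real : ∃ β : F4, β ≠ 0 ∧
    ∀ i j : Fin 6, i ≠ j → P.vec (fun k => β * bf (pr i j k)) ∈ P.W := by
  obtain ⟨w, hw, hnl⟩ : ∃ w ∈ P.W, w ∉ P.line := by
    by_contra h
    push Not at h
    have h1 := (AddSubgroup.card_le_of_le (show P.W ≤ P.line from h)).trans P.line_card.le
    have := P.W_card
    omega
  obtain ⟨π, hπ, hsum⟩ : ∃ π ∈ alternatingGroup (Fin 6),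
      P.rc (P.gp π w) 0 + P.rc (P.gp π w) 1 + P.rc (P.gp π w) 2 + P.rc (P.gp π w) 3 ≠ 0 := by
    by_contra h
    push Not at h
    refine hnl (P.mem_line.mpr ⟨P.rc w 0, (P.rc_ext fun i => ?_).symm⟩)
    rw [P.rc_sm, P.rc_pt, mul_one]
    by_cases hi : i = 0
    · rw [hi]
    obtain ⟨a, b, c', d, hab, hcd, h3, h0, h1, h2⟩ := swaps_four i hi
    set p : Equiv.Perm (Fin 6) := (Equiv.swap a b * Equiv.swap c' d)⁻¹ with hp
    have hps : ∀ k, p.symm k = Equiv.swap a b (Equiv.swap c' d k) := fun k => by rw [hp]; rfl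
    rw [← hps] at h0 h1 h2 h3
    have h01 : p.symm 0 ≠ p.symm 1 := fun e => absurd (p.symm.injective e) (by decide)
    have hne3 : ∀ k, k ≠ 3 → p.symm k ≠ i := fun k hk e => hk (p.symm.injective (e.trans h3.symm))
    set τ := Equiv.swap 0 i * Equiv.swap (p.symm 0) (p.symm 1) with hτ
    have hA : p ∈ alternatingGroup (Fin 6) := inv_mem (two_swaps hab hcd)
    have hB : p * τ⁻¹ ∈ alternatingGroup (Fin 6) := mul_mem hA (inv_mem (two_swaps (Ne.symm hi) h01))
    have e1 := h p hA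
    have e2 := h (p * τ⁻¹) hB
    simp only [P.gp_rc' hA] at e1
    simp only [P.gp_rc' hB] at e2
    replace e2 : P.rc w (τ (p.symm 0)) + P.rc w (τ (p.symm 1)) + P.rc w (τ (p.symm 2)) + P.rc w (τ (p.symm 3)) = 0 := e2
    simp only [hτ, Equiv.Perm.mul_apply] at e2
    rw [Equiv.swap_apply_left, Equiv.swap_apply_right, Equiv.swap_apply_of_ne_of_ne h1 (hne3 1 (by decide)),
      Equiv.swap_apply_of_ne_of_ne h0 (hne3 0 (by decide)),
      Equiv.swap_apply_of_ne_of_ne (fun e => absurd (p.symm.injective e) (by decide : (2 : Fin 6) ≠ 0))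
        (fun e => absurd (p.symm.injective e) (by decide : (2 : Fin 6) ≠ 1)),
      Equiv.swap_apply_of_ne_of_ne h2 (hne3 2 (by decide)),
      Equiv.swap_apply_of_ne_of_ne (fun e => absurd (p.symm.injective e) (by decide : (3 : Fin 6) ≠ 0))
        (fun e => absurd (p.symm.injective e) (by decide : (3 : Fin 6) ≠ 1)),
      h3, Equiv.swap_apply_right, add_comm (P.rc w (p.symm 1))] at e2
    simp only [h3] at e1
    exact add_left_cancel (e1.trans e2.symm)
  set m := fun i => P.rc (P.gp π w) i with hm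
  have hk1 : Equiv.swap (0 : Fin 6) 1 * Equiv.swap 2 3 ∈ alternatingGroup (Fin 6) := two_swaps (by decide) (by decide)
  have hk2 : Equiv.swap (0 : Fin 6) 2 * Equiv.swap 4 5 ∈ alternatingGroup (Fin 6) := two_swaps (by decide) (by decide)
  have hw0 := P.W_gp hπ hw
  have hw1 := add_mem hw0 (P.W_gp hk1 hw0)
  have hw2 := add_mem hw1 (P.W_gp hk2 hw1)
  set β := m 0 + m 1 + m 2 + m 3 with hβ
  have h02 : P.vec (fun k => β * bf (pr 0 2 k)) ∈ P.W := by
    convert hw2 using 1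
    refine P.rc_ext fun i => ?_
    simp only [P.rc_vec, P.rc_add, P.gp_rc' hk1, P.gp_rc' hk2, hβ, hm]
    fin_cases i <;> simp [pr, Equiv.swap_apply_def, Equiv.Perm.mul_def, show bf 0 = 0 from rfl,
      show bf 1 = 1 from rfl, f4_two] <;> abel
  refine ⟨β, hsum, fun i j hij => ?_⟩
  obtain ⟨σ, hσ, h0, h2⟩ := alt_two_trans i j hij
  convert P.W_gp hσ h02 using 1
  refine P.rc_ext fun k => ?_
  rw [P.gp_rc' hσ, P.rc_vec, P.rc_vec]
  exact congrArg (fun r => β * bf r) (if_congr (by rw [Equiv.symm_apply_eq, Equiv.symm_apply_eq, h0, h2]) rfl rfl)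

/-- The commutator space of the standard element of the radical. -/
noncomputable def I0 : AddSubgroup (c.ι → ZMod 2) where
  carrier := {u | P.rc u 0 = P.rc u 2 ∧ P.rc u 1 = P.rc u 3 ∧ P.rc u 3 = P.rc u 4 ∧ P.rc u 4 = P.rc u 5}
  zero_mem' := by simp [P.rc_zero]
  add_mem' := fun {a b} ha hb => ⟨by rw [P.rc_add, P.rc_add, ha.1, hb.1], by rw [P.rc_add, P.rc_add, ha.2.1, hb.2.1],
    by rw [P.rc_add, P.rc_add, ha.2.2.1, hb.2.2.1], by rw [P.rc_add, P.rc_add, ha.2.2.2, hb.2.2.2]⟩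
  neg_mem' := fun {a} ha => by rw [c.F.W.neg_eq]; exact ha

theorem mem_I0 {u : c.ι → ZMod 2} :
    u ∈ P.I0 ↔ P.rc u 0 = P.rc u 2 ∧ P.rc u 1 = P.rc u 3 ∧ P.rc u 3 = P.rc u 4 ∧ P.rc u 4 = P.rc u 5 := Iff.rfl

theorem I0_card : Nat.card ↥P.I0 ≤ 16 := by
  refine (Nat.card_le_card_of_injective (fun u : ↥P.I0 => (P.rc u 0, P.rc u 1)) fun a b e => ?_).trans
    (by rw [Nat.card_prod, Nat.card_eq_fintype_card, card_F4])
  simp only [Prod.mk.injEq] at e
  obtain ⟨a0, a1, a2, a3⟩ := P.mem_I0.mp a.2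
  obtain ⟨b0, b1, b2, b3⟩ := P.mem_I0.mp b.2
  refine Subtype.ext (P.rc_ext fun i => ?_)
  fin_cases i
  · exact e.1
  · exact e.2
  · exact a0.symm.trans (e.1.trans b0)
  · exact a1.symm.trans (e.2.trans b1)
  · exact (a1.trans a2).symm.trans (e.2.trans (b1.trans b2))
  · exact (a1.trans (a2.trans a3)).symm.trans (e.2.trans (b1.trans (b2.trans b3)))

theorem r0_sum : ∑ i, pr 0 2 i = 0 := by decide +kernel

theorem r0_ne : P.rr (pr 0 2) ≠ 1 := fun e =>
  absurd (((P.rr_eq_one r0_sum).mp e) 1) (by decide +kernel)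

theorem r0_fix_iff {u : c.ι → ZMod 2} : P.rr (pr 0 2) u = u ↔ u ∈ P.perp ∧ P.rc u 0 = P.rc u 2 := by
  have key : ∀ v : c.ι → ZMod 2, v ∈ P.perp → ∀ i, P.rc (P.rr (pr 0 2) v) i = P.rc v i + P.sc * (P.rc v 0 + P.rc v 2) := by
    intro v hv i
    rw [P.rr_act r0_sum hv, Finset.sum_eq_add 0 2 (by decide) (fun j _ hj => by simp [pr, hj.1, hj.2, show bf 0 = 0 from rfl]) (by simp) (by simp)]
    simp [pr, show bf 1 = 1 from rfl]
  have hab : ∀ a b : F4, a + b = 0 → a = b := by decide +kernel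
  constructor
  · intro h
    have hu := P.fix_perp_of_RB (P.rr_mem _) P.r0_ne h
    refine ⟨hu, ?_⟩
    have e := key u hu 0
    rw [h, left_eq_add, mul_eq_zero] at e
    exact hab _ _ (e.resolve_left P.sc_ne)
  · rintro ⟨hu, he⟩
    refine P.rc_ext fun i => ?_
    rw [key u hu, he, f4_two, mul_zero, add_zero]

theorem r0_XM : P.rr (pr 0 2) ∈ c.XM := P.RB_le (P.rr_mem _)

theorem r0_image {u : c.ι → ZMod 2} : u ∈ P.I0 ↔ ∃ w, P.rr (pr 0 2) w + w = u := by
  set r := P.rr (pr 0 2) with hr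
  let f : (c.ι → ZMod 2) →+ (c.ι → ZMod 2) :=
    AddMonoidHom.mk' (fun w => r w + w) fun a b => by rw [Ctx.XM_add P.r0_XM]; abel
  have hle : f.range ≤ P.I0 := by
    rintro _ ⟨w, rfl⟩
    set d := r w + w with hd
    show d ∈ P.I0
    have hrd : r d = d := by
      rw [hd, Ctx.XM_add P.r0_XM, ← Equiv.Perm.mul_apply, P.RB_sq (P.rr_mem _), Equiv.Perm.one_apply, add_comm]
    obtain ⟨hdp, hd02⟩ := P.r0_fix_iff.mp hrd
    -- perpendicular to every fixed vector
    have hB : ∀ v : c.ι → ZMod 2, r v = v → c.F.B d v = 0 := fun v hv => by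
      rw [hd, c.F.B_add, show c.F.B (r w) v = c.F.B w v by conv_lhs => rw [← hv, Ctx.XM_B P.r0_XM]]
      exact c.F.add_self_zmod _
    have hk : ∀ i j : Fin 6, i ≠ j → (i ≠ 0 ∧ i ≠ 2 ∧ j ≠ 0 ∧ j ≠ 2) → P.rc d i = P.rc d j := by
      intro i j hij hnot
      set v := P.vec fun k => bf (pr i j k) with hv
      have hvp : v ∈ P.perp := P.vec_pair_mem i j hij
      have hv02 : P.rc v 0 = P.rc v 2 := by
        rw [hv, P.rc_vec, P.rc_vec]
        simp [pr, hnot.1.symm, hnot.2.1.symm, hnot.2.2.1.symm, hnot.2.2.2.symm]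
      have h1 := hB v (P.r0_fix_iff.mpr ⟨hvp, hv02⟩)
      have hov : c.F.om v ∈ P.perp := by
        rw [← c.F.sm_w, P.mem_perp, c.F.herm_sm, P.mem_perp.mp hvp, mul_zero]
      have h2 := hB (c.F.om v) (P.r0_fix_iff.mpr ⟨hov, by simp only [← c.F.sm_w, P.rc_sm, hv02]⟩)
      have h3 := c.F.herm_eq_zero h1 h2
      rw [P.herm_rc, Finset.sum_eq_add i j hij (fun k _ hk => by simp [hv, P.rc_vec, pr, hk.1, hk.2, show bf 0 = 0 from rfl]) (by simp) (by simp)] at h3
      simp [hv, P.rc_vec, pr, show bf 1 = 1 from rfl] at h3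
      exact (show ∀ a b : F4, a + b = 0 → a = b by decide +kernel) _ _ h3
    exact ⟨hd02, hk 1 3 (by decide) (by decide), hk 3 4 (by decide) (by decide), hk 4 5 (by decide) (by decide)⟩
  have hker : Nat.card ↥f.ker ≤ 256 := by
    obtain ⟨b, hb⟩ := P.RB_onto (P.rr_mem (pr 0 2))
    have e : P.rr (evn b) * P.gp (d8 0) = r := by rw [show d8 0 = 1 from rfl, P.gp_one, mul_one, hb]
    refine P.fix_bound (b := b) (i := 0) (by rw [e]; exact P.RB_sq (P.rr_mem _)) (by rw [e]; exact P.r0_ne) f.ker fun v hv => ?_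
    rw [e]
    have h : r v + v = 0 := hv
    exact (add_eq_zero_iff_eq_neg.mp h).trans (c.F.W.neg_eq _)
  have he : f.range = P.I0 := by
    refine AddSubgroup.eq_of_le_of_card_ge hle (P.I0_card.trans ?_)
    have h := f.ker.card_mul_index
    rw [AddSubgroup.index_ker, c.F.cardV] at h
    by_contra hlt
    have h2 := Nat.mul_le_mul hker (show Nat.card ↥f.range ≤ 15 by omega)
    omega
  rw [← he]
  exact Iff.rfl

theorem four_even {u : c.ι → ZMod 2} (hu : P.rr (pr 0 2) u = u) (hq : c.F.q u = 0) :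
    P.rc u 1 + P.rc u 3 + P.rc u 4 + P.rc u 5 = 0 ∧
      ((Finset.univ.filter fun i : Fin 4 => (![P.rc u 1, P.rc u 3, P.rc u 4, P.rc u 5] i : F4) ≠ 0).card : ZMod 2) = 0 := by
  obtain ⟨hp, he⟩ := P.r0_fix_iff.mp hu
  constructor
  · have h := P.mem_perp_rc.mp hp
    rw [Fin.sum_univ_six, he] at h
    rw [← h]
    have key : ∀ a b d e g : F4, b + d + e + g = a + b + a + d + e + g := by decide +kernel
    exact key _ _ _ _ _
  · rw [← supp_split (P.rc u 0), ← hq, P.q_rc]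
    refine congrArg (fun s : Finset (Fin 6) => (s.card : ZMod 2)) (Finset.filter_congr fun i _ => ?_)
    fin_cases i <;> simp [he]

theorem mem_sup_of_form {β k t : F4} {s1 s2 : ZMod 2}
    (hW : ∀ i j : Fin 6, i ≠ j → P.vec (fun l => β * bf (pr i j l)) ∈ P.W) {u : c.ι → ZMod 2}
    (h02 : P.rc u 0 = P.rc u 2) (h1 : P.rc u 1 = t + k * bf s1) (h3 : P.rc u 3 = t + k * bf s2)
    (h4 : P.rc u 4 = t + k * bf (s1 + s2)) (h5 : P.rc u 5 = t) (hk : k = β) : u ∈ P.W ⊔ P.I0 := by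
  subst hk
  set w := (if s1 = 1 then P.vec (fun l => k * bf (pr 1 4 l)) else 0) +
    (if s2 = 1 then P.vec (fun l => k * bf (pr 3 4 l)) else 0) with hw
  have hwW : w ∈ P.W := by
    refine add_mem ?_ ?_ <;> split_ifs
    exacts [hW 1 4 (by decide), zero_mem _, hW 3 4 (by decide), zero_mem _]
  have hwi : ∀ i, P.rc w i = k * bf (s1 * pr 1 4 i + s2 * pr 3 4 i) := fun i => by
    rw [hw, P.rc_add, bf_add, mul_add]
    rcases (show ∀ r : ZMod 2, r = 0 ∨ r = 1 by decide) s1 with rfl | rfl <;>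
      rcases (show ∀ r : ZMod 2, r = 0 ∨ r = 1 by decide) s2 with rfl | rfl <;>
      simp [P.rc_vec, P.rc_zero, show bf 0 = 0 from rfl]
  refine AddSubgroup.mem_sup.mpr ⟨w, hwW, u + w, ?_, by rw [add_comm u, ← add_assoc, c.F.dbl, zero_add]⟩
  simp only [P.mem_I0, P.rc_add, hwi, h02, h1, h3, h4, h5, bf_mul]
  have : ∀ (t k : F4) (r : ZMod 2), (t + (if r = 1 then k else 0)) + (if r = 1 then k else 0) = t := by decide +kernel
  simp [pr, this]

theorem singular_split {u : c.ι → ZMod 2} (hu : P.rr (pr 0 2) u = u) (hq : c.F.q u = 0) :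
    ∃ j : ZMod 3, c.F.sm (wp j) u ∈ P.W ⊔ P.I0 := by
  obtain ⟨hs, he⟩ := P.four_even hu hq
  obtain ⟨β, hβ, hW⟩ := P.exists_real
  obtain ⟨k, t, s1, s2, hk, e1, e3, e4, e5⟩ := even_four _ _ _ _ hs he
  obtain ⟨j, hj⟩ := f4_scale k β hk hβ
  refine ⟨j, P.mem_sup_of_form hW (t := wp j * t) (s1 := s1) (s2 := s2) (k := wp j * k) ?_ ?_ ?_ ?_ ?_ hj⟩
  · rw [P.rc_sm, P.rc_sm, (P.r0_fix_iff.mp hu).2]
  all_goals simp only [P.rc_sm, e1, e3, e4, e5, mul_add, mul_assoc]

theorem conj_RB_std {σ : Equiv.Perm (c.ι → ZMod 2)} (hσ : σ ∈ P.RB) (h1 : σ ≠ 1) :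
    ∃ g ∈ c.XM, g * P.rr (pr 0 2) * g⁻¹ = σ := by
  obtain ⟨b, rfl⟩ := P.RB_onto hσ
  have hb : b ≠ 0 := fun e => h1 (by
    subst e; exact (P.rr_eq_one (evn_sum _)).mpr (by decide +kernel))
  obtain ⟨i, j, hij, hk⟩ := evn_pair b hb
  obtain ⟨π, hπ, h0, h2⟩ := alt_two_trans i j hij
  refine ⟨P.gp π, P.gp_XM hπ, ?_⟩
  rw [P.rr_conj hπ r0_sum, P.rr_congr (evn_sum b) (pairs_even i j hij) hk,
    show (fun k => pr 0 2 (π.symm k)) = pr i j from funext fun k => if_congr
      (by rw [Equiv.symm_apply_eq, Equiv.symm_apply_eq, h0, h2]) rfl rfl]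

theorem conj_AB_std {σ : Equiv.Perm (c.ι → ZMod 2)} (hσ : σ ∈ P.AB) (h1 : σ ≠ 1) :
    ∃ g ∈ c.XM, g * P.rr (pr 0 2) * g⁻¹ = σ := by
  obtain ⟨q, rfl⟩ := P.mem_AB.mp hσ
  by_cases hab : q 2 ≠ 0 ∨ q 3 ≠ 0
  swap
  · push Not at hab
    rw [hab.1, hab.2, show kk 0 0 = 1 by decide +kernel, P.gp_one, mul_one] at h1 ⊢
    exact P.conj_RB_std (P.rr_mem _) h1
  set k := kk (q 2) (q 3) with hk
  have hkm : k ∈ alternatingGroup (Fin 6) := kk_mem _ _
  obtain ⟨e, he⟩ := kk_half (q 2) (q 3) (q 0) (q 1) hab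
  obtain ⟨i, hi⟩ := kk_conj (q 2) (q 3) hab
  set τ : Equiv.Perm (Fin 6) := ![1, Equiv.swap 2 4 * Equiv.swap 3 5, Equiv.swap 0 4 * Equiv.swap 1 5] i with hτd
  have hτ : τ ∈ alternatingGroup (Fin 6) := Equiv.Perm.mem_alternatingGroup.mpr (conj_mem_alt i)
  obtain ⟨m, hm, hm'⟩ := P.kap_conj_RB
  have hkapne : m⁻¹ * P.gp kap * m ≠ 1 := by
    intro hh
    have h' : P.gp kap = 1 := by
      rw [show P.gp kap = m * (m⁻¹ * P.gp kap * m) * m⁻¹ by group, hh]; group
    exact absurd (P.gp_RB (d8_mem 1) (by rw [show d8 1 = kap from rfl, h']; exact one_mem _)) (by decide +kernel)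
  obtain ⟨g, hg, hge⟩ := P.conj_RB_std hm' hkapne
  refine ⟨P.rr (evn e) * P.gp τ * m * g,
    mul_mem (mul_mem (mul_mem (P.RB_le (P.rr_mem _)) (P.gp_XM hτ)) hm) hg, ?_⟩
  have hsum : ∑ j, evn e (k.symm j) = 0 := by rw [Equiv.sum_comp k.symm (evn e), evn_sum]
  have hκ : kap ∈ alternatingGroup (Fin 6) := d8_mem 1
  have e2 : P.gp τ * P.gp kap * (P.gp τ)⁻¹ = P.gp k := by
    rw [P.gp_inv hτ, P.gp_mul hτ hκ, P.gp_mul (mul_mem hτ hκ) (inv_mem hτ), hk, ← hi]
  calc P.rr (evn e) * P.gp τ * m * g * P.rr (pr 0 2) * (P.rr (evn e) * P.gp τ * m * g)⁻¹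
      = P.rr (evn e) * (P.gp τ * (m * (g * P.rr (pr 0 2) * g⁻¹) * m⁻¹) * (P.gp τ)⁻¹) * (P.rr (evn e))⁻¹ := by group
    _ = P.rr (evn e) * (P.gp τ * P.gp kap * (P.gp τ)⁻¹) * (P.rr (evn e))⁻¹ := by
        rw [hge, show m * (m⁻¹ * P.gp kap * m) * m⁻¹ = P.gp kap by group]
    _ = P.rr (evn e) * (P.gp k * P.rr (evn e)) := by
        rw [e2, inv_eq_of_mul_eq_one_right (P.RB_sq (P.rr_mem _)), mul_assoc]
    _ = P.rr (evn e) * P.rr (fun j => evn e (k.symm j)) * P.gp k := by rw [P.gp_rr hkm (evn_sum e), mul_assoc]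
    _ = P.rr (yv q) * P.gp k := by
        rw [P.rr_mul (evn_sum e) hsum, P.rr_congr (f := evn e + fun j => evn e (k.symm j))
          (by simp [Finset.sum_add_distrib, hsum, evn_sum]) (yv_sum q) he]

end Ctx.LinePt

namespace Ctx.Three

variable {c : Ctx z Q} {X : Subgroup ↥(centralizer ({z} : Set G))} (T : c.Three X) (P : c.LinePt)

include T

/-- An involution above the standard element is conjugate into the extraspecial subgroup. -/
theorem std_conj {a : ↥(centralizer ({z} : Set G))} (ha : a * a = 1)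
    (hrep : Cfsg.Lib.LargeFischer.rep Q c.D a = P.rr (pr 0 2)) :
    ∃ y : ↥Q, IsConj (a : G) ((y : ↥(centralizer ({z} : Set G))) : G) := by
  obtain ⟨d, hd⟩ := T.exists_lf P.r0_XM
  have hd1 : d * d = 1 := RB_lift_sq (P.rr_mem _) hd
  set r := P.rr (pr 0 2) with hr
  -- the part in `Q` of an involution above the element
  have hqpart : ∀ b : ↥(centralizer ({z} : Set G)), b * b = 1 → Cfsg.Lib.LargeFischer.rep Q c.D b = r →
      ∃ q : ↥Q, b = (q : ↥(centralizer ({z} : Set G))) * d ∧ r (c.pt q) = c.pt q ∧ c.F.q (c.pt q) = 0 := by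
    intro b hb hbr
    have hqQ : b * d⁻¹ ∈ Q := c.rep_eq_one (by rw [map_mul, map_inv, hbr, hd.2, mul_inv_cancel])
    set q : ↥Q := ⟨b * d⁻¹, hqQ⟩ with hqd
    have hbq : b = (q : ↥(centralizer ({z} : Set G))) * d := (inv_mul_cancel_right b d).symm
    have hfix : r (c.pt q) = c.pt q := by
      rw [← hd.2, c.act]
      have e : MulAut.conjNormal d q * q = 1 ∨ True := Or.inr trivial
      have e2 : (q : ↥(centralizer ({z} : Set G))) * (d * q * d⁻¹) = 1 := by
        have h := hb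
        rw [hbq] at h
        rw [show d⁻¹ = d from inv_eq_of_mul_eq_one_right hd1]
        rw [← h]
        group
      have e3 : q * MulAut.conjNormal d q = 1 :=
        Subtype.ext (by rw [Subgroup.coe_mul, MulAut.conjNormal_apply]; exact e2)
      have e4 := congrArg c.pt e3
      rw [c.pt_mul, show c.pt (1 : ↥Q) = 0 from c.D.π_one] at e4
      exact ((add_eq_zero_iff_eq_neg.mp e4).trans (c.F.W.neg_eq _)).symm
    refine ⟨q, hbq, hfix, ?_⟩
    have hc := T.commute_of_fix hd.1 q (by rw [hd.2]; exact hfix)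
    have h2 : q * q = 1 := Subtype.ext (by
      rw [Subgroup.coe_mul, Subgroup.coe_one, ← hb, hbq]
      calc (q : ↥(centralizer ({z} : Set G))) * q = (q : ↥(centralizer ({z} : Set G))) * q * (d * d) := by rw [hd1, mul_one]
        _ = (q : ↥(centralizer ({z} : Set G))) * (d * q) * d := by rw [hc.eq]; group
        _ = _ := by group)
    rw [c.Fq, Ctx.pt, c.D.hT]
    exact if_pos h2
  -- a lift inside the conjugate
  obtain ⟨β, hβ, hW⟩ := P.exists_real
  have hWrep : ∀ w ∈ P.W, ∀ y : ↥Q, c.pt y = w → (y : ↥(centralizer ({z} : Set G))) ∈ c.RC P.g := by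
    intro w hw y hy
    obtain ⟨y', hy', rfl⟩ := P.mem_W.mp hw
    have hzR : c.zH ∈ c.RC P.g := Subgroup.mem_subgroupOf.mpr (by
      rw [c.zH_val]
      exact ⟨P.V_le_Qs P.z_mem, mem_centralizer_singleton_iff.mpr rfl⟩)
    rcases center_cases c.D.es (c.D.eq_iff.mp hy.symm) with e | e
    · rw [← inv_mul_eq_one.mp e]; exact hy'
    · rw [inv_mul_eq_iff_eq_mul] at e
      rw [e, Subgroup.coe_mul]
      exact mul_mem hy' hzR
  obtain ⟨d0, hd0, hd0r, hd01⟩ : ∃ d0 ∈ c.RC P.g, Cfsg.Lib.LargeFischer.rep Q c.D d0 = r ∧ d0 * d0 = 1 := by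
    obtain ⟨e, he, her⟩ : r ∈ (c.RC P.g ⊓ c.M).map (Cfsg.Lib.LargeFischer.rep Q c.D) := P.rr_mem _
    rcases P.X2s.sq _ (c.mem_RC he.1) with e1 | e1
    · exact ⟨e, he.1, her, Subtype.ext e1⟩
    set wv := P.vec (fun l => β * bf (pr 0 1 l)) with hwv
    obtain ⟨w, hw⟩ := c.D.surj wv
    have hwR := hWrep wv (hW 0 1 (by decide)) w hw
    have hne : r wv ≠ wv := fun h => by
      have h02 := (P.r0_fix_iff.mp h).2
      rw [hwv, P.rc_vec, P.rc_vec] at h02
      simp [pr, show bf 0 = 0 from rfl, show bf 1 = 1 from rfl, hβ] at h02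
    have hw1 : (w : ↥(centralizer ({z} : Set G))) * w = 1 := by
      have h : w * w = 1 := by
        rw [mul_self_eq c.D.es, ← c.D.hT, hw]
        have hq' : c.F.q wv = 0 := by
          rw [P.q_rc, hwv]
          simp only [P.rc_vec]
          have key : ∀ β : F4, β ≠ 0 → ((Finset.univ.filter fun i : Fin 6 => β * bf (pr 0 1 i) ≠ 0).card : ZMod 2) = 0 := by
            decide +kernel
          exact key β hβ
        rw [c.Fq] at hq'
        rw [hq', Cfsg.Lib.ExtraOut.pw_zero]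
      exact congrArg Subtype.val h
    refine ⟨e * w, mul_mem he.1 hwR, by rw [map_mul, her, c.rep_Q w.2, mul_one], Subtype.ext ?_⟩
    rcases P.X2s.conj_cases (c.mem_RC he.1) (c.mem_RC hwR) with e2 | e2
    · refine absurd ?_ hne
      rw [← her, ← hw, show c.D.π w = c.pt w from rfl, c.act]
      exact congrArg c.pt (Subtype.ext (Subtype.ext (by rw [MulAut.conjNormal_apply]; exact e2)))
    · have hw' : ((w : ↥(centralizer ({z} : Set G))) : G) * (w : ↥(centralizer ({z} : Set G))) = 1 := congrArg Subtype.val hw1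
      set xg := ((P.x : ↥(centralizer ({z} : Set G))) : G) with hxg
      set eg := (e : G) with heg
      set wg := ((w : ↥(centralizer ({z} : Set G))) : G) with hwg
      show eg * wg * (eg * wg) = 1
      have hcx : Commute wg xg := P.X2s.central _ (c.mem_RC hwR)
      calc eg * wg * (eg * wg) = eg * wg * eg⁻¹ * (eg * eg) * wg := by group
        _ = xg * (wg * xg) * wg := by rw [e2, e1]; group
        _ = (xg * xg) * (wg * wg) := by rw [hcx.eq]; group
        _ = 1 := by rw [P.X2s.zz, hw', mul_one]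
  obtain ⟨y0, hy0, hy0f, hy0q⟩ := hqpart d0 hd01 hd0r
  -- the offset is real
  have he : c.pt y0 ∈ P.W ⊔ P.I0 := by
    have hB : ∀ i j : Fin 6, i ≠ j → (i ≠ 0 ∧ i ≠ 2 ∧ j ≠ 0 ∧ j ≠ 2) →
        ((P.rc (c.pt y0) i + P.rc (c.pt y0) j) * β ^ 2).im = 0 := by
      intro i j hij hnot
      set pv := P.vec (fun l => β * bf (pr i j l)) with hpv
      obtain ⟨p, hp⟩ := c.D.surj pv
      have hpR := hWrep pv (hW i j hij) p hp
      have hpf : r pv = pv := P.r0_fix_iff.mpr ⟨by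
        rw [P.mem_perp_rc, hpv]
        simp only [P.rc_vec]
        rw [← Finset.mul_sum, pair_bf_sum i j hij, mul_zero],
        by rw [hpv, P.rc_vec, P.rc_vec]; simp [pr, hnot.1.symm, hnot.2.1.symm, hnot.2.2.1.symm, hnot.2.2.2.symm]⟩
      have hr' : r (c.pt (p * y0)) = c.pt (p * y0) := by
        rw [c.pt_mul, Ctx.XM_add P.r0_XM, hy0f, show c.pt p = pv from hp, hpf]
      have hcd := T.commute_of_fix hd.1 (p * y0) (by rw [hd.2]; exact hr')
      have hsq : ((p * y0 : ↥Q) : ↥(centralizer ({z} : Set G))) * ((p * y0 : ↥Q) : ↥(centralizer ({z} : Set G))) =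
          (p : ↥(centralizer ({z} : Set G))) * d0 * ((p : ↥(centralizer ({z} : Set G))) * d0) := by
        have hpd : (p : ↥(centralizer ({z} : Set G))) * d0 = ((p * y0 : ↥Q) : ↥(centralizer ({z} : Set G))) * d := by
          rw [hy0, Subgroup.coe_mul, mul_assoc]
        rw [hpd]
        generalize ((p * y0 : ↥Q) : ↥(centralizer ({z} : Set G))) = s at hcd
        calc s * s = s * s * (d * d) := by rw [hd1, mul_one]
          _ = s * (d * s) * d := by rw [hcd.eq]; group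
          _ = _ := by group
      have hone : (p * y0) * (p * y0) = 1 := by
        rcases (show ∀ y : ↥Q, y * y = 1 ∨ y * y = c.zq from fun y => by
          rw [mul_self_eq c.D.es]
          rcases (show ∀ t : ZMod 2, t = 0 ∨ t = 1 by decide) (sq y) with e | e <;> rw [e]
          · exact Or.inl (Cfsg.Lib.ExtraOut.pw_zero _)
          · exact Or.inr (Cfsg.Lib.ExtraOut.pw_one _)) (p * y0) with e | e
        · exact e
        exfalso
        rcases P.X2s.sq _ (c.mem_RC (mul_mem hpR hd0)) with e' | e'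
        · have h := congrArg (fun w : ↥Q => ((w : ↥(centralizer ({z} : Set G))) : G)) e
          simp only [Subgroup.coe_mul, c.zv] at h
          have h2 := congrArg Subtype.val hsq
          simp only [Subgroup.coe_mul] at h2 e'
          exact c.X2g.ne (h.symm.trans (h2.trans e'))
        · have h := congrArg (fun w : ↥Q => ((w : ↥(centralizer ({z} : Set G))) : G)) e
          simp only [Subgroup.coe_mul, c.zv] at h
          have h2 := congrArg Subtype.val hsq
          simp only [Subgroup.coe_mul] at h2 e'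
          exact P.hxz ((h.symm.trans (h2.trans e')).symm)
      have hq : c.F.q (c.pt (p * y0)) = 0 := by
        rw [c.Fq, Ctx.pt, c.D.hT]
        exact if_pos hone
      have hqp : c.F.q pv = 0 := by
        rw [P.q_rc, hpv]
        simp only [P.rc_vec]
        have key : ∀ β : F4, β ≠ 0 → ∀ i j : Fin 6, i ≠ j →
            ((Finset.univ.filter fun l : Fin 6 => β * bf (pr i j l) ≠ 0).card : ZMod 2) = 0 := by decide +kernel
        exact key β hβ i j hij
      rw [c.pt_mul, show c.pt p = pv from hp, c.F.q_add, hqp, hy0q, zero_add, zero_add, c.F.B_symm, c.F.B_herm,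
        P.herm_rc, Finset.sum_eq_add i j hij (fun l _ hl => by simp [hpv, P.rc_vec, pr, hl.1, hl.2, show bf 0 = 0 from rfl]) (by simp) (by simp)] at hq
      simp only [hpv, P.rc_vec] at hq
      simpa [pr, show bf 1 = 1 from rfl, add_mul] using hq
    obtain ⟨hs, hev⟩ := P.four_even hy0f hy0q
    obtain ⟨s1, s2, e1, e3, e4⟩ := even_four_real _ _ _ _ β hβ hs hev (hB 1 3 (by decide) (by decide))
      (hB 3 4 (by decide) (by decide)) (hB 4 5 (by decide) (by decide))
    exact P.mem_sup_of_form hW (P.r0_fix_iff.mp hy0f).2 e1 e3 e4 rfl rfl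
  -- the real case
  have hreal : ∀ b : ↥(centralizer ({z} : Set G)), ∀ q : ↥Q, b = (q : ↥(centralizer ({z} : Set G))) * d →
      c.pt q ∈ P.W ⊔ P.I0 → ∃ y : ↥Q, IsConj (b : G) ((y : ↥(centralizer ({z} : Set G))) : G) := by
    intro b q hb hq
    obtain ⟨w, hw, i, hi, hsum⟩ := AddSubgroup.mem_sup.mp (add_mem hq he)
    obtain ⟨v, hv⟩ := P.r0_image.mp hi
    obtain ⟨y, rfl⟩ := c.D.surj v
    change r (c.pt y) + c.pt y = i at hv
    set q' : ↥Q := y * q * MulAut.conjNormal d y⁻¹ with hq'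
    have hconj : (y : ↥(centralizer ({z} : Set G))) * b * (y : ↥(centralizer ({z} : Set G)))⁻¹ = (q' : ↥(centralizer ({z} : Set G))) * d := by
      rw [hb, hq', Subgroup.coe_mul, Subgroup.coe_mul, MulAut.conjNormal_apply, Subgroup.coe_inv]
      group
    have hpt : c.pt q' + c.pt y0 = w := by
      rw [hq', c.pt_mul, c.pt_mul, ← c.act, hd.2, show c.pt y⁻¹ = c.pt y from (c.D.π_inv y).trans (c.F.W.neg_eq _)]
      calc c.pt y + c.pt q + r (c.pt y) + c.pt y0 = (r (c.pt y) + c.pt y) + (c.pt q + c.pt y0) := by abel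
        _ = i + (w + i) := by rw [hv, hsum]
        _ = w + (i + i) := by abel
        _ = w := by rw [c.F.dbl, add_zero]
    have hqR : ((q' * y0⁻¹ : ↥Q) : ↥(centralizer ({z} : Set G))) ∈ c.RC P.g := hWrep w hw _ (by
      rw [c.pt_mul, show c.pt y0⁻¹ = c.pt y0 from (c.D.π_inv y0).trans (c.F.W.neg_eq _)]; exact hpt)
    have hmem : (q' : ↥(centralizer ({z} : Set G))) * d ∈ c.RC P.g := by
      have h := mul_mem hqR hd0
      rw [hy0, Subgroup.coe_mul, Subgroup.coe_inv] at h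
      simpa [mul_assoc] using h
    obtain ⟨_, ⟨w', hw', rfl⟩, he'⟩ := c.mem_RC hmem
    refine ⟨⟨w', hw'⟩, isConj_iff.mpr ⟨P.g⁻¹ * ((y : ↥(centralizer ({z} : Set G))) : G), ?_⟩⟩
    have h1 := congrArg Subtype.val hconj
    simp only [Subgroup.coe_mul, Subgroup.coe_inv] at h1
    have h2 : P.g * (w' : G) * P.g⁻¹ = ((q' : ↥(centralizer ({z} : Set G))) * d : ↥(centralizer ({z} : Set G))) := he'
    rw [Subgroup.coe_mul] at h2
    show P.g⁻¹ * _ * (b : G) * (P.g⁻¹ * _)⁻¹ = (w' : G)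
    rw [← h2] at h1
    calc P.g⁻¹ * ((y : ↥(centralizer ({z} : Set G))) : G) * (b : G) * (P.g⁻¹ * ((y : ↥(centralizer ({z} : Set G))) : G))⁻¹
        = P.g⁻¹ * (((y : ↥(centralizer ({z} : Set G))) : G) * (b : G) * ((y : ↥(centralizer ({z} : Set G))) : G)⁻¹) * P.g := by group
      _ = _ := by rw [h1]; group
  obtain ⟨q, hq, hqf, hqq⟩ := hqpart a ha hrep
  obtain ⟨j, hj⟩ := P.singular_split hqf hqq
  -- rotate into the real case
  have hrot : ∀ (n : ℕ), (T.ξ ^ n) * a * (T.ξ ^ n)⁻¹ =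
      (((fun p => T.rot p)^[n] q : ↥Q) : ↥(centralizer ({z} : Set G))) * d ∧
      c.pt ((fun p => T.rot p)^[n] q) = c.F.sm (w4 ^ n) (c.pt q) := by
    intro n
    induction n with
    | zero => exact ⟨by simp [hq], by simp [c.F.sm_one]⟩
    | succ n ih =>
      obtain ⟨i1, i2⟩ := ih
      constructor
      · rw [Function.iterate_succ_apply', rot_val, pow_succ',
          show T.ξ * T.ξ ^ n * a * (T.ξ * T.ξ ^ n)⁻¹ = T.ξ * (T.ξ ^ n * a * (T.ξ ^ n)⁻¹) * T.ξ⁻¹ by group, i1]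
        calc T.ξ * ((((fun p => T.rot p)^[n] q : ↥Q) : ↥(centralizer ({z} : Set G))) * d) * T.ξ⁻¹
            = T.ξ * (((fun p => T.rot p)^[n] q : ↥Q) : ↥(centralizer ({z} : Set G))) * (d * T.ξ⁻¹) := by group
          _ = _ := by rw [(hd.1.inv_right).eq]; group
      · rw [Function.iterate_succ_apply', T.pt_rot, i2, pow_succ', ← c.F.sm_sm, c.F.sm_w, Ctx.LinePt.om_eq, c.Fρ]
        rfl
  obtain ⟨e1, e2⟩ := hrot j.val
  obtain ⟨y, hy⟩ := hreal _ _ e1 (by rw [e2]; exact hj)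
  refine ⟨y, IsConj.trans (isConj_iff.mpr ⟨((T.ξ ^ j.val : ↥(centralizer ({z} : Set G))) : G), ?_⟩) hy⟩
  simp [Subgroup.coe_mul]

/-- Every element of the largest elementary abelian subgroup is conjugate into the extraspecial subgroup. -/
theorem A_conj_Q {a : ↥(centralizer ({z} : Set G))} (ha : a ∈ A P) :
    ∃ y : ↥Q, IsConj (a : G) ((y : ↥(centralizer ({z} : Set G))) : G) := by
  by_cases h1 : Cfsg.Lib.LargeFischer.rep Q c.D a = 1
  · exact ⟨⟨a, c.rep_eq_one h1⟩, IsConj.refl _⟩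
  obtain ⟨g, hg, hge⟩ := P.conj_AB_std (show Cfsg.Lib.LargeFischer.rep Q c.D a ∈ P.AB from ha.1) h1
  obtain ⟨m, hm⟩ := hg
  set h := (m : ↥(centralizer ({z} : Set G))) with hh
  obtain ⟨y, hy⟩ := T.std_conj P (a := h⁻¹ * a * h)
    (by rw [show h⁻¹ * a * h * (h⁻¹ * a * h) = h⁻¹ * (a * a) * h by group, A_sq T P ha, mul_one, inv_mul_cancel])
    (by rw [map_mul, map_mul, map_inv, show Cfsg.Lib.LargeFischer.rep Q c.D h = g from hm, ← hge]; group)
  refine ⟨y, IsConj.trans (isConj_iff.mpr ⟨((h⁻¹ : ↥(centralizer ({z} : Set G))) : G), ?_⟩) hy⟩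
  simp [Subgroup.coe_mul]

end Ctx.Three

namespace Ctx.LinePt

variable {c : Ctx z Q} (P : c.LinePt)

include P in
/-- Involutions of `Q` not conjugate to the central one form one class. -/
theorem short_conj (hz : ∃ g : G, (∃ hq : g * z * g⁻¹ ∈ centralizer ({z} : Set G),
      (⟨g * z * g⁻¹, hq⟩ : centralizer ({z} : Set G)) ∈ Q) ∧ g * z * g⁻¹ ≠ z)
    {x y : ↥Q} (hx : orderOf ((x : ↥(centralizer ({z} : Set G))) : G) = 2) (hy : orderOf ((y : ↥(centralizer ({z} : Set G))) : G) = 2)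
    (hxn : ¬ IsConj z ((x : ↥(centralizer ({z} : Set G))) : G)) (hyn : ¬ IsConj z ((y : ↥(centralizer ({z} : Set G))) : G)) :
    IsConj ((x : ↥(centralizer ({z} : Set G))) : G) ((y : ↥(centralizer ({z} : Set G))) : G) := by
  rw [Subgroup.orderOf_coe] at hx hy
  have hxz : ((x : ↥(centralizer ({z} : Set G))) : G) ≠ z := fun e => hxn (by rw [e])
  have hyz : ((y : ↥(centralizer ({z} : Set G))) : G) ≠ z := fun e => hyn (by rw [e])
  have h1 : c.pt x ∈ c.F.orb c.F.v0 := by_contra fun h => hxn (c.big_conj hz hx hxz h)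
  have h2 : c.pt y ∈ c.F.orb c.F.v0 := by_contra fun h => hyn (c.big_conj hz hy hyz h)
  obtain ⟨g, hg⟩ := c.conj_of_orb (x := x) (y := y) (by rw [c.F.orb_eq h1]; exact h2) hxz
    (fun e => by rw [e, orderOf_one] at hx; norm_num at hx)
  exact isConj_iff.mpr ⟨(g : G), congrArg Subtype.val hg⟩

/-- A non-central involution of the fixed part. -/
theorem exists_short : ∃ y : ↥Q, (y : ↥(centralizer ({z} : Set G))) ∈ c.pre P.SA ∧
    orderOf ((y : ↥(centralizer ({z} : Set G))) : G) = 2 ∧ ¬ IsConj z ((y : ↥(centralizer ({z} : Set G))) : G) := by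
  classical
  set u := P.vec ![1, 1, 0, 0, 0, 0] with hu
  have hus : u ∈ P.SA := by simp only [P.mem_SA, hu, P.rc_vec]; exact ⟨rfl, rfl, rfl⟩
  have hq := P.SA_q hus
  have hsp : (c.F.sp u).card = 2 := by
    have e : c.F.dec (fun k => code4 (c.F.co k u)) = u := by rw [c.F.dec_code, c.F.mk6_co]
    rw [← e, c.F.sp_dec]
    have hs : supp6 (fun k => code4 (c.F.co k u)) = Finset.univ.filter fun k => (![1, 1, 0, 0, 0, 0] k : F4) ≠ 0 := by
      ext k
      rw [mem_supp6, Finset.mem_filter, ← P.rc_vec ![1, 1, 0, 0, 0, 0] k, rc, mul_ne_zero_iff,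
        show (none : Option (ZMod 3)) = code4 0 by decide +kernel, code4_bijective.1.ne_iff]
      simp [pow_ne_zero 2 (P.full k), hu]
    rw [hs]
    decide +kernel
  have hu0 : u ≠ 0 := fun e => by
    have h := P.rc_vec ![1, 1, 0, 0, 0, 0] 0
    rw [← hu, e, P.rc_zero] at h
    simp at h
  obtain ⟨y, hy, hy2, hyz⟩ := c.lift u hq hu0
  obtain ⟨s, t, -, hs2, ht2, hsz, htz, -, -, hns, h1701, -, -, hall, -⟩ := c.exists_points
  refine ⟨y, c.mem_pre.mpr ⟨y.2, by rw [show (⟨(y : ↥(centralizer ({z} : Set G))), y.2⟩ : ↥Q) = y from rfl, hy]; exact hus⟩,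
    by rw [Subgroup.orderOf_coe]; exact hy2, fun hconj => ?_⟩
  rcases hall u hq hu0 with h | h
  · obtain ⟨g, hg⟩ := c.conj_of_orb (x := s) (y := y) (hy ▸ h) hsz (fun e => by rw [e, orderOf_one] at hs2; norm_num at hs2)
    exact hns (hconj.trans (isConj_iff.mpr ⟨(g : G), congrArg Subtype.val hg⟩).symm)
  · refine c.F.zero_not_long ?_
    rw [← c.F.orb_eq ((c.F.orb_of_card hq).1 hsp), c.F.orb_eq h]
    exact h1701

end Ctx.LinePt

end Cfsg.Lib.LargeFischer
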