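import Mathlib

/-!
Weight decomposition of a group of exponent two under an elementary abelian group of order `243`.
-/

set_option autoImplicit false
set_option maxRecDepth 100000
set_option maxHeartbeats 1000000
set_option linter.unusedSectionVars false

namespace Cfsg.Lib.LargeFischer

open Matrix Finset

/-- The elementary abelian group. -/
abbrev C5 : Type := Fin 5 → ZMod 3

/-- Normalised functionals: the first non-zero coordinate is one. -/
def Norm5 (c : C5) : Prop :=
  c 0 = 1 ∨ (c 0 = 0 ∧ (c 1 = 1 ∨ (c 1 = 0 ∧ (c 2 = 1 ∨ (c 2 = 0 ∧ (c 3 = 1 ∨ (c 3 = 0 ∧ c 4 = 1)))))))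

instance : DecidablePred Norm5 := fun c => by unfold Norm5; infer_instance

theorem norm5_card : ∀ x : C5,
    ((univ.filter fun c : C5 => Norm5 c ∧ c ⬝ᵥ x = 0).card % 2 = if x = 0 then 1 else 0) := by
  decide +kernel

theorem norm5_card_all : (univ.filter fun c : C5 => Norm5 c).card % 2 = 1 := by decide +kernel

theorem norm5_cases : ∀ c : C5, c ≠ 0 → Norm5 c ∨ Norm5 (-c) := by decide +kernel

theorem norm5_ne : ∀ c d : C5, Norm5 c → Norm5 d → d ≠ -c := by
  intro c d hc hd e
  subst e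
  revert c
  decide +kernel

theorem norm5_zero : ¬ Norm5 0 := by decide

theorem exists_dot_one : ∀ c : C5, c ≠ 0 → ∃ a, c ⬝ᵥ a = 1 := by
  intro c hc
  obtain ⟨i, hi⟩ := Function.ne_iff.mp hc
  exact ⟨Pi.single i (c i)⁻¹, by rw [dotProduct_single, mul_inv_cancel₀ hi]⟩

theorem exists_split : ∀ c d : C5, c ≠ 0 → d ≠ 0 → d ≠ c → d ≠ -c → ∃ a, c ⬝ᵥ a = 0 ∧ d ⬝ᵥ a = 1 := by
  intro c d hc hd h1 h2
  obtain ⟨a, ha⟩ := exists_dot_one c hc
  set e := d - (d ⬝ᵥ a) • c with he
  have he0 : e ≠ 0 := by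
    intro h
    rw [he, sub_eq_zero] at h
    generalize d ⬝ᵥ a = r at h
    subst h
    rcases (show ∀ r : ZMod 3, r = 0 ∨ r = 1 ∨ r = -1 by decide) r with rfl | rfl | rfl
    · exact hd (zero_smul _ _)
    · exact h1 (one_smul _ _)
    · exact h2 (neg_one_smul _ _)
  obtain ⟨b, hb⟩ := exists_dot_one e he0
  refine ⟨b - (c ⬝ᵥ b) • a, ?_, ?_⟩
  · rw [dotProduct_sub, dotProduct_smul, ha, smul_eq_mul, mul_one, sub_self]
  · rw [← hb, he, dotProduct_sub, dotProduct_smul, sub_dotProduct, smul_dotProduct, smul_eq_mul,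
      smul_eq_mul, mul_comm]

/-- An action of the elementary abelian group on a group of exponent two. -/
structure WAct (V : Type*) [AddCommGroup V] where
  t : C5 → V →+ V
  t_zero : ∀ v, t 0 v = v
  t_comp : ∀ x y v, t (x + y) v = t x (t y v)
  dbl : ∀ v : V, v + v = 0

namespace WAct

variable {V : Type*} [AddCommGroup V] (W : WAct V)

include W in
theorem odd_smul {n : ℕ} (hn : n % 2 = 1) (v : V) : n • v = v := by
  obtain ⟨k, rfl⟩ := Nat.odd_iff.mpr hn
  rw [add_nsmul, mul_comm, mul_nsmul', two_nsmul, W.dbl, nsmul_zero, one_nsmul, zero_add]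

include W in
theorem even_smul {n : ℕ} (hn : n % 2 = 0) (v : V) : n • v = 0 := by
  obtain ⟨k, rfl⟩ := Nat.even_iff.mpr hn
  rw [add_nsmul, W.dbl]

include W in
theorem neg_eq (v : V) : -v = v := neg_eq_of_add_eq_zero_left (W.dbl v)

/-- Averaging over the kernel of a functional. -/
def avg (c : C5) : V →+ V := ∑ x ∈ univ.filter (fun x : C5 => c ⬝ᵥ x = 0), W.t x

theorem avg_apply (c : C5) (v : V) : W.avg c v = ∑ x ∈ univ.filter (fun x : C5 => c ⬝ᵥ x = 0), W.t x v :=
  AddMonoidHom.finsetSum_apply _ _ _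

/-- The weight projection. -/
def proj (c : C5) : V →+ V := W.avg c + W.avg 0

theorem proj_apply (c : C5) (v : V) : W.proj c v = W.avg c v + W.avg 0 v := rfl

theorem t_avg {c a : C5} (ha : c ⬝ᵥ a = 0) (v : V) : W.t a (W.avg c v) = W.avg c v := by
  rw [avg_apply, map_sum]
  simp_rw [← W.t_comp]
  refine sum_bij' (fun x _ => a + x) (fun x _ => x - a) ?_ ?_ ?_ ?_ ?_
  · intro x hx
    simp only [mem_filter, mem_univ, true_and] at hx ⊢
    rw [dotProduct_add, ha, hx, add_zero]
  · intro x hx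
    simp only [mem_filter, mem_univ, true_and] at hx ⊢
    rw [dotProduct_sub, ha, hx, sub_zero]
  · intros; abel
  · intros; abel
  · intros; rfl

theorem t_avg_zero (a : C5) (v : V) : W.t a (W.avg 0 v) = W.avg 0 v := W.t_avg (zero_dotProduct a) v

theorem card_fibre {d : C5} {K : Finset C5} {a : C5} (ha : d ⬝ᵥ a = 1) (hK : ∀ x ∈ K, ∀ s : ZMod 3, x + s • a ∈ K)
    (hodd : K.card % 2 = 1) (j : ZMod 3) : (K.filter fun x => d ⬝ᵥ x = j).card % 2 = 1 := by
  have hsame : ∀ i, (K.filter fun x => d ⬝ᵥ x = i).card = (K.filter fun x => d ⬝ᵥ x = j).card := fun i => by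
    refine card_bij' (fun x _ => x + (j - i) • a) (fun x _ => x + (i - j) • a) ?_ ?_ ?_ ?_
    · intro x hx
      obtain ⟨h1, h2⟩ := mem_filter.mp hx
      exact mem_filter.mpr ⟨hK x h1 _, by rw [dotProduct_add, dotProduct_smul, ha, h2, smul_eq_mul, mul_one, add_sub_cancel]⟩
    · intro x hx
      obtain ⟨h1, h2⟩ := mem_filter.mp hx
      exact mem_filter.mpr ⟨hK x h1 _, by rw [dotProduct_add, dotProduct_smul, ha, h2, smul_eq_mul, mul_one, add_sub_cancel]⟩
    · intro x _; simp [add_assoc, ← add_smul]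
    · intro x _; simp [add_assoc, ← add_smul]
  have h := card_eq_sum_card_fiberwise (f := fun x : C5 => d ⬝ᵥ x) (s := K) (t := univ) fun x _ => mem_univ _
  rw [sum_congr rfl fun i _ => hsame i, sum_const, card_univ, ZMod.card, smul_eq_mul] at h
  omega

theorem odd_ker {c : C5} : (univ.filter fun x : C5 => c ⬝ᵥ x = 0).card % 2 = 1 := by
  by_cases hc : c = 0
  · subst hc
    simp
  · obtain ⟨a, ha⟩ := exists_dot_one c hc
    exact card_fibre (K := univ) ha (fun _ _ _ => mem_univ _) (by simp) 0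

theorem avg_fixed {c : C5} {v : V} (h : ∀ x, c ⬝ᵥ x = 0 → W.t x v = v) : W.avg c v = v := by
  rw [avg_apply, sum_congr rfl fun x hx => h x (mem_filter.mp hx).2, sum_const, W.odd_smul odd_ker]

theorem avg_avg_self (c : C5) (v : V) : W.avg c (W.avg c v) = W.avg c v :=
  W.avg_fixed fun _ hx => W.t_avg hx v

theorem avg_avg_zero (c : C5) (v : V) : W.avg c (W.avg 0 v) = W.avg 0 v :=
  W.avg_fixed fun x _ => W.t_avg_zero x v

theorem avg_comm (c d : C5) (v : V) : W.avg c (W.avg d v) = W.avg d (W.avg c v) := by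
  simp only [avg_apply, map_sum]
  rw [sum_comm]
  refine sum_congr rfl fun x _ => sum_congr rfl fun y _ => ?_
  rw [← W.t_comp, ← W.t_comp, add_comm]

theorem avg_avg_ne {c d : C5} (hc : c ≠ 0) (hd : d ≠ 0) (h1 : d ≠ c) (h2 : d ≠ -c) (v : V) :
    W.avg c (W.avg d v) = W.avg 0 v := by
  obtain ⟨a, hca, hda⟩ := exists_split c d hc hd h1 h2
  set u := W.avg d v
  have hu : ∀ x, W.t x u = W.t ((d ⬝ᵥ x) • a) u := fun x => by
    conv_lhs => rw [show x = (d ⬝ᵥ x) • a + (x - (d ⬝ᵥ x) • a) by abel, W.t_comp,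
      W.t_avg (by rw [dotProduct_sub, dotProduct_smul, hda, smul_eq_mul, mul_one, sub_self]) v]
  have key : ∀ K : Finset C5, (∀ x ∈ K, ∀ s : ZMod 3, x + s • a ∈ K) → K.card % 2 = 1 →
      ∑ x ∈ K, W.t x u = ∑ j : ZMod 3, W.t (j • a) u := fun K hK hodd => by
    rw [← sum_fiberwise_of_maps_to (g := fun x : C5 => d ⬝ᵥ x) (t := univ) fun x _ => mem_univ _]
    refine sum_congr rfl fun j _ => ?_
    rw [sum_congr rfl fun x hx => (hu x).trans (by rw [(mem_filter.mp hx).2]), sum_const,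
      W.odd_smul (card_fibre hda hK hodd j)]
  rw [avg_apply, key _ (fun x hx s => ?_) odd_ker]
  · rw [← key univ (fun _ _ _ => mem_univ _) (by simp), ← W.avg_avg_zero d v, avg_comm, avg_apply _ 0]
    exact sum_congr (filter_true_of_mem fun x _ => zero_dotProduct x).symm fun _ _ => rfl
  · simp only [mem_filter, mem_univ, true_and] at hx ⊢
    rw [dotProduct_add, dotProduct_smul, hx, hca, smul_zero, add_zero]

theorem avg_zero_proj (c : C5) (v : V) : W.avg 0 (W.proj c v) = 0 := by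
  rw [proj_apply, map_add, W.avg_comm 0 c, W.avg_avg_zero, W.avg_avg_self, W.dbl]

theorem proj_proj_self (c : C5) (v : V) : W.proj c (W.proj c v) = W.proj c v := by
  conv_lhs => rw [proj_apply, avg_zero_proj, add_zero, proj_apply, map_add, avg_avg_self, avg_avg_zero]
  rfl

theorem proj_proj_ne {c d : C5} (hc : c ≠ 0) (hd : d ≠ 0) (h1 : d ≠ c) (h2 : d ≠ -c) (v : V) :
    W.proj c (W.proj d v) = 0 := by
  rw [proj_apply, avg_zero_proj, add_zero, proj_apply, map_add, W.avg_avg_ne hc hd h1 h2,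
    W.avg_avg_zero, W.dbl]

theorem proj_proj_norm {c d : C5} (hc : Norm5 c) (hd : Norm5 d) (h : d ≠ c) (v : V) :
    W.proj c (W.proj d v) = 0 :=
  W.proj_proj_ne (fun e => norm5_zero (e ▸ hc)) (fun e => norm5_zero (e ▸ hd)) h (norm5_ne c d hc hd) v

theorem proj_neg (c : C5) : W.proj (-c) = W.proj c := by
  unfold proj avg
  congr 1
  exact sum_congr (by ext x; simp) fun _ _ => rfl

/-- The decomposition into weights. -/
theorem decompose (v : V) :
    W.avg 0 v + ∑ c ∈ univ.filter Norm5, W.proj c v = v := by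
  have e0 : W.avg 0 v = ∑ x : C5, W.t x v := by
    rw [avg_apply]
    exact sum_congr (filter_true_of_mem fun x _ => zero_dotProduct x) fun _ _ => rfl
  simp only [proj_apply]
  rw [sum_add_distrib, sum_const, W.odd_smul norm5_card_all]
  simp only [avg_apply W (c := _)] at *
  rw [← add_assoc, add_comm, ← add_assoc, e0, ← e0, W.dbl, zero_add]
  rw [sum_comm' (t' := univ) (s' := fun x => univ.filter fun c : C5 => Norm5 c ∧ c ⬝ᵥ x = 0)
    (h := fun c x => by simp)]
  simp only [sum_const]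
  rw [sum_eq_single (0 : C5)]
  · rw [W.t_zero, W.odd_smul]
    simpa using norm5_card 0
  · intro x _ hx
    exact W.even_smul (by simpa [hx] using norm5_card x) _
  · simp

/-- The weight space. -/
def space (c : C5) : AddSubgroup V := (W.proj c).range

theorem proj_mem {c : C5} {w : V} (h : w ∈ W.space c) : W.proj c w = w := by
  obtain ⟨v, rfl⟩ := h
  exact W.proj_proj_self c v

theorem t_space {c x : C5} (hx : c ⬝ᵥ x = 0) {w : V} (h : w ∈ W.space c) : W.t x w = w := by
  obtain ⟨v, rfl⟩ := h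
  rw [proj_apply, map_add, W.t_avg hx, W.t_avg_zero]

theorem t_space_eq {c a : C5} (ha : c ⬝ᵥ a = 1) (x : C5) {w : V} (h : w ∈ W.space c) :
    W.t x w = W.t ((c ⬝ᵥ x) • a) w := by
  conv_lhs => rw [show x = (c ⬝ᵥ x) • a + (x - (c ⬝ᵥ x) • a) by abel, W.t_comp,
    W.t_space (by rw [dotProduct_sub, dotProduct_smul, ha, smul_eq_mul, mul_one, sub_self]) h]

theorem t_proj (c x : C5) (v : V) : W.t x (W.proj c v) = W.proj c (W.t x v) := by
  simp only [proj_apply, map_add, avg_apply, map_sum, ← W.t_comp, add_comm x]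

theorem space_stable {c : C5} (x : C5) {w : V} (h : w ∈ W.space c) : W.t x w ∈ W.space c := by
  obtain ⟨v, rfl⟩ := h
  exact ⟨W.t x v, (W.t_proj c x v).symm⟩

theorem fixed_space {c a : C5} (ha : c ⬝ᵥ a = 1) {w : V} (h : w ∈ W.space c) (hw : W.t a w = w) : w = 0 := by
  have hj : ∀ j : ZMod 3, W.t (j • a) w = w := by
    intro j
    fin_cases j
    · exact (congrArg (fun y => W.t y w) (zero_smul (ZMod 3) a)).trans (W.t_zero w)
    · exact (congrArg (fun y => W.t y w) (one_smul (ZMod 3) a)).trans hw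
    · refine (congrArg (fun y => W.t y w) (show ((2 : ZMod 3)) • a = a + a by rw [← one_add_one_eq_two, add_smul, one_smul])).trans ?_
      rw [W.t_comp, hw, hw]
  have h0 : W.avg 0 w = w := W.avg_fixed fun x _ => by rw [W.t_space_eq ha x h, hj]
  rw [← W.proj_mem h] at h0
  rw [← W.proj_mem h, ← h0, avg_zero_proj]

theorem four_le [Finite V] {c : C5} (hc : c ≠ 0) (hne : W.space c ≠ ⊥) : 4 ≤ Nat.card (W.space c) := by
  obtain ⟨a, ha⟩ := exists_dot_one c hc
  obtain ⟨⟨w, hw⟩, hw0'⟩ := AddSubgroup.ne_bot_iff_exists_ne_zero.mp hne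
  have hw0 : w ≠ 0 := fun e => hw0' (Subtype.ext e)
  let f : Fin 4 → W.space c := ![0, ⟨w, hw⟩, ⟨W.t a w, W.space_stable a hw⟩, ⟨W.t a (W.t a w), W.space_stable a (W.space_stable a hw)⟩]
  have hta : ∀ u ∈ W.space c, u ≠ 0 → W.t a u ≠ u ∧ W.t a u ≠ 0 := fun u hu hu0 => by
    refine ⟨fun e => hu0 (W.fixed_space ha hu e), fun e => hu0 ?_⟩
    rw [← W.t_zero u, ← neg_add_cancel a, W.t_comp, e, map_zero]
  obtain ⟨h1, h2⟩ := hta w hw hw0
  obtain ⟨h3, h4⟩ := hta _ (W.space_stable a hw) h2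
  have h5 : W.t a (W.t a w) ≠ w := fun e => h1 (by
    have e2 := congrArg (W.t a) e
    rw [← W.t_comp, ← W.t_comp, show a + a + a = (0 : C5) from funext fun i => by
      generalize hr : a i = r
      simp only [Pi.add_apply, hr, Pi.zero_apply]
      clear hr; revert r; decide, W.t_zero] at e2
    exact e2.symm)
  refine le_trans (by simp) (Nat.card_le_card_of_injective f ?_)
  intro i j e
  have e' := congrArg Subtype.val e
  fin_cases i <;> fin_cases j <;> simp [f] at e' <;>
    first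
      | rfl
      | exact absurd e' hw0 | exact absurd e'.symm hw0 | exact absurd e' h1 | exact absurd e'.symm h1
      | exact absurd e' h2 | exact absurd e'.symm h2 | exact absurd e' h3 | exact absurd e'.symm h3
      | exact absurd e' h4 | exact absurd e'.symm h4 | exact absurd e' h5 | exact absurd e'.symm h5

/-- The map to a product of distinct weight spaces. -/
def toPi {ι : Type*} (cs : ι → C5) : V →+ ((i : ι) → W.space (cs i)) :=
  AddMonoidHom.mk' (fun v i => ⟨W.proj (cs i) v, ⟨v, rfl⟩⟩) fun u v => funext fun i => Subtype.ext (map_add _ u v)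

theorem toPi_surjective {ι : Type*} [Fintype ι] {cs : ι → C5} (h0 : ∀ i, cs i ≠ 0)
    (hsep : ∀ i j, i ≠ j → cs j ≠ cs i ∧ cs j ≠ -cs i) : Function.Surjective (W.toPi cs) := fun w => by
  refine ⟨∑ i, (w i).1, funext fun i => Subtype.ext ?_⟩
  show W.proj (cs i) (∑ j, (w j).1) = _
  rw [map_sum, sum_eq_single i]
  · exact W.proj_mem (w i).2
  · intro j _ hj
    rw [← W.proj_mem (w j).2]
    exact W.proj_proj_ne (h0 i) (h0 j) (hsep i j hj.symm).1 (hsep i j hj.symm).2 _
  · simp

theorem count [Finite V] {ι : Type*} [Fintype ι] {cs : ι → C5} (h0 : ∀ i, cs i ≠ 0)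
    (hsep : ∀ i j, i ≠ j → cs j ≠ cs i ∧ cs j ≠ -cs i) (hne : ∀ i, W.space (cs i) ≠ ⊥) :
    4 ^ Fintype.card ι ≤ Nat.card V := by
  refine le_trans ?_ (Nat.card_le_card_of_surjective _ (W.toPi_surjective h0 hsep))
  rw [Nat.card_pi, ← card_univ, ← prod_const]
  exact prod_le_prod' fun i _ => W.four_le (h0 i) (hne i)

end WAct

end Cfsg.Lib.LargeFischer
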