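import Cfsg.Agent.LargeFischer.Model
import Cfsg.Agent.LargeFischer.Weights

/-!
The preimage of the Siegel radical in a central extension with kernel of order three.
-/

set_option autoImplicit false
set_option maxRecDepth 100000
set_option maxHeartbeats 1000000
set_option linter.unusedSectionVars false
set_option linter.style.haveILetI false

namespace Cfsg.Lib.LargeFischer

open Matrix
open scoped commutatorElement
open Cfsg.Lib.UFourThreeCover (K)

universe u w

variable {X : Type u} [Group X] {S : Type w} [Group S]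

/-- Powers with exponents modulo three. -/
def pw3 (x : X) (i : ZMod 3) : X := x ^ i.val

theorem pw3_add {x : X} (hx : x ^ 3 = 1) (i j : ZMod 3) : pw3 x (i + j) = pw3 x i * pw3 x j := by
  simp only [pw3, ← pow_add, ZMod.val_add]
  exact (pow_eq_pow_mod _ hx).symm

theorem pw3_zero (x : X) : pw3 x 0 = 1 := pow_zero x

theorem pw3_one (x : X) : pw3 x 1 = x := pow_one x

theorem dot_tail (d : A4) (x : C5) : d ⬝ᵥ (fun i => x i.succ) = Matrix.vecCons 0 d ⬝ᵥ x := by
  simp [dotProduct, Fin.sum_univ_succ]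

theorem comm_central {c d : X} (hc : ∀ g, g * c = c * g) (hd : ∀ g, g * d = d * g) (u v : X) :
    ⁅c * u, d * v⁆ = ⁅u, v⁆ := by
  rw [commutatorElement_def, commutatorElement_def]
  calc c * u * (d * v) * (c * u)⁻¹ * (d * v)⁻¹ = c * (u * d) * (v * u⁻¹) * c⁻¹ * v⁻¹ * d⁻¹ := by group
    _ = d * (u * v * u⁻¹) * c * c⁻¹ * v⁻¹ * d⁻¹ := by
      rw [hd u, ← mul_assoc c d u, hd c, mul_assoc (d * c) u, mul_assoc d c, ← hc, ← mul_assoc d]
      group
    _ = d * (u * v * u⁻¹ * v⁻¹) * d⁻¹ := by group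
    _ = _ := by rw [← hd, mul_inv_cancel_right]

/-- A central extension of `S` by a group of order three together with radical data. -/
structure CentralThree (X : Type u) [Group X] (S : Type w) [Group S] where
  ψ : X →* S
  surj : Function.Surjective ψ
  card : Nat.card ψ.ker = 3
  central : ψ.ker ≤ Subgroup.center X
  R : Radical S

namespace CentralThree

variable (E : CentralThree X S)

theorem exists_gen : ∃ ω : X, ω ∈ E.ψ.ker ∧ ω ≠ 1 ∧ ω ^ 3 = 1 ∧ ∀ k ∈ E.ψ.ker, ∃ j, k = pw3 ω j := by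
  haveI : Finite E.ψ.ker := Nat.finite_of_card_ne_zero (by rw [E.card]; decide)
  haveI : Fact (Nat.Prime 3) := ⟨by norm_num⟩
  haveI : Nontrivial E.ψ.ker := Finite.one_lt_card_iff_nontrivial.mp (by rw [E.card]; decide)
  obtain ⟨⟨ω, hω⟩, hne⟩ := exists_ne (1 : E.ψ.ker)
  have hne' : ω ≠ 1 := fun e => hne (Subtype.ext e)
  have h3 : ω ^ 3 = 1 := by
    have h := pow_card_eq_one' (x := (⟨ω, hω⟩ : E.ψ.ker))
    rw [E.card] at h
    exact congrArg Subtype.val h
  refine ⟨ω, hω, hne', h3, fun k hk => ?_⟩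
  obtain ⟨n, hn⟩ := Submonoid.mem_powers_iff _ _ |>.mp
    (mem_powers_iff_mem_zpowers.mpr (mem_zpowers_of_prime_card E.card hne (g' := ⟨k, hk⟩)))
  refine ⟨(n : ZMod 3), ?_⟩
  rw [pw3, ZMod.val_natCast, ← pow_eq_pow_mod _ h3]
  exact (congrArg Subtype.val hn).symm

/-- The generator of the kernel. -/
noncomputable def ω : X := E.exists_gen.choose

theorem ω_mem : E.ω ∈ E.ψ.ker := E.exists_gen.choose_spec.1
theorem ω_ne : E.ω ≠ 1 := E.exists_gen.choose_spec.2.1
theorem ω_three : E.ω ^ 3 = 1 := E.exists_gen.choose_spec.2.2.1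
theorem ω_onto {k : X} (hk : E.ψ k = 1) : ∃ j, k = pw3 E.ω j := E.exists_gen.choose_spec.2.2.2 k hk

theorem pw_comm (j : ZMod 3) (g : X) : g * pw3 E.ω j = pw3 E.ω j * g :=
  Subgroup.mem_center_iff.mp (E.central (pow_mem E.ω_mem _)) g

theorem pw_ψ (j : ZMod 3) : E.ψ (pw3 E.ω j) = 1 := MonoidHom.mem_ker.mp (pow_mem E.ω_mem _)

theorem pw_inj {i j : ZMod 3} (h : pw3 E.ω i = pw3 E.ω j) : i = j := by
  have h0 : ∀ k : ZMod 3, pw3 E.ω k = 1 → k = 0 := by
    intro k hk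
    haveI : Fact (Nat.Prime 3) := ⟨by norm_num⟩
    have ho := orderOf_eq_prime E.ω_three E.ω_ne
    refine (ZMod.val_eq_zero k).mp (Nat.eq_zero_of_dvd_of_lt (orderOf_dvd_of_pow_eq_one hk) ?_)
    rw [ho]; exact k.val_lt
  rw [← sub_eq_zero]
  refine h0 _ ?_
  have e := pw3_add E.ω_three (i - j) j
  rw [sub_add_cancel, h] at e
  simpa using e

/-- A chosen lift of a radical element. -/
noncomputable def s (x : A4) : X := (E.surj (E.R.a x)).choose

theorem ψ_s (x : A4) : E.ψ (E.s x) = E.R.a x := (E.surj (E.R.a x)).choose_spec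

theorem a_zero : E.R.a 0 = 1 := by
  have h := E.R.a_add 0 0
  rw [add_zero] at h
  simpa using h

theorem a_comm (x y : A4) : E.R.a x * E.R.a y = E.R.a y * E.R.a x := by
  rw [← E.R.a_add, ← E.R.a_add, add_comm]

theorem fibre {g h : X} (e : E.ψ g = E.ψ h) : ∃ j, g = pw3 E.ω j * h := by
  obtain ⟨j, hj⟩ := E.ω_onto (k := g * h⁻¹) (by rw [map_mul, map_inv, e, mul_inv_cancel])
  exact ⟨j, by rw [← hj]; group⟩

theorem exists_b (x y : A4) : ∃ j, ⁅E.s x, E.s y⁆ = pw3 E.ω j :=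
  E.ω_onto (by rw [map_commutatorElement, ψ_s, ψ_s, commutatorElement_eq_one_iff_mul_comm, a_comm])

/-- The commutator pairing. -/
noncomputable def b (x y : A4) : ZMod 3 := (E.exists_b x y).choose

theorem b_spec {x y : A4} {g h : X} (hg : E.ψ g = E.R.a x) (hh : E.ψ h = E.R.a y) :
    ⁅g, h⁆ = pw3 E.ω (E.b x y) := by
  obtain ⟨i, rfl⟩ := E.fibre (hg.trans (E.ψ_s x).symm)
  obtain ⟨j, rfl⟩ := E.fibre (hh.trans (E.ψ_s y).symm)
  rw [comm_central (E.pw_comm i) (E.pw_comm j)]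
  exact (E.exists_b x y).choose_spec

theorem b_add_left (x y v : A4) : E.b (x + y) v = E.b x v + E.b y v := by
  refine E.pw_inj ?_
  have hxy : E.ψ (E.s x * E.s y) = E.R.a (x + y) := by rw [map_mul, ψ_s, ψ_s, E.R.a_add]
  rw [← E.b_spec hxy (E.ψ_s v), pw3_add E.ω_three,
    show ⁅E.s x * E.s y, E.s v⁆ = E.s x * ⁅E.s y, E.s v⁆ * (E.s x)⁻¹ * ⁅E.s x, E.s v⁆ by
      simp only [commutatorElement_def]; group,
    E.b_spec (E.ψ_s y) (E.ψ_s v), E.pw_comm, mul_inv_cancel_right, E.b_spec (E.ψ_s x) (E.ψ_s v), E.pw_comm]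

theorem b_swap (x y : A4) : E.b y x = - E.b x y := by
  refine eq_neg_of_add_eq_zero_left (E.pw_inj ?_)
  rw [pw3_add E.ω_three, ← E.b_spec (E.ψ_s x) (E.ψ_s y), ← E.b_spec (E.ψ_s y) (E.ψ_s x), pw3_zero,
    ← commutatorElement_inv (E.s x) (E.s y), inv_mul_cancel]

theorem b_self (x : A4) : E.b x x = 0 :=
  E.pw_inj (by rw [← E.b_spec (E.ψ_s x) (E.ψ_s x), pw3_zero, commutatorElement_self])

theorem b_act (g : Matrix.SpecialLinearGroup (Fin 2) K) (x y : A4) : E.b (act g.1 x) (act g.1 y) = E.b x y := by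
  obtain ⟨n, hn⟩ := E.surj (E.R.l g)
  refine E.pw_inj ?_
  have hc : ∀ x, E.ψ (n * E.s x * n⁻¹) = E.R.a (act g.1 x) := fun x => by
    rw [map_mul, map_mul, map_inv, hn, ψ_s, E.R.conj]
  rw [← E.b_spec (hc x) (hc y), ← conjugate_commutatorElement, E.b_spec (E.ψ_s x) (E.ψ_s y), E.pw_comm,
    mul_inv_cancel_right]

theorem b_alt (x y : A4) :
    E.b x y = altForm ![E.b (Pi.single 0 1) (Pi.single 1 1), E.b (Pi.single 0 1) (Pi.single 2 1),
      E.b (Pi.single 0 1) (Pi.single 3 1), E.b (Pi.single 1 1) (Pi.single 2 1),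
      E.b (Pi.single 1 1) (Pi.single 3 1), E.b (Pi.single 2 1) (Pi.single 3 1)] x y := by
  have hl : ∀ (x v : A4), E.b x v = ∑ i, x i * E.b (Pi.single i 1) v := fun x v => by
    let f : A4 →+ ZMod 3 := AddMonoidHom.mk' (fun y => E.b y v) fun a b => E.b_add_left a b v
    show f x = _
    conv_lhs => rw [pi_eq_sum_univ' x]
    rw [map_sum]
    exact Finset.sum_congr rfl fun i _ => map_smul (f.toZModLinearMap 3) (x i) _
  have hr : ∀ (v y : A4), E.b v y = ∑ j, y j * E.b v (Pi.single j 1) := fun v y => by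
    rw [E.b_swap y v, hl y v, ← Finset.sum_neg_distrib]
    exact Finset.sum_congr rfl fun j _ => by rw [E.b_swap (Pi.single j 1) v, mul_neg]
  rw [hl x y]
  simp only [hr _ y, Fin.sum_univ_four]
  have e10 := E.b_swap (Pi.single 0 1) (Pi.single 1 1)
  have e20 := E.b_swap (Pi.single 0 1) (Pi.single 2 1)
  have e30 := E.b_swap (Pi.single 0 1) (Pi.single 3 1)
  have e21 := E.b_swap (Pi.single 1 1) (Pi.single 2 1)
  have e31 := E.b_swap (Pi.single 1 1) (Pi.single 3 1)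
  have e32 := E.b_swap (Pi.single 2 1) (Pi.single 3 1)
  simp only [E.b_self, e10, e20, e30, e21, e31, e32, altForm]
  simp only [Matrix.cons_val]
  ring

theorem b_zero (x y : A4) : E.b x y = 0 := by
  have hc := alt_invariant _ fun k i j => by
    rw [← E.b_alt, ← E.b_alt]
    exact E.b_act ⟨two k, two_det k⟩ _ _
  rw [E.b_alt, hc]
  simp [altForm]

theorem comm_of_rad {g h : X} {x y : A4} (hg : E.ψ g = E.R.a x) (hh : E.ψ h = E.R.a y) : Commute g h :=
  commutatorElement_eq_one_iff_mul_comm.mp (by rw [E.b_spec hg hh, b_zero, pw3_zero])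

theorem exists_cube (x : A4) : ∃ j, E.s x ^ 3 = pw3 E.ω j := by
  refine E.ω_onto ?_
  rw [map_pow, ψ_s, pow_succ, pow_two, ← E.R.a_add, ← E.R.a_add,
    show x + x + x = 0 from funext fun i => by
      show x i + x i + x i = 0
      generalize x i = r
      revert r; decide, a_zero]

theorem cube_rad {g : X} {x : A4} (hg : E.ψ g = E.R.a x) : g ^ 3 = 1 := by
  let κ : A4 → ZMod 3 := fun x => (E.exists_cube x).choose
  have hκ : ∀ {g : X} {x : A4}, E.ψ g = E.R.a x → g ^ 3 = pw3 E.ω (κ x) := by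
    intro g x hg
    obtain ⟨i, rfl⟩ := E.fibre (hg.trans (E.ψ_s x).symm)
    have hc : Commute (pw3 E.ω i) (E.s x) := (E.pw_comm i (E.s x)).symm
    rw [hc.mul_pow, show pw3 E.ω i ^ 3 = 1 by rw [pw3, ← pow_mul, mul_comm, pow_mul, E.ω_three, one_pow],
      one_mul]
    exact (E.exists_cube x).choose_spec
  let f : A4 →+ ZMod 3 := AddMonoidHom.mk' κ fun x y => by
    refine E.pw_inj ?_
    rw [pw3_add E.ω_three, ← hκ (g := E.s x * E.s y) (by rw [map_mul, ψ_s, ψ_s, E.R.a_add]), ← hκ (E.ψ_s x),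
      ← hκ (E.ψ_s y), (E.comm_of_rad (E.ψ_s x) (E.ψ_s y)).mul_pow]
  let c : A4 := fun i => f (Pi.single i 1)
  have hfc : ∀ x, f x = c ⬝ᵥ x := fun x => by
    conv_lhs => rw [pi_eq_sum_univ' x]
    rw [map_sum]
    exact Finset.sum_congr rfl fun i _ => (map_smul (f.toZModLinearMap 3) (x i) _).trans (mul_comm _ _)
  have hinv : ∀ (g : Matrix.SpecialLinearGroup (Fin 2) K), tact g.1 c = c := fun g => by
    funext i
    rw [show tact g.1 c i = c ⬝ᵥ act g.1 (Pi.single i 1) from rfl, ← hfc]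
    obtain ⟨n, hn⟩ := E.surj (E.R.l g)
    refine E.pw_inj ?_
    show pw3 E.ω (κ _) = pw3 E.ω (κ _)
    rw [← hκ (g := n * E.s (Pi.single i 1) * n⁻¹) (by rw [map_mul, map_mul, map_inv, hn, ψ_s, E.R.conj]),
      conj_pow, hκ (E.ψ_s _), E.pw_comm, mul_inv_cancel_right]
  have hc : c = 0 := by
    by_contra hne
    exact (tact_seven c hne 0 1 (by decide)).1
      ((hinv ⟨seven 0, seven_det 0⟩).trans (hinv ⟨seven 1, seven_det 1⟩).symm)
  rw [hκ hg, show κ x = 0 from (hfc x).trans (by rw [hc, zero_dotProduct]), pw3_zero]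

/-- The lift of the radical. -/
noncomputable def α (x : C5) : X :=
  pw3 E.ω (x 0) * (pw3 (E.s (Pi.single 0 1)) (x 1) * (pw3 (E.s (Pi.single 1 1)) (x 2) *
    (pw3 (E.s (Pi.single 2 1)) (x 3) * pw3 (E.s (Pi.single 3 1)) (x 4))))

theorem α_add (x y : C5) : E.α (x + y) = E.α x * E.α y := by
  have hc : ∀ i j, Commute (E.s (Pi.single i 1)) (E.s (Pi.single j 1)) := fun i j =>
    E.comm_of_rad (E.ψ_s _) (E.ψ_s _)
  have h3 : ∀ i, E.s (Pi.single i 1) ^ 3 = 1 := fun i => E.cube_rad (E.ψ_s _)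
  have hp : ∀ i j a b, Commute (pw3 (E.s (Pi.single i 1)) a) (pw3 (E.s (Pi.single j 1)) b) := fun i j a b =>
    (hc i j).pow_pow _ _
  simp only [α, Pi.add_apply, pw3_add E.ω_three, pw3_add (h3 _)]
  rw [(hp 2 3 (y 3) (x 4)).mul_mul_mul_comm, ((hp 1 2 (y 2) (x 3)).mul_right (hp 1 3 (y 2) (x 4))).mul_mul_mul_comm,
    ((hp 0 1 (y 1) (x 2)).mul_right ((hp 0 2 (y 1) (x 3)).mul_right (hp 0 3 (y 1) (x 4)))).mul_mul_mul_comm,
    Commute.mul_mul_mul_comm ((E.pw_comm (y 0) _).symm)]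

theorem ψ_α (x : C5) : E.ψ (E.α x) = E.R.a (fun i => x i.succ) := by
  let f : A4 →+ Additive S := AddMonoidHom.mk' (fun v => Additive.ofMul (E.R.a v)) fun v w => by rw [E.R.a_add]; rfl
  have hs : ∀ i j, E.ψ (pw3 (E.s (Pi.single i 1)) j) = E.R.a (j • Pi.single i 1) := fun i j => by
    rw [pw3, map_pow, ψ_s, ← ZMod.natCast_zmod_val j, ZMod.val_natCast, Nat.mod_eq_of_lt j.val_lt,
      Nat.cast_smul_eq_nsmul]
    exact (congrArg Additive.toMul (map_nsmul f _ _)).symm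
  simp only [α, map_mul, pw_ψ, one_mul, hs, ← E.R.a_add]
  congr 1
  funext i
  fin_cases i <;> simp

theorem α_injective : Function.Injective E.α := by
  intro x y h
  have h1 : (fun i => x i.succ : A4) = fun i => y i.succ := E.R.a_inj (by rw [← ψ_α, ← ψ_α, h])
  funext i
  refine Fin.cases ?_ (fun j => congrFun h1 j) i
  refine E.pw_inj ?_
  have e1 : x 1 = y 1 := congrFun h1 0
  have e2 : x 2 = y 2 := congrFun h1 1
  have e3 : x 3 = y 3 := congrFun h1 2
  have e4 : x 4 = y 4 := congrFun h1 3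
  rw [α, α, e1, e2, e3, e4] at h
  exact mul_right_cancel h

theorem α_zero : E.α 0 = 1 := by
  have h := E.α_add 0 0
  rw [add_zero] at h
  simpa using h

theorem α_e (j : ZMod 3) : E.α (Pi.single 0 j) = pw3 E.ω j := by
  simp [α, pw3_zero]

theorem α_onto {g : X} {x : A4} (hg : E.ψ g = E.R.a x) : ∃ z, E.α z = g ∧ (fun i => z i.succ) = x := by
  have h0 : E.ψ (E.α (Matrix.vecCons 0 x)) = E.R.a x := by rw [ψ_α]; rfl
  obtain ⟨j, hj⟩ := E.fibre (hg.trans h0.symm)
  refine ⟨Pi.single 0 j + Matrix.vecCons 0 x, by rw [α_add, α_e, ← hj], funext fun i => ?_⟩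
  simp

/-- Conjugation by a preimage of a Levi element. -/
theorem α_conj {g : X} {h : Matrix.SpecialLinearGroup (Fin 2) K} (hg : E.ψ g = E.R.l h) (x : C5) :
    ∃ y, g * E.α x * g⁻¹ = E.α y ∧ (fun i => y i.succ) = act h.1 (fun i => x i.succ) := by
  obtain ⟨y, h1, h2⟩ := E.α_onto (g := g * E.α x * g⁻¹) (x := act h.1 fun i => x i.succ)
    (by rw [map_mul, map_mul, map_inv, hg, ψ_α, E.R.conj])
  exact ⟨y, h1.symm, h2⟩

end CentralThree

end Cfsg.Lib.LargeFischer
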