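import Cfsg.Agent.LargeFischer.LineQuotient
import Cfsg.Agent.LargeFischer.PlaneInstance

/-!
A four-group above a short line whose centralizer moves the central involution to a commuting conjugate.
-/

set_option autoImplicit false
set_option maxRecDepth 100000
set_option maxHeartbeats 1000000
set_option linter.unusedSectionVars false
set_option linter.style.haveILetI false

namespace Cfsg.Lib.LargeFischer

open Subgroup
open scoped Pointwise

universe u

variable {G : Type u} [Group G] [Finite G]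

namespace Sextet

variable {z : G} (D : Sextet G z)

/-- The normaliser moves the central involution while fixing two adjacent members of the second class, unless the
fixing subgroup is large. -/
theorem pair_stab_card {x y : G} (hx : x ∈ D.T) (hy : y ∈ D.T) (hxy : x * y ∈ D.T) :
    Nat.card ↥(normalizer (D.A : Set G)) ≤
      12144 * Nat.card ↥(normalizer (D.A : Set G) ⊓ (centralizer ({x} : Set G) ⊓ centralizer ({y} : Set G))) := by
  classical
  haveI := Fintype.ofFinite G
  set N := normalizer (D.A : Set G) with hN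
  let Ω : Type u := {p : G × G // p.1 ∈ D.T ∧ p.2 ∈ D.T ∧ p.1 * p.2 ∈ D.T}
  let act : ↥N → Ω → Ω := fun g p => ⟨((g : G) * p.1.1 * (g : G)⁻¹, (g : G) * p.1.2 * (g : G)⁻¹),
    D.conj_T g.2 p.2.1, D.conj_T g.2 p.2.2.1, by rw [← mul_conj]; exact D.conj_T g.2 p.2.2.2⟩
  letI : MulAction ↥N Ω :=
    { smul := act
      one_smul := fun p => Subtype.ext (by
        show (((1 : ↥N) : G) * p.1.1 * _, _) = p.1
        simp)
      mul_smul := fun g h p => Subtype.ext (by
        show (((g * h : ↥N) : G) * p.1.1 * ((g * h : ↥N) : G)⁻¹, ((g * h : ↥N) : G) * p.1.2 * ((g * h : ↥N) : G)⁻¹) =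
          ((g : G) * ((h : G) * p.1.1 * (h : G)⁻¹) * (g : G)⁻¹, (g : G) * ((h : G) * p.1.2 * (h : G)⁻¹) * (g : G)⁻¹)
        rw [Subgroup.coe_mul]
        exact Prod.ext (by group) (by group)) }
  let p0 : Ω := ⟨(x, y), hx, hy, hxy⟩
  have hst : MulAction.stabilizer ↥N p0 = (N ⊓ (centralizer ({x} : Set G) ⊓ centralizer ({y} : Set G))).subgroupOf N := by
    ext g
    rw [MulAction.mem_stabilizer_iff, Subtype.ext_iff, Prod.ext_iff, mem_subgroupOf, mem_inf, mem_inf,
      mem_centralizer_singleton_iff, mem_centralizer_singleton_iff]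
    show ((g : G) * x * (g : G)⁻¹ = x ∧ (g : G) * y * (g : G)⁻¹ = y) ↔ _
    rw [mul_inv_eq_iff_eq_mul, mul_inv_eq_iff_eq_mul]
    exact ⟨fun h => ⟨g.2, h⟩, fun h => h.2⟩
  have horb : Nat.card (MulAction.orbit ↥N p0) ≤ 12144 := by
    let S : Finset (G × G) := Finset.univ.filter fun p => p.1 ∈ D.T ∧ p.2 ∈ D.T ∧ p.1 * p.2 ∈ D.T
    have hS : S.card ≤ 12144 := by
      have hmaps : ∀ p ∈ S, p.1 ∈ D.T.toFinset := fun p hp => by
        simp only [S, Finset.mem_filter, Finset.mem_univ, true_and] at hp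
        exact Set.mem_toFinset.mpr hp.1
      rw [Finset.card_eq_sum_card_fiberwise hmaps]
      refine le_trans (Finset.sum_le_card_nsmul _ _ 44 fun t ht => ?_) ?_
      · rw [Set.mem_toFinset] at ht
        refine le_of_le_of_eq (Finset.card_le_card_of_injOn (t := {u : G | u ∈ D.T ∧ t * u ∈ D.T}.toFinset) Prod.snd
          (fun p hp => ?_) (fun p hp q hq e => ?_)) (by rw [← Set.ncard_eq_toFinset_card', D.valency ht])
        · simp only [S, Finset.coe_filter, Finset.mem_filter, Finset.mem_univ, true_and, Set.mem_setOf_eq] at hp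
          simp only [Set.coe_toFinset, Set.mem_setOf_eq]
          exact ⟨hp.1.2.1, hp.2 ▸ hp.1.2.2⟩
        · simp only [Finset.coe_filter, Finset.mem_filter, Set.mem_setOf_eq] at hp hq
          exact Prod.ext (hp.2.trans hq.2.symm) e
      · rw [← Set.ncard_eq_toFinset_card', D.counts.1, smul_eq_mul]
    refine (Finite.card_subtype_le _).trans ?_
    refine le_trans (Nat.card_le_card_of_injective (fun p : Ω => (⟨p.1, ?_⟩ : ↥S)) fun p q e => Subtype.ext
      (congrArg (fun r : ↥S => (r : G × G)) e)) (by rw [Nat.card_eq_fintype_card, Fintype.card_coe]; exact hS)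
    simp only [S, Finset.mem_filter, Finset.mem_univ, true_and]
    exact p.2
  have h := card_eq_card_quotient_mul_card_subgroup (MulAction.stabilizer ↥N p0)
  rw [← Nat.card_congr (MulAction.orbitEquivQuotientStabilizer ↥N p0), hst,
    Nat.card_congr (subgroupOfEquivOfLe inf_le_left).toEquiv] at h
  rw [h]
  exact Nat.mul_le_mul_right _ horb

end Sextet

variable {z : G} {Q : Subgroup (centralizer ({z} : Set G))} [Q.Normal]

namespace Ctx

/-- The four-group with a commuting conjugate of the central involution inside its centralizer, carried into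
the largest elementary abelian subgroup by an element centralizing the involution. -/
theorem exists_four_placed (hF : Cfsg.IsOfLargeFischerTypeAt z Q) :
    ∃ (c : Ctx z Q) (L : c.Four) (P : c.Plane) (k : ↥(centralizer ({z} : Set G))) (m : G),
      ((k : G) * L.ga * (k : G)⁻¹ ∈ P.sextet.A ∧ (k : G) * L.gb * (k : G)⁻¹ ∈ P.sextet.A) ∧
      m ∈ L.C ∧ m * z * m⁻¹ ≠ z ∧ Commute (m * z * m⁻¹) z := by
  classical
  obtain ⟨c, ⟨P⟩⟩ := exists_plane hF
  obtain ⟨g0, x0, hg0, hxz⟩ := Ctx.exists_conj hF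
  have hz : ∃ g : G, (∃ hq : g * z * g⁻¹ ∈ centralizer ({z} : Set G),
      (⟨g * z * g⁻¹, hq⟩ : centralizer ({z} : Set G)) ∈ Q) ∧ g * z * g⁻¹ ≠ z :=
    ⟨g0, ⟨hg0 ▸ (x0 : ↥(centralizer ({z} : Set G))).2, by
      convert x0.2 using 1
      exact Subtype.ext hg0⟩, hg0 ▸ hxz⟩
  obtain ⟨P1⟩ := c.exists_linePt hz
  obtain ⟨X, hX, hXQ⟩ := c.exists_order_three hF
  obtain ⟨T⟩ := c.exists_three hF X hX hXQ
  -- a short vector of the plane and its multiple
  obtain ⟨x, hxpre, hx2, hxn⟩ := P1.exists_short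
  obtain ⟨hxQ, hxu⟩ := c.mem_pre.mp hxpre
  rw [Subgroup.orderOf_coe] at hx2
  have hu : c.pt x ∈ c.F.orb c.F.v0 := by_contra fun h => hxn (c.big_conj hz hx2 (fun e => hxn (by rw [e])) h)
  obtain ⟨y, hy⟩ := c.D.surj (c.F.om (c.pt x))
  have hypre : (y : ↥(centralizer ({z} : Set G))) ∈ c.pre P1.SA := c.mem_pre.mpr ⟨y.2, by
    rw [show c.pt ⟨(y : ↥(centralizer ({z} : Set G))), y.2⟩ = c.F.om (c.pt x) from hy, ← c.F.sm_w]
    exact P1.SA_sm hxu w4⟩
  -- the line of the base point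
  obtain ⟨⟨_, m0, rfl⟩, hm0⟩ := (c.F.orb_eq hu ▸ c.F.orb_self c.F.v0 : c.F.v0 ∈ c.F.orb (c.pt x))
  rw [c.Fρ] at hm0
  set h0 := (m0 : ↥(centralizer ({z} : Set G))) with hh0
  have hm0' : rep Q c.D h0 (c.pt x) = c.F.v0 := hm0
  let L : c.Four :=
    { a := MulAut.conjNormal h0 x
      b := MulAut.conjNormal h0 y
      pa := (c.act h0 x).symm.trans hm0'
      pb := by
        rw [← c.act, show c.pt y = c.F.om (c.pt x) from hy, LinePt.om_comm_M m0.2, hm0']
      hz := hz }
  -- move the largest elementary subgroup to the plane's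
  have hsq : ∀ b ∈ Ctx.Three.A P1, b * b = 1 := fun b hb => Ctx.Three.A_sq T P1 hb
  obtain ⟨S, hS⟩ := P.exists_sylow
  obtain ⟨S', hS'⟩ := IsPGroup.exists_le_sylow (P := Ctx.Three.A P1) (p := 2) (fun b => ⟨1, Subtype.ext (by
    show ((b : ↥(centralizer ({z} : Set G))) ^ 2 ^ 1) = 1
    rw [pow_one, pow_two, hsq _ b.2])⟩)
  obtain ⟨h, hh⟩ := MulAction.exists_smul_eq ↥(centralizer ({z} : Set G)) S' S
  have hB : (Ctx.Three.A P1).map (MulAut.conj h).toMonoidHom = P.A := by
    refine P.uniq S hS _ ?_ ?_ ?_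
    · rintro _ ⟨b, hb, rfl⟩
      have : (MulAut.conj h • (S' : Subgroup ↥(centralizer ({z} : Set G)))) =
          (S : Subgroup ↥(centralizer ({z} : Set G))) := by
        rw [← hh]; rfl
      rw [← this]
      exact Subgroup.smul_mem_pointwise_smul b _ _ (hS' hb)
    · rintro _ ⟨b, hb, rfl⟩
      rw [← map_mul, hsq b hb, map_one]
    · rw [card_map_of_injective (MulAut.conj h).injective, Ctx.Three.A_card T P1]
      norm_num
  have hle : c.pre P1.SA ≤ Ctx.Three.A P1 := (Ctx.Three.A_inter P1).ge.trans inf_le_left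
  set k : ↥(centralizer ({z} : Set G)) := h * h0⁻¹ with hk
  have hkz : ∀ w : G, IsConj z ((k : G) * w * (k : G)⁻¹) → IsConj z w := fun w hw =>
    hw.trans (isConj_iff.mpr ⟨(k : G), rfl⟩).symm
  have hA : ∀ (e : ↥Q), (e : ↥(centralizer ({z} : Set G))) ∈ c.pre P1.SA →
      (k : G) * ((MulAut.conjNormal h0 e : ↥Q) : ↥(centralizer ({z} : Set G))) * (k : G)⁻¹ ∈ P.sextet.A := fun e he => by
    refine ⟨h * e * h⁻¹, hB.le ⟨_, hle he, rfl⟩, ?_⟩
    show ((h : G) * (e : ↥(centralizer ({z} : Set G))) * (h : G)⁻¹) = _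
    rw [MulAut.conjNormal_apply, hk, Subgroup.coe_mul, Subgroup.coe_mul, Subgroup.coe_mul, Subgroup.coe_inv]
    group
  set t := (k : G) * L.ga * (k : G)⁻¹ with ht
  set t' := (k : G) * L.gb * (k : G)⁻¹ with ht'
  have hT : ∀ e ∈ L.E, e ≠ 1 → (k : G) * e * (k : G)⁻¹ ∈ P.sextet.A → (k : G) * e * (k : G)⁻¹ ∈ P.sextet.T :=
    fun e he h1 hA' => ⟨hA', fun e' => h1 (conj_eq_one_iff.mp e'), fun hc => L.not_conj he (hkz e hc)⟩
  obtain ⟨hna, hnb, hab⟩ := L.ab_ne
  have htA : t ∈ P.sextet.A := hA x hxpre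
  have ht'A : t' ∈ P.sextet.A := hA y hypre
  have htT : t ∈ P.sextet.T := hT _ L.a_mem hna htA
  have ht'T : t' ∈ P.sextet.T := hT _ L.b_mem hnb ht'A
  have httT : t * t' ∈ P.sextet.T := by
    have e : t * t' = (k : G) * (L.ga * L.gb) * (k : G)⁻¹ := by rw [ht, ht']; group
    rw [e]
    exact hT _ (mul_mem L.a_mem L.b_mem) (fun e' => hab ((inv_eq_of_mul_eq_one_right L.sq_a).symm.trans
      (inv_eq_of_mul_eq_one_right e'))) (e ▸ mul_mem htA ht'A)
  -- the count
  obtain ⟨hn, ⟨eM⟩⟩ := P.sextet.exists_mathieu P.large_sextet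
  set N := normalizer (P.sextet.A : Set G) with hN
  have hNc : Nat.card ↥N = 244823040 * 2048 := by
    rw [card_eq_card_quotient_mul_card_subgroup (P.sextet.A.subgroupOf N), Nat.card_congr eM.toEquiv,
      Cfsg.Lib.Golay.card_M24, Nat.card_congr (subgroupOfEquivOfLe le_normalizer).toEquiv, P.sextet.cardA]
  have hb := P.sextet.pair_stab_card htT ht'T httT
  set St := N ⊓ (centralizer ({t} : Set G) ⊓ centralizer ({t'} : Set G)) with hSt
  obtain ⟨m, hm, hmz⟩ : ∃ m ∈ St, m * z * m⁻¹ ≠ z := by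
    by_contra hcon
    push Not at hcon
    have hmap : St.map (MulAut.conj (k : G)⁻¹).toMonoidHom ≤ L.HC.map L.C.subtype := by
      rintro _ ⟨m, hm, rfl⟩
      have hmz : m * z = z * m := mul_inv_eq_iff_eq_mul.mp (hcon m hm)
      obtain ⟨-, hmt, hmt'⟩ := hm
      replace hmt : m * t = t * m := mem_centralizer_singleton_iff.mp hmt
      replace hmt' : m * t' = t' * m := mem_centralizer_singleton_iff.mp hmt'
      have hkk : (k : G) * z = z * (k : G) := mem_centralizer_singleton_iff.mp k.2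
      have hC : (k : G)⁻¹ * m * (k : G) ∈ L.C := L.mem_C.mpr ⟨by
          calc (k : G)⁻¹ * m * (k : G) * L.ga = (k : G)⁻¹ * (m * t) * (k : G) := by rw [ht]; group
            _ = (k : G)⁻¹ * (t * m) * (k : G) := by rw [hmt]
            _ = L.ga * ((k : G)⁻¹ * m * (k : G)) := by rw [ht]; group, by
          calc (k : G)⁻¹ * m * (k : G) * L.gb = (k : G)⁻¹ * (m * t') * (k : G) := by rw [ht']; group
            _ = (k : G)⁻¹ * (t' * m) * (k : G) := by rw [hmt']
            _ = L.gb * ((k : G)⁻¹ * m * (k : G)) := by rw [ht']; group⟩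
      refine ⟨⟨_, hC⟩, mem_subgroupOf.mpr (mul_mem (mul_mem (inv_mem k.2) ?_) k.2), ?_⟩
      · exact mem_centralizer_singleton_iff.mpr hmz
      · simp
    have hd := card_dvd_of_le hmap
    rw [card_map_of_injective (MulAut.conj (k : G)⁻¹).injective, card_map_of_injective L.C.subtype_injective,
      L.HC_card] at hd
    have hd2 : Nat.card ↥St ∣ 244823040 * 2048 := hNc ▸ card_dvd_of_le inf_le_left
    have hg := Nat.le_of_dvd (by norm_num) (Nat.dvd_gcd hd hd2)
    rw [hNc] at hb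
    norm_num at hg hb
    omega
  -- pull back
  obtain ⟨hmN, hmt, hmt'⟩ := hm
  replace hmt : m * t = t * m := mem_centralizer_singleton_iff.mp hmt
  replace hmt' : m * t' = t' * m := mem_centralizer_singleton_iff.mp hmt'
  have hkk : (k : G) * z = z * (k : G) := mem_centralizer_singleton_iff.mp k.2
  refine ⟨c, L, P, k, (k : G)⁻¹ * m * (k : G), ⟨htA, ht'A⟩, L.mem_C.mpr ⟨?_, ?_⟩, ?_⟩
  · calc (k : G)⁻¹ * m * (k : G) * L.ga = (k : G)⁻¹ * (m * t) * (k : G) := by rw [ht]; group
      _ = (k : G)⁻¹ * (t * m) * (k : G) := by rw [hmt]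
      _ = L.ga * ((k : G)⁻¹ * m * (k : G)) := by rw [ht]; group
  · calc (k : G)⁻¹ * m * (k : G) * L.gb = (k : G)⁻¹ * (m * t') * (k : G) := by rw [ht']; group
      _ = (k : G)⁻¹ * (t' * m) * (k : G) := by rw [hmt']
      _ = L.gb * ((k : G)⁻¹ * m * (k : G)) := by rw [ht']; group
  have e : (k : G)⁻¹ * m * (k : G) * z * ((k : G)⁻¹ * m * (k : G))⁻¹ = (k : G)⁻¹ * (m * z * m⁻¹) * (k : G) := by
    calc (k : G)⁻¹ * m * (k : G) * z * ((k : G)⁻¹ * m * (k : G))⁻¹
        = (k : G)⁻¹ * m * ((k : G) * z) * (k : G)⁻¹ * m⁻¹ * (k : G) := by group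
      _ = (k : G)⁻¹ * m * (z * (k : G)) * (k : G)⁻¹ * m⁻¹ * (k : G) := by rw [hkk]
      _ = _ := by group
  rw [e]
  refine ⟨fun e' => hmz ?_, ?_⟩
  · calc m * z * m⁻¹ = (k : G) * ((k : G)⁻¹ * (m * z * m⁻¹) * (k : G)) * (k : G)⁻¹ := by group
      _ = (k : G) * z * (k : G)⁻¹ := by rw [e']
      _ = z := by rw [hkk, mul_inv_cancel_right]
  · have hzA : z ∈ P.sextet.A := P.sextet.memA
    have hcm : Commute (m * z * m⁻¹) z := P.sextet.commA (P.sextet.conjA hmN hzA) hzA
    have hkz' : Commute (k : G) z := hkk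
    exact (hkz'.inv_left.mul_left hcm).mul_left hkz'

/-- The four-group with a commuting conjugate of the central involution inside its centralizer. -/
theorem exists_four (hF : Cfsg.IsOfLargeFischerTypeAt z Q) :
    ∃ (c : Ctx z Q) (L : c.Four) (m : G), m ∈ L.C ∧ m * z * m⁻¹ ≠ z ∧ Commute (m * z * m⁻¹) z := by
  obtain ⟨c, L, -, -, m, -, h⟩ := exists_four_placed hF
  exact ⟨c, L, m, h⟩

end Ctx

end Cfsg.Lib.LargeFischer
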