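import Cfsg.Agent.LargeFischer.PlanePairs
import Cfsg.Agent.LargeFischer.InvolutionClasses

/-!
The short orbit in coordinates relative to a vector of the long orbit.
-/

set_option autoImplicit false
set_option maxRecDepth 100000
set_option maxHeartbeats 1000000
set_option linter.unusedSectionVars false
set_option linter.style.haveILetI false

namespace Cfsg.Lib.LargeFischer

open Subgroup QuadraticMap
open Cfsg.Lib.LargeExtra.OutExtra

universe u

theorem wp_zero : wp 0 = 1 := by decide +kernel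

theorem wp_injective : ∀ a b : ZMod 3, wp a = wp b → a = b := by decide +kernel

theorem wp_code : ∀ a : F4, a ≠ 0 → a = wp ((code4 a).getD 0) := by decide +kernel

/-- The exponential map as a homomorphism. -/
def wpHom : Multiplicative (ZMod 3) →* F4 where
  toFun a := wp a.toAdd
  map_one' := wp_zero
  map_mul' a b := wp_add a.toAdd b.toAdd

theorem prod_wp (x : Fin 6 → F4) (hx : ∀ i, x i ≠ 0) : ∏ i, x i = wp (tot fun i => code4 (x i)) := by
  have h := map_prod wpHom (fun i => Multiplicative.ofAdd ((code4 (x i)).getD 0)) Finset.univ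
  rw [← ofAdd_sum] at h
  refine Eq.trans ?_ h.symm
  exact Finset.prod_congr rfl fun i _ => wp_code _ (hx i)

theorem size_pair : ∀ k : Fin 5, k ≠ 0 → k ≠ 1 → size5 0 + size5 k = 378 := by decide

theorem cls_cases : ∀ k : Fin 5, k ≠ 0 → k ≠ 1 → ∃ κ : ZMod 3, ∀ m : ℕ, m ≤ 6 → ∀ t : ZMod 3,
    (((m = 2 ∨ m = 4 ∨ m = 6) ∧ ((if m = 2 then (0 : Fin 5) else if m = 4 then 1 else
      if t = 0 then 2 else if t = 1 then 3 else 4) = 0 ∨ (if m = 2 then (0 : Fin 5) else if m = 4 then 1 else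
      if t = 0 then 2 else if t = 1 then 3 else 4) = k)) ↔ (m = 2 ∨ (m = 6 ∧ t = κ))) := by
  decide +kernel

theorem pair_vec_sum : ∀ i j : Fin 6, ∀ s t : F4, i < j →
    ∑ m, (t + s * bf (pr i j m)) = 0 := by decide +kernel

variable {G : Type u} [Group G] [Finite G] {z : G} {Q : Subgroup (centralizer ({z} : Set G))} [Q.Normal]

namespace Ctx.LinePt

variable {c : Ctx z Q} (P : c.LinePt)

theorem rc_ne_zero_iff (u : c.ι → ZMod 2) (i : Fin 6) : P.rc u i ≠ 0 ↔ c.F.co i u ≠ 0 := by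
  rw [rc, mul_ne_zero_iff]
  simp [pow_ne_zero 2 (P.full i)]

theorem supp_code (u : c.ι → ZMod 2) : (supp6 fun i => code4 (c.F.co i u)).card = nzc (P.rc u) := by
  refine congrArg Finset.card (Finset.ext fun i => ?_)
  rw [mem_supp6, Finset.mem_filter, P.rc_ne_zero_iff, show (none : Option (ZMod 3)) = code4 0 by decide +kernel,
    code4_bijective.1.ne_iff]
  simp

/-- The short orbit in relative coordinates. -/
theorem exists_tau : ∃ τ : ZMod 3, τ ≠ 0 ∧ ∀ u, u ∈ c.F.orb c.F.v0 ↔ Sh6 τ (P.rc u) := by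
  classical
  obtain ⟨k, he, h378, hcl⟩ := c.F.v0_small
  have hk1 : k ≠ 1 := fun e => by
    rw [e, c.F.orb_one_card] at h378
    norm_num at h378
  have hsub : ∀ u ∈ c.F.orb (c.F.rep k), ∃ f, c.F.dec f = u ∧ Sing6 f ∧ (cls f = 0 ∨ cls f = k) := fun u hu => by
    obtain ⟨f, rfl⟩ := c.F.dec_bijective.2 u
    have hs := (c.F.sing_iff f).mp (c.F.orb_sing (c.F.rep_sing k) hu)
    exact ⟨f, rfl, hs, hcl f hs hu⟩
  choose! f hf hfs using hsub
  set S := Finset.univ.filter fun f : Cd => Sing6 f ∧ (cls f = 0 ∨ cls f = k) with hS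
  have hk0 : k ≠ 0 := fun e => by
    have hle : Nat.card ↥(c.F.orb (c.F.rep k)) ≤ 135 := by
      have h2 := cls_card 0
      rw [← Fintype.card_subtype, ← Nat.card_eq_fintype_card] at h2
      refine le_trans (Nat.card_le_card_of_injective
        (fun u : ↥(c.F.orb (c.F.rep k)) => (⟨f u, (hfs u u.2).1, ((hfs u u.2).2.elim id fun h => h.trans e)⟩ :
          {f : Cd // Sing6 f ∧ cls f = 0}))
        fun a b h => Subtype.ext (by rw [← hf a a.2, ← hf b b.2]; exact congrArg c.F.dec (congrArg Subtype.val h))) h2.le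
    omega
  have hScard : S.card = 378 := by
    rw [← size_pair k hk0 hk1, ← cls_card 0, ← cls_card k, ← Finset.card_union_of_disjoint]
    · refine congrArg Finset.card (Finset.ext fun f => ?_)
      simp only [hS, Finset.mem_filter, Finset.mem_union, Finset.mem_univ, true_and]
      tauto
    · rw [Finset.disjoint_filter]
      rintro f - ⟨-, h0⟩ ⟨-, hk⟩
      exact hk0 (hk.symm.trans h0)
  let g : ↥(c.F.orb (c.F.rep k)) → ↥S := fun u => ⟨f u, Finset.mem_filter.mpr ⟨Finset.mem_univ _, hfs u u.2⟩⟩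
  have hg : Function.Bijective g := (Nat.bijective_iff_injective_and_card _).mpr
    ⟨fun a b h => Subtype.ext (by rw [← hf a a.2, ← hf b b.2]; exact congrArg c.F.dec (congrArg Subtype.val h)),
      by rw [h378, Nat.card_eq_fintype_card, Fintype.card_coe, hScard]⟩
  obtain ⟨κ, hκ⟩ := cls_cases k hk0 hk1
  set fx : Cd := fun i => code4 (c.F.co i (c.pt P.x)) with hfx
  have hiff : ∀ u, u ∈ c.F.orb c.F.v0 ↔ Sh6 (κ + 2 * tot fx) (P.rc u) := by
    intro u
    set f' : Cd := fun i => code4 (c.F.co i u) with hf'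
    have hdec : c.F.dec f' = u := by rw [hf', c.F.dec_code, c.F.mk6_co]
    have h1 : u ∈ c.F.orb c.F.v0 ↔ Sing6 f' ∧ (cls f' = 0 ∨ cls f' = k) := by
      rw [he]
      constructor
      · intro hu
        rw [show f' = f u from c.F.dec_bijective.1 (hdec.trans (hf u hu).symm)]
        exact hfs u hu
      · intro hm
        obtain ⟨v, hv⟩ := hg.2 ⟨f', Finset.mem_filter.mpr ⟨Finset.mem_univ _, hm⟩⟩
        rw [← hdec, ← show f v = f' from congrArg Subtype.val hv, hf v v.2]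
        exact v.2
    have hn : (supp6 f').card = nzc (P.rc u) := P.supp_code u
    have hm6 : (supp6 f').card ≤ 6 := (Finset.card_le_univ _).trans_eq (Fintype.card_fin 6)
    rw [h1, show Sing6 f' ↔ ((supp6 f').card = 2 ∨ (supp6 f').card = 4 ∨ (supp6 f').card = 6) from Iff.rfl,
      show cls f' = (if (supp6 f').card = 2 then (0 : Fin 5) else if (supp6 f').card = 4 then 1 else
        if tot f' = 0 then 2 else if tot f' = 1 then 3 else 4) from rfl, hκ _ hm6 (tot f'), hn, Sh6]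
    refine or_congr Iff.rfl (and_congr_right fun h6 => ?_)
    have hne : ∀ i, c.F.co i u ≠ 0 := by
      intro i
      have h := Finset.eq_univ_of_card _ (h6.trans (Fintype.card_fin 6).symm)
      have hi : i ∈ Finset.univ.filter fun i => P.rc u i ≠ 0 := by rw [h]; exact Finset.mem_univ i
      exact (P.rc_ne_zero_iff u i).mp (Finset.mem_filter.mp hi).2
    have hp : ∏ i, P.rc u i = wp (tot f' + 2 * tot fx) := by
      simp only [rc]
      rw [Finset.prod_mul_distrib, Finset.prod_pow, prod_wp _ hne, prod_wp _ P.full, wp_add, pow_two, two_mul, wp_add]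
    rw [hp]
    exact ⟨fun e => by rw [e], fun e => add_right_cancel (wp_injective _ _ e)⟩
  refine ⟨κ + 2 * tot fx, fun h0 => ?_, hiff⟩
  have hx : c.pt P.x ∈ c.F.orb c.F.v0 := by
    rw [hiff]
    refine Or.inr ⟨?_, ?_⟩
    · rw [nzc, Finset.filter_true_of_mem fun i _ => by rw [P.rc_pt]; exact one_ne_zero]
      simp
    · simp only [P.rc_pt, Finset.prod_const_one, h0, wp_zero]
  have h := P.orb1701
  rw [c.F.orb_eq hx, c.F.v0_card] at h
  norm_num at h

/-- The exponent of the short orbit. -/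
noncomputable def tau : ZMod 3 := P.exists_tau.choose

theorem tau_ne : P.tau ≠ 0 := P.exists_tau.choose_spec.1

theorem mem_short {u : c.ι → ZMod 2} : u ∈ c.F.orb c.F.v0 ↔ Sh6 P.tau (P.rc u) := P.exists_tau.choose_spec.2 u

/-- The pair vector. -/
noncomputable def ev (i j : Fin 6) : c.ι → ZMod 2 := P.vec fun k => bf (pr i j k)

/-- Short vectors perpendicular to the point are pair vectors modulo its line. -/
theorem short_perp {u : c.ι → ZMod 2} (hu : u ∈ c.F.orb c.F.v0) (hp : u ∈ P.perp) :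
    ∃ i j : Fin 6, ∃ s t : F4, i < j ∧ s ≠ 0 ∧ u = c.F.sm t (c.pt P.x) + c.F.sm s (P.ev i j) := by
  have hsum := P.mem_perp_rc.mp hp
  have hr : ![P.rc u 0, P.rc u 1, P.rc u 2, P.rc u 3, P.rc u 4, P.rc u 5] = P.rc u := by
    funext k; fin_cases k <;> rfl
  rw [Fin.sum_univ_six] at hsum
  obtain ⟨i, j, t, hij, hne, h⟩ := short_form P.tau P.tau_ne _ _ _ _ _ _ hsum (by rw [hr]; exact P.mem_short.mp hu)
  rw [hr] at hne h
  refine ⟨i, j, _, t, hij, hne, P.rc_ext fun k => ?_⟩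
  rw [P.rc_add, P.rc_sm, P.rc_sm, P.rc_pt, ev, P.rc_vec, mul_one, ← h k, add_comm (P.rc u k), ← add_assoc, f4_two,
    zero_add]

/-- Two perpendicular short vectors and the point lie in a plane of three pairs. -/
theorem pairs_conj {a b : c.ι → ZMod 2} (ha : a ∈ c.F.orb c.F.v0) (hb : b ∈ c.F.orb c.F.v0) (hap : a ∈ P.perp)
    (hbp : b ∈ P.perp) (hab : c.F.herm a b = 0)
    (hind : ∀ t r : F4, b ≠ c.F.sm t (c.pt P.x) + c.F.sm r a) :
    ∃ π ∈ alternatingGroup (Fin 6), (P.gp π)⁻¹ a ∈ P.SA ∧ (P.gp π)⁻¹ b ∈ P.SA := by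
  obtain ⟨i, j, s, t, hij, hs, rfl⟩ := P.short_perp ha hap
  obtain ⟨k, l, s', t', hkl, hs', rfl⟩ := P.short_perp hb hbp
  have hxx : c.F.herm (c.pt P.x) (c.pt P.x) = 0 := by
    rw [P.herm_pt]; simp only [P.rc_pt]; decide +kernel
  have hev : ∀ i j : Fin 6, i < j → c.F.herm (P.ev i j) (c.pt P.x) = 0 := fun i j h => by
    rw [P.herm_pt]
    simp only [ev, P.rc_vec]
    exact pair_bf_sum i j h.ne
  have hev' : c.F.herm (c.pt P.x) (P.ev k l) = 0 := by
    obtain ⟨h1, h2⟩ := (c.F.perp_iff _ _).mp (hev k l hkl)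
    rw [P.herm_rc]
    simp only [P.rc_pt, one_mul, ev, P.rc_vec]
    have key : ∀ k l : Fin 6, k < l → ∑ m, bf (pr k l m) ^ 2 = 0 := by decide +kernel
    exact key k l hkl
  rw [c.F.herm_add, c.F.herm_sm, c.F.herm_sm, c.F.herm_add_right, c.F.herm_add_right, c.F.herm_sm_right,
    c.F.herm_sm_right, c.F.herm_sm_right, c.F.herm_sm_right, hxx, hev i j hij, hev'] at hab
  simp only [mul_zero, zero_add, mul_eq_zero, hs, false_or, pow_eq_zero_iff two_ne_zero, hs'] at hab
  rw [P.herm_rc] at hab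
  simp only [ev, P.rc_vec] at hab
  rcases pair_overlap i j k l hij hkl hab with ⟨rfl, rfl⟩ | ⟨h1, h2, h3, h4⟩
  · refine absurd ?_ (hind (t' + s' * s ^ 2 * t) (s' * s ^ 2))
    refine P.rc_ext fun m => ?_
    simp only [P.rc_add, P.rc_sm, P.rc_pt, ev, P.rc_vec, mul_one]
    have h3 : s ^ 3 = 1 := f4_cube s hs
    have h2 := f4_two (s' * s ^ 2 * t)
    linear_combination (-(s' * bf (pr i j m))) * h3 - h2
  · obtain ⟨π, hπ, p0, p1, p2, p3⟩ := pair_perm i j k l hij hkl h1 h2 h3 h4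
    have hπA : π ∈ alternatingGroup (Fin 6) := Equiv.Perm.mem_alternatingGroup.mpr hπ
    have key : ∀ i j : Fin 6, ∀ s t : F4, ((π 0 = i ∧ π 1 = j) ∨ (π 2 = i ∧ π 3 = j)) →
        (P.gp π)⁻¹ (c.F.sm t (c.pt P.x) + c.F.sm s (P.ev i j)) ∈ P.SA := by
      intro i j s t h
      rw [P.gp_inv hπA, P.mem_SA]
      simp only [P.gp_rc' (inv_mem hπA), P.rc_add, P.rc_sm, P.rc_pt, ev, P.rc_vec]
      rcases h with ⟨rfl, rfl⟩ | ⟨rfl, rfl⟩ <;>
        simp [pr, Equiv.Perm.inv_def, π.injective.eq_iff, show bf 0 = 0 from rfl]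
    exact ⟨π, hπA, key i j s t (Or.inl ⟨p0, p1⟩), key k l s' t' (Or.inr ⟨p2, p3⟩)⟩

theorem pt_nonconj (hz : ∃ g : G, (∃ hq : g * z * g⁻¹ ∈ centralizer ({z} : Set G),
      (⟨g * z * g⁻¹, hq⟩ : centralizer ({z} : Set G)) ∈ Q) ∧ g * z * g⁻¹ ≠ z)
    {y : ↥Q} (h2 : (y : ↥(centralizer ({z} : Set G))) * y = 1) :
    ((y : ↥(centralizer ({z} : Set G))) ≠ 1 ∧ ¬ IsConj z ((y : ↥(centralizer ({z} : Set G))) : G)) ↔
      c.pt y ∈ c.F.orb c.F.v0 := by
  have hord : (y : ↥(centralizer ({z} : Set G))) ≠ 1 → orderOf (y : ↥(centralizer ({z} : Set G))) = 2 := fun h =>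
    orderOf_eq_prime (by rw [pow_two]; exact h2) h
  constructor
  · rintro ⟨h1, hn⟩
    by_contra hno
    exact hn (c.big_conj hz (hord h1) (fun e => hn (by rw [e])) hno)
  · intro hy
    have hne : c.pt y ≠ 0 := (c.F.orb_sing c.v0_sing hy).2
    have h1 : (y : ↥(centralizer ({z} : Set G))) ≠ 1 := fun e => hne (by
      rw [show y = 1 from Subtype.ext e]; exact c.D.π_one)
    refine ⟨h1, fun hc => ?_⟩
    obtain ⟨s, t, -, hs2, ht2, hsz, htz, -, -, hns, h1701, -, -, hall, -⟩ := c.exists_points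
    have hv0 : c.F.v0 ∈ c.F.orb (c.pt s) := by
      refine (hall _ c.v0_sing.1 c.v0_sing.2).resolve_right fun h => ?_
      have h2 := c.F.v0_card
      rw [c.F.orb_eq h, h1701] at h2
      norm_num at h2
    rw [c.F.orb_eq hv0] at hy
    obtain ⟨g, hg⟩ := c.conj_of_orb hy hsz (fun e => by rw [e, orderOf_one] at hs2; norm_num at hs2)
    exact hns (hc.trans (isConj_iff.mpr ⟨(g : G), congrArg Subtype.val hg⟩).symm)

end Ctx.LinePt

end Cfsg.Lib.LargeFischer
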