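import Cfsg.Agent.LargeFischer.PairPerms

/-!
Involutions and elementary abelian subgroups in the stabiliser of a vector of the long orbit.
-/

set_option autoImplicit false
set_option maxRecDepth 100000
set_option maxHeartbeats 1000000
set_option linter.unusedSectionVars false
set_option linter.style.haveILetI false

namespace Cfsg.Lib.LargeFischer

open Subgroup QuadraticMap
open Cfsg.Lib.LargeExtra.OutExtra
open Cfsg.Lib.LargeExtra

universe u

/-- The pair-constant subsets. -/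
def yv (q : Fin 4 → ZMod 2) : Fin 6 → ZMod 2 := ![q 0, q 0, q 1, q 1, 0, 0]

theorem yv_sum : ∀ q, ∑ i, yv q i = 0 := by decide +kernel

theorem yv_add : ∀ p q, yv p + yv q = yv (p + q) := by decide +kernel

theorem yv_kk : ∀ a b q i, yv q ((kk a b).symm i) = yv q i := by decide +kernel

theorem yv_const : ∀ q, (∀ i, yv q i = yv q 0) → q 0 = 0 ∧ q 1 = 0 := by decide +kernel

theorem evn_yv : ∀ c : Fin 4 → ZMod 2, InY (Ctx.LinePt.evn c) →
    ∀ a b, Ctx.LinePt.evn c = yv ![c 0, c 2, a, b] := by decide +kernel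

theorem avoid_card : ∀ i : Fin 6, i ≠ 0 → (Finset.univ.filter fun k : Fin 6 => k ≠ 0 ∧ k ≠ i).card = 4 := by
  decide +kernel

variable {G : Type u} [Group G] [Finite G] {z : G} {Q : Subgroup (centralizer ({z} : Set G))} [Q.Normal]

namespace Ctx

variable (c : Ctx z Q)

/-- The coordinates as a homomorphism. -/
noncomputable def pth : ↥Q →* Multiplicative (c.ι → ZMod 2) :=
  MonoidHom.mk' (fun y => Multiplicative.ofAdd (c.pt y)) fun a b => congrArg Multiplicative.ofAdd (c.D.mul a b)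

/-- The preimage in `Q` of a subgroup of coordinate vectors. -/
noncomputable def pre (U : AddSubgroup (c.ι → ZMod 2)) : Subgroup ↥(centralizer ({z} : Set G)) :=
  ((AddSubgroup.toSubgroup U).comap c.pth).map Q.subtype

theorem mem_pre {U : AddSubgroup (c.ι → ZMod 2)} {h : ↥(centralizer ({z} : Set G))} :
    h ∈ c.pre U ↔ ∃ hq : h ∈ Q, c.pt ⟨h, hq⟩ ∈ U := by
  constructor
  · rintro ⟨y, hy, rfl⟩; exact ⟨y.2, hy⟩
  · rintro ⟨hq, hy⟩; exact ⟨⟨h, hq⟩, hy, rfl⟩

theorem pre_le (U : AddSubgroup (c.ι → ZMod 2)) : c.pre U ≤ Q := Subgroup.map_subtype_le _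

theorem pre_card (U : AddSubgroup (c.ι → ZMod 2)) : Nat.card ↥(c.pre U) = 2 * Nat.card ↥U := by
  have hsurj : Function.Surjective c.pth := fun w => by
    obtain ⟨y, hy⟩ := c.D.surj (Multiplicative.toAdd w)
    exact ⟨y, congrArg Multiplicative.ofAdd hy⟩
  have hi : ((AddSubgroup.toSubgroup U).comap c.pth).index = U.index :=
    ((AddSubgroup.toSubgroup U).index_comap_of_surjective hsurj).trans (AddSubgroup.index_toSubgroup U)
  have h1 := ((AddSubgroup.toSubgroup U).comap c.pth).card_mul_index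
  have h2 := U.card_mul_index
  rw [hi, c.card] at h1
  rw [c.F.cardV] at h2
  rw [pre, card_map_of_injective Q.subtype_injective]
  have hpos : 0 < U.index := Nat.pos_of_ne_zero AddSubgroup.index_ne_zero_of_finite
  refine Nat.eq_of_mul_eq_mul_right hpos ?_
  rw [h1, mul_assoc, h2]
  norm_num

include c in
theorem exists_order_three (hF : Cfsg.IsOfLargeFischerTypeAt z Q) :
    ∃ X : Subgroup ↥(centralizer ({z} : Set G)), Nat.card X = 3 ∧ (X ⊔ Q).Normal := by
  obtain ⟨-, N, M, hNn, -, hQN, -, hN, -⟩ := hF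
  haveI : Fact (Nat.Prime 3) := ⟨by norm_num⟩
  rw [c.card] at hN
  have h3 : 3 ∣ Nat.card ↥N := hN ▸ Dvd.intro _ rfl
  obtain ⟨w, hw⟩ := exists_prime_orderOf_dvd_card' 3 h3
  have hw' : orderOf (w : ↥(centralizer ({z} : Set G))) = 3 := (Subgroup.orderOf_coe w).trans hw
  refine ⟨zpowers (w : ↥(centralizer ({z} : Set G))), by rw [Nat.card_zpowers, hw'], ?_⟩
  suffices zpowers (w : ↥(centralizer ({z} : Set G))) ⊔ Q = N by rw [this]; exact hNn
  refine le_antisymm (sup_le (zpowers_le.mpr w.2) hQN) ?_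
  set S := zpowers (w : ↥(centralizer ({z} : Set G))) ⊔ Q with hS
  have hd3 : 3 ∣ Nat.card ↥S := by
    have h := card_dvd_of_le (le_sup_left : zpowers (w : ↥(centralizer ({z} : Set G))) ≤ S)
    rwa [Nat.card_zpowers, hw'] at h
  have hd2 : 2 ^ 13 ∣ Nat.card ↥S := c.card ▸ card_dvd_of_le (le_sup_right : Q ≤ S)
  have hd : 2 ^ 13 * 3 ∣ Nat.card ↥S := Nat.Coprime.mul_dvd_of_dvd_of_dvd (by norm_num) hd2 hd3
  have hle : S ≤ N := sup_le (zpowers_le.mpr w.2) hQN
  refine (eq_of_le_of_card_ge hle ?_).ge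
  rw [hN, mul_comm]
  exact Nat.le_of_dvd Nat.card_pos hd

variable {c}

/-- Elements outside the subgroup of index two invert the scalars. -/
theorem LinePt.om_outside (P : c.LinePt) {d : ↥(centralizer ({z} : Set G))} (hd : d ∉ c.M) (a : c.ι → ZMod 2) :
    rep Q c.D d (c.F.om a) = c.F.om (c.F.om (rep Q c.D d a)) := by
  haveI := c.Mn
  have hX : rep Q c.D d * (c.F.E.ω : Equiv.Perm (c.ι → ZMod 2)) * (rep Q c.D d)⁻¹ ∈ c.XM := by
    obtain ⟨m, hm⟩ := c.F.E.ω.2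
    refine ⟨⟨d * m * d⁻¹, c.Mn.conj_mem _ m.2 d⟩, ?_⟩
    rw [← hm]
    simp
  let ω' : ↥((rep Q c.D).comp c.M.subtype).range := ⟨_, hX⟩
  have hω'c : ω' ∈ center _ := mem_center_iff.mpr fun k => Subtype.ext (by
    obtain ⟨m, hm⟩ := k.2
    have hk : (rep Q c.D d)⁻¹ * (k : Equiv.Perm (c.ι → ZMod 2)) * rep Q c.D d ∈ c.XM := by
      refine ⟨⟨d⁻¹ * m * d, by simpa using c.Mn.conj_mem _ m.2 d⁻¹⟩, ?_⟩
      rw [← hm]
      simp
    have hc := congrArg Subtype.val (mem_center_iff.mp (c.F.E.central c.F.E.ω_mem) ⟨_, hk⟩)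
    simp only [Subgroup.coe_mul] at hc
    show (k : Equiv.Perm (c.ι → ZMod 2)) * (rep Q c.D d * (c.F.E.ω : Equiv.Perm (c.ι → ZMod 2)) * (rep Q c.D d)⁻¹) =
      rep Q c.D d * (c.F.E.ω : Equiv.Perm (c.ι → ZMod 2)) * (rep Q c.D d)⁻¹ * k
    calc _ = rep Q c.D d * ((rep Q c.D d)⁻¹ * k * rep Q c.D d * (c.F.E.ω : Equiv.Perm (c.ι → ZMod 2))) * (rep Q c.D d)⁻¹ := by group
      _ = _ := by rw [hc]; group)
  obtain ⟨j, hj⟩ := c.center_image c.Ssimple c.not_comm ω' hω'c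
  have hom : ∀ a, rep Q c.D d (c.F.om a) = c.F.W.t (j • Pi.single 0 1) (rep Q c.D d a) := by
    intro a
    rw [FSetting.W_t, show (j • (Pi.single 0 1 : C5)) = Pi.single 0 j by rw [← Pi.single_smul', smul_eq_mul, mul_one],
      c.F.E.α_e, ← hj, LinePt.om_eq, c.Fρ]
    show rep Q c.D d ((c.F.E.ω : Equiv.Perm (c.ι → ZMod 2)) a) =
      (rep Q c.D d * (c.F.E.ω : Equiv.Perm (c.ι → ZMod 2)) * (rep Q c.D d)⁻¹) (rep Q c.D d a)
    rw [Equiv.Perm.mul_apply, Equiv.Perm.mul_apply, Equiv.Perm.coe_inv, Equiv.symm_apply_apply]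
  rcases (show ∀ j : ZMod 3, j = 0 ∨ j = 1 ∨ j = 2 by decide) j with rfl | rfl | rfl
  · exfalso
    have h := hom (c.pt P.x)
    rw [zero_smul, FSetting.W_t, c.F.E.α_zero, map_one, Equiv.Perm.one_apply] at h
    have h' := (rep Q c.D d).injective h
    rw [← c.F.sm_w] at h'
    have h0 : c.F.sm (w4 + 1) (c.pt P.x) = 0 := by rw [c.F.sm_add_left, c.F.sm_one, h', c.F.dbl]
    exact absurd (c.F.sm_injective P.v_ne h0) (by decide +kernel)
  · exact absurd (fun a => (hom a).trans (by rw [one_smul]; rfl)) (P.no_linear hd)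
  · rw [hom]
    refine c.F.co_ext fun i => ?_
    rw [c.F.co_t, c.F.co_om, c.F.co_om, FSetting.Φ, dotProduct_smul, c.F.cs_e0, smul_eq_mul, mul_one, ← mul_assoc]
    rfl

namespace LinePt

variable (P : c.LinePt) {π : Equiv.Perm (Fin 6)}

theorem gp_RB (hπ : π ∈ alternatingGroup (Fin 6)) (h : P.gp π ∈ P.RB) : π = 1 := by
  obtain ⟨b, hb⟩ := P.RB_onto h
  exact P.gp_shift hπ fun u hu => ⟨_, fun i => by rw [← hb]; exact P.rr_act (evn_sum b) hu i⟩

theorem mem_St {σ : Equiv.Perm (c.ι → ZMod 2)} : σ ∈ P.St ↔ σ ∈ c.XM ∧ σ (c.pt P.x) = c.pt P.x := Iff.rfl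

theorem RB_le_St : P.RB ≤ P.St := fun _ hσ => P.mem_St.mpr ⟨P.RB_le hσ, P.RB_pt hσ⟩

theorem gp_St (hπ : π ∈ alternatingGroup (Fin 6)) : P.gp π ∈ P.St := P.mem_St.mpr ⟨P.gp_XM hπ, P.gp_pt hπ⟩

theorem exists_pr (σ : ↥P.St) : ∃ π : ↥(alternatingGroup (Fin 6)), (σ : Equiv.Perm (c.ι → ZMod 2)) * (P.gp π)⁻¹ ∈ P.RB := by
  obtain ⟨b, π, hπ, e⟩ := P.stab_form (P.mem_St.mp σ.2).1 (P.mem_St.mp σ.2).2
  exact ⟨⟨π, hπ⟩, by rw [e, mul_inv_cancel_right]; exact P.rr_mem _⟩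

theorem pr_unique {σ : Equiv.Perm (c.ι → ZMod 2)} {π π' : ↥(alternatingGroup (Fin 6))}
    (h : σ * (P.gp π)⁻¹ ∈ P.RB) (h' : σ * (P.gp π')⁻¹ ∈ P.RB) : π = π' := by
  have e := mul_mem (inv_mem h') h
  rw [_root_.mul_inv_rev, inv_inv, mul_assoc, inv_mul_cancel_left, P.gp_inv π.2, P.gp_mul π'.2 (inv_mem π.2)] at e
  exact (Subtype.ext (mul_inv_eq_one.mp (P.gp_RB (mul_mem π'.2 (inv_mem π.2)) e))).symm

/-- The permutation part of a stabilising element. -/
noncomputable def pr6 : ↥P.St →* ↥(alternatingGroup (Fin 6)) :=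
  MonoidHom.mk' (fun σ => (P.exists_pr σ).choose) fun a b => by
    refine P.pr_unique (P.exists_pr (a * b)).choose_spec ?_
    have e := mul_mem (P.exists_pr a).choose_spec (P.RB_conj (P.exists_pr a).choose.2 (P.exists_pr b).choose_spec)
    rw [Subgroup.coe_mul, Subgroup.coe_mul, ← P.gp_mul (P.exists_pr a).choose.2 (P.exists_pr b).choose.2,
      _root_.mul_inv_rev]
    convert e using 1
    group

theorem pr6_spec (σ : ↥P.St) : ∃ b, (σ : Equiv.Perm (c.ι → ZMod 2)) = P.rr (evn b) * P.gp (P.pr6 σ : ↥(alternatingGroup (Fin 6))) := by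
  obtain ⟨b, hb⟩ := P.RB_onto (P.exists_pr σ).choose_spec
  exact ⟨b, by rw [hb]; exact (inv_mul_cancel_right _ _).symm⟩

theorem pr6_eq {σ : ↥P.St} {b : Fin 4 → ZMod 2} (hπ : π ∈ alternatingGroup (Fin 6))
    (e : (σ : Equiv.Perm (c.ι → ZMod 2)) = P.rr (evn b) * P.gp π) : P.pr6 σ = ⟨π, hπ⟩ :=
  P.pr_unique (P.exists_pr σ).choose_spec (by rw [e, mul_inv_cancel_right]; exact P.rr_mem _)

theorem pr6_ker {σ : ↥P.St} : P.pr6 σ = 1 ↔ (σ : Equiv.Perm (c.ι → ZMod 2)) ∈ P.RB := by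
  constructor
  · intro h
    obtain ⟨b, e⟩ := P.pr6_spec σ
    rw [h, OneMemClass.coe_one, P.gp_one, mul_one] at e
    rw [e]; exact P.rr_mem _
  · intro h
    obtain ⟨b, e⟩ := P.RB_onto h
    exact P.pr6_eq (one_mem _) (b := b) (by rw [P.gp_one, mul_one, e])

theorem rr_congr {f f' : Fin 6 → ZMod 2} (hf : ∑ i, f i = 0) (hf' : ∑ i, f' i = 0)
    (h : ∀ i, f i + f' i = f 0 + f' 0) : P.rr f = P.rr f' :=
  P.RB_unique (P.rr_mem _) (P.rr_mem _) (P.rr_sh hf) (P.rr_sh hf') fun i => by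
    rw [← mul_add, ← mul_add, ← bf_add, ← bf_add, h i]

theorem gp_rr (hπ : π ∈ alternatingGroup (Fin 6)) {f : Fin 6 → ZMod 2} (hf : ∑ i, f i = 0) :
    P.gp π * P.rr f = P.rr (fun i => f (π.symm i)) * P.gp π := by
  rw [← P.rr_conj hπ hf, inv_mul_cancel_right]

theorem rr_comm_iff (hπ : π ∈ alternatingGroup (Fin 6)) (b : Fin 4 → ZMod 2) :
    P.rr (evn b) * P.gp π = P.gp π * P.rr (evn b) ↔ Fx π (evn b) := by
  have hs : ∑ i, evn b (π.symm i) = 0 := by rw [Equiv.sum_comp π.symm (evn b), evn_sum]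
  rw [P.gp_rr hπ (evn_sum b)]
  constructor
  · intro h
    have e : P.rr (fun i => evn b (π.symm i)) * P.rr (evn b) = 1 := by
      rw [← mul_right_cancel h, P.RB_sq (P.rr_mem _)]
    rw [P.rr_mul hs (evn_sum b), P.rr_eq_one (by simp [Finset.sum_add_distrib, hs, evn_sum])] at e
    exact fun i => e i
  · intro h
    rw [P.rr_congr hs (evn_sum b) h]

/-- The four group times the fixed subsets. -/
noncomputable def abHom : Multiplicative (Fin 4 → ZMod 2) →* Equiv.Perm (c.ι → ZMod 2) :=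
  MonoidHom.mk' (fun q => P.rr (yv (Multiplicative.toAdd q)) * P.gp (kk (Multiplicative.toAdd q 2) (Multiplicative.toAdd q 3)))
    fun p q => by
      rw [toAdd_mul, Pi.add_apply, Pi.add_apply, ← yv_add, ← kk_mul, ← P.rr_mul (yv_sum _) (yv_sum _),
        ← P.gp_mul (kk_mem _ _) (kk_mem _ _)]
      have e := P.gp_rr (kk_mem (Multiplicative.toAdd p 2) (Multiplicative.toAdd p 3)) (yv_sum (Multiplicative.toAdd q))
      simp only [yv_kk] at e
      rw [mul_assoc (P.rr _), ← mul_assoc (P.rr (yv (Multiplicative.toAdd q))), ← e]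
      group

/-- The image of the largest elementary abelian subgroup. -/
noncomputable def AB : Subgroup (Equiv.Perm (c.ι → ZMod 2)) := P.abHom.range

theorem mem_AB {σ : Equiv.Perm (c.ι → ZMod 2)} :
    σ ∈ P.AB ↔ ∃ q : Fin 4 → ZMod 2, P.rr (yv q) * P.gp (kk (q 2) (q 3)) = σ :=
  ⟨fun ⟨q, h⟩ => ⟨Multiplicative.toAdd q, h⟩, fun ⟨q, h⟩ => ⟨Multiplicative.ofAdd q, h⟩⟩

theorem AB_card : Nat.card ↥P.AB = 16 := by
  have hinj : Function.Injective P.abHom := (injective_iff_map_eq_one _).mpr fun q hq => by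
    change P.rr (yv _) * P.gp _ = 1 at hq
    have hg : P.gp (kk (Multiplicative.toAdd q 2) (Multiplicative.toAdd q 3)) ∈ P.RB := by
      rw [eq_inv_of_mul_eq_one_right hq]; exact inv_mem (P.rr_mem _)
    have hk := P.gp_RB (kk_mem _ _) hg
    obtain ⟨h2, h3⟩ := kk_inj _ _ 0 0 (hk.trans (show (1 : Equiv.Perm (Fin 6)) = kk 0 0 by decide +kernel))
    rw [hk, P.gp_one, mul_one, P.rr_eq_one (yv_sum _)] at hq
    obtain ⟨h0, h1⟩ := yv_const _ hq
    refine Multiplicative.toAdd.injective (funext fun i => ?_)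
    fin_cases i
    exacts [h0, h1, h2, h3]
  rw [AB, ← Nat.card_congr (MonoidHom.ofInjective hinj).toEquiv]
  simp

theorem AB_le : P.AB ≤ P.St := by
  rintro σ hσ
  obtain ⟨q, rfl⟩ := P.mem_AB.mp hσ
  exact mul_mem (P.RB_le_St (P.rr_mem _)) (P.gp_St (kk_mem _ _))

/-- The totally singular subgroup fixed by it. -/
noncomputable def SA : AddSubgroup (c.ι → ZMod 2) where
  carrier := {u | P.rc u 0 = P.rc u 1 ∧ P.rc u 2 = P.rc u 3 ∧ P.rc u 4 = P.rc u 5}
  zero_mem' := by simp [P.rc_zero]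
  add_mem' := fun {a b} ha hb => ⟨by rw [P.rc_add, P.rc_add, ha.1, hb.1], by rw [P.rc_add, P.rc_add, ha.2.1, hb.2.1],
    by rw [P.rc_add, P.rc_add, ha.2.2, hb.2.2]⟩
  neg_mem' := fun {a} ha => by rw [c.F.W.neg_eq]; exact ha

theorem mem_SA {u : c.ι → ZMod 2} :
    u ∈ P.SA ↔ P.rc u 0 = P.rc u 1 ∧ P.rc u 2 = P.rc u 3 ∧ P.rc u 4 = P.rc u 5 := Iff.rfl

theorem SA_card : Nat.card ↥P.SA = 64 := by
  let e : ↥P.SA ≃ (Fin 3 → F4) :=
    { toFun := fun u => ![P.rc u 0, P.rc u 2, P.rc u 4]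
      invFun := fun r => ⟨P.vec ![r 0, r 0, r 1, r 1, r 2, r 2], by
        simp only [P.mem_SA, P.rc_vec]; exact ⟨rfl, rfl, rfl⟩⟩
      left_inv := fun ⟨u, h0, h1, h2⟩ => Subtype.ext (P.rc_ext fun i => by
        rw [P.rc_vec]
        fin_cases i <;> simp [← h0, ← h1, ← h2])
      right_inv := fun r => funext fun i => by
        fin_cases i <;> simp [P.rc_vec] }
  rw [Nat.card_congr e, Nat.card_eq_fintype_card, Fintype.card_fun, card_F4, Fintype.card_fin]
  norm_num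

theorem SA_perp {u : c.ι → ZMod 2} (hu : u ∈ P.SA) : u ∈ P.perp := by
  rw [P.mem_perp_rc, Fin.sum_univ_six, hu.1, hu.2.1, hu.2.2, f4_two, zero_add, f4_two, zero_add, f4_two]

theorem SA_q {u : c.ι → ZMod 2} (hu : u ∈ P.SA) : c.F.q u = 0 := by
  classical
  have e : c.F.dec (fun i => code4 (c.F.co i u)) = u := by rw [c.F.dec_code, c.F.mk6_co]
  rw [← e, c.F.q_dec]
  have hs : supp6 (fun i => code4 (c.F.co i u)) =
      Finset.univ.filter fun i => (![P.rc u 0, P.rc u 0, P.rc u 2, P.rc u 2, P.rc u 4, P.rc u 4] i : F4) ≠ 0 := by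
    ext i
    rw [mem_supp6, Finset.mem_filter]
    have hi : (![P.rc u 0, P.rc u 0, P.rc u 2, P.rc u 2, P.rc u 4, P.rc u 4] i : F4) = P.rc u i := by
      fin_cases i <;> simp [hu.1, hu.2.1, hu.2.2]
    rw [hi, rc, mul_ne_zero_iff, show (none : Option (ZMod 3)) = code4 0 by decide +kernel, code4_bijective.1.ne_iff]
    simp [pow_ne_zero 2 (P.full i)]
  rw [hs]
  exact pair_sum _ _ _

theorem SA_herm {u w : c.ι → ZMod 2} (hu : u ∈ P.SA) (hw : w ∈ P.SA) : c.F.herm u w = 0 := by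
  rw [P.herm_rc, Fin.sum_univ_six, hu.1, hu.2.1, hu.2.2, hw.1, hw.2.1, hw.2.2, f4_two, zero_add, f4_two, zero_add,
    f4_two]

theorem SA_B {u w : c.ι → ZMod 2} (hu : u ∈ P.SA) (hw : w ∈ P.SA) : c.F.B u w = 0 :=
  ((c.F.perp_iff u w).mp (P.SA_herm hu hw)).1

theorem SA_maximal {u : c.ι → ZMod 2} (h : ∀ w ∈ P.SA, c.F.B u w = 0) : u ∈ P.SA := by
  have key : ∀ r : Fin 6 → F4, r 0 = r 1 → r 2 = r 3 → r 4 = r 5 → ∑ i, P.rc u i * r i ^ 2 = 0 := by
    intro r h0 h1 h2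
    have hm : P.vec r ∈ P.SA := by simp only [P.mem_SA, P.rc_vec]; exact ⟨h0, h1, h2⟩
    have hm' : c.F.om (P.vec r) ∈ P.SA := by
      simp only [P.mem_SA, ← c.F.sm_w, P.rc_sm, P.rc_vec, h0, h1, h2, and_self]
    have e := c.F.herm_eq_zero (h _ hm) (h _ hm')
    rw [P.herm_rc] at e
    simpa only [P.rc_vec] using e
  have k0 := key ![1, 1, 0, 0, 0, 0] rfl rfl rfl
  have k1 := key ![0, 0, 1, 1, 0, 0] rfl rfl rfl
  have k2 := key ![0, 0, 0, 0, 1, 1] rfl rfl rfl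
  simp [Fin.sum_univ_six] at k0 k1 k2
  have e : ∀ a b : F4, a + b = 0 → a = b := by decide +kernel
  exact ⟨e _ _ k0, e _ _ k1, e _ _ k2⟩

theorem AB_fix {σ : Equiv.Perm (c.ι → ZMod 2)} (hσ : σ ∈ P.AB) {u : c.ι → ZMod 2} (hu : u ∈ P.SA) : σ u = u := by
  obtain ⟨q, rfl⟩ := P.mem_AB.mp hσ
  have hg : P.gp (kk (q 2) (q 3)) u = u := P.rc_ext fun i => by
    rw [P.gp_rc' (kk_mem _ _)]
    rcases (show ∀ r : ZMod 2, r = 0 ∨ r = 1 by decide) (q 2) with e | e <;>
      rcases (show ∀ r : ZMod 2, r = 0 ∨ r = 1 by decide) (q 3) with e' | e' <;> rw [e, e'] <;>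
      fin_cases i <;> simp [kk, ZMod.val_one, Equiv.swap_apply_def, Equiv.Perm.mul_def, Equiv.Perm.one_def, hu.1, hu.2.1, hu.2.2]
  rw [Equiv.Perm.mul_apply, hg]
  refine P.rc_ext fun i => ?_
  rw [P.rr_act (yv_sum q) (P.SA_perp hu), Fin.sum_univ_six, hu.1, hu.2.1, hu.2.2]
  simp [yv, f4_two]

theorem fix_perp_of_RB {σ : Equiv.Perm (c.ι → ZMod 2)} (hσ : σ ∈ P.RB) (h1 : σ ≠ 1) {u : c.ι → ZMod 2}
    (hu : σ u = u) : u ∈ P.perp := by
  obtain ⟨w, hw, hne⟩ : ∃ w ∈ P.perp, σ w ≠ w := by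
    by_contra h
    push Not at h
    obtain ⟨r, hr, rfl⟩ := hσ
    exact h1 (P.perm_id (om_comm_M hr.2) fun w hw => h w (P.mem_perp.mpr hw))
  obtain ⟨l, hl⟩ := P.exists_sh hσ
  have e := hl w hw
  set a := ∑ i, P.rc w i * l i
  have ha : a ≠ 0 := fun ha => hne (by rw [e, ha, c.F.sm_zero_left, add_zero])
  have hX := P.RB_le hσ
  have key : ∀ w' a', σ w' = w' + c.F.sm a' (c.pt P.x) → c.F.B u (c.F.sm a' (c.pt P.x)) = 0 := fun w' a' he => by
    have h := XM_B hX u w'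
    rw [hu, he, c.F.B_symm u, c.F.B_add, c.F.B_symm w' u, add_eq_left] at h
    rw [c.F.B_symm]; exact h
  have h2 : σ (c.F.om w) = c.F.om w + c.F.sm (w4 * a) (c.pt P.x) := by
    rw [XM_om hX, e, map_add, ← c.F.sm_w (c.F.sm a _), c.F.sm_sm]
  have h3 := c.F.herm_eq_zero (key w a e) (by
    rw [← c.F.sm_w, c.F.sm_sm]; exact key _ _ h2)
  rw [c.F.herm_sm_right, mul_eq_zero] at h3
  exact P.mem_perp.mpr (h3.resolve_left (pow_ne_zero 2 ha))

theorem fix_RB {u : c.ι → ZMod 2} (h : ∀ σ ∈ P.RB, σ u = u) : u ∈ P.line := by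
  have hs : ∀ i j : Fin 6, i ≠ j → ∑ k, pr i j k = 0 := by decide +kernel
  have hne : P.rr (pr 0 1) ≠ 1 := fun e =>
    absurd (((P.rr_eq_one (hs 0 1 (by decide))).mp e) 2) (by decide +kernel)
  have hu := P.fix_perp_of_RB (P.rr_mem _) hne (h _ (P.rr_mem _))
  refine P.mem_line.mpr ⟨P.rc u 0, (P.rc_ext fun i => ?_).symm⟩
  rw [P.rc_sm, P.rc_pt, mul_one]
  by_cases hi : i = 0
  · rw [hi]
  have e := P.rr_act (hs 0 i (Ne.symm hi)) hu 0
  rw [h _ (P.rr_mem _), left_eq_add, mul_eq_zero] at e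
  have e' := e.resolve_left P.sc_ne
  rw [Finset.sum_eq_add 0 i (Ne.symm hi) (fun j _ hj => by simp [pr, hj.1, hj.2, show bf 0 = 0 from rfl]) (by simp) (by simp)] at e'
  simp [pr, show bf 1 = 1 from rfl] at e'
  exact ((show ∀ a b : F4, a + b = 0 → b = a by decide +kernel) _ _ e')

theorem fix_AB {u : c.ι → ZMod 2} (h : ∀ σ ∈ P.AB, σ u = u) : u ∈ P.SA := by
  have hm : ∀ q, P.rr (yv q) * P.gp (kk (q 2) (q 3)) ∈ P.AB := fun q => P.mem_AB.mpr ⟨q, rfl⟩
  have h0 : P.rr (yv 0) = 1 := (P.rr_eq_one (yv_sum 0)).mpr (fun i => by revert i; decide +kernel)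
  have ha := h _ (hm ![0, 0, 1, 0])
  have hb := h _ (hm ![0, 0, 0, 1])
  rw [show yv ![0, 0, 1, 0] = yv 0 by decide +kernel, h0, one_mul,
    show kk ((![0, 0, 1, 0] : Fin 4 → ZMod 2) 2) ((![0, 0, 1, 0] : Fin 4 → ZMod 2) 3) = kk 1 0 from rfl] at ha
  rw [show yv ![0, 0, 0, 1] = yv 0 by decide +kernel, h0, one_mul,
    show kk ((![0, 0, 0, 1] : Fin 4 → ZMod 2) 2) ((![0, 0, 0, 1] : Fin 4 → ZMod 2) 3) = kk 0 1 from rfl] at hb
  have e1 := P.gp_rc (kk_mem 1 0) u 0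
  have e2 := P.gp_rc (kk_mem 1 0) u 2
  have e3 := P.gp_rc (kk_mem 0 1) u 4
  rw [ha, show kk 1 0 0 = 1 by decide +kernel] at e1
  rw [ha, show kk 1 0 2 = 3 by decide +kernel] at e2
  rw [hb, show kk 0 1 4 = 5 by decide +kernel] at e3
  exact ⟨e1.symm, e2.symm, e3.symm⟩

theorem fix_bound {b : Fin 4 → ZMod 2} {i : Fin 8} (h2 : (P.rr (evn b) * P.gp (d8 i)) * (P.rr (evn b) * P.gp (d8 i)) = 1)
    (h1 : P.rr (evn b) * P.gp (d8 i) ≠ 1) (U : AddSubgroup (c.ι → ZMod 2))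
    (hU : ∀ u ∈ U, (P.rr (evn b) * P.gp (d8 i)) u = u) : Nat.card ↥U ≤ 256 := by
  classical
  set σ := P.rr (evn b) * P.gp (d8 i) with hσ
  by_cases hi : i = 0
  · -- an element of the radical
    subst hi
    rw [show d8 0 = 1 from rfl, P.gp_one, mul_one] at hσ
    have hne : ¬ ∀ k, evn b k = evn b 0 := fun h => h1 (hσ.trans ((P.rr_eq_one (evn_sum b)).mpr h))
    push Not at hne
    obtain ⟨j, hj⟩ := hne
    have hj0 : j ≠ 0 := fun e => hj (by rw [e])
    let f : ↥U → ({k : Fin 6 // k ≠ 0 ∧ k ≠ j} → F4) := fun u k => P.rc u k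
    have hf : Function.Injective f := fun u w e => by
      set d := (u : c.ι → ZMod 2) + w with hd
      have hdU : d ∈ U := add_mem u.2 w.2
      have hdp : d ∈ P.perp := P.fix_perp_of_RB (hσ ▸ P.rr_mem _) h1 (hU d hdU)
      have hz : ∀ k, k ≠ 0 → k ≠ j → P.rc d k = 0 := fun k k0 kj => by
        rw [hd, P.rc_add, show P.rc (u : c.ι → ZMod 2) k = P.rc (w : c.ι → ZMod 2) k from congrFun e ⟨k, k0, kj⟩, f4_two]
      have e1 := P.rr_act (evn_sum b) hdp 0
      rw [← hσ, hU d hdU, left_eq_add, mul_eq_zero] at e1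
      have e1' := e1.resolve_left P.sc_ne
      have e2 := P.mem_perp_rc.mp hdp
      rw [Finset.sum_eq_add 0 j hj0.symm (fun k _ hk => by rw [hz k hk.1 hk.2, zero_mul]) (by simp) (by simp)] at e1'
      rw [Finset.sum_eq_add 0 j hj0.symm (fun k _ hk => hz k hk.1 hk.2) (by simp) (by simp)] at e2
      have key : ∀ x y : F4, ∀ r s : ZMod 2, r ≠ s → x * bf r + y * bf s = 0 → x + y = 0 → x = 0 ∧ y = 0 := by decide +kernel
      obtain ⟨x0, y0⟩ := key _ _ _ _ (Ne.symm hj) e1' e2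
      have hd0 : d = 0 := P.rc_ext fun k => by
        rw [P.rc_zero]
        by_cases k0 : k = 0
        · rw [k0]; exact x0
        by_cases kj : k = j
        · rw [kj]; exact y0
        exact hz k k0 kj
      refine Subtype.ext ?_
      rw [hd, add_eq_zero_iff_eq_neg, c.F.W.neg_eq] at hd0
      exact hd0
    refine (Nat.card_le_card_of_injective f hf).trans ?_
    rw [Nat.card_eq_fintype_card, Fintype.card_fun, card_F4, Fintype.card_subtype, avoid_card j hj0]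
    norm_num
  · -- a double transposition
    have hσS : σ ∈ P.St := mul_mem (P.RB_le_St (P.rr_mem _)) (P.gp_St (d8_mem i))
    have hsq : d8 i * d8 i = 1 := by
      have e := P.pr6_eq (σ := ⟨σ, hσS⟩) (d8_mem i) hσ
      have h := congrArg P.pr6 (show (⟨σ, hσS⟩ : ↥P.St) * ⟨σ, hσS⟩ = 1 from Subtype.ext h2)
      rw [map_mul, map_one, e] at h
      exact congrArg Subtype.val h
    obtain ⟨p0, p2, p4, p5⟩ := d8_pairs i hi hsq
    let g : ↥U →+ F4 := AddMonoidHom.mk' (fun u => c.F.herm u (c.pt P.x)) fun u w => c.F.herm_add _ _ _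
    let f : ↥g.ker → Fin 3 → F4 := fun u => ![P.rc u.1 (dw i 0), P.rc u.1 (dw i 2), P.rc u.1 (dw i 4)]
    have hf : Function.Injective f := fun u w e => by
      set d := (u.1 : c.ι → ZMod 2) + w.1 with hd
      have hdU : d ∈ U := add_mem u.1.2 w.1.2
      have hdp : d ∈ P.perp := add_mem (P.mem_perp.mpr u.2) (P.mem_perp.mpr w.2)
      have hgd : P.gp (d8 i) d ∈ P.perp := P.gp_perp (d8_mem i) hdp
      have hfix := hU d hdU
      rw [hσ, Equiv.Perm.mul_apply] at hfix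
      have e0 : ∀ k, P.rc d k = P.rc (P.gp (d8 i) d) k + P.sc * ∑ j, P.rc (P.gp (d8 i) d) j * bf (evn b j) := fun k => by
        conv_lhs => rw [← hfix]
        exact P.rr_act (evn_sum b) hgd k
      have hgk : ∀ k, P.rc (P.gp (d8 i) d) (d8 i k) = P.rc d k := P.gp_rc (d8_mem i) d
      have et := e0 (dw i 4)
      conv_rhs at et => arg 1; rw [← p4, hgk]
      rw [left_eq_add] at et
      have hp : ∀ k, P.rc d (d8 i k) = P.rc d k := fun k => by rw [e0, et, add_zero, hgk]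
      have z0 : ∀ n : Fin 3, P.rc d (![dw i 0, dw i 2, dw i 4] n) = 0 := fun n => by
        have := congrFun e n
        rw [hd, P.rc_add]
        fin_cases n <;> simp [f] at this ⊢ <;> rw [this, f4_two]
      have a0 : P.rc d (dw i 0) = 0 := z0 0
      have a2 : P.rc d (dw i 2) = 0 := z0 1
      have a4 : P.rc d (dw i 4) = 0 := z0 2
      have a1 : P.rc d (dw i 1) = 0 := by rw [← p0, hp, a0]
      have a3 : P.rc d (dw i 3) = 0 := by rw [← p2, hp, a2]
      have a5 : P.rc d (dw i 5) = 0 := by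
        have hs := P.mem_perp_rc.mp hdp
        rw [Fintype.sum_eq_single (dw i 5) fun k hk => ?_] at hs
        · exact hs
        obtain ⟨n, rfl⟩ := dw_bij i k
        fin_cases n
        exacts [a0, a1, a2, a3, a4, absurd rfl hk]
      have hd0 : d = 0 := P.rc_ext fun k => by
        rw [P.rc_zero]
        obtain ⟨n, rfl⟩ := dw_bij i k
        fin_cases n
        exacts [a0, a1, a2, a3, a4, a5]
      refine Subtype.ext (Subtype.ext ?_)
      rw [hd, add_eq_zero_iff_eq_neg, c.F.W.neg_eq] at hd0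
      exact hd0
    have hk : Nat.card ↥g.ker ≤ 64 := (Nat.card_le_card_of_injective f hf).trans
      (by rw [Nat.card_eq_fintype_card, Fintype.card_fun, card_F4, Fintype.card_fin]; norm_num)
    have hidx : g.ker.index ≤ 4 := by
      rw [AddSubgroup.index_ker]
      exact (Finite.card_subtype_le _).trans (by rw [Nat.card_eq_fintype_card, card_F4])
    rw [← g.ker.card_mul_index]
    exact Nat.mul_le_mul hk hidx

/-- The elements whose permutation part commutes with a double transposition. -/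
def P2 (σ : Equiv.Perm (c.ι → ZMod 2)) : Prop := ∃ b i, σ = P.rr (evn b) * P.gp (d8 i)

/-- Elementary abelian subgroups of the stabiliser. -/
theorem elementary_cases (E : Subgroup (Equiv.Perm (c.ι → ZMod 2))) (h2 : ∀ e ∈ E, e * e = 1)
    (hc : ∀ a ∈ E, ∀ b ∈ E, a * b = b * a) (hP : ∀ e ∈ E, P.P2 e) :
    E ≤ P.RB ∨ E ≤ P.AB ∨ Nat.card ↥E ≤ 8 := by
  classical
  by_cases hR : E ≤ P.RB
  · exact Or.inl hR
  have hES : E ≤ P.St := fun e he => by
    obtain ⟨b, i, rfl⟩ := hP e he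
    exact mul_mem (P.RB_le_St (P.rr_mem _)) (P.gp_St (d8_mem i))
  -- commuting with an element of the radical
  have hfx : ∀ b, P.rr (evn b) ∈ E → ∀ b' i', P.rr (evn b') * P.gp (d8 i') ∈ E → Fx (d8 i') (evn b) := by
    intro b hb b' i' he
    refine (P.rr_comm_iff (d8_mem i') b).mp ?_
    have h := hc _ hb _ he
    have hcm : P.rr (evn b) * P.rr (evn b') = P.rr (evn b') * P.rr (evn b) := by
      rw [P.rr_mul (evn_sum _) (evn_sum _), P.rr_mul (evn_sum _) (evn_sum _), add_comm]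
    rw [← mul_assoc, hcm, mul_assoc, mul_assoc] at h
    exact mul_left_cancel h
  have hinv : ∀ b i, P.rr (evn b) * P.gp (d8 i) ∈ E → d8 i * d8 i = 1 ∧ Fx (d8 i) (evn b) := by
    intro b i he
    have e := P.pr6_eq (σ := ⟨_, hES he⟩) (d8_mem i) (b := b) rfl
    have hsq : d8 i * d8 i = 1 := by
      have h := congrArg P.pr6 (show (⟨_, hES he⟩ : ↥P.St) * ⟨_, hES he⟩ = 1 from Subtype.ext (h2 _ he))
      rw [map_mul, map_one, e] at h
      exact congrArg Subtype.val h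
    refine ⟨hsq, (P.rr_comm_iff (d8_mem i) b).mp ?_⟩
    have h := h2 _ he
    have hg2 : P.gp (d8 i) * P.gp (d8 i) = 1 := by rw [P.gp_mul (d8_mem i) (d8_mem i), hsq, P.gp_one]
    calc P.rr (evn b) * P.gp (d8 i) = (P.rr (evn b) * P.gp (d8 i))⁻¹ := (inv_eq_of_mul_eq_one_right h).symm
      _ = P.gp (d8 i) * P.rr (evn b) := by
        rw [_root_.mul_inv_rev, inv_eq_of_mul_eq_one_right hg2, inv_eq_of_mul_eq_one_right (P.RB_sq (P.rr_mem _))]
  obtain ⟨e0, he0, he0R⟩ := SetLike.not_le_iff_exists.mp hR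
  obtain ⟨b0, i0, rfl⟩ := hP e0 he0
  have hi0 : i0 ≠ 0 := fun h => he0R (by rw [h, show d8 0 = 1 from rfl, P.gp_one, mul_one]; exact P.rr_mem _)
  by_cases hall : ∀ b i, P.rr (evn b) * P.gp (d8 i) ∈ E → i.val ≤ 3
  · refine Or.inr (Or.inl fun e he => ?_)
    obtain ⟨b, i, rfl⟩ := hP e he
    obtain ⟨a, a', hk⟩ := d8_kk i (hall b i he)
    have hY : InY (evn b) := by
      by_cases hi : i = 0
      · subst hi
        obtain ⟨a0, a0', hk0⟩ := d8_kk i0 (hall b0 i0 he0)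
        rw [show d8 0 = 1 from rfl, P.gp_one, mul_one] at he
        have hne : a0 ≠ 0 ∨ a0' ≠ 0 := by
          by_contra hn
          push Not at hn
          exact hi0 (d8_inj (hk0.trans (by rw [hn.1, hn.2]; decide +kernel)))
        exact (fx_kk a0 a0' b hne).mp (hk0 ▸ hfx b he b0 i0 he0)
      · have hne : a ≠ 0 ∨ a' ≠ 0 := by
          by_contra hn
          push Not at hn
          exact hi (d8_inj (hk.trans (by rw [hn.1, hn.2]; decide +kernel)))
        exact (fx_kk a a' b hne).mp (hk ▸ (hinv b i he).2)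
    refine P.mem_AB.mpr ⟨![b 0, b 2, a, a'], ?_⟩
    rw [← evn_yv b hY a a', hk]
    rfl
  -- an element outside the four group
  refine Or.inr (Or.inr ?_)
  push Not at hall
  obtain ⟨b1, i1, he1, hi1⟩ := hall
  let π6 : ↥E →* ↥(alternatingGroup (Fin 6)) := P.pr6.comp (Subgroup.inclusion hES)
  have himg : ∀ p ∈ π6.range, (p : Equiv.Perm (Fin 6)) ∈ ({1, kap, d8 i1, kap * d8 i1} : Finset (Equiv.Perm (Fin 6))) := by
    rintro _ ⟨⟨e, he⟩, rfl⟩
    obtain ⟨b, i, rfl⟩ := hP e he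
    have ei : π6 ⟨_, he⟩ = ⟨d8 i, d8_mem i⟩ := P.pr6_eq (d8_mem i) rfl
    have ei1 : π6 ⟨_, he1⟩ = ⟨d8 i1, d8_mem i1⟩ := P.pr6_eq (d8_mem i1) rfl
    have hcomm : d8 i1 * d8 i = d8 i * d8 i1 := by
      have h := congrArg π6 (show (⟨_, he1⟩ : ↥E) * ⟨_, he⟩ = ⟨_, he⟩ * ⟨_, he1⟩ from Subtype.ext (hc _ he1 _ he))
      rw [map_mul, map_mul, ei, ei1] at h
      exact congrArg Subtype.val h
    rw [ei]
    have := d8_cent i1 i hi1 (hinv b i he).1 hcomm
    simp only [Finset.mem_insert, Finset.mem_singleton]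
    exact this
  have hker : ∀ e : ↥π6.ker, ∃ b, P.rr (evn b) = ((e : ↥E) : Equiv.Perm (c.ι → ZMod 2)) := fun e =>
    P.RB_onto (P.pr6_ker.mp e.2)
  choose kb hkb using hker
  have hkinj : Function.Injective kb := fun a a' h => Subtype.ext (Subtype.ext (by rw [← hkb a, ← hkb a', h]))
  have hkmem : ∀ e, Fx (d8 i1) (evn (kb e)) := fun e => hfx _ (by rw [hkb]; exact e.1.2) b1 i1 he1
  rw [← π6.ker.card_mul_index, Subgroup.index_ker]
  have hkap : d8 1 = kap := rfl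
  by_cases hκ : ∃ b, P.rr (evn b) * P.gp kap ∈ E
  · obtain ⟨bk, hbk⟩ := hκ
    have hk2 : Nat.card ↥π6.ker ≤ 2 := by
      refine le_trans (Nat.card_le_card_of_injective
        (fun e => (⟨kb e, Finset.mem_filter.mpr ⟨Finset.mem_univ _, hkap ▸ hfx _ (by rw [hkb]; exact e.1.2) bk 1 (hkap.symm ▸ hbk), hkmem e⟩⟩ :
          ↥(Finset.univ.filter fun c : Fin 4 → ZMod 2 => Fx kap (evn c) ∧ Fx (d8 i1) (evn c))))
        fun a a' h => hkinj (congrArg Subtype.val h)) ?_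
      rw [Nat.card_eq_fintype_card, Fintype.card_coe]
      exact fx_count_two i1 hi1 (hinv b1 i1 he1).1
    have hr4 : Nat.card ↥π6.range ≤ 4 := by
      refine le_trans (Nat.card_le_card_of_injective
        (fun p => (⟨((p : ↥(alternatingGroup (Fin 6))) : Equiv.Perm (Fin 6)), himg p.1 p.2⟩ :
          ↥({1, kap, d8 i1, kap * d8 i1} : Finset (Equiv.Perm (Fin 6))))) fun a a' h => by
            exact Subtype.ext (Subtype.ext (congrArg Subtype.val h :))) ?_
      rw [Nat.card_eq_fintype_card, Fintype.card_coe]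
      exact Finset.card_le_four
    exact Nat.mul_le_mul hk2 hr4
  · have hk4 : Nat.card ↥π6.ker ≤ 4 := by
      refine le_trans (Nat.card_le_card_of_injective
        (fun e => (⟨kb e, Finset.mem_filter.mpr ⟨Finset.mem_univ _, hkmem e⟩⟩ :
          ↥(Finset.univ.filter fun c : Fin 4 → ZMod 2 => Fx (d8 i1) (evn c))))
        fun a a' h => hkinj (congrArg Subtype.val h)) ?_
      rw [Nat.card_eq_fintype_card, Fintype.card_coe]
      exact fx_count i1 fun h => by rw [h] at hi1; exact absurd hi1 (by decide)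
    have hr2 : Nat.card ↥π6.range ≤ 2 := by
      refine le_trans (Nat.card_le_card_of_injective
        (fun p => (⟨((p : ↥(alternatingGroup (Fin 6))) : Equiv.Perm (Fin 6)), ?_⟩ :
          ↥({1, d8 i1} : Finset (Equiv.Perm (Fin 6))))) fun a a' h => by
            exact Subtype.ext (Subtype.ext (congrArg Subtype.val h :))) ?_
      · have h4 := himg p.1 p.2
        simp only [Finset.mem_insert, Finset.mem_singleton] at h4 ⊢
        obtain ⟨⟨e, he⟩, hp⟩ := p.2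
        obtain ⟨b, i, rfl⟩ := hP e he
        have ei : π6 ⟨_, he⟩ = ⟨d8 i, d8_mem i⟩ := P.pr6_eq (d8_mem i) rfl
        rw [← hp, ei] at h4 ⊢
        rcases h4 with h | h | h | h
        · exact Or.inl h
        · exact absurd ⟨b, (show d8 i = kap from h) ▸ he⟩ hκ
        · exact Or.inr h
        · exfalso
          have hm := mul_mem he he1
          have ek : π6 (⟨_, he⟩ * ⟨_, he1⟩) = ⟨kap, hkap ▸ d8_mem 1⟩ := by
            rw [map_mul, ei, show π6 ⟨_, he1⟩ = ⟨d8 i1, d8_mem i1⟩ from P.pr6_eq (d8_mem i1) rfl]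
            refine Subtype.ext ?_
            show d8 i * d8 i1 = kap
            rw [show d8 i = kap * d8 i1 from h, mul_assoc, (hinv b1 i1 he1).1, mul_one]
          obtain ⟨b', hb'⟩ := P.pr6_spec ⟨_, hES hm⟩
          refine hκ ⟨b', ?_⟩
          change _ = P.rr (evn b') * P.gp ((π6 (⟨_, he⟩ * ⟨_, he1⟩) : ↥(alternatingGroup (Fin 6))) : Equiv.Perm (Fin 6)) at hb'
          rw [ek] at hb'
          rw [← hb']; exact hm
      · rw [Nat.card_eq_fintype_card, Fintype.card_coe]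
        exact Finset.card_le_two
    exact Nat.mul_le_mul hk4 hr2

end LinePt

end Ctx

end Cfsg.Lib.LargeFischer
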