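import Cfsg.Agent.LargeFischer.LineModule
import Cfsg.Agent.LargeFischer.PlaneShort
import Cfsg.Agent.LargeFischer.StabElementary

/-!
A four-group above a line of the short orbit: its centralizer meets the centralizer of the central involution in a
group with quotient the unitary group of dimension four, and lies in the derived subgroup of its centralizer.
-/

set_option autoImplicit false
set_option maxRecDepth 100000
set_option maxHeartbeats 1000000
set_option linter.unusedSectionVars false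
set_option linter.style.haveILetI false

namespace Cfsg.Lib.LargeFischer

open Subgroup
open Cfsg.Lib.LargeExtra.OutExtra
open scoped commutatorElement

universe u

variable {G : Type u} [Group G] [Finite G] {z : G} {Q : Subgroup (centralizer ({z} : Set G))} [Q.Normal]

namespace Ctx

variable {c : Ctx z Q}

theorem mul_self_of_q {y : ↥Q} (h : c.F.q (c.pt y) = 0) : y * y = 1 := by
  rw [mul_self_eq c.D.es, ← c.D.hT, ← c.Fq, ← Ctx.pt, h, Cfsg.Lib.ExtraOut.pw_zero]

theorem B_of_commute {a b : ↥Q} (h : Commute (a : ↥(centralizer ({z} : Set G))) b) : c.F.B (c.pt a) (c.pt b) = 0 := by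
  have h1 := c.F.q_add (c.pt a) (c.pt b)
  rw [← pt_mul, c.Fq, pt, pt, pt, c.D.hT, c.D.hT, c.D.hT, sq_mul c.D.es] at h1
  refine (add_left_cancel h1).symm.trans (if_pos ?_)
  first | exact Subtype.ext h.eq | exact Subtype.ext h.eq.symm

/-- Two lifts spanning a line of the short orbit. -/
structure Four (c : Ctx z Q) where
  a : ↥Q
  b : ↥Q
  pa : c.pt a = c.F.v0
  pb : c.pt b = c.F.om c.F.v0
  hz : ∃ g : G, (∃ hq : g * z * g⁻¹ ∈ centralizer ({z} : Set G),
      (⟨g * z * g⁻¹, hq⟩ : centralizer ({z} : Set G)) ∈ Q) ∧ g * z * g⁻¹ ≠ z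

namespace Four

variable (L : c.Four)

/-- The first lift in the whole group. -/
abbrev ga : G := ((L.a : ↥(centralizer ({z} : Set G))) : G)

/-- The second lift in the whole group. -/
abbrev gb : G := ((L.b : ↥(centralizer ({z} : Set G))) : G)

theorem om_short : c.F.om c.F.v0 ∈ c.F.orb c.F.v0 :=
  ⟨c.F.E.α (Pi.single 0 1), rfl⟩

theorem sum_short : c.F.v0 + c.F.om c.F.v0 ∈ c.F.orb c.F.v0 := by
  have h : c.F.v0 + c.F.om c.F.v0 = c.F.om (c.F.om c.F.v0) := by
    rw [← c.F.sm_w, ← c.F.sm_w, c.F.sm_sm, show w4 * w4 = 1 + w4 by decide +kernel, c.F.sm_add_left, c.F.sm_one]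
  rw [h]
  refine ⟨c.F.E.α (Pi.single 0 1) * c.F.E.α (Pi.single 0 1), ?_⟩
  rw [map_mul]
  rfl

theorem sq_short {y : ↥Q} (hy : c.pt y ∈ c.F.orb c.F.v0) : y * y = 1 :=
  mul_self_of_q (c.F.orb_sing c.v0_sing hy).1

include L in
theorem not_conj_short {y : ↥Q} (hy : c.pt y ∈ c.F.orb c.F.v0) :
    ((y : ↥(centralizer ({z} : Set G))) : G) ≠ 1 ∧ ¬ IsConj z ((y : ↥(centralizer ({z} : Set G))) : G) := by
  obtain ⟨h1, h2⟩ := (LinePt.pt_nonconj L.hz (congrArg Subtype.val (sq_short hy))).mpr hy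
  exact ⟨fun e => h1 (Subtype.ext e), h2⟩

theorem B_ab : c.F.B (c.pt L.a) (c.pt L.b) = 0 := by
  rw [L.pa, L.pb, c.F.B_symm, c.F.B_v0, c.F.co_om, c.F.co_om, c.F.co_v0, c.F.co_v0]
  simp [FSetting.v0c, f4_two]

theorem sq_a : L.ga * L.ga = 1 :=
  congrArg (fun y : ↥Q => ((y : ↥(centralizer ({z} : Set G))) : G))
    (sq_short (y := L.a) (by rw [L.pa]; exact c.F.orb_self _))

theorem sq_b : L.gb * L.gb = 1 :=
  congrArg (fun y : ↥Q => ((y : ↥(centralizer ({z} : Set G))) : G))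
    (sq_short (y := L.b) (by rw [L.pb]; exact om_short))

theorem comm_ab : Commute L.ga L.gb := congrArg Subtype.val (c.commute_of_B L.B_ab).eq

/-- The four-group. -/
def E : Subgroup G where
  carrier := {x | x = 1 ∨ x = L.ga ∨ x = L.gb ∨ x = L.ga * L.gb}
  one_mem' := Or.inl rfl
  mul_mem' := by
    have ha := L.sq_a
    have hb := L.sq_b
    have hc := L.comm_ab.eq
    have h1 : L.ga * (L.ga * L.gb) = L.gb := by rw [← mul_assoc, ha, one_mul]
    have h2 : L.gb * (L.ga * L.gb) = L.ga := by rw [← mul_assoc, ← hc, mul_assoc, hb, mul_one]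
    have h3 : L.ga * L.gb * L.gb = L.ga := by rw [mul_assoc, hb, mul_one]
    have h4 : L.ga * L.gb * L.ga = L.gb := by rw [hc, mul_assoc, ha, mul_one]
    have h5 : L.ga * L.gb * (L.ga * L.gb) = 1 := by rw [← mul_assoc, h4, hb]
    rintro x y (rfl | rfl | rfl | rfl) (rfl | rfl | rfl | rfl) <;>
      simp only [Set.mem_setOf_eq, one_mul, mul_one, ha, hb, h1, h2, h3, h4, h5, ← hc, true_or, or_true]
  inv_mem' := by
    rintro x (rfl | rfl | rfl | rfl)
    · exact Or.inl inv_one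
    · exact Or.inr (Or.inl (inv_eq_of_mul_eq_one_right L.sq_a))
    · exact Or.inr (Or.inr (Or.inl (inv_eq_of_mul_eq_one_right L.sq_b)))
    · refine Or.inr (Or.inr (Or.inr ?_))
      rw [mul_inv_rev, inv_eq_of_mul_eq_one_right L.sq_a, inv_eq_of_mul_eq_one_right L.sq_b, L.comm_ab.eq]

theorem mem_E {x : G} : x ∈ L.E ↔ x = 1 ∨ x = L.ga ∨ x = L.gb ∨ x = L.ga * L.gb := Iff.rfl

theorem a_mem : L.ga ∈ L.E := Or.inr (Or.inl rfl)

theorem b_mem : L.gb ∈ L.E := Or.inr (Or.inr (Or.inl rfl))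

theorem exists_lift {e : G} (he : e ∈ L.E) (h1 : e ≠ 1) :
    ∃ y : ↥Q, ((y : ↥(centralizer ({z} : Set G))) : G) = e ∧ c.pt y ∈ c.F.orb c.F.v0 := by
  rcases L.mem_E.mp he with rfl | rfl | rfl | rfl
  · exact absurd rfl h1
  · exact ⟨L.a, rfl, by rw [L.pa]; exact c.F.orb_self _⟩
  · exact ⟨L.b, rfl, by rw [L.pb]; exact om_short⟩
  · exact ⟨L.a * L.b, rfl, by rw [c.pt_mul, L.pa, L.pb]; exact sum_short⟩

theorem not_conj {e : G} (he : e ∈ L.E) : ¬ IsConj z e := by
  rcases eq_or_ne e 1 with rfl | h1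
  · exact fun h => c.X2g.ne (isConj_one_left.mp h)
  · obtain ⟨y, rfl, hy⟩ := L.exists_lift he h1
    exact (L.not_conj_short hy).2

theorem not_conj_mul {e : G} (he : e ∈ L.E) (h1 : e ≠ 1) : ¬ IsConj z (z * e) := by
  obtain ⟨y, rfl, hy⟩ := L.exists_lift he h1
  have h : c.pt (c.zq * y) ∈ c.F.orb c.F.v0 := by
    rwa [c.pt_mul, show c.pt c.zq = 0 from c.D.π_z, zero_add]
  have h2 := (L.not_conj_short h).2
  rwa [Subgroup.coe_mul, Subgroup.coe_mul, c.zv] at h2

theorem z_notMem : z ∉ L.E := fun h => L.not_conj h (IsConj.refl z)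

theorem E_le : L.E ≤ Q.map (centralizer ({z} : Set G)).subtype := fun e he => by
  rcases eq_or_ne e 1 with rfl | h1
  · exact one_mem _
  · obtain ⟨y, rfl, -⟩ := L.exists_lift he h1
    exact ⟨_, y.2, rfl⟩

theorem E_sq {e : G} (he : e ∈ L.E) : e * e = 1 := by
  rcases eq_or_ne e 1 with rfl | h1
  · exact one_mul 1
  · obtain ⟨y, rfl, hy⟩ := L.exists_lift he h1
    exact congrArg (fun y : ↥Q => ((y : ↥(centralizer ({z} : Set G))) : G)) (sq_short hy)

theorem ab_ne : L.ga ≠ 1 ∧ L.gb ≠ 1 ∧ L.ga ≠ L.gb := by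
  refine ⟨(L.not_conj_short (by rw [L.pa]; exact c.F.orb_self _)).1,
    (L.not_conj_short (by rw [L.pb]; exact om_short)).1, fun e => ?_⟩
  have h : c.pt L.a = c.pt L.b := congrArg c.pt (Subtype.ext (Subtype.ext e))
  rw [L.pa, L.pb] at h
  have h2 := congrArg (c.F.co 0) h
  rw [c.F.co_om, c.F.co_v0] at h2
  revert h2
  decide +kernel

theorem card_E : Nat.card ↥L.E = 4 := by
  obtain ⟨h1, h2, h3⟩ := L.ab_ne
  have e : (L.E : Set G) = ({1, L.ga, L.gb, L.ga * L.gb} : Set G) := by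
    ext x
    exact L.mem_E.trans (by simp)
  rw [← SetLike.coe_sort_coe, Nat.card_coe_set_eq, e, Set.ncard_insert_of_notMem, Set.ncard_insert_of_notMem,
    Set.ncard_pair]
  · exact fun h => h1 (mul_eq_right.mp h.symm)
  · simp only [Set.mem_insert_iff, Set.mem_singleton_iff, not_or]
    exact ⟨h3, fun h => h2 (left_eq_mul.mp h)⟩
  · simp only [Set.mem_insert_iff, Set.mem_singleton_iff, not_or]
    exact ⟨h1.symm, h2.symm, fun h => h3 ((inv_eq_of_mul_eq_one_right L.sq_a).symm.trans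
      (inv_eq_of_mul_eq_one_right h.symm))⟩

theorem elementary : Cfsg.IsElementaryAbelian 2 L.E :=
  ⟨⟨⟨fun x y => Subtype.ext (by
      have h : ∀ {p : G}, p ∈ L.E → p⁻¹ = p := fun hp => inv_eq_of_mul_eq_one_right (L.E_sq hp)
      show (x : G) * y = y * x
      rw [← h (mul_mem x.2 y.2), mul_inv_rev, h x.2, h y.2])⟩⟩,
    fun x hx => by rw [pow_two]; exact L.E_sq hx⟩

/-- The centralizer of the four-group. -/
abbrev C : Subgroup G := centralizer (L.E : Set G)

theorem mem_C {g : G} : g ∈ L.C ↔ Commute g L.ga ∧ Commute g L.gb := by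
  constructor
  · intro h
    exact ⟨(mem_centralizer_iff.mp h _ L.a_mem).symm, (mem_centralizer_iff.mp h _ L.b_mem).symm⟩
  · rintro ⟨ha, hb⟩
    refine mem_centralizer_iff.mpr fun x hx => ?_
    rcases L.mem_E.mp hx with rfl | rfl | rfl | rfl
    exacts [by simp, ha.eq.symm, hb.eq.symm, (ha.mul_right hb).eq.symm]

theorem E_le_C : L.E ≤ L.C := fun x hx => L.mem_C.mpr
  ⟨congrArg Subtype.val (L.elementary.1.is_comm.comm ⟨x, hx⟩ ⟨_, L.a_mem⟩),
    congrArg Subtype.val (L.elementary.1.is_comm.comm ⟨x, hx⟩ ⟨_, L.b_mem⟩)⟩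

theorem z_mem_C : z ∈ L.C :=
  L.mem_C.mpr ⟨(mem_centralizer_singleton_iff.mp (L.a : ↥(centralizer ({z} : Set G))).2).symm,
    (mem_centralizer_singleton_iff.mp (L.b : ↥(centralizer ({z} : Set G))).2).symm⟩

theorem mem_C_Q (q : ↥Q) : ((q : ↥(centralizer ({z} : Set G))) : G) ∈ L.C ↔
    c.F.co 0 (c.pt q) = c.F.co 1 (c.pt q) := by
  rw [L.mem_C, ← c.F.perp_line_iff, ← L.pa]
  conv_rhs => rw [L.pa, ← L.pb, ← L.pa]
  constructor
  · rintro ⟨h1, h2⟩
    exact ⟨B_of_commute (Subtype.ext h1.eq), B_of_commute (Subtype.ext h2.eq)⟩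
  · rintro ⟨h1, h2⟩
    exact ⟨congrArg Subtype.val (c.commute_of_B h1).eq, congrArg Subtype.val (c.commute_of_B h2).eq⟩

/-- An element of the centralizer of the involution centralizing the four-group fixes the base point and its
multiples, and lies in the normal subgroup of index two. -/
theorem fix_of_mem {h : ↥(centralizer ({z} : Set G))} (hh : (h : G) ∈ L.C) :
    h ∈ c.M ∧ rep Q c.D h c.F.v0 = c.F.v0 := by
  obtain ⟨ha, hb⟩ := L.mem_C.mp hh
  have ea : rep Q c.D h c.F.v0 = c.F.v0 := by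
    rw [← L.pa, c.act]
    refine congrArg c.pt (Subtype.ext (Subtype.ext ?_))
    rw [MulAut.conjNormal_apply]
    exact mul_inv_eq_iff_eq_mul.mpr ha.eq
  have eb : rep Q c.D h (c.F.om c.F.v0) = c.F.om c.F.v0 := by
    rw [← L.pb, c.act]
    refine congrArg c.pt (Subtype.ext (Subtype.ext ?_))
    rw [MulAut.conjNormal_apply]
    exact mul_inv_eq_iff_eq_mul.mpr hb.eq
  refine ⟨?_, ea⟩
  by_contra hM
  obtain ⟨P⟩ := c.exists_linePt L.hz
  rw [P.om_outside hM, ea] at eb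
  exact c.v0_sing.2 (c.F.central_fpf ((c.F.t_inj _) eb))

/-- The element of the stabiliser given by an element centralizing the four-group. -/
theorem exists_K0 {h : ↥(centralizer ({z} : Set G))} (hh : (h : G) ∈ L.C) :
    ∃ g ∈ c.F.K0, ∀ v, c.F.ρ g v = rep Q c.D h v := by
  obtain ⟨hM, hv⟩ := L.fix_of_mem hh
  refine ⟨⟨rep Q c.D h, ⟨⟨h, hM⟩, rfl⟩⟩, ?_, fun v => by rw [c.ρ_val]⟩
  show c.F.ρ _ c.F.v0 = c.F.v0
  rw [c.ρ_val]
  exact hv

theorem exists_shifter : ∃ q : ↥Q, Commute (q : ↥(centralizer ({z} : Set G))) L.a ∧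
    ¬ Commute (q : ↥(centralizer ({z} : Set G))) L.b := by
  obtain ⟨q, hq⟩ := c.D.surj (c.F.mk6 ![1, 0, 0, 0, 0, 0])
  change c.pt q = _ at hq
  refine ⟨q, c.commute_of_B ?_, fun h => ?_⟩
  · rw [hq, L.pa, c.F.B_v0, c.F.co_mk6, c.F.co_mk6]; decide +kernel
  · have h2 := B_of_commute (c := c) h
    rw [hq, L.pb, c.F.B_wv0, c.F.co_mk6, c.F.co_mk6] at h2
    revert h2
    decide +kernel

/-- Every element of the stabiliser of the base point is induced inside the centralizer of the four-group. -/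
theorem lift_K0 {g : ↥((rep Q c.D).comp c.M.subtype).range} (hg : g ∈ c.F.K0) :
    ∃ h : ↥(centralizer ({z} : Set G)), (h : G) ∈ L.C ∧ ∀ v, rep Q c.D h v = c.F.ρ g v := by
  have hfix : c.F.ρ g c.F.v0 = c.F.v0 := hg
  obtain ⟨_, m, rfl⟩ := g
  rw [c.ρ_val] at hfix ⊢
  set σ := rep Q c.D (m : ↥(centralizer ({z} : Set G))) with hσ
  obtain ⟨hna, hnb, -⟩ := L.ab_ne
  obtain ⟨h, hha, hρ, hM⟩ := c.conj_of_rep (m : ↥(centralizer ({z} : Set G))) L.a L.a
    (by rw [L.pa]; exact hfix)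
    (fun e => (L.not_conj L.a_mem) (by show IsConj z L.ga; rw [show L.ga = z from e]))
    (fun e => hna (congrArg Subtype.val e))
  have ha : Commute (h : G) L.ga := congrArg Subtype.val (mul_inv_eq_iff_eq_mul.mp hha)
  have eb : c.pt (MulAut.conjNormal h L.b) = c.pt L.b := by
    rw [← c.act, hρ, L.pb, LinePt.om_comm_M m.2, show rep Q c.D (m : ↥(centralizer ({z} : Set G))) c.F.v0 = c.F.v0 from hfix]
  rcases c.pt_eq eb.symm with e | e <;> rw [MulAut.conjNormal_apply] at e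
  · exact ⟨h, L.mem_C.mpr ⟨ha, congrArg Subtype.val (mul_inv_eq_iff_eq_mul.mp e)⟩,
      fun v => by rw [hρ]; rfl⟩
  · obtain ⟨q, hqa, hqb⟩ := L.exists_shifter
    refine ⟨q * h, L.mem_C.mpr ⟨Commute.mul_left (congrArg Subtype.val hqa.eq) ha, ?_⟩, fun v => by
      rw [map_mul, c.rep_Q q.2, one_mul, hρ]; rfl⟩
    have hq : (q : ↥(centralizer ({z} : Set G))) * L.b * (q : ↥(centralizer ({z} : Set G)))⁻¹ = c.zH * L.b :=
      (c.conj_cases q.2 L.b.2).resolve_left fun e => hqb (mul_inv_eq_iff_eq_mul.mp e)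
    have h2 : (q : ↥(centralizer ({z} : Set G))) * h * L.b * ((q : ↥(centralizer ({z} : Set G))) * h)⁻¹ = L.b := by
      calc (q : ↥(centralizer ({z} : Set G))) * h * L.b * ((q : ↥(centralizer ({z} : Set G))) * h)⁻¹
          = (q : ↥(centralizer ({z} : Set G))) * (h * L.b * h⁻¹) * (q : ↥(centralizer ({z} : Set G)))⁻¹ := by group
        _ = (q : ↥(centralizer ({z} : Set G))) * (L.b * c.zH) * (q : ↥(centralizer ({z} : Set G)))⁻¹ := by rw [e]
        _ = (q : ↥(centralizer ({z} : Set G))) * L.b * (q : ↥(centralizer ({z} : Set G)))⁻¹ * c.zH := by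
            rw [mul_assoc _ _ (q : ↥(centralizer ({z} : Set G)))⁻¹, mul_assoc _ c.zH, ← (c.zH_comm _).eq]; group
        _ = L.b := by
            rw [hq, mul_assoc, (c.zH_comm (L.b : ↥(centralizer ({z} : Set G)))).eq, ← mul_assoc, c.zH_sq, one_mul]
    exact congrArg Subtype.val (mul_inv_eq_iff_eq_mul.mp h2)

/-- The perpendicular space of the line. -/
noncomputable def perpU (c : Ctx z Q) : AddSubgroup (c.ι → ZMod 2) where
  carrier := {u | c.F.co 0 u = c.F.co 1 u}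
  zero_mem' := by simp [c.F.co_zero]
  add_mem' := fun {u w} (hu : _ = _) (hw : _ = _) => by
    show c.F.co 0 (u + w) = _
    rw [c.F.co_add, c.F.co_add, hu, hw]
  neg_mem' := fun {u} hu => by rw [c.F.W.neg_eq]; exact hu

theorem perpU_card (c : Ctx z Q) : Nat.card ↥(perpU c) = 1024 := by
  let e : ↥(perpU c) ≃ F4 × (Fin 4 → F4) :=
    { toFun := fun u => (c.F.co 0 u, fun i => c.F.co i.succ.succ u)
      invFun := fun p => ⟨c.F.low p.2 + c.F.line p.1, by
        show c.F.co 0 _ = c.F.co 1 _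
        simp [c.F.co_add, c.F.co_low, c.F.co_line]⟩
      left_inv := fun u => Subtype.ext (c.F.perp_decomp u.2).symm
      right_inv := fun p => Prod.ext (by simp [c.F.co_add, c.F.co_low, c.F.co_line])
        (funext fun i => by simp [c.F.co_add, c.F.co_low, c.F.co_line]) }
  rw [Nat.card_congr e, Nat.card_prod, Nat.card_fun, Nat.card_eq_fintype_card (α := F4), card_F4, Nat.card_fin]
  norm_num

/-- The part of `Q` in the centralizer of the four-group. -/
def JG : Subgroup G := Q.map (centralizer ({z} : Set G)).subtype ⊓ L.C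

theorem JG_eq : L.JG = (c.pre (perpU c)).map (centralizer ({z} : Set G)).subtype := by
  ext x
  constructor
  · rintro ⟨⟨q, hq, rfl⟩, hC⟩
    exact ⟨q, c.mem_pre.mpr ⟨hq, (L.mem_C_Q ⟨q, hq⟩).mp hC⟩, rfl⟩
  · rintro ⟨q, hq, rfl⟩
    obtain ⟨hqQ, hu⟩ := c.mem_pre.mp hq
    exact ⟨⟨q, hqQ, rfl⟩, (L.mem_C_Q ⟨q, hqQ⟩).mpr hu⟩

theorem JG_card : Nat.card ↥L.JG = 2 ^ 11 := by
  rw [JG_eq, card_map_of_injective (centralizer ({z} : Set G)).subtype_injective, c.pre_card, perpU_card]; norm_num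

theorem exists_JG (x : Fin 4 → F4) : ∃ q : ↥Q, c.pt q = c.F.low x ∧ ((q : ↥(centralizer ({z} : Set G))) : G) ∈ L.C := by
  obtain ⟨q, hq⟩ := c.D.surj (c.F.low x)
  exact ⟨q, hq, (L.mem_C_Q q).mpr (by rw [show c.pt q = c.F.low x from hq]; simp [c.F.co_low])⟩

theorem JG_noncomm : ∃ q r : ↥Q, ((q : ↥(centralizer ({z} : Set G))) : G) ∈ L.C ∧
    ((r : ↥(centralizer ({z} : Set G))) : G) ∈ L.C ∧
    ⁅((q : ↥(centralizer ({z} : Set G))) : G), ((r : ↥(centralizer ({z} : Set G))) : G)⁆ = z := by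
  obtain ⟨q, hq, hqC⟩ := L.exists_JG ![1, 0, 0, 0]
  obtain ⟨r, hr, hrC⟩ := L.exists_JG ![w4, 0, 0, 0]
  refine ⟨q, r, hqC, hrC, (c.X2g.comm _ ⟨_, q.2, rfl⟩ _ ⟨_, r.2, rfl⟩).resolve_left fun e => ?_⟩
  have h := B_of_commute (c := c) (Subtype.ext (commutatorElement_eq_one_iff_mul_comm.mp e) :
    Commute (q : ↥(centralizer ({z} : Set G))) r)
  rw [hq, hr, c.F.B_co] at h
  simp only [c.F.co_low, Fin.sum_univ_six] at h
  revert h
  decide +kernel

/-- The four-group lies in the derived subgroup of its centralizer. -/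
theorem E_le_derived : L.E ≤ ⁅L.C, L.C⁆ := by
  have hzD : z ∈ ⁅L.C, L.C⁆ := by
    obtain ⟨q, r, hq, hr, h⟩ := L.JG_noncomm
    have hm := commutator_mem_commutator hq hr
    rwa [h] at hm
  let U : AddSubgroup (c.ι → ZMod 2) :=
    { carrier := {v | ∃ q : ↥Q, c.pt q = v ∧ ((q : ↥(centralizer ({z} : Set G))) : G) ∈ ⁅L.C, L.C⁆}
      zero_mem' := ⟨1, c.D.π_one, one_mem _⟩
      add_mem' := by
        rintro _ _ ⟨p, rfl, hp⟩ ⟨q, rfl, hq⟩
        exact ⟨p * q, c.pt_mul p q, mul_mem hp hq⟩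
      neg_mem' := by
        rintro _ ⟨p, rfl, hp⟩
        exact ⟨p⁻¹, c.D.π_inv p, inv_mem hp⟩ }
  have hU : ∀ g ∈ c.F.K0, ∀ x, c.F.ρ g (c.F.low x) + c.F.low x ∈ U := fun g hg x => by
    obtain ⟨h, hh, hρ⟩ := L.lift_K0 hg
    obtain ⟨q, hq, hqC⟩ := L.exists_JG x
    refine ⟨MulAut.conjNormal h q * q⁻¹, ?_, ?_⟩
    · rw [c.pt_mul, ← c.act, hρ, hq, show c.pt q⁻¹ = c.pt q from (c.D.π_inv q).trans (c.F.W.neg_eq _), hq]
    · rw [Subgroup.coe_mul, MulAut.conjNormal_apply]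
      exact commutator_mem_commutator hh hqC
  have key : ∀ (y : ↥Q), c.pt y ∈ U → ((y : ↥(centralizer ({z} : Set G))) : G) ∈ ⁅L.C, L.C⁆ := by
    rintro y ⟨q, hq, hqD⟩
    rcases c.pt_eq hq with e | e <;> rw [e]
    · exact hqD
    · rw [Subgroup.coe_mul, c.zH_val]; exact mul_mem hqD hzD
  have ha := key L.a (by rw [L.pa, ← c.F.line_one]; exact c.F.line_mem_of_commutators U hU 1)
  have hb := key L.b (by
    rw [L.pb, ← c.F.line_one, c.F.om_line, mul_one]; exact c.F.line_mem_of_commutators U hU w4)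
  intro e he
  rcases L.mem_E.mp he with rfl | rfl | rfl | rfl
  exacts [one_mem _, ha, hb, mul_mem ha hb]

end Four

end Ctx

end Cfsg.Lib.LargeFischer
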