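import Cfsg.Agent.LargeFischer.LineFour
import Cfsg.Agent.LargeExtra.Coprime
import Cfsg.Agent.USixType.Interface
import Cfsg.Agent.Classical.Misc.FortyPoints

/-!
The centralizer of a four-group above a short line, modulo the four-group, has the involution centralizer of the
unitary group of dimension six.
-/

set_option autoImplicit false
set_option maxRecDepth 100000
set_option maxHeartbeats 1000000
set_option linter.unusedSectionVars false
set_option linter.style.haveILetI false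

namespace Cfsg.Lib.LargeFischer

open Subgroup
open Cfsg.Lib.LargeExtra.OutExtra
open scoped commutatorElement

universe u

theorem f4_im_zero : ∀ a : F4, (∀ b : F4, (a * b ^ 2).im = 0) → a = 0 := by decide +kernel

namespace FSetting

variable {X : Type u} [Group X] {S : Type*} [Group S] {V : Type*} [AddCommGroup V] [Finite V]
  (F : FSetting X S V)

/-- A vector perpendicular to the four planes with equal first coordinates lies on the line. -/
theorem eq_line_of_perp {v : V} (h : F.co 0 v = F.co 1 v) (hB : ∀ w, F.B v (F.low w) = 0) :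
    v = F.line (F.co 0 v) := by
  conv_lhs => rw [F.perp_decomp h]
  have e : (fun i : Fin 4 => F.co i.succ.succ v) = 0 := funext fun i => f4_im_zero _ fun b => by
    have h2 := hB (Pi.single i b)
    rw [B_co] at h2
    simp only [co_low, Fin.sum_univ_succ] at h2
    simp at h2
    fin_cases i <;> simpa using h2
  rw [e, low_zero, zero_add]

theorem low_coord (v : V) (x : Fin 4 → F4) (a : F4) (h : v = F.low x + F.line a) (i : Fin 4) :
    F.co i.succ.succ v = x i := by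
  rw [h, co_add, co_low, co_line]
  simp

end FSetting

variable {G : Type u} [Group G] [Finite G] {z : G} {Q : Subgroup (centralizer ({z} : Set G))} [Q.Normal]

namespace Ctx.Four

variable {c : Ctx z Q} (L : c.Four)

theorem E_central : L.E.subgroupOf L.C ≤ center ↥L.C := fun e he =>
  mem_center_iff.mpr fun x => Subtype.ext (mem_centralizer_iff.mp x.2 _ he).symm

instance E_normal : (L.E.subgroupOf L.C).Normal :=
  ⟨fun n hn g => by rw [mem_center_iff.mp (L.E_central hn) g, mul_inv_cancel_right]; exact hn⟩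

/-- The centralizer modulo the four-group. -/
abbrev Bar : Type u := ↥L.C ⧸ L.E.subgroupOf L.C

/-- The projection. -/
noncomputable abbrev π : ↥L.C →* L.Bar := QuotientGroup.mk' (L.E.subgroupOf L.C)

theorem pi_eq_one {x : ↥L.C} : L.π x = 1 ↔ (x : G) ∈ L.E := by
  rw [π, QuotientGroup.mk'_apply, QuotientGroup.eq_one_iff, mem_subgroupOf]

theorem pi_eq {x y : ↥L.C} : L.π x = L.π y ↔ (x : G)⁻¹ * y ∈ L.E := by
  rw [← inv_mul_eq_one, ← map_inv, ← map_mul, pi_eq_one, Subgroup.coe_mul, Subgroup.coe_inv]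

/-- The central involution in the centralizer. -/
def zC : ↥L.C := ⟨z, L.z_mem_C⟩

/-- Its image. -/
noncomputable abbrev zbar : L.Bar := L.π L.zC

theorem zbar_ne : L.zbar ≠ 1 := fun e => L.z_notMem (L.pi_eq_one.mp e)

theorem zbar_order : orderOf L.zbar = 2 := by
  haveI : Fact (Nat.Prime 2) := ⟨Nat.prime_two⟩
  refine orderOf_eq_prime ?_ L.zbar_ne
  rw [pow_two, ← map_mul, show L.zC * L.zC = 1 from Subtype.ext c.X2g.zz, map_one]

/-- The centralizer of the involution inside the centralizer of the four-group. -/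
abbrev HC : Subgroup ↥L.C := (centralizer ({z} : Set G)).subgroupOf L.C

theorem mem_HC_of_bar {x : ↥L.C} (hx : L.π x ∈ centralizer ({L.zbar} : Set L.Bar)) : x ∈ L.HC := by
  have h : L.π (L.zC * x) = L.π (x * L.zC) := by
    rw [map_mul, map_mul]; exact (mem_centralizer_singleton_iff.mp hx).symm
  have h2 : z⁻¹ * ((x : G) * z * (x : G)⁻¹) ∈ L.E := by
    have h3 := L.pi_eq.mp h
    simp only [Subgroup.coe_mul, zC] at h3
    set e := (z * (x : G))⁻¹ * ((x : G) * z) with he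
    have h4 : (x : G) * e * (x : G)⁻¹ = e :=
      mul_inv_eq_iff_eq_mul.mpr (mem_centralizer_iff.mp x.2 e h3).symm
    rwa [show z⁻¹ * ((x : G) * z * (x : G)⁻¹) = (x : G) * e * (x : G)⁻¹ by rw [he]; group, h4]
  set e := z⁻¹ * ((x : G) * z * (x : G)⁻¹) with he
  by_cases h1 : e = 1
  · refine mem_subgroupOf.mpr (mem_centralizer_singleton_iff.mpr ?_)
    rw [he, inv_mul_eq_one] at h1
    exact mul_inv_eq_iff_eq_mul.mp h1.symm
  · refine absurd (isConj_iff.mpr ⟨(x : G), ?_⟩) (L.not_conj_mul h2 h1)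
    rw [he, mul_inv_cancel_left]

theorem cent_zbar : centralizer ({L.zbar} : Set L.Bar) = L.HC.map L.π := by
  refine le_antisymm (fun g hg => ?_) ?_
  · obtain ⟨x, rfl⟩ := QuotientGroup.mk'_surjective _ g
    exact ⟨x, L.mem_HC_of_bar hg, rfl⟩
  · rintro _ ⟨x, hx, rfl⟩
    refine mem_centralizer_singleton_iff.mpr ?_
    rw [← map_mul, ← map_mul]
    exact congrArg L.π (Subtype.ext (mem_centralizer_singleton_iff.mp (mem_subgroupOf.mp hx)))

theorem JG_le : L.JG ≤ L.C := inf_le_right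

theorem mem_J {x : ↥L.C} :
    x ∈ L.JG.subgroupOf L.C ↔ ∃ q : ↥Q, ((q : ↥(centralizer ({z} : Set G))) : G) = x := by
  rw [mem_subgroupOf]
  constructor
  · rintro ⟨⟨q, hq, e⟩, -⟩; exact ⟨⟨q, hq⟩, e⟩
  · rintro ⟨q, e⟩; exact ⟨⟨q, q.2, e⟩, x.2⟩

theorem J_HC : L.JG.subgroupOf L.C ≤ L.HC := fun x hx => by
  obtain ⟨q, hq⟩ := L.mem_J.mp hx
  exact mem_subgroupOf.mpr (hq ▸ (q : ↥(centralizer ({z} : Set G))).2)

/-- The extraspecial subgroup of the quotient. -/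
noncomputable def Jbar : Subgroup L.Bar := (L.JG.subgroupOf L.C).map L.π

theorem Jbar_card : Nat.card ↥L.Jbar = 2 ^ 9 := by
  set J := L.JG.subgroupOf L.C with hJ
  set f := L.π.comp J.subtype with hf
  have h1 := card_eq_card_quotient_mul_card_subgroup f.ker
  rw [Nat.card_congr (QuotientGroup.quotientKerEquivRange f).toEquiv, hf, MonoidHom.range_comp, range_subtype] at h1
  have hJc : Nat.card ↥J = 2 ^ 11 := by
    rw [hJ, Nat.card_congr (subgroupOfEquivOfLe L.JG_le).toEquiv, L.JG_card]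
  have hk : Nat.card ↥(L.π.comp J.subtype).ker = 4 := by
    rw [← card_map_of_injective J.subtype_injective, ← MonoidHom.comap_ker, QuotientGroup.ker_mk',
      ← L.card_E, ← Nat.card_congr (subgroupOfEquivOfLe L.E_le_C).toEquiv]
    refine congrArg (fun H : Subgroup ↥L.C => Nat.card ↥H) (le_antisymm (map_comap_le _ _) fun e he => ?_)
    have heJ : e ∈ J := mem_subgroupOf.mpr ⟨L.E_le he, e.2⟩
    exact ⟨⟨e, heJ⟩, he, rfl⟩
  rw [hJc, hk] at h1
  show Nat.card ↥(J.map L.π) = _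
  omega

theorem zC_J : L.zC ∈ L.JG.subgroupOf L.C := L.mem_J.mpr ⟨c.zq, c.zv⟩

theorem zbar_mem : L.zbar ∈ L.Jbar := ⟨_, L.zC_J, rfl⟩

theorem Jbar_le : L.Jbar ≤ centralizer ({L.zbar} : Set L.Bar) := by
  rw [L.cent_zbar]; exact map_mono L.J_HC

theorem pt_E {y : ↥Q} (h : ((y : ↥(centralizer ({z} : Set G))) : G) ∈ L.E) : ∃ a, c.pt y = c.F.line a := by
  have hy : ∀ w : ↥Q, ((y : ↥(centralizer ({z} : Set G))) : G) = ((w : ↥(centralizer ({z} : Set G))) : G) → y = w :=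
    fun w e => Subtype.ext (Subtype.ext e)
  rcases L.mem_E.mp h with e | e | e | e
  · exact ⟨0, by rw [hy 1 e, c.F.line_zero]; exact c.D.π_one⟩
  · exact ⟨1, by rw [hy L.a e, L.pa, c.F.line_one]⟩
  · exact ⟨w4, by rw [hy L.b e, L.pb, ← c.F.line_one, c.F.om_line, mul_one]⟩
  · exact ⟨1 + w4, by rw [hy (L.a * L.b) e, c.pt_mul, L.pa, L.pb, ← c.F.line_one, c.F.om_line, mul_one,
      c.F.line_add]⟩

theorem line_lift {y : ↥Q} {a : F4} (h : c.pt y = c.F.line a) :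
    ((y : ↥(centralizer ({z} : Set G))) : G) ∈ L.E ∨ z⁻¹ * ((y : ↥(centralizer ({z} : Set G))) : G) ∈ L.E := by
  obtain ⟨w, hwE, hw⟩ : ∃ w : ↥Q, ((w : ↥(centralizer ({z} : Set G))) : G) ∈ L.E ∧ c.pt w = c.F.line a := by
    rcases f4_cases a with rfl | rfl | rfl | rfl
    · exact ⟨1, one_mem _, by rw [c.F.line_zero]; exact c.D.π_one⟩
    · exact ⟨L.a, L.a_mem, by rw [L.pa, c.F.line_one]⟩
    · exact ⟨L.b, L.b_mem, by rw [L.pb, ← c.F.line_one, c.F.om_line, mul_one]⟩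
    · exact ⟨L.a * L.b, mul_mem L.a_mem L.b_mem, by
        rw [c.pt_mul, L.pa, L.pb, ← c.F.line_one, c.F.om_line, mul_one, c.F.line_add]⟩
  rcases c.pt_eq (hw.trans h.symm) with e | e
  · exact Or.inl (by rw [e]; exact hwE)
  · refine Or.inr ?_
    rw [e, Subgroup.coe_mul, c.zH_val, mem_centralizer_singleton_iff.mp (w : ↥(centralizer ({z} : Set G))).2,
      inv_mul_cancel_left]
    exact hwE

theorem bar_cases {x : ↥L.C} (h : (x : G) ∈ L.E ∨ z⁻¹ * (x : G) ∈ L.E) : L.π x = 1 ∨ L.π x = L.zbar := by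
  rcases h with h | h
  · exact Or.inl (L.pi_eq_one.mpr h)
  · exact Or.inr (L.pi_eq.mpr h).symm

theorem pt_of_bar {x : ↥L.C} {y : ↥Q} (hy : ((y : ↥(centralizer ({z} : Set G))) : G) = x)
    (h : L.π x = 1 ∨ L.π x = L.zbar) : ∃ a, c.pt y = c.F.line a := by
  rcases h with h | h
  · exact L.pt_E (hy ▸ L.pi_eq_one.mp h)
  · have h2 : ((c.zq⁻¹ * y : ↥Q) : ↥(centralizer ({z} : Set G))).val ∈ L.E := by
      rw [Subgroup.coe_mul, Subgroup.coe_inv, Subgroup.coe_mul, Subgroup.coe_inv, c.zv, hy]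
      exact L.pi_eq.mp h.symm
    obtain ⟨a, ha⟩ := L.pt_E h2
    rw [c.pt_mul, show c.pt c.zq⁻¹ = 0 from (c.D.π_inv _).trans (by rw [c.D.π_z, neg_zero]), zero_add] at ha
    exact ⟨a, ha⟩

theorem commute_J {x y : ↥L.C} (hx : x ∈ L.JG.subgroupOf L.C) (hy : y ∈ L.JG.subgroupOf L.C)
    (h : Commute (L.π x) (L.π y)) : Commute x y := by
  obtain ⟨p, hp⟩ := L.mem_J.mp hx
  obtain ⟨q, hq⟩ := L.mem_J.mp hy
  have h1 : ⁅(x : G), (y : G)⁆ ∈ L.E := by
    have e := commutatorElement_eq_one_iff_mul_comm.mpr h.eq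
    rw [← map_commutatorElement, L.pi_eq_one] at e
    exact e
  refine Subtype.ext (commutatorElement_eq_one_iff_mul_comm.mp ?_)
  rcases c.X2g.comm _ ⟨p, p.2, rfl⟩ _ ⟨q, q.2, rfl⟩ with e | e <;>
    simp only [Subgroup.coe_subtype, hp, hq] at e
  · exact e
  · exact absurd ((congrArg (· ∈ L.E) e).mp h1) L.z_notMem

theorem Jbar_extra : Cfsg.IsExtraspecial 2 ↥L.Jbar := by
  refine Cfsg.Lib.LargeExtra.isExtraspecial_of (IsPGroup.of_card L.Jbar_card) L.zbar_mem L.zbar_ne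
    (by rw [← pow_two, ← L.zbar_order, pow_orderOf_eq_one]) (fun a ha => mem_centralizer_singleton_iff.mp (L.Jbar_le ha))
    ?_ ?_ ?_ ?_
  · rintro _ ⟨x, hx, rfl⟩ _ ⟨y, hy, rfl⟩
    obtain ⟨p, hp⟩ := L.mem_J.mp hx
    obtain ⟨q, hq⟩ := L.mem_J.mp hy
    rcases c.X2g.comm _ ⟨p, p.2, rfl⟩ _ ⟨q, q.2, rfl⟩ with e | e <;>
      simp only [Subgroup.coe_subtype, hp, hq] at e
    · left
      rw [← map_commutatorElement, show ⁅x, y⁆ = 1 from Subtype.ext e, map_one]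
    · right
      rw [← map_commutatorElement]
      exact congrArg L.π (Subtype.ext e)
  · rintro _ ⟨x, hx, rfl⟩
    obtain ⟨p, hp⟩ := L.mem_J.mp hx
    rcases c.X2g.sq _ ⟨p, p.2, rfl⟩ with e | e <;> simp only [Subgroup.coe_subtype, hp] at e
    · left
      rw [← map_mul, show x * x = 1 from Subtype.ext e, map_one]
    · right
      rw [← map_mul]
      exact congrArg L.π (Subtype.ext e)
  · rintro _ ⟨x, hx, rfl⟩ hall
    obtain ⟨p, hp⟩ := L.mem_J.mp hx
    refine L.bar_cases (hp ▸ L.line_lift (c.F.eq_line_of_perp ((L.mem_C_Q p).mp (hp ▸ x.2)) fun w => ?_))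
    obtain ⟨q, hq, hqC⟩ := L.exists_JG w
    have hy : (⟨_, hqC⟩ : ↥L.C) ∈ L.JG.subgroupOf L.C := L.mem_J.mpr ⟨q, rfl⟩
    have h := L.commute_J hy hx (hall _ ⟨_, hy, rfl⟩)
    rw [← hq, c.F.B_symm]
    refine B_of_commute (Subtype.ext ?_)
    have e := congrArg Subtype.val h.eq
    simp only [Subgroup.coe_mul, ← hp] at e ⊢
    exact e
  · obtain ⟨q, r, hq, hr, h⟩ := L.JG_noncomm
    refine ⟨_, ⟨⟨_, hq⟩, L.mem_J.mpr ⟨q, rfl⟩, rfl⟩, _, ⟨⟨_, hr⟩, L.mem_J.mpr ⟨r, rfl⟩, rfl⟩, fun e => ?_⟩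
    have h2 := congrArg Subtype.val (commutatorElement_eq_one_iff_mul_comm.mpr
      (L.commute_J (L.mem_J.mpr ⟨q, rfl⟩) (L.mem_J.mpr ⟨r, rfl⟩) e).eq)
    exact c.X2g.ne (h.symm.trans h2)

theorem Jbar_norm : centralizer ({L.zbar} : Set L.Bar) ≤ normalizer (L.Jbar : Set L.Bar) := by
  rw [L.cent_zbar]
  have key : ∀ h ∈ L.HC, ∀ x ∈ L.JG.subgroupOf L.C, h * x * h⁻¹ ∈ L.JG.subgroupOf L.C := fun h hh x hx => by
    obtain ⟨q, hq⟩ := L.mem_J.mp hx
    refine L.mem_J.mpr ⟨MulAut.conjNormal (⟨(h : G), mem_subgroupOf.mp hh⟩ : ↥(centralizer ({z} : Set G))) q, ?_⟩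
    rw [MulAut.conjNormal_apply, Subgroup.coe_mul, Subgroup.coe_mul, Subgroup.coe_inv, hq]
    simp only [Subgroup.coe_mul, Subgroup.coe_inv]
  rintro _ ⟨h, hh, rfl⟩
  refine Cfsg.Lib.Coprime.mem_normalizer_of_conj_mem ?_ ?_
  · rintro _ ⟨x, hx, rfl⟩
    exact ⟨_, key h hh x hx, by rw [map_mul, map_mul, map_inv]⟩
  · rintro _ ⟨x, hx, rfl⟩
    exact ⟨_, key h⁻¹ (inv_mem hh) x hx, by simp only [map_mul, map_inv, inv_inv]⟩

/-- An element centralizing the involution and the four-group, in the centralizer of the involution. -/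
def toH : ↥L.HC →* ↥(centralizer ({z} : Set G)) where
  toFun x := ⟨((x : ↥L.C) : G), mem_subgroupOf.mp x.2⟩
  map_one' := rfl
  map_mul' _ _ := rfl

theorem toH_mem (x : ↥L.HC) : (L.toH x : G) ∈ L.C := (x : ↥L.C).2

/-- Its action on the module. -/
noncomputable def toXM : ↥L.HC →* ↥((rep Q c.D).comp c.M.subtype).range :=
  ((rep Q c.D).comp L.toH).codRestrict _ fun x => ⟨⟨L.toH x, (L.fix_of_mem (L.toH_mem x)).1⟩, rfl⟩

theorem toXM_mem (x : ↥L.HC) : L.toXM x ∈ c.F.K0 := by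
  show c.F.ρ (L.toXM x) c.F.v0 = c.F.v0
  rw [c.ρ_val]
  exact (L.fix_of_mem (L.toH_mem x)).2

/-- Elements centralizing the involution give elements of the point stabiliser. -/
noncomputable def toK0 : ↥L.HC →* ↥c.F.K0 := L.toXM.codRestrict _ L.toXM_mem

theorem toK0_rho (x : ↥L.HC) (v : c.ι → ZMod 2) :
    c.F.ρ (L.toK0 x : ↥((rep Q c.D).comp c.M.subtype).range) v =
      rep Q c.D ⟨((x : ↥L.C) : G), mem_subgroupOf.mp x.2⟩ v := by
  rw [c.ρ_val]; rfl

theorem toK0_surjective : Function.Surjective L.toK0 := fun g => by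
  obtain ⟨h, hh, hρ⟩ := L.lift_K0 g.2
  refine ⟨⟨⟨(h : G), hh⟩, mem_subgroupOf.mpr h.2⟩, Subtype.ext (c.F.ρ_inj (Equiv.ext fun v => ?_))⟩
  rw [L.toK0_rho]
  exact hρ v

theorem toK0_eq_one {x : ↥L.HC} : L.toK0 x = 1 ↔ (x : ↥L.C) ∈ L.JG.subgroupOf L.C := by
  have e : L.toK0 x = 1 ↔ rep Q c.D ⟨((x : ↥L.C) : G), mem_subgroupOf.mp x.2⟩ = 1 :=
    ⟨fun h => Equiv.ext fun v => by rw [← L.toK0_rho, h, Subgroup.coe_one, map_one],
      fun h => Subtype.ext (c.F.ρ_inj (Equiv.ext fun v => by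
        rw [L.toK0_rho, h, Subgroup.coe_one, map_one]))⟩
  rw [e, L.mem_J]
  constructor
  · intro h; exact ⟨⟨_, c.rep_eq_one h⟩, rfl⟩
  · rintro ⟨q, hq⟩
    exact c.rep_Q (by rw [show (⟨_, _⟩ : ↥(centralizer ({z} : Set G))) = q from Subtype.ext hq.symm]; exact q.2)

theorem HC_card : Nat.card ↥L.HC = 2 ^ 11 * 25920 := by
  have h := card_eq_card_quotient_mul_card_subgroup L.toK0.ker
  rw [Nat.card_congr (QuotientGroup.quotientKerEquivOfSurjective _ L.toK0_surjective).toEquiv, c.F.K0_card] at h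
  have hk : L.toK0.ker = (L.JG.subgroupOf L.C).subgroupOf L.HC := by
    ext x; exact L.toK0_eq_one
  rw [hk, Nat.card_congr (subgroupOfEquivOfLe L.J_HC).toEquiv,
    Nat.card_congr (subgroupOfEquivOfLe L.JG_le).toEquiv, L.JG_card] at h
  omega

theorem Jbar_self : ∀ g ∈ centralizer ({L.zbar} : Set L.Bar), (∀ q ∈ L.Jbar, g * q = q * g) → g ∈ L.Jbar := by
  rw [L.cent_zbar]
  rintro _ ⟨x, hx, rfl⟩ hall
  refine ⟨x, L.toK0_eq_one.mp (Subtype.ext ?_ : L.toK0 ⟨x, hx⟩ = 1), rfl⟩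
  refine c.F.part_trivial (L.toK0 ⟨x, hx⟩).2 fun w => ?_
  obtain ⟨q, hq, hqC⟩ := L.exists_JG w
  set h : ↥(centralizer ({z} : Set G)) := ⟨(x : G), mem_subgroupOf.mp hx⟩ with hh
  set y : ↥L.C := ⟨_, hqC⟩
  have e : L.π (x * y * x⁻¹ * y⁻¹) = 1 := by
    rw [map_mul, map_mul, map_mul, map_inv, map_inv, hall _ ⟨y, L.mem_J.mpr ⟨q, rfl⟩, rfl⟩]
    group
  obtain ⟨a, ha⟩ := L.pt_of_bar (x := x * y * x⁻¹ * y⁻¹) (y := MulAut.conjNormal h q * q⁻¹) (by
    simp [y, hh, MulAut.conjNormal_apply]) (Or.inl e)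
  rw [c.pt_mul, ← c.act, show c.pt q⁻¹ = c.pt q from (c.D.π_inv q).trans (c.F.W.neg_eq _), hq] at ha
  funext i
  refine c.F.low_coord _ w a ?_ i
  rw [L.toK0_rho, ← ha]
  show rep Q c.D h (c.F.low w) = _
  rw [add_left_comm, c.F.dbl, add_zero]

theorem Jbar_nofix : ∀ q ∈ L.Jbar, (∀ h ∈ centralizer ({L.zbar} : Set L.Bar),
    h * q * h⁻¹ * q⁻¹ ∈ zpowers L.zbar) → q ∈ zpowers L.zbar := by
  rintro _ ⟨x, hx, rfl⟩ hall
  obtain ⟨p, hp⟩ := L.mem_J.mp hx
  have hz2 : ∀ g, g ∈ zpowers L.zbar ↔ g = 1 ∨ g = L.zbar := fun g =>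
    Cfsg.Lib.LargeExtra.mem_zpowers_two (by rw [← pow_two, ← L.zbar_order, pow_orderOf_eq_one])
  refine (hz2 _).mpr (L.bar_cases (hp ▸ L.line_lift (a := c.F.co 0 (c.pt p)) ?_))
  have hu : c.F.co 0 (c.pt p) = c.F.co 1 (c.pt p) := (L.mem_C_Q p).mp (hp ▸ x.2)
  set w : Fin 4 → F4 := fun i => c.F.co i.succ.succ (c.pt p) with hw
  conv_lhs => rw [c.F.perp_decomp hu]
  suffices h0 : w = 0 by
    show c.F.low w + _ = _
    rw [h0, c.F.low_zero, zero_add]
  by_contra hne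
  obtain ⟨g, hg, hmove⟩ := c.F.part_moves hne
  refine hmove ?_
  obtain ⟨h, hh, hρ⟩ := L.lift_K0 hg
  set y : ↥L.C := ⟨(h : G), hh⟩
  have hy : L.π y ∈ centralizer ({L.zbar} : Set L.Bar) := by
    rw [L.cent_zbar]; exact ⟨y, mem_subgroupOf.mpr h.2, rfl⟩
  have e := (hz2 _).mp (hall _ hy)
  rw [← map_inv, ← map_inv, ← map_mul, ← map_mul, ← map_mul] at e
  obtain ⟨a, ha⟩ := L.pt_of_bar (y := MulAut.conjNormal h p * p⁻¹) (by
    simp [y, hp, MulAut.conjNormal_apply]) e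
  rw [c.pt_mul, ← c.act, show c.pt p⁻¹ = c.pt p from (c.D.π_inv p).trans (c.F.W.neg_eq _), hρ] at ha
  have hlow : c.F.ρ g (c.F.low w) = c.F.low w + c.F.line a := by
    rw [c.F.perp_decomp hu, c.F.ρ_add, c.F.rho_line hg, ← hw] at ha
    rw [← ha]
    calc c.F.ρ g (c.F.low w) = c.F.ρ g (c.F.low w) + ((c.F.low w + c.F.low w) +
          (c.F.line (c.F.co 0 (c.pt p)) + c.F.line (c.F.co 0 (c.pt p)))) := by
          rw [c.F.dbl, c.F.dbl, add_zero, add_zero]
      _ = _ := by abel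
  exact funext fun i => c.F.low_coord _ w a hlow i

/-- The natural setting for the quotient. -/
theorem natSetting : Cfsg.Lib.USixType.NatSetting L.zbar L.Jbar where
  order := L.zbar_order
  le := L.Jbar_le
  norm := L.Jbar_norm
  extra := L.Jbar_extra
  card := L.Jbar_card
  mem := L.zbar_mem
  self := L.Jbar_self
  nofix := L.Jbar_nofix
  quot := fun F _ _ hF => by
    obtain ⟨e⟩ := Cfsg.Lib.Classical.FortyPoints.main (F := F4) card_F4 hF
    let eS : ↥(Cfsg.SU 4 F4 2) ≃* Cfsg.PSU 4 F4 2 :=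
      QuotientGroup.quotientBot.symm.trans (QuotientGroup.quotientMulEquivOfEq center_su_four.symm)
    let eK : ↥c.F.K0 ≃* Cfsg.PSp 2 F := ((MulEquiv.ofBijective _ c.F.toSU_bijective).trans eS).trans e
    let φ : ↥L.HC →* Cfsg.PSp 2 F := eK.toMonoidHom.comp L.toK0
    let ψ : ↥L.HC →* ↥(centralizer ({L.zbar} : Set L.Bar)) := (L.π.comp L.HC.subtype).codRestrict _ fun x => by
      rw [L.cent_zbar]; exact ⟨x, x.2, rfl⟩
    have hψ : Function.Surjective ψ := fun g => by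
      obtain ⟨x, hx, e⟩ := (L.cent_zbar ▸ g.2 : (g : L.Bar) ∈ L.HC.map L.π)
      exact ⟨⟨x, hx⟩, Subtype.ext e⟩
    have hker : ψ.ker ≤ φ.ker := fun x hx => by
      have he : ((x : ↥L.C) : G) ∈ L.E := L.pi_eq_one.mp (congrArg Subtype.val (MonoidHom.mem_ker.mp hx))
      rw [MonoidHom.mem_ker]
      show eK (L.toK0 x) = 1
      rw [map_eq_one_iff _ eK.injective, L.toK0_eq_one]
      exact mem_subgroupOf.mpr ⟨L.E_le he, (x : ↥L.C).2⟩
    have hf : ∀ x, ψ.liftOfSurjective hψ ⟨φ, hker⟩ (ψ x) = φ x := fun x => ψ.liftOfRightInverse_comp_apply _ _ _ x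
    refine ⟨ψ.liftOfSurjective hψ ⟨φ, hker⟩, fun y => ?_, fun g => ?_⟩
    · obtain ⟨k, rfl⟩ := eK.surjective y
      obtain ⟨x, rfl⟩ := L.toK0_surjective k
      exact ⟨ψ x, hf x⟩
    · obtain ⟨x, rfl⟩ := hψ g
      rw [hf]
      show eK (L.toK0 x) = 1 ↔ L.π (x : ↥L.C) ∈ L.Jbar
      rw [map_eq_one_iff _ eK.injective, L.toK0_eq_one]
      refine ⟨fun h => ⟨_, h, rfl⟩, ?_⟩
      rintro ⟨y, hy, e⟩
      have h : y⁻¹ * (x : ↥L.C) ∈ L.JG.subgroupOf L.C :=
        mem_subgroupOf.mpr ⟨L.E_le (by simpa using L.pi_eq.mp e), (y⁻¹ * (x : ↥L.C)).2⟩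
      have := mul_mem hy h
      rwa [mul_inv_cancel_left] at this

end Ctx.Four

end Cfsg.Lib.LargeFischer
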