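import Cfsg.Agent.LargeFischer.PointStab
import Cfsg.Agent.LargeFischer.Line

/-!
The maximal totally singular subgroup attached to two commuting central involutions.
-/

set_option autoImplicit false
set_option maxRecDepth 100000
set_option maxHeartbeats 1000000
set_option linter.unusedSectionVars false
set_option linter.style.haveILetI false

namespace Cfsg.Lib.LargeFischer

open Subgroup QuadraticMap
open Cfsg.Lib.LargeExtra (X2 mem_map_conj mem_zpowers_two)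
open Cfsg.Lib.LargeExtra.OutExtra
open Cfsg.Lib.ExtraOut (cm)

universe u

theorem card_sup_mul_inf {V : Type*} [AddCommGroup V] [Finite V] (A B : AddSubgroup V) :
    Nat.card ↥(A ⊔ B) * Nat.card ↥(A ⊓ B) = Nat.card ↥A * Nat.card ↥B := by
  let f : ↥A × ↥B →+ V := A.subtype.coprod B.subtype
  have hr : f.range = A ⊔ B := by
    ext x
    rw [AddSubgroup.mem_sup, AddMonoidHom.mem_range]
    constructor
    · rintro ⟨⟨a, b⟩, rfl⟩; exact ⟨a, a.2, b, b.2, rfl⟩
    · rintro ⟨a, ha, b, hb, rfl⟩; exact ⟨(⟨a, ha⟩, ⟨b, hb⟩), rfl⟩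
  let e : ↥f.ker ≃ ↥(A ⊓ B) :=
    { toFun := fun p => ⟨(p.1.1 : V), p.1.1.2, by
        have h : (p.1.1 : V) + (p.1.2 : V) = 0 := p.2
        rw [eq_neg_of_add_eq_zero_left h]
        exact B.neg_mem p.1.2.2⟩
      invFun := fun x => ⟨(⟨x.1, x.2.1⟩, ⟨-x.1, B.neg_mem x.2.2⟩), show x.1 + -x.1 = 0 by simp⟩
      left_inv := fun p => by
        have h : (p.1.1 : V) + (p.1.2 : V) = 0 := p.2
        exact Subtype.ext (Prod.ext (Subtype.ext rfl) (Subtype.ext (neg_eq_of_add_eq_zero_right h)))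
      right_inv := fun x => rfl }
  have h := AddSubgroup.card_mul_index f.ker
  rw [AddSubgroup.index_ker, hr, Nat.card_prod, Nat.card_congr e, mul_comm] at h
  exact h

variable {G : Type u} [Group G] [Finite G] {z : G} {Q : Subgroup (centralizer ({z} : Set G))} [Q.Normal]

namespace Ctx

variable (c : Ctx z Q)

theorem pt_add (a b : ↥Q) : c.pt (a * b) = c.pt a + c.pt b := c.D.mul a b

theorem pt_eq_zero {a : ↥Q} (h : c.pt a = 0) : a = 1 ∨ a = c.zq := center_cases c.D.es ((c.D.ker a).mp h)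

theorem B_pt_of_commute {a b : ↥Q} (h : a * b = b * a) : c.F.B (c.pt a) (c.pt b) = 0 := by
  have h1 := c.F.q_add (c.pt a) (c.pt b)
  rw [← pt_add, c.Fq, pt, pt, pt, c.D.hT, c.D.hT, c.D.hT, sq_mul c.D.es] at h1
  have hcm : cm a b = 0 := by
    unfold cm
    first | exact if_pos h | exact if_pos h.symm
  rw [hcm] at h1
  exact (add_left_cancel h1).symm

theorem v0_sing : c.F.q c.F.v0 = 0 ∧ c.F.v0 ≠ 0 :=
  (c.F.sing_iff _).mpr (show Sing6 (fun i => code4 (FSetting.v0c i)) by decide +kernel)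

/-- The small orbit is invariant under the centraliser, and the other singular vectors form one orbit. -/
theorem orbits_split (d : ↥(centralizer ({z} : Set G))) :
    rep Q c.D d c.F.v0 ∈ c.F.orb c.F.v0 ∧
      ∀ v, c.F.q v = 0 → v ≠ 0 → v ∉ c.F.orb c.F.v0 → Nat.card ↥(c.F.orb v) = 1701 := by
  obtain ⟨s, t, -, hs2, ht2, hsz, htz, -, -, -, h1701, -, -, hall, hsep⟩ := c.exists_points
  have hsv := c.v0_sing
  have hv0 : c.F.v0 ∈ c.F.orb (c.pt s) := by
    refine (hall _ hsv.1 hsv.2).resolve_right fun h => ?_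
    have h2 := c.F.v0_card
    rw [c.F.orb_eq h, h1701] at h2
    norm_num at h2
  refine ⟨?_, fun v hq hne hnot => ?_⟩
  · have hq : c.F.q (rep Q c.D d c.F.v0) = 0 := by rw [c.Fq, rep_q, ← c.Fq]; exact hsv.1
    have hne : rep Q c.D d c.F.v0 ≠ 0 := fun e => hsv.2 ((rep Q c.D d).injective
      (e.trans (map_zero (c.D.lin (MulAut.conjNormal d))).symm))
    rw [c.F.orb_eq hv0]
    refine (hall _ hq hne).resolve_right ?_
    rintro ⟨⟨_, m, rfl⟩, hm⟩
    rw [c.Fρ] at hm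
    obtain ⟨⟨_, k, rfl⟩, hk⟩ := hv0
    rw [c.Fρ] at hk
    refine hsep ((m : ↥(centralizer ({z} : Set G)))⁻¹ * d * (k : ↥(centralizer ({z} : Set G)))) ?_
    rw [map_mul, map_mul, Equiv.Perm.mul_apply, Equiv.Perm.mul_apply,
      show rep Q c.D (k : ↥(centralizer ({z} : Set G))) (c.pt s) = c.F.v0 from hk, map_inv,
      ← show rep Q c.D (m : ↥(centralizer ({z} : Set G))) (c.pt t) = rep Q c.D d c.F.v0 from hm,
      Equiv.Perm.coe_inv, Equiv.symm_apply_apply]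
  · have hvt : v ∈ c.F.orb (c.pt t) := (hall _ hq hne).resolve_left fun h => hnot (by rwa [c.F.orb_eq hv0])
    rw [c.F.orb_eq hvt, h1701]

/-- A central involution of `Q` whose image has full support, with its local data. -/
structure LinePt where
  x : ↥Q
  g : G
  hg : g * z * g⁻¹ = ((x : ↥(centralizer ({z} : Set G))) : G)
  hxz : ((x : ↥(centralizer ({z} : Set G))) : G) ≠ z
  hx1 : (x : ↥(centralizer ({z} : Set G))) ≠ 1
  hq : c.F.q (c.pt x) = 0
  herm0 : c.F.herm c.F.v0 (c.pt x) ≠ 0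
  Bv : c.F.B (c.pt x) (c.F.om (c.pt x)) = 0
  bad : ∀ a, a ≠ 0 → c.F.B c.F.v0 (c.F.sm a (c.pt x)) = 0 → c.F.v0 + c.F.sm a (c.pt x) ∉ c.F.orb c.F.v0
  L : Subgroup ↥((rep Q c.D).comp c.M.subtype).range
  g5 : ↥((rep Q c.D).comp c.M.subtype).range
  hL : ∀ l ∈ L, c.F.ρ l (c.pt x) = c.pt x
  hLA : Nonempty (↥L ≃* alternatingGroup (Fin 6))
  g5L : g5 ∈ L
  g5p : g5 ^ 5 = 1
  g5fix : ∀ u, c.F.ρ g5 u = u → c.F.herm u (c.pt x) = 0 → ∃ a, u = c.F.sm a (c.pt x)
  orb1701 : Nat.card ↥(c.F.orb (c.pt x)) = 1701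
  full : ∀ i, c.F.co i (c.pt x) ≠ 0

theorem exists_linePt (hz : ∃ g : G, (∃ hq : g * z * g⁻¹ ∈ centralizer ({z} : Set G),
      (⟨g * z * g⁻¹, hq⟩ : centralizer ({z} : Set G)) ∈ Q) ∧ g * z * g⁻¹ ≠ z) : Nonempty c.LinePt := by
  obtain ⟨v, hv, hq, hout, hh, hB, hbad⟩ := c.F.exists_line
  have hv0 : v ≠ 0 := fun e => hv 0 (by rw [e, c.F.co_zero])
  obtain ⟨x, rfl, hx2, hxz⟩ := c.lift v hq hv0
  obtain ⟨g, hg⟩ := isConj_iff.mp (c.big_conj hz hx2 hxz hout)
  obtain ⟨L, g5, hL, hA, hgL, hp, hfix⟩ := c.F.exists_five hv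
  exact ⟨{ x := x, g := g, hg := hg, hxz := hxz, hx1 := fun e => by rw [e, orderOf_one] at hx2; norm_num at hx2
           hq := hq, herm0 := hh, Bv := hB, bad := hbad, L := L, g5 := g5, hL := hL, hLA := hA, g5L := hgL
           g5p := hp, g5fix := hfix, orb1701 := (c.orbits_split 1).2 _ hq hv0 hout, full := hv }⟩

namespace LinePt

variable {c} (P : c.LinePt)

/-- The image of the common part of the two extraspecial groups. -/
def W : AddSubgroup (c.ι → ZMod 2) :=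
  AddSubgroup.closure {u | ∃ a : ↥Q, (a : ↥(centralizer ({z} : Set G))) ∈ c.RC P.g ∧ c.pt a = u}

theorem mem_W {u : c.ι → ZMod 2} :
    u ∈ P.W ↔ ∃ a : ↥Q, (a : ↥(centralizer ({z} : Set G))) ∈ c.RC P.g ∧ c.pt a = u := by
  refine ⟨fun h => ?_, fun h => AddSubgroup.subset_closure h⟩
  induction h using AddSubgroup.closure_induction with
  | mem u hu => exact hu
  | zero => exact ⟨1, one_mem _, c.D.π_one⟩
  | add u w _ _ hu hw =>
    obtain ⟨a, ha, rfl⟩ := hu
    obtain ⟨b, hb, rfl⟩ := hw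
    exact ⟨a * b, mul_mem ha hb, c.pt_add a b⟩
  | neg u _ hu =>
    obtain ⟨a, ha, rfl⟩ := hu
    exact ⟨a⁻¹, inv_mem ha, c.D.π_inv a⟩

theorem x_mem_RC : (P.x : ↥(centralizer ({z} : Set G))) ∈ c.RC P.g :=
  ⟨mem_map_conj.mpr (by
    rw [show P.g⁻¹ * (centralizer ({z} : Set G)).subtype (P.x : ↥(centralizer ({z} : Set G))) * P.g = z from by
      show P.g⁻¹ * ((P.x : ↥(centralizer ({z} : Set G))) : G) * P.g = z
      rw [← P.hg]; group]
    exact c.X2g.mem), (P.x : ↥(centralizer ({z} : Set G))).2⟩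

theorem v_mem_W : c.pt P.x ∈ P.W := P.mem_W.mpr ⟨P.x, P.x_mem_RC, rfl⟩

theorem W_iso {u w : c.ι → ZMod 2} (hu : u ∈ P.W) (hw : w ∈ P.W) : c.F.B u w = 0 := by
  obtain ⟨a, ha, rfl⟩ := P.mem_W.mp hu
  obtain ⟨b, hb, rfl⟩ := P.mem_W.mp hw
  exact c.B_pt_of_commute (Subtype.ext ((c.RC_inter P.hg P.hxz).2 _ ⟨ha, a.2⟩ _ ⟨hb, b.2⟩))

theorem RB_cards : Nat.card ↥((c.RC P.g).map (rep Q c.D)) = 32 ∧
    Nat.card ↥((c.RC P.g ⊓ c.M).map (rep Q c.D)) = 16 ∧ Nat.card ↥(c.RC P.g ⊓ Q) = 2 ^ 7 := by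
  obtain ⟨h32, h2, -, hd⟩ := c.local_bound P.hg P.hxz P.hx1 P.L P.hL P.hLA
  rw [P.orb1701] at hd
  have hj := (c.joint P.g P.x P.hg P.hxz).2.1
  have h1 := c.card_map_rep (c.RC P.g)
  rw [c.RC_card P.hg P.hxz, hj] at h1
  have h16 : Nat.card ↥((c.RC P.g ⊓ c.M).map (rep Q c.D)) ≤ 16 := by
    refine Nat.le_of_dvd (by norm_num) (Nat.dvd_of_mul_dvd_mul_right (by norm_num : 0 < 360 * 1701) ?_)
    rw [← mul_assoc, show (16 : ℕ) * (360 * 1701) = 9797760 by norm_num]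
    exact hd
  exact ⟨by omega, by omega, hj⟩

theorem W_card : 64 ≤ Nat.card ↥P.W := by
  classical
  let f : ↥((c.RC P.g).subgroupOf Q) → ↥P.W × Bool := fun a =>
    (⟨c.pt a, P.mem_W.mpr ⟨a, a.2, rfl⟩⟩, decide ((a : ↥Q) = c.D.s (c.pt a)))
  have hf : Function.Injective f := fun a b e => by
    simp only [f, Prod.mk.injEq, Subtype.mk.injEq, decide_eq_decide] at e
    obtain ⟨e1, e2⟩ := e
    have hsa : c.pt (a : ↥Q) = c.pt (c.D.s (c.pt (a : ↥Q))) := (c.D.π_s _).symm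
    refine Subtype.ext ?_
    by_cases ha : (a : ↥Q) = c.D.s (c.pt a)
    · rw [ha, e2.mp ha, e1]
    · have key : ∀ y : ↥Q, c.pt y = c.pt (a : ↥Q) → y ≠ c.D.s (c.pt (a : ↥Q)) → (c.D.s (c.pt (a : ↥Q)))⁻¹ * y = c.zq := by
        intro y hy hne
        exact (center_cases c.D.es (c.D.eq_iff.mp ((c.D.π_s _).trans hy.symm))).resolve_left
          fun h => hne (inv_mul_eq_one.mp h).symm
      have hb : (b : ↥Q) ≠ c.D.s (c.pt (a : ↥Q)) := fun h => ha (e2.mpr (e1 ▸ h))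
      exact mul_left_cancel ((key _ rfl ha).trans (key _ e1.symm hb).symm)
  have h := Nat.card_le_card_of_injective f hf
  have hc : Nat.card ↥((c.RC P.g).subgroupOf Q) = 2 ^ 7 := by
    rw [← card_map_of_injective Q.subtype_injective, subgroupOf, map_comap_eq, range_subtype, inf_comm]
    exact P.RB_cards.2.2
  rw [hc, Nat.card_prod, Nat.card_eq_fintype_card (α := Bool), Fintype.card_bool] at h
  omega

theorem RB_shift {r : ↥(centralizer ({z} : Set G))} (hr : r ∈ c.RC P.g) {u : c.ι → ZMod 2} (hu : u ∈ P.W) :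
    rep Q c.D r u = u ∨ rep Q c.D r u = u + c.pt P.x := by
  obtain ⟨a, ha, rfl⟩ := P.mem_W.mp hu
  have hX' : X2 ((Q.map (centralizer ({z} : Set G)).subtype).map (MulAut.conj P.g).toMonoidHom)
      ((P.x : ↥(centralizer ({z} : Set G))) : G) := P.hg ▸ c.X2g.conj P.g
  rw [c.act]
  rcases hX'.conj_cases (c.mem_RC hr) (c.mem_RC ha) with e | e
  · exact Or.inl (congrArg c.pt (Subtype.ext (Subtype.ext (by rw [MulAut.conjNormal_apply]; exact e))))
  · refine Or.inr ?_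
    rw [show MulAut.conjNormal r a = P.x * a from Subtype.ext (Subtype.ext (by rw [MulAut.conjNormal_apply]; exact e)),
      c.pt_add, add_comm]

/-- The stabiliser acts on the image. -/
theorem W_inv {l : ↥((rep Q c.D).comp c.M.subtype).range} (hl : l ∈ P.L) {u : c.ι → ZMod 2} (hu : u ∈ P.W) :
    c.F.ρ l u ∈ P.W := by
  have hfix := P.hL l hl
  obtain ⟨_, m, rfl⟩ := l
  rw [c.Fρ] at hfix ⊢
  obtain ⟨h, hh, hρ, -⟩ := c.conj_of_rep (m : ↥(centralizer ({z} : Set G))) P.x P.x hfix P.hxz P.hx1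
  obtain ⟨a, ha, rfl⟩ := P.mem_W.mp hu
  refine P.mem_W.mpr ⟨MulAut.conjNormal h a, ?_, ?_⟩
  · rw [MulAut.conjNormal_apply]; exact c.RC_conj P.hg hh ha
  · rw [← c.act, hρ]; rfl

/-- The perpendicular space of the line. -/
noncomputable def perp : AddSubgroup (c.ι → ZMod 2) :=
  (AddMonoidHom.mk' (fun u => c.F.herm u (c.pt P.x)) fun u w => c.F.herm_add u w _).ker

theorem mem_perp {u : c.ι → ZMod 2} : u ∈ P.perp ↔ c.F.herm u (c.pt P.x) = 0 := Iff.rfl

/-- The line. -/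
noncomputable def line : AddSubgroup (c.ι → ZMod 2) :=
  (AddMonoidHom.mk' (fun a => c.F.sm a (c.pt P.x)) fun a b => c.F.sm_add_left a b _).range

theorem mem_line {u : c.ι → ZMod 2} : u ∈ P.line ↔ ∃ a, c.F.sm a (c.pt P.x) = u := Iff.rfl

theorem v_ne : c.pt P.x ≠ 0 := fun e => P.herm0 (by
  rw [e, FSetting.herm]
  simp [c.F.co_zero])

theorem line_card : Nat.card ↥P.line = 4 := by
  refine (Nat.card_congr (Equiv.ofInjective _ ?_).symm).trans (by rw [Nat.card_eq_fintype_card]; exact card_F4)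
  refine (injective_iff_map_eq_zero _).mpr fun a ha => c.F.sm_injective P.v_ne ha

theorem line_le : P.line ≤ P.perp := by
  rintro _ ⟨a, rfl⟩
  refine P.mem_perp.mpr ?_
  show c.F.herm (c.F.sm a (c.pt P.x)) (c.pt P.x) = 0
  rw [c.F.herm_sm, c.F.herm_eq_zero (P.W_iso P.v_mem_W P.v_mem_W) P.Bv, mul_zero]

theorem perp_card : Nat.card ↥P.perp = 1024 := by
  set f : (c.ι → ZMod 2) →+ F4 := AddMonoidHom.mk' (fun u => c.F.herm u (c.pt P.x)) fun u w => c.F.herm_add u w _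
  have hs : Function.Surjective f := fun a => by
    obtain ⟨b, hb⟩ := f4_scalar _ a P.herm0
    exact ⟨c.F.sm b c.F.v0, (c.F.herm_sm _ _ _).trans hb.symm⟩
  have h := AddSubgroup.card_mul_index f.ker
  rw [AddSubgroup.index_ker, AddMonoidHom.range_eq_top.mpr hs, AddSubgroup.card_top, c.F.cardV,
    Nat.card_eq_fintype_card (α := F4), card_F4] at h
  show Nat.card ↥f.ker = 1024
  omega

/-- The image closed up by the line. -/
noncomputable def W1 : AddSubgroup (c.ι → ZMod 2) := (P.W ⊓ P.perp) ⊔ P.line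

theorem W1_le : P.W1 ≤ P.perp := sup_le inf_le_right P.line_le

theorem W1_card : 64 ≤ Nat.card ↥P.W1 := by
  set f : ↥P.W →+ ZMod 2 := AddMonoidHom.mk' (fun u => c.F.B u (c.F.om (c.pt P.x))) fun u w => c.F.B_add _ _ _
  have hker : f.ker.map P.W.subtype = P.W ⊓ P.perp := by
    ext u
    simp only [AddSubgroup.mem_map, AddMonoidHom.mem_ker, AddSubgroup.mem_inf]
    constructor
    · rintro ⟨w, hw, rfl⟩
      exact ⟨w.2, P.mem_perp.mpr (c.F.herm_eq_zero (P.W_iso w.2 P.v_mem_W) hw)⟩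
    · rintro ⟨h1, h2⟩
      exact ⟨⟨u, h1⟩, ((c.F.perp_iff _ _).mp (P.mem_perp.mp h2)).2, rfl⟩
  have hmul := AddSubgroup.card_mul_index f.ker
  have hkc : Nat.card ↥f.ker = Nat.card ↥(P.W ⊓ P.perp) := by
    rw [← hker]
    exact Nat.card_congr (f.ker.equivMapOfInjective P.W.subtype P.W.subtype_injective).toEquiv
  have hW := P.W_card
  have hsup := card_sup_mul_inf (P.W ⊓ P.perp) P.line
  rw [P.line_card, show (P.W ⊓ P.perp) ⊔ P.line = P.W1 from rfl] at hsup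
  by_cases hw : c.F.om (c.pt P.x) ∈ P.W
  · have hall : f.ker = ⊤ := eq_top_iff.mpr fun w _ => P.W_iso w.2 hw
    rw [hall, AddSubgroup.card_top] at hkc
    have hle : Nat.card ↥((P.W ⊓ P.perp) ⊓ P.line) ≤ 4 :=
      (AddSubgroup.card_le_of_le inf_le_right).trans P.line_card.le
    have := Nat.mul_le_mul_left (Nat.card ↥P.W1) hle
    rw [hsup] at this
    omega
  · have hidx : f.ker.index ≤ 2 := by
      rw [AddSubgroup.index_ker]
      exact (Finite.card_subtype_le _).trans (by rw [Nat.card_zmod])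
    have hle : Nat.card ↥((P.W ⊓ P.perp) ⊓ P.line) ≤ 2 := by
      let g : Fin 2 → c.ι → ZMod 2 := ![0, c.pt P.x]
      refine le_trans (Nat.card_le_card_of_surjective (α := Fin 2) (fun i => ⟨g i, ?_⟩) ?_) (by simp)
      · fin_cases i
        · exact zero_mem _
        · exact ⟨⟨P.v_mem_W, P.line_le ⟨1, c.F.sm_one _⟩⟩, ⟨1, c.F.sm_one _⟩⟩
      · rintro ⟨u, ⟨huW, -⟩, a, rfl⟩
        rcases f4_cases a with rfl | rfl | rfl | rfl
        · exact ⟨0, Subtype.ext (c.F.sm_zero_left _).symm⟩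
        · exact ⟨1, Subtype.ext (c.F.sm_one _).symm⟩
        · exact absurd (c.F.sm_w (c.pt P.x) ▸ huW) hw
        · refine absurd ?_ hw
          have h := P.W.add_mem P.v_mem_W huW
          change c.pt P.x + c.F.sm (1 + w4) (c.pt P.x) ∈ P.W at h
          rwa [c.F.sm_add_left, c.F.sm_one, c.F.sm_w, ← add_assoc, c.F.dbl, zero_add] at h
    have h1 := Nat.mul_le_mul_left (Nat.card ↥P.W1) hle
    rw [hsup] at h1
    have h2 := Nat.mul_le_mul_left (Nat.card ↥f.ker) hidx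
    rw [hmul] at h2
    omega

theorem W1_inv {l : ↥((rep Q c.D).comp c.M.subtype).range} (hl : l ∈ P.L) {u : c.ι → ZMod 2} (hu : u ∈ P.W1) :
    c.F.ρ l u ∈ P.W1 := by
  obtain ⟨w, hw, _, ⟨a, rfl⟩, rfl⟩ := AddSubgroup.mem_sup.mp hu
  rw [c.F.ρ_add]
  refine AddSubgroup.mem_sup.mpr ⟨_, ⟨P.W_inv hl hw.1, P.mem_perp.mpr ?_⟩, _, ⟨a, rfl⟩, ?_⟩
  · obtain ⟨h1, h2⟩ := (c.F.perp_iff _ _).mp (P.mem_perp.mp hw.2)
    refine c.F.herm_eq_zero ?_ ?_
    · conv_lhs => rw [← P.hL l hl, c.F.B_inv]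
      exact h1
    · conv_lhs => rw [← P.hL l hl, ← c.F.om_comm, c.F.B_inv]
      exact h2
  · show _ + c.F.sm a (c.pt P.x) = _ + c.F.ρ l (c.F.sm a (c.pt P.x))
    rw [c.F.map_sm (c.F.ρ_add l) (c.F.om_comm l), P.hL l hl]

/-- Totally isotropic subgroups have order at most sixty-four. -/
theorem iso_bound (A : AddSubgroup (c.ι → ZMod 2)) (hA : ∀ u ∈ A, ∀ w ∈ A, c.F.B u w = 0) : Nat.card ↥A ≤ 64 := by
  let D0 : Subgroup ↥Q :=
    { carrier := {a | c.pt a ∈ A}
      one_mem' := by show c.D.π 1 ∈ A; rw [c.D.π_one]; exact zero_mem _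
      mul_mem' := fun {a b} ha hb => by show c.pt (a * b) ∈ A; rw [c.pt_add]; exact add_mem ha hb
      inv_mem' := fun {a} ha => by show c.D.π a⁻¹ ∈ A; rw [c.D.π_inv]; exact neg_mem ha }
  have hcomm : ∀ a ∈ D0.map Q.subtype, ∀ b ∈ D0.map Q.subtype, a * b = b * a := by
    rintro _ ⟨a, ha, rfl⟩ _ ⟨b, hb, rfl⟩
    have hB := hA _ ha _ hb
    have h1 := c.F.q_add (c.pt a) (c.pt b)
    rw [← c.pt_add, c.Fq, pt, pt, pt, c.D.hT, c.D.hT, c.D.hT, sq_mul c.D.es] at h1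
    rw [show c.F.B (c.D.π a) (c.D.π b) = 0 from hB] at h1
    exact congrArg Subtype.val (commute_of_cm (add_left_cancel h1)).eq.symm
  have hle := abelian_bound c.hE c.card (map_subtype_le D0) hcomm
  rw [card_map_of_injective Q.subtype_injective] at hle
  let f : ↥A × Bool → ↥D0 := fun p => ⟨c.D.s p.1 * if p.2 then c.zq else 1, by
    show c.pt _ ∈ A
    rw [c.pt_add, pt, pt, c.D.π_s]
    split_ifs
    · rw [c.D.π_z, add_zero]; exact p.1.2
    · rw [c.D.π_one, add_zero]; exact p.1.2⟩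
  have hf : Function.Injective f := by
    rintro ⟨u, i⟩ ⟨w, j⟩ e
    have h0 := congrArg Subtype.val e
    simp only [f] at h0
    have h1 := congrArg c.pt h0
    rw [c.pt_add, c.pt_add, pt, pt, pt, pt, c.D.π_s, c.D.π_s] at h1
    have hz : ∀ i : Bool, c.D.π (if i then c.zq else 1) = 0 := fun i => by cases i <;> simp [c.D.π_z, c.D.π_one]
    rw [hz, hz, add_zero, add_zero] at h1
    obtain rfl : u = w := Subtype.ext h1
    refine Prod.ext rfl ?_
    have hne : c.zq ≠ 1 := fun h => c.X2g.ne (by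
      rw [← c.zv, h]; rfl)
    have h2 := mul_left_cancel h0
    cases i <;> cases j <;> simp_all
  have h := Nat.card_le_card_of_injective f hf
  rw [Nat.card_prod, Nat.card_eq_fintype_card (α := Bool), Fintype.card_bool] at h
  omega

theorem B_line {y : c.ι → ZMod 2} (hy : c.F.herm y (c.pt P.x) = 0) (e : F4) :
    c.F.B y (c.F.sm e (c.pt P.x)) = 0 := by
  rw [FSetting.B_herm, c.F.herm_sm_right, hy, mul_zero]; rfl

theorem W1_upper : Nat.card ↥P.W1 ≤ 64 := by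
  refine iso_bound _ fun u hu w hw => ?_
  obtain ⟨y, hy, _, ⟨e, rfl⟩, rfl⟩ := AddSubgroup.mem_sup.mp hu
  obtain ⟨y', hy', _, ⟨e', rfl⟩, rfl⟩ := AddSubgroup.mem_sup.mp hw
  show c.F.B (y + c.F.sm e (c.pt P.x)) (y' + c.F.sm e' (c.pt P.x)) = 0
  rw [c.F.B_add, c.F.B_symm y, c.F.B_add, c.F.B_symm y' y, c.F.B_symm (c.F.sm e' _) y,
    c.F.B_symm (c.F.sm e _), c.F.B_add, P.W_iso hy.1 hy'.1, P.B_line (P.mem_perp.mp hy.2), P.B_line (P.mem_perp.mp hy'.2),
    P.B_line (P.mem_perp.mp (P.line_le (show c.F.sm e' (c.pt P.x) ∈ P.line from ⟨e', rfl⟩)))]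
  decide

theorem max_iso (h : ∀ w ∈ P.W, c.F.B w (c.F.om (c.pt P.x)) = 0) : c.F.om (c.pt P.x) ∈ P.W := by
  by_contra hw
  set v' := c.F.om (c.pt P.x) with hv'
  have hvv : c.F.B v' v' = 0 := by
    rw [hv', ← c.F.sm_w, FSetting.B_herm, c.F.herm_sm, c.F.herm_sm_right,
      c.F.herm_eq_zero (P.W_iso P.v_mem_W P.v_mem_W) P.Bv, mul_zero, mul_zero]
    rfl
  set A := AddSubgroup.closure (insert v' (P.W : Set (c.ι → ZMod 2))) with hAdef
  have hA : ∀ u ∈ A, ∀ w ∈ A, c.F.B u w = 0 := by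
    have h1 : ∀ u ∈ A, ∀ w ∈ (insert v' (P.W : Set (c.ι → ZMod 2)) : Set _), c.F.B u w = 0 := by
      intro u hu
      induction hu using AddSubgroup.closure_induction with
      | mem u hu =>
        rintro w (rfl | hw') <;> rcases hu with rfl | hu'
        · exact hvv
        · exact h u hu'
        · rw [c.F.B_symm]; exact h w hw'
        · exact P.W_iso hu' hw'
      | zero => exact fun w _ => c.F.B_zero w
      | add a b _ _ ha hb => exact fun w hw' => by rw [c.F.B_add, ha w hw', hb w hw', add_zero]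
      | neg a _ ha => exact fun w hw' => by rw [c.F.W.neg_eq]; exact ha w hw'
    intro u hu w hw'
    induction hw' using AddSubgroup.closure_induction with
    | mem w hw' => exact h1 u hu w hw'
    | zero => rw [c.F.B_symm, c.F.B_zero]
    | add a b _ _ ha hb => rw [c.F.B_symm, c.F.B_add, c.F.B_symm, ha, c.F.B_symm, hb, add_zero]
    | neg a _ ha => rw [c.F.W.neg_eq]; exact ha
  have hlt : P.W < A := lt_of_le_of_ne (fun w hw' => AddSubgroup.subset_closure (Set.mem_insert_of_mem _ hw'))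
    fun e => hw (e.ge (AddSubgroup.subset_closure (Set.mem_insert _ _)))
  have hd := AddSubgroup.card_dvd_of_le hlt.le
  have hne : Nat.card ↥P.W ≠ Nat.card ↥A := fun e => hlt.ne (AddSubgroup.eq_of_le_of_card_ge hlt.le e.ge)
  obtain ⟨k, hk⟩ := hd
  have := iso_bound A hA
  have hW := P.W_card
  rcases k with _ | _ | k
  · rw [mul_zero] at hk; exact Nat.card_pos.ne' hk
  · simp at hk; exact hne hk.symm
  · rw [hk] at this; nlinarith

/-- The closed up image contains no further invariant plane. -/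
theorem W1_line {u : c.ι → ZMod 2} (hu : u ∈ P.W1) (hou : c.F.om u ∈ P.W1) : u ∈ P.line := by
  classical
  by_contra hne
  -- the invariant part
  let K : AddSubgroup (c.ι → ZMod 2) := P.W1 ⊓ P.W1.comap c.F.om
  have hKsm : ∀ k ∈ K, ∀ a, c.F.sm a k ∈ K := by
    intro k hk a
    have hoo : c.F.om (c.F.om k) = k + c.F.om k := by
      rw [← c.F.sm_w, ← c.F.sm_w, c.F.sm_sm, show w4 * w4 = 1 + w4 by decide +kernel, c.F.sm_add_left, c.F.sm_one]
    have hok : c.F.om k ∈ K := ⟨hk.2, show c.F.om (c.F.om k) ∈ P.W1 by rw [hoo]; exact add_mem hk.1 hk.2⟩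
    rcases f4_cases a with rfl | rfl | rfl | rfl
    · rw [c.F.sm_zero_left]; exact zero_mem _
    · rwa [c.F.sm_one]
    · rwa [c.F.sm_w]
    · rw [c.F.sm_add_left, c.F.sm_one, c.F.sm_w]; exact add_mem hk hok
  have hlK : P.line ≤ K := by
    rintro _ ⟨a, rfl⟩
    exact ⟨(le_sup_right : P.line ≤ P.W1) ⟨a, rfl⟩, (le_sup_right : P.line ≤ P.W1) ⟨w4 * a, by
      show c.F.sm _ _ = c.F.om (c.F.sm a _); rw [← c.F.sm_w, c.F.sm_sm]⟩⟩
  have hKinv : ∀ l ∈ P.L, ∀ k ∈ K, c.F.ρ l k ∈ K := fun l hl k hk =>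
    ⟨P.W1_inv hl hk.1, show c.F.om (c.F.ρ l k) ∈ P.W1 by rw [← c.F.om_comm]; exact P.W1_inv hl hk.2⟩
  have huK : u ∈ K := ⟨hu, hou⟩
  have hWle : Nat.card ↥K ≤ 64 := (AddSubgroup.card_le_of_le inf_le_left).trans P.W1_upper
  -- two generators
  obtain ⟨k2, hk2, hgen⟩ : ∃ k2 ∈ K, ∀ k ∈ K, ∃ a b e, k = c.F.sm a u + c.F.sm b k2 + c.F.sm e (c.pt P.x) := by
    by_cases h : ∃ k2 ∈ K, ∀ a e, k2 ≠ c.F.sm a u + c.F.sm e (c.pt P.x)
    · obtain ⟨k2, hk2, hk2n⟩ := h
      refine ⟨k2, hk2, ?_⟩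
      let f : F4 × F4 × F4 →+ (c.ι → ZMod 2) := AddMonoidHom.mk'
        (fun p => c.F.sm p.1 u + c.F.sm p.2.1 k2 + c.F.sm p.2.2 (c.pt P.x)) (fun p p' => by
          simp only [Prod.fst_add, Prod.snd_add, c.F.sm_add_left]; abel)
      have hinj : Function.Injective f := (injective_iff_map_eq_zero _).mpr fun ⟨a, b, e⟩ h => by
        change c.F.sm a u + c.F.sm b k2 + c.F.sm e (c.pt P.x) = 0 at h
        have hb : b = 0 := by
          by_contra hb
          obtain ⟨b', hb'⟩ := f4_scalar b 1 hb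
          refine hk2n (b' * a) (b' * e) ?_
          have h' := congrArg (c.F.sm b') h
          rw [c.F.sm_add, c.F.sm_add, c.F.sm_sm, c.F.sm_sm, c.F.sm_sm, ← hb', c.F.sm_one] at h'
          have h0 : c.F.sm b' (0 : c.ι → ZMod 2) = 0 := c.F.co_ext fun i => by rw [c.F.co_sm, c.F.co_zero, mul_zero]
          rw [h0] at h'
          refine add_left_cancel (a := c.F.sm (b' * a) u + c.F.sm (b' * e) (c.pt P.x)) ?_
          rw [c.F.dbl, ← h']
          abel
        rw [hb, c.F.sm_zero_left, add_zero] at h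
        have ha : a = 0 := by
          by_contra ha
          obtain ⟨a', ha'⟩ := f4_scalar a 1 ha
          refine hne ⟨a' * e, ?_⟩
          have h' := congrArg (c.F.sm a') h
          rw [c.F.sm_add, c.F.sm_sm, c.F.sm_sm, ← ha', c.F.sm_one] at h'
          have h0 : c.F.sm a' (0 : c.ι → ZMod 2) = 0 := c.F.co_ext fun i => by rw [c.F.co_sm, c.F.co_zero, mul_zero]
          rw [h0] at h'
          show c.F.sm (a' * e) (c.pt P.x) = u
          exact add_left_cancel (a := u) (h'.trans (c.F.dbl u).symm)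
        rw [ha, c.F.sm_zero_left, zero_add] at h
        simp [ha, hb, c.F.sm_injective P.v_ne h]
      have hle : f.range ≤ K := by
        rintro _ ⟨⟨a, b, e⟩, rfl⟩
        exact add_mem (add_mem (hKsm u huK a) (hKsm k2 hk2 b)) (hlK ⟨e, rfl⟩)
      have heq : f.range = K := AddSubgroup.eq_of_le_of_card_ge hle (hWle.trans (le_of_eq (by
        rw [← Nat.card_congr (AddMonoidHom.ofInjective hinj).toEquiv, Nat.card_prod, Nat.card_prod,
          Nat.card_eq_fintype_card, card_F4])))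
      intro k hk
      rw [← heq] at hk
      obtain ⟨⟨a, b, e⟩, rfl⟩ := hk
      exact ⟨a, b, e, rfl⟩
    · push Not at h
      refine ⟨u, huK, fun k hk => ?_⟩
      obtain ⟨a, e, rfl⟩ := h k hk
      exact ⟨a, 0, e, by rw [c.F.sm_zero_left, add_zero]⟩
  -- the kernel
  let N : Subgroup ↥((rep Q c.D).comp c.M.subtype).range :=
    { carrier := {l | l ∈ P.L ∧ ∀ k ∈ K, c.F.ρ l k + k ∈ P.line}
      one_mem' := ⟨one_mem _, fun k _ => by rw [map_one, Equiv.Perm.one_apply, c.F.dbl]; exact zero_mem _⟩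
      mul_mem' := fun {a b} ha hb => ⟨mul_mem ha.1 hb.1, fun k hk => by
        rw [map_mul, Equiv.Perm.mul_apply]
        have h := add_mem (ha.2 _ (hKinv b hb.1 k hk)) (hb.2 k hk)
        rwa [add_assoc, ← add_assoc (c.F.ρ b k), c.F.dbl, zero_add] at h⟩
      inv_mem' := fun {a} ha => ⟨inv_mem ha.1, fun k hk => by
        have h := ha.2 _ (hKinv _ (inv_mem ha.1) k hk)
        rwa [← Equiv.Perm.mul_apply, ← map_mul, mul_inv_cancel, map_one, Equiv.Perm.one_apply, add_comm] at h⟩ }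
  haveI hNn : (N.subgroupOf P.L).Normal := ⟨fun n hn l => by
    rw [mem_subgroupOf] at hn ⊢
    refine ⟨((l * n * l⁻¹ : ↥P.L)).2, fun k hk => ?_⟩
    obtain ⟨a, ha⟩ := hn.2 _ (hKinv _ (inv_mem l.2) k hk)
    refine ⟨a, ?_⟩
    show c.F.sm a (c.pt P.x) = c.F.ρ ((l : ↥((rep Q c.D).comp c.M.subtype).range) * n * (l : ↥((rep Q c.D).comp c.M.subtype).range)⁻¹) k + k
    rw [map_mul, map_mul, Equiv.Perm.mul_apply, Equiv.Perm.mul_apply]
    have e := congrArg (c.F.ρ (l : ↥((rep Q c.D).comp c.M.subtype).range)) ha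
    change c.F.ρ _ (c.F.sm a (c.pt P.x)) = c.F.ρ _ (_ + _) at e
    rw [c.F.map_sm (c.F.ρ_add _) (c.F.om_comm _), P.hL _ l.2, c.F.ρ_add] at e
    rw [e, map_inv, Equiv.Perm.coe_inv, Equiv.apply_symm_apply]⟩
  obtain ⟨eA⟩ := P.hLA
  haveI : IsSimpleGroup ↥P.L := by
    haveI : IsSimpleGroup ↥(alternatingGroup (Fin 6)) := alternatingGroup.isSimpleGroup (by simp)
    exact eA.isSimpleGroup
  rcases IsSimpleGroup.eq_bot_or_eq_top_of_normal (N.subgroupOf P.L) inferInstance with hb | ht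
  · -- too few images
    let π := QuotientAddGroup.mk' P.line
    let f : ↥P.L → ↥(K.map π) × ↥(K.map π) := fun l =>
      (⟨π (c.F.ρ l u), AddSubgroup.mem_map_of_mem π (hKinv l l.2 u huK)⟩,
        ⟨π (c.F.ρ l k2), AddSubgroup.mem_map_of_mem π (hKinv l l.2 k2 hk2)⟩)
    have hf : Function.Injective f := fun l l' e => by
      simp only [f, Prod.mk.injEq, Subtype.mk.injEq] at e
      obtain ⟨e1, e2⟩ := e
      have key : ∀ y, π (c.F.ρ l y) = π (c.F.ρ l' y) →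
          c.F.ρ ((l⁻¹ * l' : ↥P.L) : ↥((rep Q c.D).comp c.M.subtype).range) y + y ∈ P.line := fun y hy => by
        obtain ⟨a, ha⟩ := (QuotientAddGroup.eq (s := P.line)).mp hy
        refine ⟨a, ?_⟩
        show c.F.sm a (c.pt P.x) = _
        rw [Subgroup.coe_mul, Subgroup.coe_inv, map_mul, Equiv.Perm.mul_apply]
        have e := congrArg (c.F.ρ ((l : ↥((rep Q c.D).comp c.M.subtype).range)⁻¹)) ha
        change c.F.ρ _ (c.F.sm a (c.pt P.x)) = c.F.ρ _ (_ + _) at e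
        rw [c.F.map_sm (c.F.ρ_add _) (c.F.om_comm _), P.hL _ (inv_mem l.2), c.F.W.neg_eq, c.F.ρ_add] at e
        rw [e, ← Equiv.Perm.mul_apply, ← map_mul, inv_mul_cancel, map_one, Equiv.Perm.one_apply, add_comm]
      have hmem : (l⁻¹ * l' : ↥P.L) ∈ N.subgroupOf P.L := mem_subgroupOf.mpr ⟨(l⁻¹ * l' : ↥P.L).2, fun k hk => by
        obtain ⟨a, b, e, rfl⟩ := hgen k hk
        obtain ⟨p, hp⟩ := key u e1
        obtain ⟨q, hq⟩ := key k2 e2
        set y := ((l⁻¹ * l' : ↥P.L) : ↥((rep Q c.D).comp c.M.subtype).range)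
        have hy : y ∈ P.L := (l⁻¹ * l').2
        refine ⟨a * p + b * q, ?_⟩
        show c.F.sm _ (c.pt P.x) = _
        rw [c.F.sm_add_left, ← c.F.sm_sm, ← c.F.sm_sm]
        change c.F.sm p (c.pt P.x) = _ at hp
        change c.F.sm q (c.pt P.x) = _ at hq
        rw [hp, hq, c.F.sm_add, c.F.sm_add, c.F.ρ_add, c.F.ρ_add, c.F.map_sm (c.F.ρ_add y) (c.F.om_comm y),
          c.F.map_sm (c.F.ρ_add y) (c.F.om_comm y), c.F.map_sm (c.F.ρ_add y) (c.F.om_comm y), P.hL y hy]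
        have := c.F.dbl (c.F.sm e (c.pt P.x))
        refine Eq.symm (Eq.trans (b := (c.F.sm a (c.F.ρ y u) + c.F.sm a u) + (c.F.sm b (c.F.ρ y k2) + c.F.sm b k2) +
          (c.F.sm e (c.pt P.x) + c.F.sm e (c.pt P.x))) (by abel) ?_)
        rw [this, add_zero]⟩
      rw [hb, mem_bot, inv_mul_eq_one] at hmem
      exact hmem
    have h1 := Nat.card_le_card_of_injective f hf
    rw [Nat.card_prod, Nat.card_congr eA.toEquiv, nat_card_alternatingGroup, Nat.card_fin] at h1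
    have h2 : Nat.card ↥(K.map π) * 4 ≤ 64 := by
      have e := AddSubgroup.card_mul_index (π.comp K.subtype).ker
      rw [AddSubgroup.index_ker, AddMonoidHom.range_comp, AddSubgroup.range_subtype] at e
      have hk4 : 4 ≤ Nat.card ↥(π.comp K.subtype).ker := by
        rw [← P.line_card]
        exact Nat.card_le_card_of_injective
          (fun a : ↥P.line => (⟨⟨a.1, hlK a.2⟩, (QuotientAddGroup.eq_zero_iff _).mpr a.2⟩ : ↥(π.comp K.subtype).ker))
          fun a b h => Subtype.ext (congrArg (fun w : ↥(π.comp K.subtype).ker => (w.1 : c.ι → ZMod 2)) h)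
      calc Nat.card ↥(K.map π) * 4 ≤ Nat.card ↥(K.map π) * Nat.card ↥(π.comp K.subtype).ker := Nat.mul_le_mul_left _ hk4
        _ ≤ 64 := by rw [mul_comm, e]; exact hWle
    have h3 : Nat.card ↥(K.map π) ≤ 16 := by omega
    have h4 := Nat.mul_le_mul h3 h3
    have h1' : 360 ≤ Nat.card ↥(K.map π) * Nat.card ↥(K.map π) := le_trans (by decide) h1
    omega
  · have hg : P.g5 ∈ N := mem_subgroupOf.mp (ht ▸ mem_top (⟨P.g5, P.g5L⟩ : ↥P.L))
    obtain ⟨a, ha⟩ := hg.2 u huK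
    change c.F.sm a (c.pt P.x) = _ at ha
    have hgu : c.F.ρ P.g5 u = u + c.F.sm a (c.pt P.x) := by
      rw [ha, ← add_assoc, add_comm u, add_assoc, c.F.dbl, add_zero]
    have hgs : c.F.ρ P.g5 (c.F.sm a (c.pt P.x)) = c.F.sm a (c.pt P.x) := by
      rw [c.F.map_sm (c.F.ρ_add _) (c.F.om_comm _), P.hL _ P.g5L]
    have h5 := congrArg (fun y => c.F.ρ y u) P.g5p
    simp only [pow_succ, pow_zero, one_mul, map_mul, map_one, Equiv.Perm.mul_apply, Equiv.Perm.one_apply,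
      hgu, c.F.ρ_add, hgs] at h5
    have hs0 : c.F.sm a (c.pt P.x) = 0 := by
      refine add_left_cancel (a := u) ?_
      rw [add_zero]
      refine Eq.trans ?_ h5
      generalize c.F.sm a (c.pt P.x) = s
      rw [show u + s + s + s + s + s = u + ((s + s) + (s + s) + s) by abel, c.F.dbl, zero_add]
    rw [hs0, add_zero] at hgu
    obtain ⟨b, hb⟩ := P.g5fix u hgu (P.mem_perp.mp (P.W1_le hu))
    exact hne ⟨b, hb.symm⟩

theorem perp_eq {u : c.ι → ZMod 2} (hu : u ∈ P.perp) : ∃ a ∈ P.W1, ∃ b ∈ P.W1, u = a + c.F.om b := by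
  have hle : P.W1 ⊔ P.W1.map c.F.om ≤ P.perp := by
    refine sup_le P.W1_le ?_
    rintro _ ⟨b, hb, rfl⟩
    refine P.mem_perp.mpr ?_
    rw [← c.F.sm_w, c.F.herm_sm, P.mem_perp.mp (P.W1_le hb), mul_zero]
  have heq : P.W1 ⊔ P.W1.map c.F.om = P.perp := by
    refine AddSubgroup.eq_of_le_of_card_ge hle ?_
    rw [P.perp_card]
    have h := card_sup_mul_inf P.W1 (P.W1.map c.F.om)
    have hm : Nat.card ↥(P.W1.map c.F.om) = Nat.card ↥P.W1 :=
      (Nat.card_congr (P.W1.equivMapOfInjective c.F.om (c.F.t_inj _)).toEquiv).symm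
    have hi : Nat.card ↥(P.W1 ⊓ P.W1.map c.F.om) ≤ 4 := by
      refine (AddSubgroup.card_le_of_le ?_).trans P.line_card.le
      rintro _ ⟨ha, b, hb, rfl⟩
      obtain ⟨e, rfl⟩ := P.W1_line hb ha
      exact ⟨w4 * e, by show c.F.sm _ _ = c.F.om (c.F.sm e _); rw [← c.F.sm_w, c.F.sm_sm]⟩
    rw [hm] at h
    have h1 := Nat.mul_le_mul P.W1_card P.W1_card
    have h2 := Nat.mul_le_mul_left (Nat.card ↥(P.W1 ⊔ P.W1.map c.F.om)) hi
    rw [h] at h2
    omega
  rw [← heq] at hu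
  obtain ⟨a, ha, _, ⟨b, hb, rfl⟩, rfl⟩ := AddSubgroup.mem_sup.mp hu
  exact ⟨a, ha, b, hb, rfl⟩

/-- Linear elements move perpendicular vectors along the line. -/
theorem shift_perp {r : ↥(centralizer ({z} : Set G))} (hr : r ∈ c.RC P.g)
    (hom : ∀ a, rep Q c.D r (c.F.om a) = c.F.om (rep Q c.D r a)) {u : c.ι → ZMod 2}
    (hu : c.F.herm u (c.pt P.x) = 0) : ∃ a, rep Q c.D r u = u + c.F.sm a (c.pt P.x) := by
  have hv : rep Q c.D r (c.pt P.x) = c.pt P.x := by
    rw [c.act]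
    refine congrArg c.pt (Subtype.ext ?_)
    rw [MulAut.conjNormal_apply]
    exact c.RC_fix P.hg hr
  have h1 : ∀ w ∈ P.W1, ∃ a, rep Q c.D r w = w + c.F.sm a (c.pt P.x) := by
    intro w hw
    obtain ⟨y, hy, _, ⟨e, rfl⟩, rfl⟩ := AddSubgroup.mem_sup.mp hw
    have he : rep Q c.D r (c.F.sm e (c.pt P.x)) = c.F.sm e (c.pt P.x) := by
      rw [c.F.map_sm (rep_add Q c.D r) hom, hv]
    rcases P.RB_shift hr hy.1 with h | h
    · exact ⟨0, by rw [rep_add, h, c.F.sm_zero_left, add_zero]; exact congrArg _ he⟩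
    · refine ⟨1, ?_⟩
      show rep Q c.D r (y + c.F.sm e (c.pt P.x)) = y + c.F.sm e (c.pt P.x) + _
      rw [rep_add, h, c.F.sm_one, he]
      abel
  obtain ⟨a, ha, b, hb, rfl⟩ := P.perp_eq (P.mem_perp.mpr hu)
  obtain ⟨p, hp⟩ := h1 a ha
  obtain ⟨q, hq⟩ := h1 b hb
  refine ⟨p + w4 * q, ?_⟩
  rw [rep_add, hp, hom, hq, map_add, ← c.F.sm_w (c.F.sm q _), c.F.sm_sm, c.F.sm_add_left]
  abel

theorem perm_id {r : ↥(centralizer ({z} : Set G))}
    (hom : ∀ a, rep Q c.D r (c.F.om a) = c.F.om (rep Q c.D r a))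
    (hfix : ∀ u, c.F.herm u (c.pt P.x) = 0 → rep Q c.D r u = u) : rep Q c.D r = 1 :=
  Equiv.ext fun u => c.F.eq_id_of_fix_perp P.herm0 P.hq P.Bv P.bad (rep_add Q c.D r)
    (fun a => by rw [c.Fq]; exact rep_q Q c.D r a) hom hfix (c.orbits_split r).1 u

theorem om_eq (a : c.ι → ZMod 2) : c.F.om a = (c.F.E.ω : Equiv.Perm (c.ι → ZMod 2)) a := by
  have h : c.F.om a = c.F.ρ c.F.E.ω a := by rw [FSetting.om, FSetting.W_t, c.F.E.α_e, pw3_one]
  rw [h, c.Fρ]
  rfl

theorem om_comm_M {m : ↥(centralizer ({z} : Set G))} (hm : m ∈ c.M) (a : c.ι → ZMod 2) :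
    rep Q c.D m (c.F.om a) = c.F.om (rep Q c.D m a) := by
  have h := c.F.om_comm ⟨rep Q c.D m, ⟨⟨m, hm⟩, rfl⟩⟩ a
  rwa [c.Fρ] at h

/-- The cube root times the point lies in the common part. -/
theorem om_mem_W : c.F.om (c.pt P.x) ∈ P.W := by
  by_contra hw
  obtain ⟨u, hu, huw⟩ : ∃ u ∈ P.W, c.F.B u (c.F.om (c.pt P.x)) = 1 := by
    by_contra hno
    push Not at hno
    -- otherwise the whole image is perpendicular, so the line lies in it
    have hle : P.W ≤ P.perp := fun w hw' => P.mem_perp.mpr (c.F.herm_eq_zero (P.W_iso hw' P.v_mem_W)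
      ((show ∀ b : ZMod 2, b ≠ 1 → b = 0 by decide) _ (hno w hw')))
    exact hw (P.max_iso fun w hw' => ((c.F.perp_iff _ _).mp (P.mem_perp.mp (hle hw'))).2)
  have h16 := P.RB_cards.2.1
  suffices (c.RC P.g ⊓ c.M).map (rep Q c.D) = ⊥ by rw [this, card_bot] at h16; norm_num at h16
  refine (eq_bot_iff_forall _).mpr ?_
  rintro _ ⟨r, ⟨hr, hrM⟩, rfl⟩
  have hom := om_comm_M hrM
  have hv : rep Q c.D r (c.pt P.x) = c.pt P.x := by
    rw [c.act]
    refine congrArg c.pt (Subtype.ext ?_)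
    rw [MulAut.conjNormal_apply]
    exact c.RC_fix P.hg hr
  have hBi : ∀ a b, c.F.B (rep Q c.D r a) (rep Q c.D r b) = c.F.B a b := by
    intro a b
    have h := c.F.B_inv ⟨rep Q c.D r, ⟨⟨r, hrM⟩, rfl⟩⟩ a b
    rwa [c.Fρ] at h
  have hsmv : ∀ e, rep Q c.D r (c.F.sm e (c.pt P.x)) = c.F.sm e (c.pt P.x) := fun e => by
    rw [c.F.map_sm (rep_add Q c.D r) hom, hv]
  have hW1 : ∀ w ∈ P.W1, rep Q c.D r w = w := by
    intro w hw'
    obtain ⟨y, hy, _, ⟨e, rfl⟩, rfl⟩ := AddSubgroup.mem_sup.mp hw'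
    have hyfix : rep Q c.D r y = y := by
      refine (P.RB_shift hr hy.1).resolve_right fun e1 => ?_
      have h := hBi (c.F.om y) u
      rw [hom, e1, map_add, c.F.B_add] at h
      obtain ⟨h1, h2⟩ := (c.F.perp_iff _ _).mp (P.mem_perp.mp hy.2)
      have hyv : c.F.B (c.F.om y) (c.pt P.x) = 0 := by
        rw [← c.F.sm_w, FSetting.B_herm, c.F.herm_sm, P.mem_perp.mp hy.2, mul_zero]; rfl
      have hvv : c.F.B (c.F.om (c.pt P.x)) (c.pt P.x) = 0 := by rw [c.F.B_symm]; exact P.Bv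
      have hvu : c.F.B (c.F.om (c.pt P.x)) u = 1 := by rw [c.F.B_symm]; exact huw
      rcases P.RB_shift hr hu with e2 | e2 <;> rw [e2] at h
      · rw [hvu] at h
        exact absurd h (by simp)
      · rw [c.F.B_symm (c.F.om y), c.F.B_symm (c.F.om (c.pt P.x)), c.F.B_add, c.F.B_add, c.F.B_symm u (c.F.om y),
          c.F.B_symm (c.pt P.x) (c.F.om y), hyv, c.F.B_symm u, hvu, c.F.B_symm (c.pt P.x), hvv] at h
        simp at h
    show rep Q c.D r (y + c.F.sm e (c.pt P.x)) = _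
    rw [rep_add, hyfix, hsmv]
    rfl
  refine P.perm_id hom fun w hw' => ?_
  obtain ⟨a, ha, b, hb, rfl⟩ := P.perp_eq (P.mem_perp.mpr hw')
  rw [rep_add, hW1 a ha, hom, hW1 b hb]

/-- An element of order five moves every linear non-trivial element of the image of the conjugate group. -/
theorem five_free {r : ↥(centralizer ({z} : Set G))} (hr : r ∈ c.RC P.g)
    (hom : ∀ a, rep Q c.D r (c.F.om a) = c.F.om (rep Q c.D r a))
    (hcg : ∀ a, rep Q c.D r (c.F.ρ P.g5 a) = c.F.ρ P.g5 (rep Q c.D r a)) : rep Q c.D r = 1 := by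
  refine P.perm_id hom fun u hu => ?_
  refine c.F.fix_perp (P.hL _ P.g5L) P.g5p P.g5fix (rep_add Q c.D r) hom ?_ hcg (fun w hw => P.shift_perp hr hom hw) u hu
  rw [c.act]
  refine congrArg c.pt (Subtype.ext ?_)
  rw [MulAut.conjNormal_apply]
  exact c.RC_fix P.hg hr

include P in
/-- Elements outside the subgroup of index two are semilinear. -/
theorem no_linear {d : ↥(centralizer ({z} : Set G))} (hd : d ∉ c.M) :
    ¬ ∀ a, rep Q c.D d (c.F.om a) = c.F.om (rep Q c.D d a) := by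
  intro hlin
  haveI : Fact (Nat.Prime 5) := ⟨by norm_num⟩
  haveI := c.Mn
  have hall : ∀ y a, rep Q c.D y (c.F.om a) = c.F.om (rep Q c.D y a) := by
    intro y a
    by_cases hy : y ∈ c.M
    · exact om_comm_M hy a
    · have hm : d * y ∈ c.M := by
        rw [Subgroup.mul_mem_iff_of_index_two c.Mi]; simp [hd, hy]
      have h := om_comm_M hm a
      rw [map_mul, Equiv.Perm.mul_apply, Equiv.Perm.mul_apply, ← hlin] at h
      exact (rep Q c.D d).injective h
  set RB := (c.RC P.g).map (rep Q c.D) with hRB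
  set γ : Equiv.Perm (c.ι → ZMod 2) := (P.g5 : Equiv.Perm (c.ι → ZMod 2)) with hγ
  have hγn : γ ∈ normalizer (RB : Set (Equiv.Perm (c.ι → ZMod 2))) := by
    obtain ⟨⟨_, m, rfl⟩, hl, he⟩ : ∃ l, l ∈ P.L ∧ l = P.g5 := ⟨_, P.g5L, rfl⟩
    have hfix := P.hL _ hl
    rw [c.Fρ] at hfix
    rw [hγ, ← he]
    exact (c.normalises P.hg P.hxz P.hx1 m.2 hfix).1
  let σ : Equiv.Perm ↥RB :=
    { toFun := fun r => ⟨γ * r * γ⁻¹, (mem_normalizer_iff.mp hγn _).mp r.2⟩
      invFun := fun r => ⟨γ⁻¹ * r * γ, (mem_normalizer_iff''.mp hγn _).mp r.2⟩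
      left_inv := fun r => Subtype.ext (by simp [mul_assoc])
      right_inv := fun r => Subtype.ext (by simp [mul_assoc]) }
  have hγ5 : γ ^ 5 = 1 := by rw [hγ, ← SubmonoidClass.coe_pow, P.g5p]; rfl
  have hσ : σ ^ 5 = 1 := Equiv.ext fun r => Subtype.ext (by
    simp only [pow_succ, pow_zero, one_mul, Equiv.Perm.mul_apply, Equiv.Perm.one_apply]
    show γ * (γ * (γ * (γ * (γ * (r : Equiv.Perm (c.ι → ZMod 2)) * γ⁻¹) * γ⁻¹) * γ⁻¹) * γ⁻¹) * γ⁻¹ = r
    calc _ = γ ^ 5 * (r : Equiv.Perm (c.ι → ZMod 2)) * (γ ^ 5)⁻¹ := by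
          simp only [pow_succ, pow_zero, one_mul, mul_inv_rev, mul_assoc]
      _ = _ := by rw [hγ5]; simp)
  have hmod := card_modEq_fixed (p := 5) σ hσ
  rw [P.RB_cards.1] at hmod
  have huniq : ∀ r : {a : ↥RB // σ a = a}, r.1 = 1 := by
    rintro ⟨⟨_, r, hr, rfl⟩, hfix⟩
    refine Subtype.ext (P.five_free hr (hall r) fun a => ?_)
    have h := congrArg (fun w : Equiv.Perm (c.ι → ZMod 2) => w a) (mul_inv_eq_iff_eq_mul.mp (congrArg Subtype.val hfix))
    rw [c.Fρ]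
    exact h.symm
  haveI : Subsingleton {a : ↥RB // σ a = a} := ⟨fun a b => Subtype.ext ((huniq a).trans (huniq b).symm)⟩
  haveI : Nonempty {a : ↥RB // σ a = a} := ⟨⟨1, Subtype.ext (by simp [σ])⟩⟩
  rw [Nat.card_unique] at hmod
  norm_num at hmod

end LinePt

end Ctx

end Cfsg.Lib.LargeFischer
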