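import Cfsg.Agent.UFourThreeCover.Field
import Cfsg.Agent.Classical.Misc.SmallPSL
import Cfsg.Agent.S0283

/-!
A Siegel radical of `PSU(4,3)` and the copy of `PSL(2,9)` acting on it.
-/

set_option autoImplicit false
set_option maxRecDepth 100000
set_option maxHeartbeats 1000000
set_option linter.unusedSectionVars false
set_option linter.style.haveILetI false

namespace Cfsg.Lib.LargeFischer

open Matrix
open Cfsg.Lib.UFourThreeCover (K cube)

universe u

/-- The module. -/
abbrev A4 : Type := Fin 4 → ZMod 3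

/-- A skew Hermitian matrix. -/
def sk (x : A4) : Matrix (Fin 2) (Fin 2) K := !![⟨0, x 0⟩, ⟨x 1, x 2⟩; ⟨-x 1, x 2⟩, ⟨0, x 3⟩]

/-- Its coordinates. -/
def sco (Y : Matrix (Fin 2) (Fin 2) K) : A4 := ![(Y 0 0).im, (Y 0 1).re, (Y 0 1).im, (Y 1 1).im]

/-- Conjugate transpose. -/
def star2 (g : Matrix (Fin 2) (Fin 2) K) : Matrix (Fin 2) (Fin 2) K := (g.map cube)ᵀ

/-- The inverse of the conjugate transpose in determinant one. -/
def dual2 (g : Matrix (Fin 2) (Fin 2) K) : Matrix (Fin 2) (Fin 2) K := star2 g.adjugate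

theorem star2_mul (g h : Matrix (Fin 2) (Fin 2) K) : star2 (g * h) = star2 h * star2 g := by
  rw [star2, Matrix.map_mul, transpose_mul]; rfl

theorem cube_cube : ∀ y : K, cube (cube y) = y := by decide +kernel

theorem star2_star2 (g : Matrix (Fin 2) (Fin 2) K) : star2 (star2 g) = g :=
  Matrix.ext fun _ _ => cube_cube _

theorem cube_mk : ∀ a b : ZMod 3, cube (⟨a, b⟩ : K) = ⟨a, -b⟩ := by decide +kernel

theorem sco_sk (x : A4) : sco (sk x) = x := by
  funext i
  fin_cases i <;> rfl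

theorem sk_add (x y : A4) : sk (x + y) = sk x + sk y := by
  ext i j <;> fin_cases i <;> fin_cases j <;>
    simp [sk, QuadraticAlgebra.re_add, QuadraticAlgebra.im_add, add_comm]

theorem sk_zero : sk 0 = 0 := by
  have h := sk_add 0 0
  rw [add_zero] at h
  simpa using h

theorem sco_add (Y Z : Matrix (Fin 2) (Fin 2) K) : sco (Y + Z) = sco Y + sco Z := by
  funext i
  fin_cases i <;> simp [sco]

theorem star2_sk (x : A4) : star2 (sk x) = - sk x := by
  ext i j <;> fin_cases i <;> fin_cases j <;> simp [star2, sk, cube_mk]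

theorem skew_diag : ∀ y : K, cube y = -y → y = ⟨0, y.im⟩ := by decide +kernel

theorem skew_off : ∀ y w : K, cube y = -w → w = ⟨-y.re, y.im⟩ := by decide +kernel

theorem sk_sco {Y : Matrix (Fin 2) (Fin 2) K} (h : star2 Y = -Y) : sk (sco Y) = Y := by
  have h' : ∀ i j, cube (Y i j) = - Y j i := fun i j => congrFun (congrFun h j) i
  ext1 i j
  fin_cases i <;> fin_cases j
  exacts [(skew_diag _ (h' 0 0)).symm, rfl, (skew_off _ _ (h' 0 1)).symm, (skew_diag _ (h' 1 1)).symm]

/-- The twisted congruence action. -/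
def act (g : Matrix (Fin 2) (Fin 2) K) (x : A4) : A4 := sco (g * sk x * star2 g)

theorem sk_act (g : Matrix (Fin 2) (Fin 2) K) (x : A4) : sk (act g x) = g * sk x * star2 g :=
  sk_sco (by rw [star2_mul, star2_mul, star2_star2, star2_sk, Matrix.neg_mul, Matrix.mul_neg, Matrix.mul_assoc])

theorem act_add (g : Matrix (Fin 2) (Fin 2) K) (x y : A4) : act g (x + y) = act g x + act g y := by
  simp only [act, sk_add, Matrix.mul_add, Matrix.add_mul, sco_add]

theorem act_mul (g h : Matrix (Fin 2) (Fin 2) K) (x : A4) : act (g * h) x = act g (act h x) := by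
  simp only [act] at *
  rw [show sk (sco (h * sk x * star2 h)) = h * sk x * star2 h from sk_act h x, star2_mul]
  simp only [Matrix.mul_assoc]

/-- The transposed action on functionals. -/
def tact (g : Matrix (Fin 2) (Fin 2) K) (c : A4) : A4 := fun i => c ⬝ᵥ act g (Pi.single i 1)

theorem tact_spec (g : Matrix (Fin 2) (Fin 2) K) (c x : A4) : c ⬝ᵥ act g x = tact g c ⬝ᵥ x := by
  let f : A4 →+ ZMod 3 := AddMonoidHom.mk' (fun y => c ⬝ᵥ act g y) fun a b => by
    rw [act_add, dotProduct_add]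
  have hx := pi_eq_sum_univ' x
  have h1 : f x = ∑ i, x i * f (Pi.single i 1) := by
    conv_lhs => rw [hx]
    rw [map_sum]
    exact Finset.sum_congr rfl fun i _ => map_smul (f.toZModLinearMap 3) (x i) _
  show f x = _
  rw [h1]
  exact Finset.sum_congr rfl fun i _ => mul_comm _ _

/-- Seven elements of `SL(2,9)`. -/
def seven : Fin 7 → Matrix (Fin 2) (Fin 2) K :=
  ![1, !![⟨2, 1⟩, ⟨1, 0⟩; ⟨2, 0⟩, ⟨0, 0⟩], !![⟨2, 0⟩, ⟨2, 0⟩; ⟨1, 2⟩, ⟨0, 2⟩],
    !![⟨1, 1⟩, ⟨2, 0⟩; ⟨1, 1⟩, ⟨1, 1⟩], !![⟨0, 0⟩, ⟨2, 2⟩; ⟨2, 1⟩, ⟨2, 2⟩],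
    !![⟨1, 1⟩, ⟨2, 1⟩; ⟨0, 2⟩, ⟨0, 1⟩], !![⟨0, 1⟩, ⟨2, 2⟩; ⟨2, 0⟩, ⟨1, 1⟩]]

theorem seven_det : ∀ i, (seven i).det = 1 := by
  intro i
  fin_cases i <;> first | exact det_one | (simp only [seven]; rw [det_fin_two]; decide +kernel)

/-- Two unipotent elements. -/
def two : Fin 2 → Matrix (Fin 2) (Fin 2) K := ![!![1, 1; 0, 1], !![1, 0; 1, 1]]

theorem two_det : ∀ i, (two i).det = 1 := by
  intro i
  fin_cases i <;> simp [two, det_fin_two]

theorem tact_seven : ∀ c : A4, c ≠ 0 → ∀ i j, i ≠ j →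
    tact (seven i) c ≠ tact (seven j) c ∧ tact (seven i) c ≠ - tact (seven j) c := by
  decide +kernel

/-- The alternating forms. -/
def altForm (c : Fin 6 → ZMod 3) (x y : A4) : ZMod 3 :=
  c 0 * (x 0 * y 1 - x 1 * y 0) + c 1 * (x 0 * y 2 - x 2 * y 0) + c 2 * (x 0 * y 3 - x 3 * y 0) +
    c 3 * (x 1 * y 2 - x 2 * y 1) + c 4 * (x 1 * y 3 - x 3 * y 1) + c 5 * (x 2 * y 3 - x 3 * y 2)

theorem alt_invariant : ∀ c : Fin 6 → ZMod 3,
    (∀ k, ∀ i j, altForm c (act (two k) (Pi.single i 1)) (act (two k) (Pi.single j 1)) =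
      altForm c (Pi.single i 1) (Pi.single j 1)) → c = 0 := by
  decide +kernel

theorem fixed_zero : ∀ x : A4, (∀ k, act (seven k) x = x) → x = 0 := by decide +kernel

/-- The change of basis. -/
def cb : Matrix (Fin 4) (Fin 4) K :=
  !![1, 0, -1, 0; ⟨1, 1⟩, 0, ⟨1, 1⟩, 0; 0, 1, 0, -1; 0, ⟨1, 1⟩, 0, ⟨1, 1⟩]

/-- Block triangular matrices. -/
def blk (a b d : Matrix (Fin 2) (Fin 2) K) : Matrix (Fin 4) (Fin 4) K :=
  Matrix.reindex (finSumFinEquiv (m := 2) (n := 2)) (finSumFinEquiv (m := 2) (n := 2)) (Matrix.fromBlocks a b 0 d)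

/-- The hyperbolic form. -/
def hyp : Matrix (Fin 4) (Fin 4) K := Matrix.reindex (finSumFinEquiv (m := 2) (n := 2)) (finSumFinEquiv (m := 2) (n := 2)) (Matrix.fromBlocks 0 1 1 0)

/-- The inverse change of basis. -/
def cbi : Matrix (Fin 4) (Fin 4) K := hyp * (cb.map cube)ᵀ

theorem cbi_mul : cbi * cb = 1 := by decide +kernel

theorem mul_cbi : cb * cbi = 1 := mul_eq_one_comm.mp cbi_mul

theorem cb_form : cbᵀ * cb.map cube = hyp := by decide +kernel

theorem blk_mul (a b d a' b' d' : Matrix (Fin 2) (Fin 2) K) :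
    blk a b d * blk a' b' d' = blk (a * a') (a * b' + b * d') (d * d') := by
  simp [blk, Matrix.reindex_apply, Matrix.submatrix_mul_equiv, Matrix.fromBlocks_multiply]

theorem blk_one : blk 1 0 1 = 1 := by
  simp [blk, Matrix.fromBlocks_one]

theorem blk_inj {a b d a' b' d' : Matrix (Fin 2) (Fin 2) K} (h : blk a b d = blk a' b' d') :
    a = a' ∧ b = b' ∧ d = d' := by
  have h' := (Matrix.reindex finSumFinEquiv finSumFinEquiv).injective h
  rw [Matrix.fromBlocks_inj] at h'
  exact ⟨h'.1, h'.2.1, h'.2.2.2⟩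

theorem blk_det (a b d : Matrix (Fin 2) (Fin 2) K) : (blk a b d).det = a.det * d.det := by
  rw [blk, Matrix.det_reindex_self, Matrix.det_fromBlocks_zero₂₁]

theorem blk_form {a b d : Matrix (Fin 2) (Fin 2) K} (h1 : aᵀ * d.map cube = 1)
    (h2 : bᵀ * d.map cube + dᵀ * b.map cube = 0) : (blk a b d)ᵀ * hyp * (blk a b d).map cube = hyp := by
  have h3 : dᵀ * a.map cube = 1 := by
    have e := congrArg (fun m : Matrix (Fin 2) (Fin 2) K => (m.map cube)ᵀ) h1
    simp only [Matrix.map_mul, transpose_mul, transpose_map, transpose_one, Matrix.map_one cube (map_zero _) (map_one _)] at e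
    rw [show (d.map cube).map cube = d from Matrix.ext fun i j => cube_cube _] at e
    exact e
  simp only [blk, hyp, Matrix.reindex_apply, Matrix.transpose_submatrix, ← Matrix.submatrix_map,
    Matrix.submatrix_mul_equiv, Matrix.fromBlocks_transpose, Matrix.fromBlocks_map, Matrix.fromBlocks_multiply]
  congr 1
  simp [h1, h3, Matrix.map_zero cube (map_zero _)]
  rw [add_comm, h2]

theorem conj_form {N : Matrix (Fin 4) (Fin 4) K} (h : Nᵀ * hyp * N.map cube = hyp) :
    (cb * N * cbi)ᵀ * (cb * N * cbi).map cube = 1 := by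
  rw [transpose_mul, transpose_mul, Matrix.map_mul, Matrix.map_mul]
  calc cbiᵀ * (Nᵀ * cbᵀ) * (cb.map cube * N.map cube * cbi.map cube)
      = cbiᵀ * (Nᵀ * (cbᵀ * cb.map cube) * N.map cube) * cbi.map cube := by simp only [Matrix.mul_assoc]
    _ = cbiᵀ * (cbᵀ * cb.map cube) * cbi.map cube := by rw [cb_form, h]
    _ = (cb * cbi)ᵀ * (cb * cbi).map cube := by rw [transpose_mul, Matrix.map_mul]; simp only [Matrix.mul_assoc]
    _ = 1 := by rw [mul_cbi, transpose_one, Matrix.map_one cube (map_zero _) (map_one _), Matrix.mul_one]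

/-- The special unitary element attached to a block matrix. -/
def mkSU (N : Matrix (Fin 4) (Fin 4) K) (h : Nᵀ * hyp * N.map cube = hyp) (hd : N.det = 1) :
    Cfsg.SU 4 K 3 :=
  ⟨⟨cb * N * cbi, by rw [det_mul, det_mul, hd, mul_one, ← det_mul, mul_cbi, det_one]⟩,
    Cfsg.Lib.UFourThreeCover.herm_preserved (conj_form h)⟩

theorem mkSU_val {N : Matrix (Fin 4) (Fin 4) K} (h : Nᵀ * hyp * N.map cube = hyp) (hd : N.det = 1) :
    ((mkSU N h hd : Cfsg.SU 4 K 3).1).1 = cb * N * cbi := rfl

theorem conj_inj {N N' : Matrix (Fin 4) (Fin 4) K} (h : cb * N * cbi = cb * N' * cbi) : N = N' := by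
  have e := congrArg (fun m => cbi * m * cb) h
  simpa only [Matrix.mul_assoc, cbi_mul, Matrix.mul_one, ← Matrix.mul_assoc cbi cb, Matrix.one_mul] using e

theorem conj_mul (N N' : Matrix (Fin 4) (Fin 4) K) :
    (cb * N * cbi) * (cb * N' * cbi) = cb * (N * N') * cbi := by
  simp only [Matrix.mul_assoc]
  rw [← Matrix.mul_assoc cbi cb, cbi_mul, Matrix.one_mul]

theorem su_ext {a b : Cfsg.SU 4 K 3} (h : a.1.1 = b.1.1) : a = b := Subtype.ext (Subtype.ext h)

theorem uni_form (x : A4) : (blk 1 (sk x) 1)ᵀ * hyp * (blk 1 (sk x) 1).map cube = hyp := by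
  refine blk_form (by rw [transpose_one, Matrix.map_one cube (map_zero _) (map_one _), Matrix.mul_one]) ?_
  rw [transpose_one, Matrix.map_one cube (map_zero _) (map_one _), Matrix.mul_one, Matrix.one_mul]
  have e := congrArg transpose (star2_sk x)
  rw [star2, transpose_transpose, transpose_neg] at e
  rw [e, add_neg_cancel]

/-- The radical. -/
def uni (x : A4) : Cfsg.SU 4 K 3 := mkSU (blk 1 (sk x) 1) (uni_form x) (by rw [blk_det, det_one, mul_one])

theorem uni_add (x y : A4) : uni (x + y) = uni x * uni y := su_ext (by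
  show cb * blk 1 (sk (x + y)) 1 * cbi = (cb * blk 1 (sk x) 1 * cbi) * (cb * blk 1 (sk y) 1 * cbi)
  rw [conj_mul, blk_mul, sk_add]
  simp only [Matrix.one_mul, Matrix.mul_one, add_comm (sk x)])

theorem dual2_mul (g h : Matrix (Fin 2) (Fin 2) K) : dual2 (g * h) = dual2 g * dual2 h := by
  rw [dual2, adjugate_mul_distrib, star2_mul]; rfl

theorem lev_form (g : Matrix.SpecialLinearGroup (Fin 2) K) :
    (blk g.1 0 (dual2 g.1))ᵀ * hyp * (blk g.1 0 (dual2 g.1)).map cube = hyp := by
  refine blk_form ?_ (by simp [Matrix.map_zero cube (map_zero _)])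
  have e : (dual2 g.1).map cube = (g.1.adjugate)ᵀ := Matrix.ext fun _ _ => cube_cube _
  rw [e, ← transpose_mul, adjugate_mul, g.2, one_smul, transpose_one]

theorem lev_det (g : Matrix.SpecialLinearGroup (Fin 2) K) : (blk g.1 0 (dual2 g.1)).det = 1 := by
  rw [blk_det, g.2, one_mul, dual2, star2, det_transpose, ← RingHom.mapMatrix_apply, ← RingHom.map_det,
    det_adjugate, g.2, one_pow, map_one]

/-- The Levi embedding. -/
def lev : Matrix.SpecialLinearGroup (Fin 2) K →* Cfsg.SU 4 K 3 where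
  toFun g := mkSU _ (lev_form g) (lev_det g)
  map_one' := su_ext (by
    show cb * blk 1 0 (dual2 1) * cbi = 1
    rw [show dual2 1 = 1 by rw [dual2, adjugate_one, star2, Matrix.map_one cube (map_zero _) (map_one _),
      transpose_one], blk_one, Matrix.mul_one, mul_cbi])
  map_mul' g h := su_ext (by
    show cb * blk (g.1 * h.1) 0 (dual2 (g.1 * h.1)) * cbi = (cb * blk g.1 0 (dual2 g.1) * cbi) * (cb * blk h.1 0 (dual2 h.1) * cbi)
    rw [conj_mul, blk_mul, ← dual2_mul]
    simp)

theorem lev_uni (g : Matrix.SpecialLinearGroup (Fin 2) K) (x : A4) : lev g * uni x = uni (act g.1 x) * lev g :=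
  su_ext (by
    show (cb * blk g.1 0 (dual2 g.1) * cbi) * (cb * blk 1 (sk x) 1 * cbi) =
      (cb * blk 1 (sk (act g.1 x)) 1 * cbi) * (cb * blk g.1 0 (dual2 g.1) * cbi)
    rw [conj_mul, conj_mul, blk_mul, blk_mul, sk_act]
    have e : star2 g.1 * dual2 g.1 = 1 := by
      rw [dual2, ← star2_mul, adjugate_mul, g.2, one_smul, star2,
        Matrix.map_one cube (map_zero _) (map_one _), transpose_one]
    simp [Matrix.mul_assoc, e])

/-- The projection. -/
abbrev proj : Cfsg.SU 4 K 3 →* Cfsg.PSU 4 K 3 := QuotientGroup.mk' _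

theorem uni_center {x : A4} (h : uni x ∈ Subgroup.center (Cfsg.SU 4 K 3)) : x = 0 := by
  refine fixed_zero x fun k => ?_
  have e1 := lev_uni ⟨seven k, seven_det k⟩ x
  rw [Subgroup.mem_center_iff.mp h] at e1
  have e2 := congrArg (fun a : Cfsg.SU 4 K 3 => a.1.1) (mul_right_cancel e1)
  have e3 := congrArg sco (blk_inj (conj_inj e2)).2.1
  rw [sco_sk, sco_sk] at e3
  exact e3.symm

theorem lev_injective : Function.Injective lev := fun g h e => by
  have e2 := congrArg (fun a : Cfsg.SU 4 K 3 => a.1.1) e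
  exact Subtype.ext (blk_inj (conj_inj e2)).1

theorem cube_pm : ∀ r : K, r ^ 2 = 1 → cube r = r := by decide +kernel

theorem lev_ker : ((proj).comp lev).ker = Subgroup.center (Matrix.SpecialLinearGroup (Fin 2) K) := by
  ext g
  rw [MonoidHom.mem_ker, MonoidHom.comp_apply, QuotientGroup.mk'_apply, QuotientGroup.eq_one_iff]
  constructor
  · intro h
    refine Subgroup.mem_center_iff.mpr fun k => lev_injective ?_
    rw [map_mul, map_mul]
    exact Subgroup.mem_center_iff.mp h _
  · intro h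
    obtain ⟨r, hr, hg⟩ := Matrix.SpecialLinearGroup.mem_center_iff.mp h
    rw [Fintype.card_fin] at hr
    have hs : blk g.1 0 (dual2 g.1) = r • (1 : Matrix (Fin 4) (Fin 4) K) := by
      rw [← blk_one, ← hg]
      have hd : dual2 (Matrix.scalar (Fin 2) r) = Matrix.scalar (Fin 2) r := by
        ext1 i j
        fin_cases i <;> fin_cases j <;>
          simp [dual2, star2, cube_pm r hr]
      rw [hd]
      have hsc : ∀ r : K, blk (Matrix.scalar (Fin 2) r) 0 (Matrix.scalar (Fin 2) r) = r • blk 1 0 1 := fun r => by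
        simp only [blk, Matrix.reindex_apply]
        refine Eq.trans ?_ (congrFun (congrFun (Matrix.submatrix_smul r _) _) _)
        rw [Matrix.fromBlocks_smul]
        congr 2 <;> ext1 i j <;> fin_cases i <;> fin_cases j <;> simp
      exact hsc r
    refine Subgroup.mem_center_iff.mpr fun y => su_ext ?_
    show y.1.1 * (cb * blk g.1 0 (dual2 g.1) * cbi) = (cb * blk g.1 0 (dual2 g.1) * cbi) * y.1.1
    rw [hs, Matrix.mul_smul, Matrix.mul_one, Matrix.smul_mul, mul_cbi, Matrix.mul_smul, Matrix.smul_mul,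
      Matrix.mul_one, Matrix.one_mul]

/-- The data used in the large Fischer type argument. -/
structure Radical (S : Type u) [Group S] where
  a : A4 → S
  l : Matrix.SpecialLinearGroup (Fin 2) K →* S
  a_inj : Function.Injective a
  a_add : ∀ x y, a (x + y) = a x * a y
  conj : ∀ g x, l g * a x * (l g)⁻¹ = a (act g.1 x)
  simple : IsSimpleGroup l.range
  card : Nat.card l.range = 360

theorem radical_model : Nonempty (Radical (Cfsg.PSU 4 K 3)) := by
  have hcard := Cfsg.Lib.Classical.SmallPSL.card_psl Cfsg.Lib.UFourThreeCover.card_K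
  have hs := Matrix.ProjectiveSpecialLinearGroup.rank_two_simple (F := K)
    (by rw [Nat.card_eq_fintype_card, Cfsg.Lib.UFourThreeCover.card_K]; norm_num)
  let e : Matrix.ProjectiveSpecialLinearGroup (Fin 2) K ≃* ((proj).comp lev).range :=
    (QuotientGroup.quotientMulEquivOfEq lev_ker.symm).trans (QuotientGroup.quotientKerEquivRange _)
  refine ⟨{
    a := fun x => proj (uni x)
    l := (proj).comp lev
    a_inj := fun x y h => ?_
    a_add := fun x y => by rw [← map_mul, uni_add]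
    conj := fun g x => by rw [MonoidHom.comp_apply, ← map_mul, lev_uni, map_mul, mul_inv_cancel_right]
    simple := e.symm.isSimpleGroup
    card := ?_ }⟩
  · rw [← sub_eq_zero]
    refine uni_center ((QuotientGroup.eq_one_iff _).mp ?_)
    have e1 : proj (uni (x - y)) * proj (uni y) = proj (uni y) := by
      rw [← map_mul, ← uni_add, sub_add_cancel]; exact h
    simpa using e1
  · rw [← Nat.card_congr e.toEquiv]
    norm_num at hcard
    rw [Nat.card_eq_fintype_card]; omega

/-- Radical data exists in `PSU(4,3)` over any field with nine elements. -/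
theorem exists_radical {F : Type} [Field F] [Fintype F] (hF : Fintype.card F = 9) :
    Nonempty (Radical (Cfsg.PSU 4 F 3)) ∧ IsSimpleGroup (Cfsg.PSU 4 F 3) ∧ Nat.card (Cfsg.PSU 4 F 3) = 3265920 := by
  obtain ⟨e⟩ := Cfsg.Lib.UFourThreeCover.psu_congr
    (FiniteField.ringEquivOfCardEq (K := K) (K' := F) (Cfsg.Lib.UFourThreeCover.card_K.trans hF.symm)) 4 3
  obtain ⟨R⟩ := radical_model
  refine ⟨⟨{
    a := fun x => e (R.a x)
    l := e.toMonoidHom.comp R.l
    a_inj := e.injective.comp R.a_inj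
    a_add := fun x y => by rw [R.a_add, map_mul]
    conj := fun g x => by rw [MonoidHom.comp_apply, ← R.conj]; simp
    simple := ?_
    card := ?_ }⟩, Cfsg.Agent.S0283.result (by rw [hF]; norm_num) 4 (by norm_num) (by simp),
    by rw [← Nat.card_congr e.toEquiv]; exact Cfsg.Lib.UFourThreeCover.card_psu⟩
  · haveI := R.simple
    rw [MonoidHom.range_comp]
    exact (R.l.range.equivMapOfInjective _ e.injective).symm.isSimpleGroup
  · rw [MonoidHom.range_comp, Subgroup.card_map_of_injective e.injective]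
    exact R.card

end Cfsg.Lib.LargeFischer
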