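import Cfsg.Agent.LargeFischer.OuterStructure
import Cfsg.Agent.LargeFischer.OuterKey
import Cfsg.Agent.LargeFischer.InvolutionClasses
import Cfsg.Agent.Components.GenFitting

/-!
The centralizer of an involution of the extraspecial subgroup that is not conjugate to the central one.
-/

set_option autoImplicit false
set_option maxRecDepth 100000
set_option maxHeartbeats 1000000
set_option linter.unusedSectionVars false
set_option linter.style.haveILetI false

namespace Cfsg.Lib.LargeFischer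

open Subgroup

universe u

variable {G : Type u} [Group G] [Finite G] {z : G} {Q : Subgroup (centralizer ({z} : Set G))} [Q.Normal]

theorem conj_centralizer (g a : G) :
    (centralizer ({a} : Set G)).map (MulAut.conj g).toMonoidHom = centralizer ({g * a * g⁻¹} : Set G) := by
  ext x
  rw [mem_centralizer_singleton_iff]
  constructor
  · rintro ⟨y, hy, rfl⟩
    have hy' : y * a = a * y := mem_centralizer_singleton_iff.mp hy
    show g * y * g⁻¹ * (g * a * g⁻¹) = g * a * g⁻¹ * (g * y * g⁻¹)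
    calc g * y * g⁻¹ * (g * a * g⁻¹) = g * (y * a) * g⁻¹ := by group
      _ = g * (a * y) * g⁻¹ := by rw [hy']
      _ = _ := by group
  · intro h
    refine ⟨g⁻¹ * x * g, mem_centralizer_singleton_iff.mpr ?_, ?_⟩
    · calc g⁻¹ * x * g * a = g⁻¹ * (x * (g * a * g⁻¹)) * g := by group
        _ = g⁻¹ * (g * a * g⁻¹ * x) * g := by rw [h]
        _ = _ := by group
    · show g * (g⁻¹ * x * g) * g⁻¹ = x
      group

/-- The centralizer of a short involution. -/
theorem short_centralizer (hCore : Cfsg.Lib.USixType.CoreGoal.{u}) (hF : Cfsg.IsOfLargeFischerTypeAt z Q) (t : G)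
    (htQ : ∃ htc : t ∈ centralizer ({z} : Set G), (⟨t, htc⟩ : centralizer ({z} : Set G)) ∈ Q) (ht2 : orderOf t = 2)
    (ht : ¬ IsConj z t) (K : Subgroup ↥(centralizer ({t} : Set G)))
    (hK : K = Cfsg.generalizedFittingSubgroup ↥(centralizer ({t} : Set G)))
    [((zpowers t).subgroupOf (centralizer ({t} : Set G))).Normal] :
    Cfsg.IsQuasisimple ↥K ∧ K.index = 2 ∧
      (∃ htc : t ∈ centralizer ({t} : Set G), (⟨t, htc⟩ : ↥(centralizer ({t} : Set G))) ∈ K) ∧
      Nonempty (↥(centralizer ({t} : Set G)) ⧸ (zpowers t).subgroupOf (centralizer ({t} : Set G)) ≃*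
        MulAut Cfsg.Spor.Fi22) := by
  haveI : Fact (Nat.Prime 2) := ⟨Nat.prime_two⟩
  obtain ⟨c, L, P, k, m, ⟨hta, htb⟩, hm, hne, hcom⟩ := Ctx.exists_four_placed hF
  obtain ⟨e⟩ := L.bar_unitary hCore hm hne hcom
  obtain ⟨τ, q, -, hqb, hqτ⟩ := L.exists_outer
  obtain ⟨g0, hg0, hg02⟩ := L.exists_flip P k hta htb
  obtain ⟨K0, hn0, hK0, hqs, hidx, ⟨hac, haK⟩, ⟨i0⟩⟩ := L.outer_structure e τ q hqb hqτ hg0 hg02
  obtain ⟨htc, htQ'⟩ := htQ
  obtain ⟨P1⟩ := c.exists_linePt L.hz
  have ha2 : orderOf ((L.a : ↥(centralizer ({z} : Set G))) : G) = 2 :=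
    orderOf_eq_prime (by rw [pow_two]; exact L.sq_a) L.ab_ne.1
  obtain ⟨g, hg⟩ := isConj_iff.mp (P1.short_conj L.hz (x := L.a) (y := ⟨⟨t, htc⟩, htQ'⟩) ha2 ht2
    (L.not_conj L.a_mem) ht)
  replace hg : g * L.ga * g⁻¹ = t := hg
  subst hg
  let ε : ↥(centralizer ({L.ga} : Set G)) ≃* ↥(centralizer ({g * L.ga * g⁻¹} : Set G)) :=
    ((MulAut.conj g).subgroupMap (centralizer ({L.ga} : Set G))).trans
      (MulEquiv.subgroupCongr (conj_centralizer g L.ga))
  have hε : ∀ x, ((ε x : ↥(centralizer ({g * L.ga * g⁻¹} : Set G))) : G) = g * (x : G) * g⁻¹ := fun _ => rfl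
  have hKe : K0.map ε.toMonoidHom = K := by
    rw [hK, hK0, Cfsg.Lib.Components.genFitting_map_equiv]
  have hZe : ((zpowers L.ga).subgroupOf (centralizer ({L.ga} : Set G))).map ε.toMonoidHom =
      (zpowers (g * L.ga * g⁻¹)).subgroupOf (centralizer ({g * L.ga * g⁻¹} : Set G)) := by
    have hz : (zpowers L.ga).map (MulAut.conj g).toMonoidHom = zpowers (g * L.ga * g⁻¹) := MonoidHom.map_zpowers _ _
    ext x
    rw [mem_subgroupOf, ← hz]
    constructor
    · rintro ⟨y, hy, rfl⟩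
      exact ⟨y, mem_subgroupOf.mp hy, rfl⟩
    · rintro ⟨w, hw, hwx⟩
      refine ⟨⟨w, (zpowers_le.mpr hac : zpowers L.ga ≤ _) hw⟩, mem_subgroupOf.mpr hw, Subtype.ext hwx⟩
  refine ⟨(Cfsg.Lib.Components.isQuasisimple_congr
      ((K0.equivMapOfInjective _ ε.injective).trans (MulEquiv.subgroupCongr hKe))).mp hqs, ?_,
    ⟨mem_centralizer_singleton_iff.mpr rfl, ?_⟩,
    ⟨(QuotientGroup.congr _ _ ε hZe).symm.trans i0⟩⟩
  · rw [← hKe]
    exact (Subgroup.index_map_equiv K0 ε).trans hidx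
  · rw [← hKe]
    exact ⟨_, haK, Subtype.ext rfl⟩

end Cfsg.Lib.LargeFischer
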