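import Cfsg.Agent.LargeFischer.OuterMain
import Cfsg.Agent.LargeExtra.FittingSetting

/-!
A group with a subgroup of index two of large Fischer type: an outer involution centralizing the double cover of the
smallest Fischer group.
-/

set_option autoImplicit false
set_option maxRecDepth 100000
set_option maxHeartbeats 1000000
set_option linter.unusedSectionVars false
set_option linter.style.haveILetI false

namespace Cfsg.Lib.LargeFischer

open Subgroup
open scoped Pointwise commutatorElement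

universe u

namespace Ctx.Four

variable {G : Type u} [Group G] [Finite G] {z : G} {Q : Subgroup (centralizer ({z} : Set G))} [Q.Normal]
  {c : Ctx z Q} (L : c.Four)

/-- The part of the extraspecial group centralizing the four-group has the four-group and the central involution
as its centralizer in the extraspecial group. -/
theorem perp_JG (p : ↥Q) (h : ∀ w ∈ L.JG, Commute ((p : ↥(centralizer ({z} : Set G))) : G) w) :
    ((p : ↥(centralizer ({z} : Set G))) : G) ∈ L.E ∨ z⁻¹ * ((p : ↥(centralizer ({z} : Set G))) : G) ∈ L.E := by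
  have hB : ∀ w : ↥Q, ((w : ↥(centralizer ({z} : Set G))) : G) ∈ L.C → c.F.B (c.pt p) (c.pt w) = 0 := fun w hw =>
    B_of_commute (Subtype.ext (h _ ⟨⟨w, w.2, rfl⟩, hw⟩).eq)
  have h0 : c.F.co 0 (c.pt p) = c.F.co 1 (c.pt p) := by
    rw [← c.F.perp_line_iff, ← L.pa]
    refine ⟨hB L.a (L.E_le_C L.a_mem), ?_⟩
    have := hB L.b (L.E_le_C L.b_mem)
    rwa [L.pb, ← L.pa] at this
  refine L.line_lift (a := c.F.co 0 (c.pt p)) (c.F.eq_line_of_perp h0 fun w => ?_)
  obtain ⟨q, hq, hqC⟩ := L.exists_JG w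
  rw [← hq]
  exact hB q hqC

theorem center_C (e : L.Bar ≃* Cfsg.PSU 6 Cfsg.Lib.PrimeGraph.KQuad 2) {x : ↥L.C} (hx : x ∈ center ↥L.C) :
    (x : G) ∈ L.E := by
  have hq := L.quasisimple e
  haveI hs : IsSimpleGroup (Cfsg.PSU 6 Cfsg.Lib.PrimeGraph.KQuad 2) :=
    Cfsg.Agent.S0283.result (by rw [Cfsg.Lib.PrimeGraph.KQuad.card_eq]; norm_num) 6 (by norm_num) (by simp)
  haveI : IsSimpleGroup L.Bar := e.isSimpleGroup
  rcases IsSimpleGroup.eq_bot_or_eq_top_of_normal ((center ↥L.C).map L.π)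
    (Subgroup.Normal.map inferInstance _ (QuotientGroup.mk'_surjective _)) with h | h
  · exact L.pi_eq_one.mp (mem_bot.mp (h ▸ mem_map_of_mem L.π hx))
  · exfalso
    obtain ⟨r, s, hr, hs', hrs⟩ := L.JG_noncomm
    obtain ⟨w, hw, hwe⟩ : L.π ⟨_, hr⟩ ∈ (center ↥L.C).map L.π := h ▸ mem_top _
    have hrc : (⟨_, hr⟩ : ↥L.C) ∈ center ↥L.C := by
      have h1 : w⁻¹ * ⟨_, hr⟩ ∈ L.E.subgroupOf L.C := QuotientGroup.eq.mp hwe
      have := mul_mem hw (L.E_central h1)
      rwa [mul_inv_cancel_left] at this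
    refine c.X2g.ne (hrs.symm.trans ?_)
    exact commutatorElement_eq_one_iff_mul_comm.mpr
      (congrArg Subtype.val (mem_center_iff.mp hrc ⟨_, hs'⟩)).symm

/-- An element centralizing the involution that permutes the four-group cyclically. -/
theorem exists_rot (hF : Cfsg.IsOfLargeFischerTypeAt z Q) :
    ∃ h : G, h * L.ga * h⁻¹ = L.gb ∧ h * L.gb * h⁻¹ = L.ga * L.gb := by
  obtain ⟨X, hX, hXQ⟩ := c.exists_order_three hF
  obtain ⟨T⟩ := c.exists_three hF X hX hXQ
  obtain ⟨q, hqY, -, hqb⟩ := L.exists_shift_short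
  set gq : G := ((q : ↥(centralizer ({z} : Set G))) : G) with hgq
  obtain ⟨r, hr⟩ := c.D.surj (c.F.mk6 ![w4, 0, 0, 0, 0, 0])
  have hr' : c.pt r = c.F.mk6 ![w4, 0, 0, 0, 0, 0] := hr
  set gr : G := ((r : ↥(centralizer ({z} : Set G))) : G) with hgr
  have hrb : gr * L.gb * gr⁻¹ = L.gb := by
    refine mul_inv_eq_iff_eq_mul.mpr (congrArg Subtype.val (c.commute_of_B ?_).eq)
    rw [hr', L.pb, c.F.B_wv0, c.F.co_mk6, c.F.co_mk6]
    decide +kernel
  have hra : gr * L.ga * gr⁻¹ = z * L.ga := by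
    rcases c.conj_cases r.2 L.a.2 with e | e
    · exfalso
      have h := B_of_commute (c := c) (mul_inv_eq_iff_eq_mul.mp e : Commute (r : ↥(centralizer ({z} : Set G))) L.a)
      rw [hr', L.pa, c.F.B_v0, c.F.co_mk6, c.F.co_mk6] at h
      revert h
      decide +kernel
    · have h := congrArg Subtype.val e
      simp only [Subgroup.coe_mul, Subgroup.coe_inv, c.zH_val] at h
      exact h
  have hqa : gq * L.ga * gq⁻¹ = L.ga := mul_inv_eq_iff_eq_mul.mpr (L.mem_Y.mp hqY)
  have hzz : z * z = 1 := c.X2g.zz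
  have hcz : ∀ y : ↥(centralizer ({z} : Set G)), (y : G) * z * (y : G)⁻¹ = z := fun y =>
    mul_inv_eq_iff_eq_mul.mpr (mem_centralizer_singleton_iff.mp y.2)
  have hmul : ∀ g x y : G, g * (x * y) * g⁻¹ = g * x * g⁻¹ * (g * y * g⁻¹) := fun g x y => by group
  have hpt1 : c.pt (T.rot L.a) = c.pt L.b := by
    rw [T.pt_rot, L.pa, L.pb, LinePt.om_eq, c.ρ_val]
  have hpt2 : c.pt (T.rot L.b) = c.pt (L.a * L.b) := by
    rw [T.pt_rot, c.pt_mul, L.pa, L.pb, c.ρ_val, ← LinePt.om_eq, ← c.F.sm_w, ← c.F.sm_w, c.F.sm_sm,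
      show w4 * w4 = 1 + w4 by decide +kernel, c.F.sm_add_left, c.F.sm_one]
  set gx : G := (T.ξ : G) with hgx
  have hv : ∀ w : ↥Q, ((T.rot w : ↥Q) : ↥(centralizer ({z} : Set G))).val =
      gx * ((w : ↥(centralizer ({z} : Set G))) : G) * gx⁻¹ := fun w => by rw [T.rot_val]; rfl
  -- correct the image of the first involution
  obtain ⟨g1, hg1z, hg1a, hg1b⟩ : ∃ g : G, g * z * g⁻¹ = z ∧ g * L.ga * g⁻¹ = L.gb ∧
      (g * L.gb * g⁻¹ = L.ga * L.gb ∨ g * L.gb * g⁻¹ = L.ga * L.gb * z) := by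
    have h2 : gx * L.gb * gx⁻¹ = L.ga * L.gb ∨ gx * L.gb * gx⁻¹ = L.ga * L.gb * z := by
      rw [← hv]
      rcases c.pt_eq hpt2.symm with e | e <;> rw [e]
      · exact Or.inl rfl
      · exact Or.inr (by show L.ga * L.gb * (c.zH : G) = _; rw [c.zH_val])
    rcases c.pt_eq hpt1.symm with e | e
    · refine ⟨gx, hcz _, ?_, h2⟩
      rw [← hv, e]
    · have h1 : gx * L.ga * gx⁻¹ = L.gb * z := by
        rw [← hv, e]
        show L.gb * (c.zH : G) = _
        rw [c.zH_val]
      refine ⟨gq * gx, ?_, ?_, ?_⟩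
      · calc gq * gx * z * (gq * gx)⁻¹ = gq * (gx * z * gx⁻¹) * gq⁻¹ := by group
          _ = z := by rw [hcz, hcz]
      · calc gq * gx * L.ga * (gq * gx)⁻¹ = gq * (gx * L.ga * gx⁻¹) * gq⁻¹ := by group
          _ = L.gb := by
            have hzb : z * L.gb = L.gb * z :=
              (mem_centralizer_singleton_iff.mp (L.b : ↥(centralizer ({z} : Set G))).2).symm
            rw [h1, hmul, hqb, hcz, hzb, mul_assoc, hzz, mul_one]
      · have hzb : z * L.gb = L.gb * z :=
          (mem_centralizer_singleton_iff.mp (L.b : ↥(centralizer ({z} : Set G))).2).symm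
        have e0 : gq * gx * L.gb * (gq * gx)⁻¹ = gq * (gx * L.gb * gx⁻¹) * gq⁻¹ := by group
        rcases h2 with h2 | h2 <;> rw [e0, h2]
        · exact Or.inr (by rw [hmul, hqa, hqb, hzb, mul_assoc])
        · exact Or.inl (by rw [hmul, hmul gq L.ga, hqa, hqb, hcz, hzb, ← mul_assoc, mul_assoc, hzz, mul_one])
  rcases hg1b with h | h
  · exact ⟨g1, hg1a, h⟩
  · refine ⟨gr * g1, ?_, ?_⟩
    · calc gr * g1 * L.ga * (gr * g1)⁻¹ = gr * (g1 * L.ga * g1⁻¹) * gr⁻¹ := by group
        _ = L.gb := by rw [hg1a, hrb]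
    · have hza : z * L.ga = L.ga * z :=
        (mem_centralizer_singleton_iff.mp (L.a : ↥(centralizer ({z} : Set G))).2).symm
      have hzb : z * L.gb = L.gb * z :=
        (mem_centralizer_singleton_iff.mp (L.b : ↥(centralizer ({z} : Set G))).2).symm
      calc gr * g1 * L.gb * (gr * g1)⁻¹ = gr * (g1 * L.gb * g1⁻¹) * gr⁻¹ := by group
        _ = z * L.ga * L.gb * z := by rw [h, hmul, hmul gr L.ga, hra, hrb, hcz]
        _ = L.ga * L.gb * (z * z) := by rw [hza, mul_assoc L.ga, hzb]; group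
        _ = _ := by rw [hzz, mul_one]

end Ctx.Four

section Pair

variable {X : Type u} [Group X] [Finite X] {G₀ : Subgroup X} {z : ↥G₀}
  {Q : Subgroup (centralizer ({z} : Set ↥G₀))} [Q.Normal] {c : Ctx z Q}

/-- The extraspecial subgroup in the whole group. -/
abbrev QX (Q : Subgroup (centralizer ({z} : Set ↥G₀))) : Subgroup X :=
  (Q.map (centralizer ({z} : Set ↥G₀)).subtype).map G₀.subtype

theorem qx_setting (hF : Cfsg.IsOfLargeFischerTypeAt z Q)
    (hFX : (Cfsg.generalizedFittingSubgroup ↥(centralizer ({(z : X)} : Set X))).map (Subgroup.subtype _) = QX Q) :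
    centralizer (QX Q : Set X) ≤ QX Q ∧ centralizer ({(z : X)} : Set X) ≤ normalizer (QX Q : Set X) := by
  obtain ⟨⟨hz, -, hE, -⟩, -⟩ := hF
  have hle : QX Q ≤ centralizer ({(z : X)} : Set X) := by
    rintro _ ⟨_, ⟨w, -, rfl⟩, rfl⟩
    exact mem_centralizer_singleton_iff.mpr (congrArg Subtype.val (mem_centralizer_singleton_iff.mp w.2))
  have hEX : Cfsg.IsExtraspecial 2 ↥(QX Q) :=
    isExtraspecial_congr ((Q.equivMapOfInjective _ (centralizer ({z} : Set ↥G₀)).subtype_injective).trans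
      ((Q.map (centralizer ({z} : Set ↥G₀)).subtype).equivMapOfInjective _ G₀.subtype_injective)) hE
  obtain ⟨-, h1, h2, -⟩ := Cfsg.Lib.LargeExtra.fitting_setting (z := (z : X))
    (by rw [Subgroup.orderOf_coe]; exact hz) hle hFX hEX
  exact ⟨h1, h2⟩

theorem exists_outer_commute (hidx : G₀.index = 2) (c : Ctx z Q) (hord : orderOf z = 2)
    (hcentral : ∃ P : Sylow 2 ↥G₀, z ∈ (P : Subgroup ↥G₀) ∧ ∀ x ∈ (P : Subgroup ↥G₀), Commute x z) :
    ∃ x : X, x ∉ G₀ ∧ x * (z : X) * x⁻¹ = z := by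
  haveI hn : G₀.Normal := Subgroup.normal_of_index_eq_two hidx
  haveI : Fact (Nat.Prime 2) := ⟨Nat.prime_two⟩
  obtain ⟨P, hzP, hPz⟩ := hcentral
  obtain ⟨x, hx⟩ : ∃ x : X, x ∉ G₀ := by
    by_contra h
    push Not at h
    rw [(eq_top_iff' G₀).mpr h, index_top] at hidx
    norm_num at hidx
  set σ : MulAut ↥G₀ := MulAut.conjNormal x with hσ
  obtain ⟨g, hg⟩ := MulAction.exists_smul_eq ↥G₀ (σ • P) P
  set σ' : MulAut ↥G₀ := MulAut.conj g * σ with hσ'
  have hP' : σ' • (P : Subgroup ↥G₀) = P := by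
    conv_rhs => rw [← hg]
    rw [hσ', mul_smul, Sylow.coe_subgroup_smul]
    rfl
  have hmem : σ' z ∈ (P : Subgroup ↥G₀) := hP' ▸ Subgroup.smul_mem_pointwise_smul z σ' _ hzP
  have hcen : ∀ y ∈ (P : Subgroup ↥G₀), σ' z * y = y * σ' z := fun y hy => by
    obtain ⟨y0, hy0, rfl⟩ : y ∈ σ' • (P : Subgroup ↥G₀) := hP'.symm ▸ hy
    show σ' z * σ' y0 = σ' y0 * σ' z
    rw [← map_mul, ← map_mul, (hPz y0 hy0).eq]
  set Qg := Q.map (centralizer ({z} : Set ↥G₀)).subtype with hQg
  have hQP : Qg ≤ P := by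
    have hPC : (P : Subgroup ↥G₀) ≤ normalizer (Qg : Set ↥G₀) := fun y hy =>
      c.CN (mem_centralizer_singleton_iff.mpr (hPz y hy).eq)
    have h2 : IsPGroup 2 ↥Qg := (IsPGroup.of_card c.card).map _
    have := P.3 (IsPGroup.to_sup_of_normal_right' P.2 h2 hPC) le_sup_left
    exact (sup_eq_left.mp this)
  have hzQ : σ' z ∈ Qg := c.CQ (mem_centralizer_iff.mpr fun y hy => (hcen y (hQP hy)).symm)
  have hz' : σ' z = z := by
    refine (c.X2g.cen _ hzQ fun y hy => (hcen y (hQP hy)).symm).resolve_left fun e => ?_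
    rw [MulEquiv.map_eq_one_iff] at e
    rw [e, orderOf_one] at hord
    norm_num at hord
  refine ⟨(g : X) * x, fun h => hx ((Subgroup.mul_mem_cancel_left _ g.2).mp h), ?_⟩
  have h := congrArg (fun y : ↥G₀ => (y : X)) hz'
  simp only [hσ', MulAut.mul_apply, MulAut.conj_apply, Subgroup.coe_mul, Subgroup.coe_inv, hσ,
    MulAut.conjNormal_apply] at h
  calc (g : X) * x * (z : X) * ((g : X) * x)⁻¹ = (g : X) * (x * (z : X) * x⁻¹) * (g : X)⁻¹ := by group
    _ = _ := h

/-- An outer element fixing the central involution and a short one. -/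
theorem exists_outer_fix (hidx : G₀.index = 2) (L : c.Four) (hord : orderOf z = 2)
    (hcentral : ∃ P : Sylow 2 ↥G₀, z ∈ (P : Subgroup ↥G₀) ∧ ∀ x ∈ (P : Subgroup ↥G₀), Commute x z)
    (hNX : centralizer ({(z : X)} : Set X) ≤ normalizer (QX Q : Set X)) :
    ∃ x : X, x ∉ G₀ ∧ x * (L.ga : X) * x⁻¹ = L.ga := by
  haveI hn : G₀.Normal := Subgroup.normal_of_index_eq_two hidx
  haveI : Fact (Nat.Prime 2) := ⟨Nat.prime_two⟩
  obtain ⟨x, hx, hxz⟩ := exists_outer_commute hidx c hord hcentral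
  obtain ⟨P1⟩ := c.exists_linePt L.hz
  set σ : MulAut ↥G₀ := MulAut.conjNormal x with hσ
  have hσz : σ z = z := Subtype.ext (by rw [hσ, MulAut.conjNormal_apply]; exact hxz)
  have ha : (L.ga : X) ∈ QX Q := ⟨_, ⟨_, L.a.2, rfl⟩, rfl⟩
  have hxN : x ∈ normalizer (QX Q : Set X) := hNX (mem_centralizer_singleton_iff.mpr (mul_inv_eq_iff_eq_mul.mp hxz))
  obtain ⟨_, ⟨w, hw, rfl⟩, hwe⟩ := (mem_normalizer_iff.mp hxN _).mp ha
  have hwσ : ((w : ↥(centralizer ({z} : Set ↥G₀))) : ↥G₀) = σ L.ga :=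
    Subtype.ext (hwe.trans (MulAut.conjNormal_apply x L.ga).symm)
  have ha2 : orderOf L.ga = 2 := orderOf_eq_prime (by rw [pow_two]; exact L.sq_a) L.ab_ne.1
  obtain ⟨g, hg⟩ := isConj_iff.mp (P1.short_conj L.hz (x := ⟨w, hw⟩) (y := L.a)
    (by rw [show ((w : ↥(centralizer ({z} : Set ↥G₀))) : ↥G₀) = σ L.ga from hwσ, MulEquiv.orderOf_eq]; exact ha2) ha2
    (fun hc => L.not_conj L.a_mem (by
      have h := σ.symm.toMonoidHom.map_isConj hc
      rwa [MulEquiv.coe_toMonoidHom, hwσ, MulEquiv.symm_apply_apply, σ.symm_apply_eq.mpr hσz.symm] at h))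
    (L.not_conj L.a_mem))
  refine ⟨(g : X) * x, fun h => hx ((Subgroup.mul_mem_cancel_left _ g.2).mp h), ?_⟩
  have h := congrArg (fun y : ↥G₀ => (y : X)) hg
  simp only [Subgroup.coe_mul, Subgroup.coe_inv] at h
  calc (g : X) * x * (L.ga : X) * ((g : X) * x)⁻¹ = (g : X) * (x * (L.ga : X) * x⁻¹) * (g : X)⁻¹ := by group
    _ = _ := by
      conv_rhs => rw [← h]
      congr 2
      exact ((congrArg Subtype.val hwσ).trans (MulAut.conjNormal_apply x L.ga)).symm

/-- The outer involution. -/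
theorem exists_transp (hidx : G₀.index = 2) (L : c.Four) {x : X} (hx : x ∉ G₀)
    (hxa : x * (L.ga : X) * x⁻¹ = L.ga) (hNX : centralizer ({(z : X)} : Set X) ≤ normalizer (QX Q : Set X))
    (hCX : centralizer (QX Q : Set X) ≤ QX Q) {q : ↥L.Y}
    (hqb : (q : ↥G₀) * L.gb * (q : ↥G₀)⁻¹ = z * L.gb) {K : Subgroup ↥L.Y} (hK : L.Inner q K)
    (hqQ : ((q : ↥G₀) : X) ∈ QX Q) :
    ∃ d : X, orderOf d = 2 ∧ d ∉ G₀ ∧ Commute d (z : X) ∧
      ∀ g : ↥L.Y, (g ∈ K ↔ d * ((g : ↥G₀) : X) = ((g : ↥G₀) : X) * d) := by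
  haveI hn : G₀.Normal := Subgroup.normal_of_index_eq_two hidx
  haveI hKn : K.Normal := Subgroup.normal_of_index_eq_two hK.index
  set σ : MulAut ↥G₀ := MulAut.conjNormal x with hσ
  have hσa : σ L.ga = L.ga := Subtype.ext (by rw [hσ, MulAut.conjNormal_apply]; exact hxa)
  have hmapY : L.Y.map σ.toMonoidHom = L.Y := by
    refine Subgroup.eq_of_le_of_card_ge ?_ (le_of_eq (card_map_of_injective σ.injective).symm)
    rintro _ ⟨y, hy, rfl⟩
    refine L.mem_Y.mpr ?_
    show σ y * L.ga = L.ga * σ y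
    rw [← hσa, ← map_mul, ← map_mul, L.mem_Y.mp hy]
  let εY : ↥L.Y ≃* ↥L.Y := (σ.subgroupMap L.Y).trans (MulEquiv.subgroupCongr hmapY)
  have hmapK : K.map εY.toMonoidHom = K := by
    conv_rhs => rw [hK.fstar]
    rw [hK.fstar, Cfsg.Lib.Components.genFitting_map_equiv]
  let β : MulAut ↥K := (εY.subgroupMap K).trans (MulEquiv.subgroupCongr hmapK)
  have hβ : ∀ n : ↥K, ((((β n : ↥K) : ↥L.Y) : ↥G₀) : X) = x * (((n : ↥L.Y) : ↥G₀) : X) * x⁻¹ := fun n => by
    show ((σ ((n : ↥L.Y) : ↥G₀) : ↥G₀) : X) = _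
    rw [hσ, MulAut.conjNormal_apply]
  obtain ⟨y, hy⟩ := hK.surj β
  -- a homomorphism of a perfect group into its centre is trivial
  have hfc : ∀ n : ↥K, (MulAut.conjNormal y n)⁻¹ * β n ∈ center ↥K := fun n => by
    have h : y * (n : ↥L.Y) * y⁻¹ ∈ K := hKn.conj_mem _ n.2 y
    have e : MulAut.conjNormal y n = (⟨_, h⟩ : ↥K) := Subtype.ext (MulAut.conjNormal_apply y n)
    rw [e]; exact hy n h
  let f : ↥K →* ↥(center ↥K) :=
    { toFun := fun n => ⟨_, hfc n⟩
      map_one' := Subtype.ext (by simp)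
      map_mul' := fun n k => Subtype.ext (by
        show (MulAut.conjNormal y (n * k))⁻¹ * β (n * k) =
          (MulAut.conjNormal y n)⁻¹ * β n * ((MulAut.conjNormal y k)⁻¹ * β k)
        rw [map_mul, map_mul, mul_inv_rev]
        calc (MulAut.conjNormal y k)⁻¹ * (MulAut.conjNormal y n)⁻¹ * (β n * β k)
            = (MulAut.conjNormal y k)⁻¹ * ((MulAut.conjNormal y n)⁻¹ * β n) * β k := by group
          _ = (MulAut.conjNormal y n)⁻¹ * β n * (MulAut.conjNormal y k)⁻¹ * β k := by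
              rw [mem_center_iff.mp (hfc n)]
          _ = _ := by group) }
  have hfix : ∀ n : ↥K, β n = MulAut.conjNormal y n := fun n => by
    letI : CommGroup ↥(center ↥K) := { (inferInstance : Group ↥(center ↥K)) with
      mul_comm := fun a b => Subtype.ext (mem_center_iff.1 b.2 a) }
    have h1 : f n = 1 := Abelianization.commutator_subset_ker f (hK.qs.1.1.symm ▸ mem_top n)
    exact (inv_mul_eq_one.mp (congrArg Subtype.val h1)).symm
  set d : X := ((y : ↥G₀) : X)⁻¹ * x with hd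
  have hdG : d ∉ G₀ := fun h => hx ((Subgroup.mul_mem_cancel_left _ (inv_mem (y : ↥G₀).2)).mp h)
  have hdK : ∀ n : ↥L.Y, n ∈ K → d * ((n : ↥G₀) : X) = ((n : ↥G₀) : X) * d := fun n hn => by
    have h := hβ ⟨n, hn⟩
    rw [hfix, MulAut.conjNormal_apply] at h
    simp only [Subgroup.coe_mul, Subgroup.coe_inv] at h
    have h' : x * ((n : ↥G₀) : X) = ((y : ↥G₀) : X) * ((n : ↥G₀) : X) * ((y : ↥G₀) : X)⁻¹ * x := by
      rw [h]; group
    rw [hd, mul_assoc, h']
    group
  have hdC : ∀ w ∈ L.C, d * (w : X) = (w : X) * d := fun w hw =>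
    hdK ⟨w, L.C_le_Y hw⟩ (hK.mem ⟨w, L.C_le_Y hw⟩ hw)
  have hdz : d * (z : X) = (z : X) * d := hdC z L.z_mem_C
  have hdN : d ∈ normalizer (QX Q : Set X) := hNX (mem_centralizer_singleton_iff.mpr hdz)
  have hQC : ∀ r : ↥Q, ((((r : ↥(centralizer ({z} : Set ↥G₀))) : ↥G₀) : X)) ∈ QX Q := fun r =>
    ⟨_, ⟨_, r.2, rfl⟩, rfl⟩
  -- the displacements
  let val : ↥Q → X := fun r => (((r : ↥(centralizer ({z} : Set ↥G₀))) : ↥G₀) : X)
  have hconj : ∀ r : ↥Q, ∃ s : ↥Q, val s = d * val r * d⁻¹ := fun r => by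
    obtain ⟨_, ⟨w, hw, rfl⟩, hwe⟩ := (mem_normalizer_iff.mp hdN _).mp (hQC r)
    exact ⟨⟨w, hw⟩, hwe⟩
  choose sh hsh using hconj
  have hvm : ∀ r s : ↥Q, val (r * s) = val r * val s := fun _ _ => rfl
  have hvi : ∀ r : ↥Q, val r⁻¹ = (val r)⁻¹ := fun _ => rfl
  have hdisp : ∀ r : ↥Q, ∀ w ∈ L.JG, Commute (((sh r * r⁻¹ : ↥Q) : ↥(centralizer ({z} : Set ↥G₀))) : ↥G₀) w := by
    intro r w hw
    obtain ⟨⟨v, hv, rfl⟩, hwC⟩ := hw
    refine Subtype.ext ?_
    show val (sh r * r⁻¹) * val ⟨v, hv⟩ = val ⟨v, hv⟩ * val (sh r * r⁻¹)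
    rw [hvm, hvi, hsh]
    set R := val r
    set W := val ⟨v, hv⟩ with hW
    have hdW : d * W = W * d := hdC _ hwC
    have hdzz : d * (z : X) * d⁻¹ = z := by rw [hdz, mul_inv_cancel_right]
    have hzc : ∀ s : ↥Q, (z : X) * val s = val s * z := fun s =>
      (congrArg Subtype.val (mem_centralizer_singleton_iff.mp (s : ↥(centralizer ({z} : Set ↥G₀))).2)).symm
    rcases c.conj_cases r.2 hv with e | e
    · have e' : R * W * R⁻¹ = W := congrArg (fun y : ↥(centralizer ({z} : Set ↥G₀)) => ((y : ↥G₀) : X)) e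
      have e'' : R⁻¹ * W = W * R⁻¹ := by
        conv_lhs => rw [← e']
        group
      calc d * R * d⁻¹ * R⁻¹ * W = d * R * (d⁻¹ * W) * R⁻¹ := by
            rw [mul_assoc _ R⁻¹ W, e'']; group
        _ = d * R * (W * d⁻¹) * R⁻¹ := by rw [show d⁻¹ * W = W * d⁻¹ by
            calc d⁻¹ * W = d⁻¹ * (W * d) * d⁻¹ := by group
              _ = _ := by rw [← hdW]; group]
        _ = d * (R * W * R⁻¹) * R * d⁻¹ * R⁻¹ := by group
        _ = W * (d * R * d⁻¹ * R⁻¹) := by rw [e', hdW]; group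
    · have e' : R * W * R⁻¹ = (z : X) * W := by
        have := congrArg (fun y : ↥(centralizer ({z} : Set ↥G₀)) => ((y : ↥G₀) : X)) e
        simp only [Subgroup.coe_mul, Subgroup.coe_inv, c.zH_val] at this
        exact this
      have hzW : (z : X) * W = W * z := hzc _
      have hzR : (z : X) * R = R * z := hzc r
      have e'' : R⁻¹ * W = (z : X) * W * R⁻¹ := by
        have h2 : R⁻¹ * ((z : X) * W) = W * R⁻¹ := by rw [← e']; group
        have h3 : R⁻¹ * (z : X) = (z : X) * R⁻¹ := by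
          calc R⁻¹ * (z : X) = R⁻¹ * ((z : X) * R) * R⁻¹ := by group
            _ = _ := by rw [hzR]; group
        rw [← mul_assoc, h3, mul_assoc] at h2
        calc R⁻¹ * W = (z : X) * ((z : X) * (R⁻¹ * W)) := by
              rw [← mul_assoc (z : X) (z : X), show (z : X) * (z : X) = 1 from congrArg Subtype.val c.X2g.zz, one_mul]
          _ = (z : X) * W * R⁻¹ := by rw [h2, mul_assoc]
      calc d * R * d⁻¹ * R⁻¹ * W = d * R * (d⁻¹ * (z : X) * W) * R⁻¹ := by
            rw [mul_assoc _ R⁻¹ W, e'']; group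
        _ = d * R * ((z : X) * W * d⁻¹) * R⁻¹ := by rw [show d⁻¹ * (z : X) * W = (z : X) * W * d⁻¹ by
            calc d⁻¹ * (z : X) * W = d⁻¹ * ((z : X) * (W * d)) * d⁻¹ := by group
              _ = d⁻¹ * ((z : X) * (d * W)) * d⁻¹ := by rw [hdW]
              _ = d⁻¹ * (d * ((z : X) * W)) * d⁻¹ := by rw [← mul_assoc (z : X), ← hdz, mul_assoc d]
              _ = _ := by group]
        _ = d * ((R * (z : X)) * W * R⁻¹) * R * d⁻¹ * R⁻¹ := by group
        _ = d * ((z : X) * (R * W * R⁻¹)) * R * d⁻¹ * R⁻¹ := by rw [← hzR]; group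
        _ = W * (d * R * d⁻¹ * R⁻¹) := by
            rw [e', ← mul_assoc (z : X), show (z : X) * (z : X) = 1 from congrArg Subtype.val c.X2g.zz, one_mul, hdW]
            group
  have hdispE : ∀ r : ↥Q, ∃ v : ↥G₀, (v ∈ L.E ∨ z⁻¹ * v ∈ L.E) ∧ (v : X) = d * val r * d⁻¹ * (val r)⁻¹ := fun r =>
    ⟨_, L.perp_JG _ (hdisp r), by show val (sh r * r⁻¹) = _; rw [hvm, hvi, hsh]⟩
  have hfixE : ∀ v : ↥G₀, (v ∈ L.E ∨ z⁻¹ * v ∈ L.E) → d * (v : X) = (v : X) * d ∧ (v : X) * v = 1 := by
    rintro v (hv | hv)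
    · exact ⟨hdC v (L.E_le_C hv), congrArg Subtype.val (L.E_sq hv)⟩
    · have h1 := hdC _ (mul_mem L.z_mem_C (L.E_le_C hv))
      rw [mul_inv_cancel_left] at h1
      refine ⟨h1, congrArg Subtype.val (show v * v = 1 from ?_)⟩
      have h2 := L.E_sq hv
      have hz' : z⁻¹ = z := inv_eq_of_mul_eq_one_right c.X2g.zz
      rw [hz'] at hv h2
      have hzv : z * (z * v) = z * v * z := (mem_centralizer_iff.mp L.z_mem_C _ hv).symm
      calc v * v = z * (z * v) * (z * (z * v)) := by rw [← mul_assoc z z, c.X2g.zz, one_mul]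
        _ = (z * v) * (z * z) * (z * v) := by nth_rw 1 [hzv]; group
        _ = 1 := by rw [c.X2g.zz, mul_one, h2]
  have hsq : d * d = 1 := by
    have hddG : d * d ∈ G₀ := mul_self_mem_of_index_two hidx d
    have hddQ : ∀ r : ↥Q, d * d * val r = val r * (d * d) := fun r => by
      obtain ⟨v, hv, hve⟩ := hdispE r
      obtain ⟨h1, h2⟩ := hfixE v hv
      have e1 : d * val r = (v : X) * val r * d := by rw [hve]; group
      calc d * d * val r = d * (v : X) * val r * d := by rw [mul_assoc, e1]; group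
        _ = (v : X) * (d * val r) * d := by rw [h1]; group
        _ = (v : X) * (v : X) * val r * (d * d) := by rw [e1]; group
        _ = _ := by rw [h2, one_mul]
    have hmemQX : d * d ∈ QX Q := hCX (mem_centralizer_iff.mpr fun w hw => by
      obtain ⟨_, ⟨r, hr, rfl⟩, rfl⟩ := hw
      exact (hddQ ⟨r, hr⟩).symm)
    have hwa : (⟨d * d, hddG⟩ : ↥G₀) ∈ L.Y := L.mem_Y.mpr (Subtype.ext (by
      have h := hdC _ (L.E_le_C L.a_mem)
      show d * d * (L.ga : X) = (L.ga : X) * (d * d)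
      rw [mul_assoc, h, ← mul_assoc, h, mul_assoc]))
    rcases hK.cent ⟨_, hwa⟩ (fun n hn => Subtype.ext (Subtype.ext (by
      have h := hdK n hn
      show d * d * ((n : ↥G₀) : X) = ((n : ↥G₀) : X) * (d * d)
      rw [mul_assoc, h, ← mul_assoc, h, mul_assoc]))) with h | h
    · exact congrArg Subtype.val h
    · exfalso
      have h' : d * d = (L.ga : X) := congrArg Subtype.val h
      obtain ⟨_, ⟨r, hr, rfl⟩, hre⟩ := hqQ
      obtain ⟨r1, hr1⟩ := c.D.surj (c.F.mk6 ![w4, 0, 0, 0, 0, 0])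
      have hr1' : c.pt r1 = c.F.mk6 ![w4, 0, 0, 0, 0, 0] := hr1
      have hcm := hddQ r1
      rw [h'] at hcm
      have h2 := Ctx.B_of_commute (c := c) (Subtype.ext (Subtype.ext hcm.symm) :
        Commute (r1 : ↥(centralizer ({z} : Set ↥G₀))) L.a)
      rw [hr1', L.pa, c.F.B_v0, c.F.co_mk6, c.F.co_mk6] at h2
      revert h2
      decide +kernel
  have hdne : d ≠ 1 := fun e => hdG (e ▸ one_mem G₀)
  refine ⟨d, haveI : Fact (Nat.Prime 2) := ⟨Nat.prime_two⟩; orderOf_eq_prime (by rw [pow_two]; exact hsq) hdne, hdG,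
    hdz, fun g => ⟨hdK g, fun hg => ?_⟩⟩
  by_contra hgK
  -- otherwise the whole centralizer of the involution is centralized
  have hall : ∀ n : ↥L.Y, d * ((n : ↥G₀) : X) = ((n : ↥G₀) : X) * d := fun n => by
    by_cases hn' : n ∈ K
    · exact hdK n hn'
    · have h1 : n * g⁻¹ ∈ K := (Subgroup.mul_mem_iff_of_index_two hK.index).mpr
        ⟨fun h => absurd h hn', fun h => absurd ((inv_mem_iff).mp h) hgK⟩
      have h2 := hdK _ h1
      simp only [Subgroup.coe_mul, Subgroup.coe_inv] at h2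
      calc d * ((n : ↥G₀) : X) = d * (((n : ↥G₀) : X) * ((g : ↥G₀) : X)⁻¹) * ((g : ↥G₀) : X) := by group
        _ = ((n : ↥G₀) : X) * ((g : ↥G₀) : X)⁻¹ * (d * ((g : ↥G₀) : X)) := by rw [h2]; group
        _ = _ := by rw [hg]; group
  have hcomY : ∀ r : ↥Q, c.F.B (c.pt r) c.F.v0 = 0 → d * val r = val r * d := fun r hr =>
    hall ⟨_, L.mem_Y.mpr (congrArg Subtype.val (c.commute_of_B (by rw [L.pa]; exact hr)).eq)⟩
  -- on the other coset the displacement is constant
  obtain ⟨r1, hr1⟩ := c.D.surj (c.F.mk6 ![w4, 0, 0, 0, 0, 0])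
  have hr1' : c.pt r1 = c.F.mk6 ![w4, 0, 0, 0, 0, 0] := hr1
  have hB1 : c.F.B (c.pt r1) c.F.v0 = 1 := by
    rw [hr1', c.F.B_v0, c.F.co_mk6, c.F.co_mk6]
    decide +kernel
  obtain ⟨v, hv, hve⟩ := hdispE r1
  have hvc : ∀ r : ↥Q, c.F.B (c.pt r) c.F.v0 ≠ 0 → d * val r = (v : X) * val r * d := fun r hr => by
    have h0 : c.F.B (c.pt (r1⁻¹ * r)) c.F.v0 = 0 := by
      rw [c.pt_mul, show c.pt r1⁻¹ = c.pt r1 from (c.D.π_inv r1).trans (c.F.W.neg_eq _), c.F.B_add, hB1,
        (zmod_two_cases _).resolve_left hr]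
      decide
    have h1 := hcomY _ h0
    rw [hvm, hvi] at h1
    calc d * val r = d * val r1 * d⁻¹ * (d * ((val r1)⁻¹ * val r)) := by group
      _ = d * val r1 * d⁻¹ * (val r1)⁻¹ * val r * d := by rw [h1]; group
      _ = _ := by rw [hve]
  -- the displacement commutes with the part centralizing the first involution, so it is one of four
  have hvE : v = 1 ∨ v = z ∨ v = L.ga ∨ v = z * L.ga := by
    obtain ⟨_, ⟨r, hr, rfl⟩, hre⟩ := hqQ
    set rq : ↥Q := ⟨r, hr⟩
    have hrq0 : c.F.B (c.pt rq) c.F.v0 = 0 := by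
      rw [← L.pa]
      refine Ctx.B_of_commute (Subtype.ext ?_)
      have := L.mem_Y.mp q.2
      rwa [← show ((r : ↥(centralizer ({z} : Set ↥G₀))) : ↥G₀) = (q : ↥G₀) from Subtype.ext hre] at this
    have hne : c.F.B (c.pt (rq * r1)) c.F.v0 ≠ 0 := by
      rw [c.pt_mul, c.F.B_add, hrq0, hB1]; decide
    have e1 := hvc _ hne
    have e2 := hvc r1 (by rw [hB1]; decide)
    rw [hvm] at e1
    have e3 : val rq * (v : X) = (v : X) * val rq := by
      have h0 := hcomY rq hrq0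
      have e4 : d * (val rq * val r1) = val rq * (v : X) * val r1 * d := by
        rw [← mul_assoc, h0, mul_assoc, e2]; group
      rw [e4, ← mul_assoc (v : X)] at e1
      exact mul_right_cancel (mul_right_cancel e1)
    have e3' : (q : ↥G₀) * v = v * (q : ↥G₀) := by
      rw [← show ((r : ↥(centralizer ({z} : Set ↥G₀))) : ↥G₀) = (q : ↥G₀) from Subtype.ext hre]
      exact Subtype.ext e3
    have hzb : z * L.gb ≠ L.gb := fun e => c.X2g.ne (mul_eq_right.mp e)
    have hqz : Commute (q : ↥G₀) z := by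
      rw [← show ((r : ↥(centralizer ({z} : Set ↥G₀))) : ↥G₀) = (q : ↥G₀) from Subtype.ext hre]
      exact mem_centralizer_singleton_iff.mp r.2
    have hqa : Commute (q : ↥G₀) L.ga := L.mem_Y.mp q.2
    have key : ∀ w ∈ L.E, Commute (q : ↥G₀) w → w = 1 ∨ w = L.ga := by
      intro w hw hc'
      rcases L.mem_E.mp hw with rfl | rfl | rfl | rfl
      · exact Or.inl rfl
      · exact Or.inr rfl
      · refine absurd ?_ hzb
        rw [← hqb]; exact mul_inv_eq_iff_eq_mul.mpr hc'.eq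
      · refine absurd ?_ hzb
        rw [← hqb]
        have := hqa.mul_right hc'
        rw [← mul_assoc, L.sq_a, one_mul] at this
        exact mul_inv_eq_iff_eq_mul.mpr this.eq
    rcases hv with hv | hv
    · exact (key v hv e3').elim Or.inl fun h => Or.inr (Or.inr (Or.inl h))
    · rcases key _ hv (hqz.inv_right.mul_right e3') with h | h
      · exact Or.inr (Or.inl (inv_mul_eq_one.mp h).symm)
      · exact Or.inr (Or.inr (Or.inr (inv_mul_eq_iff_eq_mul.mp h)))
  have hzX : (z : X) * (z : X) = 1 := congrArg Subtype.val c.X2g.zz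
  have haX : (L.ga : X) * (L.ga : X) = 1 := congrArg Subtype.val L.sq_a
  have hca : (L.ga : X) * val r1 = (z : X) * val r1 * (L.ga : X) := by
    rcases c.conj_cases L.a.2 r1.2 with e | e
    · exfalso
      have h := Ctx.B_of_commute (c := c) (mul_inv_eq_iff_eq_mul.mp e : Commute (L.a : ↥(centralizer ({z} : Set ↥G₀))) r1)
      rw [c.F.B_symm, L.pa, hB1] at h
      exact one_ne_zero h
    · have := congrArg (fun y : ↥(centralizer ({z} : Set ↥G₀)) => ((y : ↥G₀) : X)) e
      simp only [Subgroup.coe_mul, Subgroup.coe_inv, c.zH_val] at this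
      exact mul_inv_eq_iff_eq_mul.mp this
  have hcase : (v : X) = 1 ∨ (v : X) = z := by
    have hrr : ∃ w : X, val r1 * val r1 = w ∧ d * w = w * d := by
      refine ⟨_, rfl, ?_⟩
      rw [← hvm]
      refine hcomY _ ?_
      rw [c.pt_mul, c.F.dbl, c.F.B_zero]
    obtain ⟨w, hw, hdw⟩ := hrr
    have hsame : (v : X) * val r1 * ((v : X) * val r1) = val r1 * val r1 := by
      have e2 : (v : X) * val r1 = d * val r1 * d⁻¹ := by rw [hve]; group
      rw [e2, hw]
      calc d * val r1 * d⁻¹ * (d * val r1 * d⁻¹) = d * (val r1 * val r1) * d⁻¹ := by group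
        _ = w := by rw [hw, hdw, mul_inv_cancel_right]
    rcases hvE with rfl | rfl | rfl | rfl
    · exact Or.inl rfl
    · exact Or.inr rfl
    all_goals
      exfalso
      have hzr : (z : X) * val r1 = val r1 * z :=
        (congrArg Subtype.val (mem_centralizer_singleton_iff.mp (r1 : ↥(centralizer ({z} : Set ↥G₀))).2)).symm
      have hza : (z : X) * (L.ga : X) = (L.ga : X) * z :=
        congrArg Subtype.val (mem_centralizer_singleton_iff.mp (L.a : ↥(centralizer ({z} : Set ↥G₀))).2).symm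
      have e5 : (L.ga : X) * val r1 * ((L.ga : X) * val r1) = (z : X) * (val r1 * val r1) := by
        calc (L.ga : X) * val r1 * ((L.ga : X) * val r1)
            = (z : X) * val r1 * (L.ga : X) * ((L.ga : X) * val r1) := congrArg (· * ((L.ga : X) * val r1)) hca
          _ = (z : X) * val r1 * ((L.ga : X) * (L.ga : X)) * val r1 := by group
          _ = _ := by rw [haX, mul_one, mul_assoc]
    · rw [e5] at hsame
      exact c.X2g.ne (Subtype.ext (mul_eq_right.mp hsame))
    · have e6 : ((z * L.ga : ↥G₀) : X) * val r1 * (((z * L.ga : ↥G₀) : X) * val r1) =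
          (L.ga : X) * val r1 * ((L.ga : X) * val r1) := by
        rw [Subgroup.coe_mul]
        calc (z : X) * (L.ga : X) * val r1 * ((z : X) * (L.ga : X) * val r1)
            = (L.ga : X) * ((z : X) * val r1) * ((z : X) * (L.ga : X) * val r1) := by rw [hza]; group
          _ = (L.ga : X) * val r1 * ((z : X) * (z : X)) * ((L.ga : X) * val r1) := by rw [hzr]; group
          _ = _ := by rw [hzX, mul_one]
      rw [e6, e5] at hsame
      exact c.X2g.ne (Subtype.ext (mul_eq_right.mp hsame))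
  -- so the element or its product with the first involution centralizes the extraspecial group
  have hda : d * (L.ga : X) = (L.ga : X) * d := hdC _ (L.E_le_C L.a_mem)
  obtain ⟨e, heG, he⟩ : ∃ e : X, e ∉ G₀ ∧ ∀ r : ↥Q, e * val r = val r * e := by
    rcases hcase with hv1 | hv1
    · refine ⟨d, hdG, fun r => ?_⟩
      by_cases hr : c.F.B (c.pt r) c.F.v0 = 0
      · exact hcomY r hr
      · rw [hvc r hr, hv1, one_mul]
    · refine ⟨(L.ga : X) * d, fun h => hdG ((Subgroup.mul_mem_cancel_left _ (L.ga).2).mp h), fun r => ?_⟩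
      by_cases hr : c.F.B (c.pt r) c.F.v0 = 0
      · have h1 : (L.ga : X) * val r = val r * (L.ga : X) :=
          congrArg (fun y : ↥(centralizer ({z} : Set ↥G₀)) => ((y : ↥G₀) : X))
            (c.commute_of_B (a := L.a) (b := r) (by rw [c.F.B_symm, L.pa]; exact hr)).eq
        rw [mul_assoc, hcomY r hr, ← mul_assoc, h1, mul_assoc]
      · have h1 : (L.ga : X) * val r = (z : X) * val r * (L.ga : X) := by
          rcases c.conj_cases L.a.2 r.2 with e | e
          · exfalso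
            have h := Ctx.B_of_commute (c := c)
              (mul_inv_eq_iff_eq_mul.mp e : Commute (L.a : ↥(centralizer ({z} : Set ↥G₀))) r)
            rw [c.F.B_symm, L.pa] at h
            exact hr h
          · have := congrArg (fun y : ↥(centralizer ({z} : Set ↥G₀)) => ((y : ↥G₀) : X)) e
            simp only [Subgroup.coe_mul, Subgroup.coe_inv, c.zH_val] at this
            exact mul_inv_eq_iff_eq_mul.mp this
        have hza : (L.ga : X) * (z : X) = (z : X) * (L.ga : X) :=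
          congrArg Subtype.val (mem_centralizer_singleton_iff.mp (L.a : ↥(centralizer ({z} : Set ↥G₀))).2)
        calc (L.ga : X) * d * val r = (L.ga : X) * (d * val r) := mul_assoc _ _ _
          _ = (L.ga : X) * (z : X) * (val r * d) := by rw [hvc r hr, hv1]; simp only [mul_assoc]
          _ = (z : X) * ((L.ga : X) * val r) * d := by rw [hza]; simp only [mul_assoc]
          _ = (z : X) * (z : X) * (val r * ((L.ga : X) * d)) := by rw [h1]; simp only [mul_assoc]
          _ = _ := by rw [hzX, one_mul]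
  exact heG (by
    have h := hCX (mem_centralizer_iff.mpr fun w hw => by
      obtain ⟨_, ⟨r, hr, rfl⟩, rfl⟩ := hw
      exact (he ⟨r, hr⟩).symm)
    obtain ⟨w, -, rfl⟩ := h
    exact w.2)

end Pair

end Cfsg.Lib.LargeFischer
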