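import Cfsg.Agent.LargeFischer.OuterPair
import Cfsg.Agent.S5402

/-!
The centralizer of the outer involution is generated by a class of three-transpositions of type M(23).
-/

set_option autoImplicit false
set_option maxRecDepth 100000
set_option maxHeartbeats 1000000
set_option linter.unusedSectionVars false
set_option linter.style.haveILetI false

namespace Cfsg.Lib.LargeFischer

open Subgroup
open scoped commutatorElement

universe u

/-- The property is invariant under isomorphisms. -/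
theorem UnitaryInvol.congr {R R' : Type u} [Group R] [Group R'] (e : R ≃* R') (h : UnitaryInvol R) :
    UnitaryInvol R' := by
  obtain ⟨d, hd, hq, ⟨F, _, _, hF, hn, ⟨i⟩⟩, g, hg1, hg2⟩ := h
  haveI := hn
  have hmap : (centralizer ({d} : Set R)).map e.toMonoidHom = centralizer ({e d} : Set R') := by
    ext x
    obtain ⟨y, rfl⟩ := e.surjective x
    rw [mem_centralizer_singleton_iff, ← map_mul, ← map_mul, e.injective.eq_iff, ← mem_centralizer_singleton_iff]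
    exact ⟨fun ⟨w, hw, hwy⟩ => e.injective hwy ▸ hw, fun h => ⟨y, h, rfl⟩⟩
  let ε : ↥(centralizer ({d} : Set R)) ≃* ↥(centralizer ({e d} : Set R')) :=
    (e.subgroupMap _).trans (MulEquiv.subgroupCongr hmap)
  have hz : ((zpowers d).subgroupOf (centralizer ({d} : Set R))).map ε.toMonoidHom =
      (zpowers (e d)).subgroupOf (centralizer ({e d} : Set R')) := by
    ext x
    obtain ⟨y, rfl⟩ := ε.surjective x
    have hzp : zpowers (e d) = (zpowers d).map e.toMonoidHom := (MonoidHom.map_zpowers e.toMonoidHom d).symm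
    rw [mem_subgroupOf, hzp]
    constructor
    · rintro ⟨w, hw, hwy⟩
      rw [ε.injective hwy] at hw
      exact ⟨(y : R), mem_subgroupOf.mp hw, rfl⟩
    · rintro ⟨w, hw, hwy⟩
      exact ⟨y, mem_subgroupOf.mpr ((e.injective hwy : w = (y : R)) ▸ hw), rfl⟩
  haveI hn' : ((zpowers (e d)).subgroupOf (centralizer ({e d} : Set R'))).Normal :=
    hz ▸ Subgroup.Normal.map hn _ ε.surjective
  refine ⟨e d, (MulEquiv.orderOf_eq e d).trans hd, (Cfsg.Lib.Components.isQuasisimple_congr ε).mp hq,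
    ⟨F, inferInstance, inferInstance, hF, hn', ⟨(QuotientGroup.congr _ _ ε hz).symm.trans i⟩⟩, e g, ?_, fun h => hg2 ?_⟩
  · rw [← map_inv, ← map_mul, ← map_mul, ← hmap]
    exact ⟨_, hg1, rfl⟩
  · exact e.injective (by rw [map_mul, map_mul, map_inv]; exact h)

variable {X : Type u} [Group X] [Finite X] {G₀ : Subgroup X} {z : ↥G₀}
  {Q : Subgroup (centralizer ({z} : Set ↥G₀))} [Q.Normal]

/-- A cyclic permutation of the four-group and an exchange give an element fixing the outer involution and moving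
the short one. -/
theorem exists_mover (hidx : G₀.index = 2) {c : Ctx z Q} (L : c.Four)
    (e : L.Bar ≃* Cfsg.PSU 6 Cfsg.Lib.PrimeGraph.KQuad 2) (hrot : ∃ h : ↥G₀, h * L.ga * h⁻¹ = L.gb ∧
      h * L.gb * h⁻¹ = L.ga * L.gb)
    {d : X} (hd : orderOf d = 2) (hdG : d ∉ G₀) {q : ↥L.Y} {K : Subgroup ↥L.Y} (hK : L.Inner q K)
    (hiff : ∀ g : ↥L.Y, (g ∈ K ↔ d * ((g : ↥G₀) : X) = ((g : ↥G₀) : X) * d)) :
    ∃ g : ↥G₀, d * (g : X) = (g : X) * d ∧ g * L.ga * g⁻¹ ≠ L.ga ∧ Commute (g * L.ga * g⁻¹) L.ga := by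
  haveI hn : G₀.Normal := Subgroup.normal_of_index_eq_two hidx
  haveI hKn : K.Normal := Subgroup.normal_of_index_eq_two hK.index
  obtain ⟨h, hha, hhb⟩ := hrot
  obtain ⟨x0, hx0K, hx0b⟩ := hK.swap
  have hx0a : (x0 : ↥G₀) * L.ga * (x0 : ↥G₀)⁻¹ = L.ga := mul_inv_eq_iff_eq_mul.mpr (L.mem_Y.mp x0.2)
  set δ : MulAut ↥G₀ := MulAut.conjNormal d with hδ
  have hdd : d * d = 1 := by rw [← pow_two, ← hd, pow_orderOf_eq_one]
  have hdinv : d⁻¹ = d := inv_eq_of_mul_eq_one_right hdd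
  -- the displacement of an element under the outer involution
  let D : ↥G₀ → ↥G₀ := fun g => g * (δ g)⁻¹
  have hDv : ∀ g : ↥G₀, (D g : X) = (g : X) * (d * (g : X)⁻¹ * d⁻¹) := fun g => by
    show (g : X) * ((δ g : ↥G₀) : X)⁻¹ = _
    rw [hδ, MulAut.conjNormal_apply]
    group
  have hcom : ∀ g : ↥G₀, D g = 1 ↔ d * (g : X) = (g : X) * d := fun g => by
    constructor
    · intro h1
      have h2 : g = δ g := mul_inv_eq_one.mp h1
      conv_rhs => rw [h2, hδ, MulAut.conjNormal_apply, inv_mul_cancel_right]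
    · intro h1
      refine mul_inv_eq_one.mpr (Subtype.ext ?_)
      rw [hδ, MulAut.conjNormal_apply, h1, mul_inv_cancel_right]
  have hfixC : ∀ w ∈ L.C, δ w = w := fun w hw => Subtype.ext (by
    rw [hδ, MulAut.conjNormal_apply,
      (hiff ⟨w, L.C_le_Y hw⟩).mp (hK.mem ⟨w, L.C_le_Y hw⟩ hw), mul_inv_cancel_right])
  have hmul : ∀ g k : ↥G₀, D (g * k) = g * D k * g⁻¹ * D g := fun g k => by
    show g * k * (δ (g * k))⁻¹ = g * (k * (δ k)⁻¹) * g⁻¹ * (g * (δ g)⁻¹)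
    rw [map_mul]; group
  obtain ⟨hna, hnb, hab⟩ := L.ab_ne
  -- the exchange moves the outer involution by the first one
  have hDx : D (x0 : ↥G₀) = L.ga := by
    have hδa : δ L.ga = L.ga := hfixC _ (L.E_le_C L.a_mem)
    have hmemY : δ (x0 : ↥G₀) ∈ L.Y := L.mem_Y.mpr (by rw [← hδa, ← map_mul, ← map_mul, L.mem_Y.mp x0.2])
    let xd : ↥L.Y := ⟨δ (x0 : ↥G₀), hmemY⟩
    have hne : D (x0 : ↥G₀) ≠ 1 := fun h1 => hx0K ((hiff x0).mpr ((hcom _).mp h1))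
    refine (hK.cent (x0 * xd⁻¹) fun n hn => ?_).resolve_left hne
    have hfix : ∀ k : ↥L.Y, k ∈ K → δ (k : ↥G₀) = (k : ↥G₀) := fun k hk => Subtype.ext (by
      rw [hδ, MulAut.conjNormal_apply, (hiff k).mp hk, mul_inv_cancel_right])
    have hm : x0⁻¹ * n * x0 ∈ K := by simpa using hKn.conj_mem n hn x0⁻¹
    have h2 : xd⁻¹ * n * xd = x0⁻¹ * n * x0 := Subtype.ext (by
      show (δ (x0 : ↥G₀))⁻¹ * (n : ↥G₀) * δ (x0 : ↥G₀) = ((x0⁻¹ * n * x0 : ↥L.Y) : ↥G₀)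
      rw [← hfix _ hm]
      simp only [Subgroup.coe_mul, Subgroup.coe_inv, map_mul, map_inv, hfix n hn])
    calc x0 * xd⁻¹ * n = x0 * (xd⁻¹ * n * xd) * xd⁻¹ := by group
      _ = x0 * (x0⁻¹ * n * x0) * xd⁻¹ := by rw [h2]
      _ = n * (x0 * xd⁻¹) := by group
  -- the rotation moves it inside the four-group
  have hE : ∀ x ∈ L.E, h * x * h⁻¹ ∈ L.E := by
    intro x hx
    rcases L.mem_E.mp hx with rfl | rfl | rfl | rfl
    · simpa using one_mem L.E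
    · rw [hha]; exact L.b_mem
    · rw [hhb]; exact mul_mem L.a_mem L.b_mem
    · rw [show h * (L.ga * L.gb) * h⁻¹ = h * L.ga * h⁻¹ * (h * L.gb * h⁻¹) by group, hha, hhb]
      exact mul_mem L.b_mem (mul_mem L.a_mem L.b_mem)
  have hDh : D h ∈ L.E := by
    have hC : ∀ w ∈ L.C, h⁻¹ * w * h ∈ L.C := fun w hw => by
      refine mem_centralizer_iff.mpr fun x hx => ?_
      have h1 := mem_centralizer_iff.mp hw _ (hE x hx)
      calc x * (h⁻¹ * w * h) = h⁻¹ * (h * x * h⁻¹ * w) * h := by group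
        _ = h⁻¹ * (w * (h * x * h⁻¹)) * h := by rw [h1]
        _ = _ := by group
    have hall : ∀ w ∈ L.C, D h * w = w * D h := fun w hw => by
      have e1 : (δ h)⁻¹ * w * δ h = h⁻¹ * w * h := by
        conv_lhs => rw [← hfixC w hw]
        rw [← map_inv, ← map_mul, ← map_mul]
        exact hfixC _ (hC w hw)
      show h * (δ h)⁻¹ * w = w * (h * (δ h)⁻¹)
      calc h * (δ h)⁻¹ * w = h * ((δ h)⁻¹ * w * δ h) * (δ h)⁻¹ := by group
        _ = h * (h⁻¹ * w * h) * (δ h)⁻¹ := by rw [e1]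
        _ = _ := by group
    have hDC : D h ∈ L.C := mem_centralizer_iff.mpr fun x hx => (hall x (L.E_le_C hx)).symm
    exact L.center_C e (x := ⟨_, hDC⟩) (mem_center_iff.mpr fun w => Subtype.ext (hall w w.2).symm)
  have hca : Commute L.gb L.ga := L.comm_ab.symm
  have hcab : Commute (L.ga * L.gb) L.ga := (Commute.refl _).mul_left hca
  have hne2 : L.ga * L.gb ≠ L.ga := fun h1 => hnb (mul_eq_left.mp h1)
  rcases L.mem_E.mp hDh with hd1 | hd1 | hd1 | hd1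
  case inr.inl =>
    refine ⟨(x0 : ↥G₀) * h, (hcom _).mp ?_, ?_, ?_⟩
    · rw [hmul, hd1, hDx, hx0a, L.sq_a]
    all_goals rw [show (x0 : ↥G₀) * h * L.ga * ((x0 : ↥G₀) * h)⁻¹ =
      (x0 : ↥G₀) * (h * L.ga * h⁻¹) * (x0 : ↥G₀)⁻¹ by group, hha, hx0b]
    exacts [hne2, hcab]
  case inr.inr.inl =>
    refine ⟨h * (x0 : ↥G₀), (hcom _).mp ?_, ?_, ?_⟩
    · rw [hmul, hd1, hDx, hha, L.sq_b]
    all_goals rw [show h * (x0 : ↥G₀) * L.ga * (h * (x0 : ↥G₀))⁻¹ =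
      h * ((x0 : ↥G₀) * L.ga * (x0 : ↥G₀)⁻¹) * h⁻¹ by group, hx0a, hha]
    exacts [hab.symm, hca]
  all_goals
    exfalso
    -- the word acting trivially on the four-group must fix the outer involution
    have hx0b' : (x0 : ↥G₀)⁻¹ * L.gb * (x0 : ↥G₀) = L.ga * L.gb := by
      calc (x0 : ↥G₀)⁻¹ * L.gb * (x0 : ↥G₀)
          = (x0 : ↥G₀)⁻¹ * (L.ga * ((x0 : ↥G₀) * L.gb * (x0 : ↥G₀)⁻¹)) * (x0 : ↥G₀) := by
            rw [hx0b, ← mul_assoc L.ga, L.sq_a, one_mul]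
        _ = (x0 : ↥G₀)⁻¹ * ((x0 : ↥G₀) * L.ga * (x0 : ↥G₀)⁻¹ * ((x0 : ↥G₀) * L.gb * (x0 : ↥G₀)⁻¹)) *
            (x0 : ↥G₀) := by rw [hx0a]
        _ = _ := by group
    have hx0a' : (x0 : ↥G₀)⁻¹ * L.ga * (x0 : ↥G₀) = L.ga := by
      conv_lhs => rw [← hx0a]
      group
    have hconj : ∀ g x y : ↥G₀, g * (x * y) * g⁻¹ = g * x * g⁻¹ * (g * y * g⁻¹) := fun g x y => by group
    have habh : h * (L.ga * L.gb) * h⁻¹ = L.ga := by
      rw [hconj, hha, hhb, ← mul_assoc, ← L.comm_ab.eq, mul_assoc, L.sq_b, mul_one]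
    have hx0ab' : (x0 : ↥G₀)⁻¹ * (L.ga * L.gb) * (x0 : ↥G₀) = L.gb := by
      rw [show (x0 : ↥G₀)⁻¹ * (L.ga * L.gb) * (x0 : ↥G₀) = ((x0 : ↥G₀)⁻¹ * L.ga * (x0 : ↥G₀)) *
        ((x0 : ↥G₀)⁻¹ * L.gb * (x0 : ↥G₀)) by group, hx0a', hx0b', ← mul_assoc, L.sq_a, one_mul]
    set w := (x0 : ↥G₀) * h * (x0 : ↥G₀)⁻¹ * h with hw
    have hsplit : ∀ x : ↥G₀, w * x * w⁻¹ =
        (x0 : ↥G₀) * (h * ((x0 : ↥G₀)⁻¹ * (h * x * h⁻¹) * (x0 : ↥G₀)) * h⁻¹) * (x0 : ↥G₀)⁻¹ := fun x => by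
      rw [hw]; group
    have hwC : w ∈ L.C := L.mem_C.mpr ⟨mul_inv_eq_iff_eq_mul.mp (by
      rw [hsplit, hha, hx0b', habh, hx0a]), mul_inv_eq_iff_eq_mul.mp (by
      rw [hsplit, hhb, hx0ab', hhb, hconj, hx0a, hx0b, ← mul_assoc, L.sq_a, one_mul])⟩
    have hDw : D w = 1 := mul_inv_eq_one.mpr (hfixC w hwC).symm
    have hD1 : D 1 = 1 := by show 1 * (δ 1)⁻¹ = 1; simp
    have hDxi : D (x0 : ↥G₀)⁻¹ = L.ga := by
      have h1 := hmul (x0 : ↥G₀)⁻¹ (x0 : ↥G₀)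
      rw [inv_mul_cancel, hD1, hDx, inv_inv, hx0a'] at h1
      exact (inv_eq_of_mul_eq_one_right h1.symm).symm.trans (inv_eq_of_mul_eq_one_right L.sq_a)
    rw [hw, hmul, hmul ((x0 : ↥G₀) * h), hmul (x0 : ↥G₀) h, hDxi, hDx, hd1] at hDw
    revert hDw
    rw [show (x0 : ↥G₀) * h * L.ga * ((x0 : ↥G₀) * h)⁻¹ =
      (x0 : ↥G₀) * (h * L.ga * h⁻¹) * (x0 : ↥G₀)⁻¹ by group, hha, hx0b]
    intro hDw
  · have hDw' : L.gb = 1 := by
      rw [mul_one, mul_inv_cancel, mul_one, mul_inv_cancel, one_mul, one_mul] at hDw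
      calc L.gb = L.ga * L.gb * L.ga := by rw [L.comm_ab.eq, mul_assoc, L.sq_a, mul_one]
        _ = 1 := hDw
    exact hnb hDw'
  · set p := (x0 : ↥G₀) * h * (x0 : ↥G₀)⁻¹ with hp
    have e1 : p * (L.ga * L.gb) * p⁻¹ = L.ga * (L.ga * L.gb) := by
      rw [hp, show (x0 : ↥G₀) * h * (x0 : ↥G₀)⁻¹ * (L.ga * L.gb) * ((x0 : ↥G₀) * h * (x0 : ↥G₀)⁻¹)⁻¹ =
        (x0 : ↥G₀) * (h * ((x0 : ↥G₀)⁻¹ * (L.ga * L.gb) * (x0 : ↥G₀)) * h⁻¹) * (x0 : ↥G₀)⁻¹ by group,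
        hx0ab', hhb, hconj, hx0a, hx0b]
    have e2 : (x0 : ↥G₀) * (L.ga * L.gb) * (x0 : ↥G₀)⁻¹ = L.gb := by
      rw [hconj, hx0a, hx0b, ← mul_assoc, L.sq_a, one_mul]
    rw [e1, e2, ← mul_assoc L.ga L.ga, L.sq_a, one_mul] at hDw
    have hDw' : L.gb = 1 := by
      have e3 : L.gb * (L.ga * L.gb * (L.gb * L.ga)) = L.gb := by
        rw [mul_assoc L.ga, ← mul_assoc L.gb L.gb, L.sq_b, one_mul, L.sq_a, mul_one]
      exact e3.symm.trans hDw
    exact hnb hDw'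

/-- The outer involution and the class of three-transpositions in its centralizer. -/
theorem outer_pair (hCore : Cfsg.Lib.USixType.CoreGoal.{u}) (hidx : G₀.index = 2)
    (hF : Cfsg.IsOfLargeFischerTypeAt z Q)
    (hcentral : ∃ P : Sylow 2 ↥G₀, z ∈ (P : Subgroup ↥G₀) ∧ ∀ x ∈ (P : Subgroup ↥G₀), Commute x z)
    (hFX : (Cfsg.generalizedFittingSubgroup ↥(centralizer ({(z : X)} : Set X))).map (Subgroup.subtype _) =
      ((Q.map (Subgroup.subtype _)).map G₀.subtype)) :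
    ∃ d : X, orderOf d = 2 ∧ d ∉ G₀ ∧ Commute d (z : X) ∧
      ∃ t : ↥(G₀ ⊓ centralizer ({d} : Set X)), orderOf t = 2 ∧
        Cfsg.IsQuasisimple ↥(centralizer ({t} : Set ↥(G₀ ⊓ centralizer ({d} : Set X)))) ∧
        (∃ (_ : ((zpowers t).subgroupOf (centralizer ({t} : Set ↥(G₀ ⊓ centralizer ({d} : Set X))))).Normal),
          (∃ E : Set (↥(centralizer ({t} : Set ↥(G₀ ⊓ centralizer ({d} : Set X)))) ⧸
            (zpowers t).subgroupOf (centralizer ({t} : Set ↥(G₀ ⊓ centralizer ({d} : Set X))))),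
            Cfsg.IsThreeTranspositionClass E ∧ Cfsg.IsOfTypeM22 _ E) ∧
          UnitaryInvol (↥(centralizer ({t} : Set ↥(G₀ ⊓ centralizer ({d} : Set X)))) ⧸
            (zpowers t).subgroupOf (centralizer ({t} : Set ↥(G₀ ⊓ centralizer ({d} : Set X)))))) ∧
        (∃ g : ↥(G₀ ⊓ centralizer ({d} : Set X)),
          g * t * g⁻¹ ∈ centralizer ({t} : Set ↥(G₀ ⊓ centralizer ({d} : Set X))) ∧ g * t * g⁻¹ ≠ t) ∧
        Cfsg.IsThreeTranspositionClass (conjugatesOf t) ∧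
        Cfsg.IsOfTypeM23 ↥(G₀ ⊓ centralizer ({d} : Set X)) (conjugatesOf t) := by
  haveI : Fact (Nat.Prime 2) := ⟨Nat.prime_two⟩
  have hord : orderOf z = 2 := hF.1.1
  obtain ⟨hCX, hNX⟩ := qx_setting hF hFX
  obtain ⟨c, L, P, k, m, ⟨hta, htb⟩, hm, hne, hcom⟩ := Ctx.exists_four_placed hF
  obtain ⟨e⟩ := L.bar_unitary hCore hm hne hcom
  obtain ⟨τ, q, ⟨r, hr⟩, hqb, hqτ⟩ := L.exists_outer
  obtain ⟨g0, hg0, hg02⟩ := L.exists_flip P k hta htb
  obtain ⟨K, hK⟩ := L.outer_core e τ q hqb hqτ hg0 hg02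
  obtain ⟨x, hx, hxa⟩ := exists_outer_fix hidx L hord hcentral hNX
  obtain ⟨d, hd, hdG, hdz, hiff⟩ := exists_transp hidx L hx hxa hNX hCX hqb hK
    ⟨_, ⟨_, r.2, rfl⟩, by rw [← hr]; rfl⟩
  obtain ⟨g1, hg1d, hg1a, hg1c⟩ := exists_mover hidx L e (L.exists_rot hF) hd hdG hK hiff
  have haY : L.ga ∈ L.Y := mem_centralizer_singleton_iff.mpr rfl
  have haK : (⟨L.ga, haY⟩ : ↥L.Y) ∈ K := hK.mem _ (L.E_le_C L.a_mem)
  have had : d * (L.ga : X) = (L.ga : X) * d := (hiff ⟨_, haY⟩).mp haK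
  let t : ↥(G₀ ⊓ centralizer ({d} : Set X)) :=
    ⟨(L.ga : X), L.ga.2, mem_centralizer_singleton_iff.mpr had.symm⟩
  have ht : orderOf t = 2 := orderOf_eq_prime
    (Subtype.ext (by rw [pow_two]; exact (congrArg (fun w : ↥G₀ => (w : X)) L.sq_a :)))
    (fun h => L.ab_ne.1 (Subtype.ext (congrArg (fun w : ↥(G₀ ⊓ centralizer ({d} : Set X)) => (w : X)) h)))
  -- the centralizer in the centralizer
  let ι : ↥K →* ↥(centralizer ({t} : Set ↥(G₀ ⊓ centralizer ({d} : Set X)))) :=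
    { toFun := fun n => ⟨⟨(((n : ↥L.Y) : ↥G₀) : X), ((n : ↥L.Y) : ↥G₀).2,
          mem_centralizer_singleton_iff.mpr ((hiff n).mp n.2).symm⟩,
        mem_centralizer_singleton_iff.mpr (Subtype.ext (congrArg (fun w : ↥G₀ => (w : X)) (L.mem_Y.mp (n : ↥L.Y).2) :))⟩
      map_one' := rfl
      map_mul' := fun _ _ => rfl }
  have hι : Function.Bijective ι := by
    refine ⟨fun a b h => Subtype.ext (Subtype.ext (Subtype.ext (congrArg
      (fun w : ↥(centralizer ({t} : Set ↥(G₀ ⊓ centralizer ({d} : Set X)))) =>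
        ((w : ↥(G₀ ⊓ centralizer ({d} : Set X))) : X)) h))), fun w => ?_⟩
    obtain ⟨⟨v, hvG, hvd⟩, hvt⟩ := w
    have hvY : (⟨v, hvG⟩ : ↥G₀) ∈ L.Y := L.mem_Y.mpr (Subtype.ext (congrArg (fun w : ↥(G₀ ⊓ centralizer ({d} : Set X)) => (w : X))
      (mem_centralizer_singleton_iff.mp hvt) :))
    exact ⟨⟨⟨_, hvY⟩, (hiff ⟨_, hvY⟩).mpr (mem_centralizer_singleton_iff.mp hvd).symm⟩, rfl⟩
  let eι := MulEquiv.ofBijective ι hι
  set aK : ↥K := ⟨⟨L.ga, haY⟩, haK⟩ with haK'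
  haveI hZn : (zpowers aK).Normal := ⟨fun n hn x => by
    obtain ⟨i, rfl⟩ := mem_zpowers_iff.mp hn
    have hcx : Commute x aK := Subtype.ext (Subtype.ext (L.mem_Y.mp (x : ↥L.Y).2))
    rw [(hcx.zpow_right i).eq, mul_inv_cancel_right]; exact hn⟩
  have hZ : (zpowers aK).map eι.toMonoidHom =
      (zpowers t).subgroupOf (centralizer ({t} : Set ↥(G₀ ⊓ centralizer ({d} : Set X)))) := by
    ext w
    rw [MonoidHom.map_zpowers, mem_subgroupOf, mem_zpowers_iff, mem_zpowers_iff]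
    refine exists_congr fun i => ?_
    rw [Subtype.ext_iff, SubgroupClass.coe_zpow]
    exact Iff.rfl
  haveI hn' : ((zpowers t).subgroupOf (centralizer ({t} : Set ↥(G₀ ⊓ centralizer ({d} : Set X))))).Normal :=
    hZ ▸ Subgroup.Normal.map hZn _ eι.surjective
  have hU := (hK.invol aK rfl).congr (QuotientGroup.congr _ _ eι hZ)
  have hqs := (Cfsg.Lib.Components.isQuasisimple_congr eι).mp hK.qs
  obtain ⟨d', hd', hq', ⟨F, _, _, hF', hn'', ⟨e'⟩⟩, hw'⟩ := hU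
  haveI := hn''
  obtain ⟨hcl, -, htype⟩ := Cfsg.Lib.M22Rec.recognition d' hd' hq' F hF' e' hw'
  have hnwc : ∃ g : ↥(G₀ ⊓ centralizer ({d} : Set X)),
      g * t * g⁻¹ ∈ centralizer ({t} : Set ↥(G₀ ⊓ centralizer ({d} : Set X))) ∧ g * t * g⁻¹ ≠ t :=
    ⟨⟨(g1 : X), g1.2, mem_centralizer_singleton_iff.mpr hg1d.symm⟩,
      mem_centralizer_singleton_iff.mpr (Subtype.ext (congrArg (fun w : ↥G₀ => (w : X)) hg1c.eq :)),
      fun h => hg1a (Subtype.ext (congrArg (fun w : ↥(G₀ ⊓ centralizer ({d} : Set X)) => (w : X)) h))⟩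
  obtain ⟨hcl', htype'⟩ := Cfsg.Agent.S5402.result t ht hqs ⟨_, hcl, htype⟩
    ⟨d', hd', hq', ⟨F, inferInstance, inferInstance, hF', hn'', ⟨e'⟩⟩, hw'⟩ hnwc
  exact ⟨d, hd, hdG, hdz, t, ht, hqs, ⟨hn', ⟨_, hcl, htype⟩,
    ⟨d', hd', hq', ⟨F, inferInstance, inferInstance, hF', hn'', ⟨e'⟩⟩, hw'⟩⟩, hnwc, hcl', htype'⟩

end Cfsg.Lib.LargeFischer
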