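import Cfsg.Agent.LargeFischer.UnitaryKernel

/-!
Symmetries of the module centralising a point stabiliser, and supports under monomial maps.
-/

set_option autoImplicit false
set_option maxRecDepth 100000
set_option maxHeartbeats 1000000
set_option linter.unusedSectionVars false
set_option linter.style.haveILetI false

namespace Cfsg.Lib.LargeFischer

open Matrix Finset

universe u v w

theorem f4_sq_one : ∀ a : F4, a * a = 1 → a = 1 := by decide +kernel

theorem wp_eq_w4 : ∀ (j : ZMod 3) (a : F4), a ≠ 0 → wp j * a = w4 * a → j = 1 := by decide +kernel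

theorem perm_six_central : ∀ σ : Equiv.Perm (Fin 6),
    σ * (Equiv.swap 0 1 * Equiv.swap 2 3) = (Equiv.swap 0 1 * Equiv.swap 2 3) * σ →
    σ * (Equiv.swap 0 2 * Equiv.swap 4 5) = (Equiv.swap 0 2 * Equiv.swap 4 5) * σ →
    σ * (Equiv.swap 1 2 * Equiv.swap 3 4) = (Equiv.swap 1 2 * Equiv.swap 3 4) * σ →
    σ * (Equiv.swap 0 5 * Equiv.swap 1 4) = (Equiv.swap 0 5 * Equiv.swap 1 4) * σ → σ = 1 := by
  decide +kernel

namespace FSetting

variable {X : Type u} [Group X] {S : Type w} [Group S] {V : Type v} [AddCommGroup V] [Finite V]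
  (F : FSetting X S V)

attribute [local irreducible] co emb mk6

/-- The map moves supports by a permutation. -/
def Mono (σ : Equiv.Perm (Fin 6)) (u : V → V) : Prop := ∀ v i, F.co (σ i) (u v) = 0 ↔ F.co i v = 0

theorem Mono.comp {σ τ : Equiv.Perm (Fin 6)} {u y : V → V} (hu : F.Mono σ u) (hy : F.Mono τ y) :
    F.Mono (σ * τ) (u ∘ y) := fun v i => (hu (y v) (τ i)).trans (hy v i)

theorem Mono.id : F.Mono 1 _root_.id := fun _ _ => Iff.rfl

theorem Mono.mul {σ τ : Equiv.Perm (Fin 6)} {u y : Equiv.Perm V} (hu : F.Mono σ ⇑u) (hy : F.Mono τ ⇑y) :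
    F.Mono (σ * τ) ⇑(u * y) := fun v i => (hu (y v) (τ i)).trans (hy v i)

theorem Mono.one : F.Mono 1 ⇑(1 : Equiv.Perm V) := fun _ _ => Iff.rfl

theorem Mono.symm {σ : Equiv.Perm (Fin 6)} {u : Equiv.Perm V} (hu : F.Mono σ u) : F.Mono σ⁻¹ ⇑u⁻¹ := fun v i => by
  have h := hu (u⁻¹ v) (σ⁻¹ i)
  rw [Equiv.Perm.coe_inv, Equiv.Perm.coe_inv, Equiv.apply_symm_apply, Equiv.apply_symm_apply] at h
  rw [Equiv.Perm.coe_inv, Equiv.Perm.coe_inv]
  exact h.symm

theorem Mono.unique {σ τ : Equiv.Perm (Fin 6)} {u : V → V} (hu : F.Mono σ u) (hu' : F.Mono τ u) : σ = τ := by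
  refine Equiv.ext fun i => ?_
  by_contra hne
  obtain ⟨j, hj⟩ := τ.surjective (σ i)
  have hji : j ≠ i := fun e => hne (by rw [← hj, e])
  have h1 := (hu' (F.mk6 (Pi.single i 1)) j).mpr (by rw [co_mk6, Pi.single_eq_of_ne hji])
  rw [hj, hu, co_mk6, Pi.single_eq_same] at h1
  exact one_ne_zero h1

theorem Mono.nh (g : F.Nh) : F.Mono (F.π g) (F.ρ (g : X)) := fun v i => by
  have e : ∀ j (u : V), F.co j u = 0 ↔ F.W.proj (F.cs j) u = 0 := fun j u => by
    rw [← F.co_spec j u]
    exact ⟨fun h => by rw [h, emb_zero], fun h => F.emb_injective j (h.trans (F.emb_zero j).symm)⟩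
  rw [e, e, ← F.proj_transfer g, F.cs_π]
  exact ⟨fun h => (F.ρ (g : X)).injective (h.trans (map_zero (F.rho g)).symm), fun h => by rw [h]; exact map_zero (F.rho g)⟩

theorem Mono.swap {c : V → V} (hc : ∀ v, c v = F.mk6 (fun i => F.co (Equiv.swap (0 : Fin 6) 1 i) v)) :
    F.Mono (Equiv.swap 0 1) c := fun v i => by
  rw [hc, co_mk6, Equiv.swap_apply_self]

theorem exists_outside : ∃ f : Cd, supp6 f = univ ∧ Sing6 f ∧ F.dec f ∉ F.orb F.v0 ∧
    F.mk6 (fun i => F.co (Equiv.swap (0 : Fin 6) 1 i) (F.dec f)) = F.dec f := by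
  classical
  obtain ⟨k, he, -, hcl⟩ := F.v0_small
  have key : ∀ k : Fin 5, ∃ a : ZMod 3,
      let f : Cd := fun i => code4 ((![1, 1, wp a, 1, 1, 1] : Fin 6 → F4) i)
      supp6 f = univ ∧ Sing6 f ∧ cls f ≠ 0 ∧ cls f ≠ k := by decide +kernel
  obtain ⟨a, hu, hs, h0, hk⟩ := key k
  refine ⟨_, hu, hs, fun hmem => ?_, ?_⟩
  · rw [he] at hmem
    rcases hcl _ hs hmem with e | e
    exacts [h0 e, hk e]
  · rw [F.dec_code]
    refine F.co_ext fun i => ?_
    rw [co_mk6, co_mk6, co_mk6]
    fin_cases i <;> rfl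

theorem om_ne {a : V} (ha : a ≠ 0) : F.om a ≠ 0 := fun h => ha ((F.t_inj _) (h.trans (map_zero _).symm))

/-- A symmetry centralising the stabiliser of the base point is trivial or the exchange of two planes. -/
theorem centralizing {c : V → V} (hadd : ∀ a b, c (a + b) = c a + c b) (hq : ∀ a, F.q (c a) = F.q a)
    (hinj : Function.Injective c) {j : ZMod 3} (hom : ∀ a, c (F.om a) = F.W.t (j • Pi.single 0 1) (c a))
    (h0 : c F.v0 = F.v0) (hK : ∀ g ∈ F.K0, ∀ a, c (F.ρ g a) = F.ρ g (c a))
    (hsq : ∃ g : X, ∀ a, c (c a) = F.ρ g a) :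
    (∀ v, c v = v) ∨ ∀ v, c v = F.mk6 (fun i => F.co (Equiv.swap (0 : Fin 6) 1 i) v) := by
  classical
  have hz : c 0 = 0 := by
    have h := hadd 0 0
    rw [add_zero] at h
    simpa using h
  have hwj : ∀ (a : V) (i : Fin 6), F.co i (c (F.om a)) = wp j * F.co i (c a) := fun a i => by
    rw [hom, co_t, Φ, dotProduct_smul, F.cs_e0, smul_eq_mul, mul_one]
  -- the images of single coordinate vectors
  have hsingle : ∀ (i : Fin 4) (a : F4), a ≠ 0 → j = 1 ∧
      c (F.low (Pi.single i a)) = F.low (Pi.single i (F.co i.succ.succ (c (F.low (Pi.single i a))))) := by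
    intro i a ha
    set u := c (F.low (Pi.single i a)) with hu
    have htor : ∀ d : Fin 4 → ZMod 3, ∑ m, d m = 0 → ∀ m : Fin 6,
        F.co m (c (F.low (Pi.single i (wp (d i) * a)))) = wp ((vecCons 0 (vecCons 0 d) : Fin 6 → ZMod 3) m) * F.co m u := by
      intro d hd m
      obtain ⟨z, hzK, hzΦ⟩ := F.exists_torus hd
      have e : F.low (Pi.single i (wp (d i) * a)) = F.W.t z (F.low (Pi.single i a)) := F.co_ext fun y => by
        rw [co_t, hzΦ, co_low, co_low]
        refine Fin.cases (by simp) (fun y => Fin.cases (by simp) (fun y => ?_) y) y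
        simp only [cons_val_succ]
        rcases eq_or_ne y i with rfl | hyi
        · rw [Pi.single_eq_same, Pi.single_eq_same]
        · rw [Pi.single_eq_of_ne hyi, Pi.single_eq_of_ne hyi, mul_zero]
      rw [e, W_t, hK _ hzK, ← W_t, co_t, hzΦ]
    have hrest : ∀ y : Fin 4, y ≠ i → F.co y.succ.succ u = 0 := by
      intro y hy
      obtain ⟨l, hli, hly⟩ := exists_third i y hy.symm
      have h := htor (fun m => if m = y then 1 else if m = l then -1 else 0) (by
        rw [Finset.sum_eq_add y l hly.symm (fun m _ hm => by simp [hm.1, hm.2]) (by simp) (by simp)]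
        simp [hly]) y.succ.succ
      simp only [cons_val_succ, if_neg hy.symm, if_neg (Ne.symm hli), if_true] at h
      rw [show wp 0 = 1 from rfl, one_mul, ← hu] at h
      by_contra hne
      exact wp_ne 1 (by decide) _ hne h.symm
    obtain ⟨l, hli⟩ : ∃ l : Fin 4, l ≠ i := exists_ne i
    let d : Fin 4 → ZMod 3 := fun m => if m = i then 1 else if m = l then -1 else 0
    have hd : ∑ m, d m = 0 := by
      rw [Finset.sum_eq_add i l hli.symm (fun m _ hm => by simp [d, hm.1, hm.2]) (by simp) (by simp)]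
      simp [d, hli]
    have hscal : ∀ m, F.co m (c (F.low (Pi.single i (w4 * a)))) =
        wp ((vecCons 0 (vecCons 0 d) : Fin 6 → ZMod 3) m) * F.co m u := fun m => by
      have h := htor d hd m
      rwa [show d i = 1 from if_pos rfl] at h
    have hrel : ∀ m, wp j * F.co m u = wp ((vecCons 0 (vecCons 0 d) : Fin 6 → ZMod 3) m) * F.co m u := fun m => by
      rw [← hscal, hu, ← hwj, om_low]
      congr 3
      funext y
      rcases eq_or_ne y i with rfl | hyi
      · simp
      · simp [Pi.single_eq_of_ne hyi]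
    have hu0 : u ≠ 0 := fun e => ha (by
      have h : F.low (Pi.single i a) = 0 := hinj (by rw [hz]; exact hu.symm.trans e)
      have h' := F.co_low (Pi.single i a) i.succ.succ
      rw [h, co_zero] at h'
      simpa using h'.symm)
    have hji : F.co i.succ.succ u ≠ 0 → j = 1 := fun hne => by
      have h := hrel i.succ.succ
      simp only [cons_val_succ, d, if_true] at h
      exact wp_eq_w4 j _ hne h
    have h01 : ∀ m : Fin 6, (vecCons 0 (vecCons 0 d) : Fin 6 → ZMod 3) m = 0 → j ≠ 0 → F.co m u = 0 := fun m hm hj0 => by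
      by_contra hne
      have h := hrel m
      rw [hm, show wp 0 = 1 from rfl, one_mul] at h
      exact wp_ne j hj0 _ hne h
    have hj0 : j ≠ 0 := fun e => by
      have h : c (F.om (F.low (Pi.single i a))) = c (F.low (Pi.single i a)) := by
        rw [hom, e, zero_smul, F.W.t_zero]
      have h' := congrArg (F.co i.succ.succ) (hinj h)
      rw [co_om, co_low] at h'
      simp at h'
      exact wp_ne 1 (by decide) a ha (by rw [show wp 1 = w4 from rfl]; exact h')
    have hU : u = F.low (Pi.single i (F.co i.succ.succ u)) := F.co_ext fun m => by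
      rw [co_low]
      refine Fin.cases ?_ (fun m => Fin.cases ?_ (fun m => ?_) m) m
      · simpa using h01 0 rfl hj0
      · simpa using h01 (Fin.succ 0) rfl hj0
      · simp only [cons_val_succ]
        rcases eq_or_ne m i with rfl | hmi
        · rw [Pi.single_eq_same]
        · rw [Pi.single_eq_of_ne hmi, hrest m hmi]
    refine ⟨hji fun e => hu0 ?_, hU⟩
    rw [hU, e, Pi.single_zero]
    exact F.co_ext fun m => by
      rw [co_low, co_zero]; refine Fin.cases rfl (fun m => Fin.cases rfl (fun m => rfl) m) m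
  have hj : j = 1 := (hsingle 0 1 one_ne_zero).1
  have hom' : ∀ a, c (F.om a) = F.om (c a) := fun a => by rw [hom, hj, one_smul]; rfl
  have hc : F.Sym c := ⟨hadd, fun a b => by
    have h := F.q_add (c a) (c b)
    rw [← hadd, hq, hq, hq, F.q_add] at h
    exact (add_left_cancel h).symm, hq, hom'⟩
  let L : Fin 4 → (F4 →+ F4) := fun i => AddMonoidHom.mk' (fun a => F.co i.succ.succ (c (F.low (Pi.single i a)))) fun a b => by
    rw [Pi.single_add, low_add, hadd, co_add]
  have hLw : ∀ i a, L i (w4 * a) = w4 * L i a := fun i a => by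
    show F.co _ (c (F.low (Pi.single i (w4 * a)))) = w4 * F.co _ _
    rw [← co_om, ← hom', om_low]
    congr 3
    funext y
    rcases eq_or_ne y i with rfl | hyi
    · simp
    · simp [Pi.single_eq_of_ne hyi]
  have hcs : ∀ i a, c (F.low (Pi.single i a)) = F.low (Pi.single i (a * L i 1)) := by
    intro i a
    have hz0 : F.low (Pi.single i (0 : F4)) = 0 := by
      rw [Pi.single_zero]
      exact F.co_ext fun m => by
        rw [co_low, co_zero]; refine Fin.cases rfl (fun m => Fin.cases rfl (fun m => rfl) m) m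
    rcases eq_or_ne a 0 with rfl | ha
    · rw [zero_mul, hz0, hz]
    rw [(hsingle i a ha).2]
    congr 2
    show L i a = a * L i 1
    rcases f4_cases a with rfl | rfl | rfl | rfl
    · exact absurd rfl ha
    · rw [one_mul]
    · rw [← hLw, mul_one]
    · rw [map_add, add_mul, one_mul, ← hLw, mul_one]
  have heq : ∀ a b : Fin 4, a ≠ b → L b 1 = L a 1 := by
    intro a b hab
    obtain ⟨n, hn, e, -, -, hco⟩ := F.exists_perm a b hab
    have e1 : F.ρ n (F.low (Pi.single a 1)) = F.low (Pi.single b (wp (e a.succ.succ))) := F.co_ext fun y => by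
      obtain ⟨m, rfl⟩ := (Equiv.swap (0 : Fin 6) 1 * Equiv.swap a.succ.succ b.succ.succ).surjective y
      rw [hco, co_low]
      refine Fin.cases ?_ (fun m => Fin.cases ?_ (fun m => ?_) m) m
      · rw [Equiv.Perm.mul_apply, Equiv.swap_apply_of_ne_of_ne (Fin.succ_ne_zero _).symm (Fin.succ_ne_zero _).symm,
          Equiv.swap_apply_left, co_low]
        simp
      · rw [Equiv.Perm.mul_apply, show (Fin.succ (0 : Fin 5) : Fin 6) = 1 from rfl,
          Equiv.swap_apply_of_ne_of_ne (Fin.succ_succ_ne_one a).symm (Fin.succ_succ_ne_one b).symm,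
          Equiv.swap_apply_right, co_low]
        simp
      · rw [Equiv.Perm.mul_apply, (Fin.succ_injective 5).swap_apply, (Fin.succ_injective 4).swap_apply,
          Equiv.swap_apply_of_ne_of_ne (Fin.succ_ne_zero _) (Fin.succ_succ_ne_one _), co_low]
        simp only [cons_val_succ]
        rcases eq_or_ne m a with rfl | hma
        · rw [Equiv.swap_apply_left, Pi.single_eq_same, Pi.single_eq_same, mul_one]
        · rw [Pi.single_eq_of_ne hma, mul_zero, Pi.single_eq_of_ne (fun h => hma ((Equiv.swap a b).injective (h.trans (Equiv.swap_apply_left a b).symm)))]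
    have h := hK n hn (F.low (Pi.single a 1))
    rw [e1, hcs, hcs, one_mul] at h
    have h' := congrArg (F.co b.succ.succ) h
    have h2 := hco (F.low (Pi.single a (L a 1))) a.succ.succ
    rw [Equiv.Perm.mul_apply, Equiv.swap_apply_left, Equiv.swap_apply_of_ne_of_ne (Fin.succ_ne_zero _) (Fin.succ_succ_ne_one _)] at h2
    rw [h2, co_low, co_low] at h'
    simp only [cons_val_succ, Pi.single_eq_same] at h'
    exact mul_left_cancel₀ (fun e0 => by have := wp_inj_neg (e a.succ.succ); rw [e0, zero_mul] at this; exact zero_ne_one this) h'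
  obtain ⟨g, hg⟩ := hsq
  have hgK : g ∈ F.K0 := by
    show F.ρ g F.v0 = F.v0
    rw [← hg, h0, h0]
  have hg1 : g = 1 := by
    have hcen : (⟨g, hgK⟩ : F.K0) ∈ Subgroup.center F.K0 := Subgroup.mem_center_iff.mpr fun y =>
      Subtype.ext (F.ρ_inj (Equiv.ext fun a => by
        show F.ρ ((y : X) * g) a = F.ρ (g * (y : X)) a
        rw [map_mul, map_mul, Equiv.Perm.mul_apply, Equiv.Perm.mul_apply, ← hg, ← hg, hK _ y.2, hK _ y.2]))
    have h1 : F.toSU ⟨g, hgK⟩ ∈ Subgroup.center ↥(Cfsg.SU 4 F4 2) := Subgroup.mem_center_iff.mpr fun y => by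
      obtain ⟨y', rfl⟩ := F.toSU_bijective.2 y
      rw [← map_mul, ← map_mul, Subgroup.mem_center_iff.mp hcen y']
    rw [center_su_four, Subgroup.mem_bot] at h1
    exact congrArg Subtype.val (F.toSU_bijective.1 (h1.trans (map_one _).symm))
  have hs : ∀ i, L i 1 = 1 := by
    intro i
    refine f4_sq_one _ ?_
    have h := hg (F.low (Pi.single i 1))
    rw [hg1, map_one, Equiv.Perm.one_apply, hcs, one_mul, hcs] at h
    have h' := congrArg (F.co i.succ.succ) h
    rw [co_low, co_low] at h'
    simpa using h'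
  refine F.fix_or_swap hc h0 fun x => ?_
  conv_lhs => rw [show x = ∑ i, Pi.single i (x i) from (Finset.univ_sum_single x).symm]
  conv_rhs => rw [show x = ∑ i, Pi.single i (x i) from (Finset.univ_sum_single x).symm]
  let Cc : V →+ V := AddMonoidHom.mk' c hadd
  let Lo : (Fin 4 → F4) →+ V := AddMonoidHom.mk' F.low F.low_add
  show Cc (Lo _) = Lo _
  rw [map_sum, map_sum]
  refine Finset.sum_congr rfl fun i _ => ?_
  show c (F.low _) = F.low _
  rw [hcs, hs, mul_one]

end FSetting

end Cfsg.Lib.LargeFischer
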