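import Cfsg.Agent.LargeFischer.StabCoord

/-!
A Sylow subgroup of the alternating group of degree six and its action on even subsets.
-/

set_option autoImplicit false
set_option maxRecDepth 100000
set_option maxHeartbeats 1000000

namespace Cfsg.Lib.LargeFischer

open Equiv
open Ctx.LinePt (evn)

/-- A double transposition. -/
def kap : Perm (Fin 6) := swap 0 1 * swap 2 3

/-- The eight permutations commuting with it. -/
def d8 : Fin 8 → Perm (Fin 6) :=
  ![1, swap 0 1 * swap 2 3, swap 0 1 * swap 4 5, swap 2 3 * swap 4 5, swap 0 2 * swap 1 3, swap 0 3 * swap 1 2,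
    swap 0 2 * swap 1 3 * (swap 0 1 * swap 4 5), swap 0 3 * swap 1 2 * (swap 0 1 * swap 4 5)]

/-- The four group preserving three pairs. -/
def kk (a b : ZMod 2) : Perm (Fin 6) := (swap 0 1 * swap 2 3) ^ a.val * (swap 0 1 * swap 4 5) ^ b.val

theorem d8_even : ∀ i, Perm.sign (d8 i) = 1 := by decide +kernel

theorem d8_mem (i : Fin 8) : d8 i ∈ alternatingGroup (Fin 6) := Perm.mem_alternatingGroup.mpr (d8_even i)

theorem d8_comm : ∀ i, d8 i * kap = kap * d8 i := by decide +kernel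

theorem d8_inj : Function.Injective d8 := by
  intro a b; revert a b; decide +kernel

theorem d8_all : ∀ π : Perm (Fin 6), π * kap = kap * π → Perm.sign π = 1 → ∃ i, d8 i = π := by decide +kernel

theorem kk_d8 : ∀ a b, ∃ i, (i.val ≤ 3) ∧ d8 i = kk a b := by decide +kernel

theorem d8_kk : ∀ i : Fin 8, i.val ≤ 3 → ∃ a b, d8 i = kk a b := by decide +kernel

theorem kk_mem (a b : ZMod 2) : kk a b ∈ alternatingGroup (Fin 6) := by
  obtain ⟨i, -, h⟩ := kk_d8 a b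
  rw [← h]; exact d8_mem i

theorem kk_mul : ∀ a b a' b', kk a b * kk a' b' = kk (a + a') (b + b') := by decide +kernel

theorem kk_inj : ∀ a b a' b', kk a b = kk a' b' → a = a' ∧ b = b' := by decide +kernel

/-- The subset is fixed by the permutation up to complement. -/
def Fx (π : Perm (Fin 6)) (f : Fin 6 → ZMod 2) : Prop := ∀ i, f (π.symm i) + f i = f (π.symm 0) + f 0

instance (π : Perm (Fin 6)) (f : Fin 6 → ZMod 2) : Decidable (Fx π f) := by unfold Fx; infer_instance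

/-- The subset is a union of pairs up to complement. -/
def InY (f : Fin 6 → ZMod 2) : Prop := f 0 = f 1 ∧ f 2 = f 3 ∧ f 4 = f 5

instance (f : Fin 6 → ZMod 2) : Decidable (InY f) := by unfold InY; infer_instance

theorem fx_kk : ∀ a b, ∀ c : Fin 4 → ZMod 2, (a ≠ 0 ∨ b ≠ 0) → (Fx (kk a b) (evn c) ↔ InY (evn c)) := by
  decide +kernel

theorem fx_count : ∀ i : Fin 8, i ≠ 0 → (Finset.univ.filter fun c : Fin 4 → ZMod 2 => Fx (d8 i) (evn c)).card ≤ 4 := by
  decide +kernel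

theorem fx_count_two : ∀ i : Fin 8, 3 < i.val → d8 i * d8 i = 1 →
    (Finset.univ.filter fun c : Fin 4 → ZMod 2 => Fx kap (evn c) ∧ Fx (d8 i) (evn c)).card ≤ 2 := by
  decide +kernel

theorem d8_cent : ∀ i j : Fin 8, 3 < i.val → d8 j * d8 j = 1 → d8 i * d8 j = d8 j * d8 i →
    d8 j = 1 ∨ d8 j = kap ∨ d8 j = d8 i ∨ d8 j = kap * d8 i := by
  decide +kernel

/-- The orbits of an involution. -/
def dw : Fin 8 → Fin 6 → Fin 6 :=
  ![![0, 1, 2, 3, 4, 5], ![0, 1, 2, 3, 4, 5], ![0, 1, 4, 5, 2, 3], ![2, 3, 4, 5, 0, 1], ![0, 2, 1, 3, 4, 5],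
    ![0, 3, 1, 2, 4, 5], ![0, 1, 2, 3, 4, 5], ![0, 1, 2, 3, 4, 5]]

theorem d8_pairs : ∀ i : Fin 8, i ≠ 0 → d8 i * d8 i = 1 → d8 i (dw i 0) = dw i 1 ∧ d8 i (dw i 2) = dw i 3 ∧
    d8 i (dw i 4) = dw i 4 ∧ d8 i (dw i 5) = dw i 5 := by
  decide +kernel

theorem dw_bij : ∀ i : Fin 8, ∀ k, ∃ n, dw i n = k := by decide +kernel

theorem kk_half : ∀ a b p q : ZMod 2, (a ≠ 0 ∨ b ≠ 0) → ∃ c : Fin 4 → ZMod 2, ∀ i,
    evn c i + evn c ((kk a b).symm i) + ![p, p, q, q, 0, 0] i =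
      evn c 0 + evn c ((kk a b).symm 0) + ![p, p, q, q, 0, 0] 0 := by
  decide +kernel

theorem kk_conj : ∀ a b : ZMod 2, (a ≠ 0 ∨ b ≠ 0) → ∃ i : Fin 3,
    (![1, swap 2 4 * swap 3 5, swap 0 4 * swap 1 5] i : Perm (Fin 6)) * kap *
      ((![1, swap 2 4 * swap 3 5, swap 0 4 * swap 1 5] i : Perm (Fin 6)))⁻¹ = kk a b := by
  decide +kernel

theorem conj_mem_alt : ∀ i : Fin 3,
    Perm.sign (![1, swap 2 4 * swap 3 5, swap 0 4 * swap 1 5] i : Perm (Fin 6)) = 1 := by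
  decide +kernel

theorem pair_sum : ∀ a b e : F4, ((Finset.univ.filter fun i : Fin 6 => (![a, a, b, b, e, e] i : F4) ≠ 0).card : ZMod 2) = 0 := by
  decide +kernel

theorem evn_pair : ∀ c : Fin 4 → ZMod 2, c ≠ 0 → ∃ i j : Fin 6, i ≠ j ∧
    ∀ k, evn c k + pr i j k = evn c 0 + pr i j 0 := by
  decide +kernel

end Cfsg.Lib.LargeFischer
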