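import Cfsg.Agent.LargeFischer.PairPerms

/-!
Short vectors in coordinates relative to a vector of the long orbit, and those of the plane of three pairs.
-/

set_option autoImplicit false
set_option maxRecDepth 100000
set_option maxHeartbeats 1000000
set_option linter.unusedSectionVars false
set_option linter.style.haveILetI false

namespace Cfsg.Lib.LargeFischer

open Finset

/-- The number of coordinates that do not vanish. -/
def nzc (r : Fin 6 → F4) : ℕ := (univ.filter fun i => r i ≠ 0).card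

/-- Membership of the short orbit in relative coordinates. -/
def Sh6 (τ : ZMod 3) (r : Fin 6 → F4) : Prop := nzc r = 2 ∨ (nzc r = 6 ∧ ∏ i, r i = wp τ)

instance (τ : ZMod 3) : DecidablePred (Sh6 τ) := fun r => by unfold Sh6; infer_instance

/-- The plane of three pairs. -/
def pv6 (p : F4 × F4 × F4) : Fin 6 → F4 := ![p.1, p.1, p.2.1, p.2.1, p.2.2, p.2.2]

theorem short_form : ∀ τ : ZMod 3, τ ≠ 0 → ∀ a b d e g h : F4, a + b + d + e + g + h = 0 →
    Sh6 τ ![a, b, d, e, g, h] → ∃ i j : Fin 6, ∃ t : F4, i < j ∧ ![a, b, d, e, g, h] i + t ≠ 0 ∧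
      ∀ k, ![a, b, d, e, g, h] k + t = (![a, b, d, e, g, h] i + t) * bf (pr i j k) := by
  decide +kernel

theorem plane_short_card : ∀ τ : ZMod 3, τ ≠ 0 → (univ.filter fun p => Sh6 τ (pv6 p)).card = 18 := by
  decide +kernel

theorem plane_short_line : ∀ τ : ZMod 3, τ ≠ 0 → ∀ p, Sh6 τ (pv6 p) →
    (univ.filter fun v => Sh6 τ (pv6 v) ∧ Sh6 τ (pv6 (p + v))).card = 2 := by
  decide +kernel

set_option synthInstance.maxSize 8000 in
set_option synthInstance.maxHeartbeats 400000 in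
theorem plane_basis : ∀ τ : ZMod 3, τ ≠ 0 → ∀ w, w ≠ 0 → ¬ Sh6 τ (pv6 w) →
    ∃ p q, Sh6 τ (pv6 p) ∧ Sh6 τ (pv6 q) ∧ ∀ a b d : F4,
      (a * w.1 + b * p.1 + d * q.1, a * w.2.1 + b * p.2.1 + d * q.2.1, a * w.2.2 + b * p.2.2 + d * q.2.2) =
        (0, 0, 0) → a = 0 ∧ b = 0 ∧ d = 0 := by
  decide +kernel

theorem pair_perm : ∀ i j k l : Fin 6, i < j → k < l → i ≠ k → i ≠ l → j ≠ k → j ≠ l →
    ∃ π : Equiv.Perm (Fin 6), Equiv.Perm.sign π = 1 ∧ π 0 = i ∧ π 1 = j ∧ π 2 = k ∧ π 3 = l := by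
  decide +kernel

theorem pair_overlap : ∀ i j k l : Fin 6, i < j → k < l → ∑ m, bf (pr i j m) * bf (pr k l m) ^ 2 = 0 →
    (i = k ∧ j = l) ∨ (i ≠ k ∧ i ≠ l ∧ j ≠ k ∧ j ≠ l) := by
  decide +kernel

/-- The permutations preserving the three pairs. -/
def pairPerm (σ : Equiv.Perm (Fin 3)) (a b : ZMod 2) : Equiv.Perm (Fin 6) :=
  (finProdFinEquiv : Fin 3 × Fin 2 ≃ Fin 6).permCongr (σ.prodCongr (Equiv.refl _)) * kk a b

theorem pairPerm_mem : ∀ σ a b, Equiv.Perm.sign (pairPerm σ a b) = 1 := by decide +kernel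

theorem pairPerm_inj : ∀ σ a b σ' a' b', pairPerm σ a b = pairPerm σ' a' b' → σ = σ' ∧ a = a' ∧ b = b' := by
  decide +kernel

theorem pairPerm_pairs : ∀ σ a b, ∀ p : F4 × F4 × F4, ∃ q, ∀ i, pv6 p ((pairPerm σ a b).symm i) = pv6 q i := by
  decide +kernel

end Cfsg.Lib.LargeFischer
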