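import Cfsg.Agent.LargeFischer.PlaneShort

/-!
The stabiliser of the plane of three pairs: its order, and its orbit on the elements fixing the plane pointwise.
-/

set_option autoImplicit false
set_option maxRecDepth 100000
set_option maxHeartbeats 1000000
set_option linter.unusedSectionVars false
set_option linter.style.haveILetI false

namespace Cfsg.Lib.LargeFischer

open Subgroup QuadraticMap
open Cfsg.Lib.LargeExtra.OutExtra
open scoped Pointwise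

universe u

theorem pairs_fix : ∀ π : Equiv.Perm (Fin 6), Equiv.Perm.sign π = 1 →
    (∀ n : Fin 3, ∃ T : F4, ∀ i, pv6 (![(1, 0, 0), (0, 1, 0), (0, 0, 1)] n) (π.symm i) + T =
      pv6 (![(1, 0, 0), (0, 1, 0), (0, 0, 1)] n) i) → ∃ a b, π = kk a b := by decide +kernel

theorem pairs_even_fix : ∀ b : Fin 4 → ZMod 2, (∀ n : Fin 3,
    ∑ j, pv6 (![(1, 0, 0), (0, 1, 0), (0, 0, 1)] n) j * bf (Ctx.LinePt.evn b j) = 0) → InY (Ctx.LinePt.evn b) := by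
  decide +kernel

theorem pv6_kk : ∀ a b p i, pv6 p ((kk a b).symm i) = pv6 p i := by decide +kernel

theorem mixed_conj : ∀ a b : ZMod 2, (a ≠ 0 ∨ b ≠ 0) →
    ∃ s, pairPerm s 0 0 * kap * (pairPerm s 0 0)⁻¹ = kk a b := by decide +kernel

theorem pure_conj : ∀ p q : ZMod 2, (p ≠ 0 ∨ q ≠ 0) → ∃ s, ∀ i,
    yv ![1, 0, 0, 0] ((pairPerm s 0 0).symm i) + yv ![p, q, 0, 0] i =
      yv ![1, 0, 0, 0] ((pairPerm s 0 0).symm 0) + yv ![p, q, 0, 0] 0 := by decide +kernel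

theorem pure_witness : ∀ p q : ZMod 2, (p ≠ 0 ∨ q ≠ 0) → ¬ (p = 1 ∧ q = 1) → ∃ i j : Fin 6, i < j ∧
    ∑ m, bf (pr i j m) * bf (yv ![p, q, 0, 0] m) = 0 ∧ ∑ m, pv6 (1, 1, 0) m * bf (pr i j m) ^ 2 ≠ 0 := by
  decide +kernel

theorem f4_square_zero : ∀ a : F4, a * a = 0 → a = 0 := by decide +kernel

theorem f4_one_add : ∀ a : F4, a = 1 + w4 → a * a = 1 + w4 * w4 := by decide +kernel

variable {G : Type u} [Group G] [Finite G] {z : G} {Q : Subgroup (centralizer ({z} : Set G))} [Q.Normal]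

namespace Ctx

variable {c : Ctx z Q}

theorem rep_B (d : ↥(centralizer ({z} : Set G))) (a b : c.ι → ZMod 2) :
    c.F.B (rep Q c.D d a) (rep Q c.D d b) = c.F.B a b := by
  have hq : ∀ x, c.F.q (rep Q c.D d x) = c.F.q x := fun x => by rw [c.Fq]; exact rep_q Q c.D d x
  have h := c.F.q_add (rep Q c.D d a) (rep Q c.D d b)
  rw [← rep_add, hq, hq, hq, c.F.q_add] at h
  exact (add_left_cancel h).symm

theorem rep_zero (d : ↥(centralizer ({z} : Set G))) : rep Q c.D d 0 = 0 := by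
  have h := rep_add Q c.D d 0 0
  rwa [add_zero, left_eq_add] at h

theorem rep_short (d : ↥(centralizer ({z} : Set G))) {u : c.ι → ZMod 2} (hu : u ∈ c.F.orb c.F.v0) :
    rep Q c.D d u ∈ c.F.orb c.F.v0 := by
  obtain ⟨⟨_, m, rfl⟩, hm⟩ := hu
  rw [c.Fρ] at hm
  rw [← hm]
  show rep Q c.D d (rep Q c.D (m : ↥(centralizer ({z} : Set G))) c.F.v0) ∈ _
  rw [← Equiv.Perm.mul_apply, ← map_mul]
  exact (c.orbits_split _).1

namespace LinePt

variable (P : c.LinePt)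

include P in
theorem rep_sm (d : ↥(centralizer ({z} : Set G))) (α : F4) :
    ∃ β : F4, (β = 0 → α = 0) ∧ ∀ y, rep Q c.D d (c.F.sm α y) = c.F.sm β (rep Q c.D d y) := by
  by_cases hd : d ∈ c.M
  · exact ⟨α, id, fun y => c.F.map_sm (rep_add Q c.D d) (om_comm_M hd) α y⟩
  refine ⟨α * α, f4_square_zero α, fun y => ?_⟩
  have hw : ∀ y, rep Q c.D d (c.F.sm w4 y) = c.F.sm (w4 * w4) (rep Q c.D d y) := fun y => by
    rw [c.F.sm_w, P.om_outside hd, ← c.F.sm_w, ← c.F.sm_w, c.F.sm_sm]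
  rcases f4_cases α with rfl | rfl | rfl | rfl
  · rw [c.F.sm_zero_left, mul_zero, c.F.sm_zero_left, rep_zero]
  · rw [c.F.sm_one, one_mul, c.F.sm_one]
  · exact hw y
  · rw [c.F.sm_add_left, rep_add, hw, c.F.sm_one, f4_one_add _ rfl, c.F.sm_add_left, c.F.sm_one]

include P in
theorem rep_herm (d : ↥(centralizer ({z} : Set G))) {a b : c.ι → ZMod 2} (h : c.F.herm a b = 0) :
    c.F.herm (rep Q c.D d a) (rep Q c.D d b) = 0 := by
  refine c.F.herm_eq_zero (by rw [rep_B]; exact ((c.F.perp_iff a b).mp h).1) ?_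
  obtain ⟨β, -, hβ⟩ := P.rep_sm d⁻¹ w4
  have e : c.F.om (rep Q c.D d b) = rep Q c.D d (c.F.sm β b) := by
    have h2 := congrArg (rep Q c.D d) (hβ (rep Q c.D d b))
    rw [map_inv, Equiv.Perm.coe_inv, Equiv.apply_symm_apply, Equiv.symm_apply_apply, c.F.sm_w] at h2
    exact h2
  rw [e, rep_B, FSetting.B_herm, c.F.herm_sm_right, h, mul_zero]
  rfl

theorem SA_sm {u : c.ι → ZMod 2} (hu : u ∈ P.SA) (a : F4) : c.F.sm a u ∈ P.SA := by
  simp only [P.mem_SA, P.rc_sm, hu.1, hu.2.1, hu.2.2, and_self]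

theorem pt_SA : c.pt P.x ∈ P.SA := by simp only [P.mem_SA, P.rc_pt, and_self]

/-- A vector of the plane. -/
noncomputable def sv (p : F4 × F4 × F4) : c.ι → ZMod 2 := P.vec (pv6 p)

theorem rc_sv (p : F4 × F4 × F4) (i : Fin 6) : P.rc (P.sv p) i = pv6 p i := P.rc_vec _ i

theorem sv_mem (p : F4 × F4 × F4) : P.sv p ∈ P.SA := by
  simp only [P.mem_SA, sv, P.rc_vec]; exact ⟨rfl, rfl, rfl⟩

theorem rc_SA {u : c.ι → ZMod 2} (hu : u ∈ P.SA) : P.rc u = pv6 (P.rc u 0, P.rc u 2, P.rc u 4) := by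
  funext i
  fin_cases i
  · rfl
  · exact hu.1.symm
  · rfl
  · exact hu.2.1.symm
  · rfl
  · exact hu.2.2.symm

theorem sv_inj : Function.Injective P.sv := fun p q e => by
  have h : ∀ i, pv6 p i = pv6 q i := fun i => by rw [← P.rc_sv p, ← P.rc_sv q, e]
  exact Prod.ext (h 0) (Prod.ext (h 2) (h 4))

theorem sv_onto {u : c.ι → ZMod 2} (hu : u ∈ P.SA) : ∃ p, P.sv p = u :=
  ⟨(P.rc u 0, P.rc u 2, P.rc u 4), P.rc_ext fun i => by rw [P.rc_sv, ← P.rc_SA hu]⟩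

theorem sv_short {p : F4 × F4 × F4} : P.sv p ∈ c.F.orb c.F.v0 ↔ Sh6 P.tau (pv6 p) := by
  rw [P.mem_short, show P.rc (P.sv p) = pv6 p from funext (P.rc_sv p)]

/-- The stabiliser of the plane. -/
noncomputable def Stab : Subgroup ↥(centralizer ({z} : Set G)) :=
  (MulAction.stabilizer (Equiv.Perm (c.ι → ZMod 2)) (P.SA : Set (c.ι → ZMod 2))).comap (rep Q c.D)

theorem mem_Stab {h : ↥(centralizer ({z} : Set G))} :
    h ∈ P.Stab ↔ ∀ u ∈ P.SA, rep Q c.D h u ∈ P.SA := by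
  rw [Stab, mem_comap, MulAction.mem_stabilizer_iff]
  constructor
  · intro e u hu
    have : rep Q c.D h u ∈ rep Q c.D h • (P.SA : Set (c.ι → ZMod 2)) := ⟨u, hu, rfl⟩
    rwa [e] at this
  · intro H
    refine Set.eq_of_subset_of_ncard_le ?_ (le_of_eq ?_) (Set.toFinite _)
    · rintro _ ⟨u, hu, rfl⟩
      exact H u hu
    · exact (Set.ncard_image_of_injective _ (rep Q c.D h).injective).symm

theorem Stab_apply {h : ↥(centralizer ({z} : Set G))} (hh : h ∈ P.Stab) {u : c.ι → ZMod 2} (hu : u ∈ P.SA) :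
    rep Q c.D h u ∈ P.SA := P.mem_Stab.mp hh u hu

theorem pairPerm_alt (s : Equiv.Perm (Fin 3)) (a b : ZMod 2) : pairPerm s a b ∈ alternatingGroup (Fin 6) :=
  Equiv.Perm.mem_alternatingGroup.mpr (pairPerm_mem s a b)

theorem gp_pair_SA (s : Equiv.Perm (Fin 3)) (a b : ZMod 2) {u : c.ι → ZMod 2} (hu : u ∈ P.SA) :
    P.gp (pairPerm s a b) u ∈ P.SA := by
  obtain ⟨q, hq⟩ := pairPerm_pairs s a b (P.rc u 0, P.rc u 2, P.rc u 4)
  simp only [P.mem_SA, P.gp_rc' (pairPerm_alt s a b)]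
  rw [P.rc_SA hu]
  exact ⟨by rw [hq, hq]; rfl, by rw [hq, hq]; rfl, by rw [hq, hq]; rfl⟩

theorem rr_SA {f : Fin 6 → ZMod 2} (hf : ∑ i, f i = 0) {u : c.ι → ZMod 2} (hu : u ∈ P.SA) : P.rr f u ∈ P.SA := by
  simp only [P.mem_SA, P.rr_act hf (P.SA_perp hu), hu.1, hu.2.1, hu.2.2, and_self]

theorem lift_RB {σ : Equiv.Perm (c.ι → ZMod 2)} (hσ : σ ∈ P.RB) :
    ∃ h, h ∈ c.M ∧ rep Q c.D h = σ := by
  obtain ⟨r, hr, rfl⟩ := hσ
  exact ⟨r, hr.2, rfl⟩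

theorem lift_gp {π : Equiv.Perm (Fin 6)} (hπ : π ∈ alternatingGroup (Fin 6)) :
    ∃ h, h ∈ c.M ∧ rep Q c.D h = P.gp π := by
  obtain ⟨m, hm⟩ := P.gp_XM hπ
  exact ⟨m, m.2, hm⟩

/-- A map of the point to another central point of the plane, corrected to stabilise the plane. -/
theorem exists_move {p : F4 × F4 × F4} (hp0 : p ≠ 0) (hp : ¬ Sh6 P.tau (pv6 p))
    {d : ↥(centralizer ({z} : Set G))} (hd : rep Q c.D d (c.pt P.x) = P.sv p) :
    ∃ e, e ∈ c.M ∧ d * e ∈ P.Stab ∧ rep Q c.D (d * e) (c.pt P.x) = P.sv p := by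
  classical
  obtain ⟨p1, p2, hp1, hp2, hind⟩ := plane_basis P.tau P.tau_ne p hp0 hp
  set σ := rep Q c.D d with hσ
  set a := rep Q c.D d⁻¹ (P.sv p1) with ha
  set b := rep Q c.D d⁻¹ (P.sv p2) with hb
  have hinv : ∀ y, σ (rep Q c.D d⁻¹ y) = y := fun y => by
    rw [hσ, map_inv, Equiv.Perm.coe_inv, Equiv.apply_symm_apply]
  have hx : rep Q c.D d⁻¹ (P.sv p) = c.pt P.x := by
    rw [← hd, map_inv, Equiv.Perm.coe_inv, Equiv.symm_apply_apply]
  have hperp : ∀ q, rep Q c.D d⁻¹ (P.sv q) ∈ P.perp := fun q => P.mem_perp.mpr (by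
    rw [← hx]; exact P.rep_herm _ (P.SA_herm (P.sv_mem q) (P.sv_mem p)))
  have hcomb : ∀ α β γ : F4, c.F.sm α (P.sv p) + c.F.sm β (P.sv p1) + c.F.sm γ (P.sv p2) = 0 →
      α = 0 ∧ β = 0 ∧ γ = 0 := by
    intro α β γ h
    refine hind α β γ ?_
    have h' : ∀ i, α * pv6 p i + β * pv6 p1 i + γ * pv6 p2 i = 0 := fun i => by
      rw [← P.rc_sv p, ← P.rc_sv p1, ← P.rc_sv p2, ← P.rc_sm, ← P.rc_sm, ← P.rc_sm, ← P.rc_add, ← P.rc_add, h,
        P.rc_zero]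
    exact Prod.ext (h' 0) (Prod.ext (h' 2) (h' 4))
  obtain ⟨π, hπ, haS, hbS⟩ := P.pairs_conj (rep_short d⁻¹ (P.sv_short.mpr hp1)) (rep_short d⁻¹ (P.sv_short.mpr hp2))
    (hperp p1) (hperp p2) (P.rep_herm _ (P.SA_herm (P.sv_mem p1) (P.sv_mem p2))) (fun t r e => by
      have h := congrArg σ e
      obtain ⟨t', -, ht⟩ := P.rep_sm d t
      obtain ⟨r', -, hr⟩ := P.rep_sm d r
      rw [hinv, hσ, rep_add, ht, hr, hd, ← hσ, hinv] at h
      have h1 := (hcomb t' r' 1 (by rw [c.F.sm_one, h, c.F.dbl])).2.2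
      exact one_ne_zero h1)
  obtain ⟨e, heM, he⟩ := P.lift_gp hπ
  have hex : rep Q c.D (d * e) (c.pt P.x) = P.sv p := by
    rw [map_mul, Equiv.Perm.mul_apply, he, P.gp_pt hπ, hd]
  refine ⟨e, heM, P.mem_Stab.mpr fun u hu => ?_, hex⟩
  set a' := (P.gp π)⁻¹ a with ha'
  set b' := (P.gp π)⁻¹ b with hb'
  have hea : rep Q c.D (d * e) a' = P.sv p1 := by
    rw [map_mul, Equiv.Perm.mul_apply, he, ha', Equiv.Perm.coe_inv, Equiv.apply_symm_apply, ha]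
    exact hinv _
  have heb : rep Q c.D (d * e) b' = P.sv p2 := by
    rw [map_mul, Equiv.Perm.mul_apply, he, hb', Equiv.Perm.coe_inv, Equiv.apply_symm_apply, hb]
    exact hinv _
  let f : F4 × F4 × F4 →+ ↥P.SA := AddMonoidHom.mk'
    (fun t => ⟨c.F.sm t.1 (c.pt P.x) + c.F.sm t.2.1 a' + c.F.sm t.2.2 b',
      add_mem (add_mem (P.SA_sm P.pt_SA _) (P.SA_sm haS _)) (P.SA_sm hbS _)⟩) fun s t => Subtype.ext (by
        simp only [Prod.fst_add, Prod.snd_add, c.F.sm_add_left, AddSubgroup.coe_add]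
        abel)
  have himg : ∀ t, ∃ α β γ : F4, (α = 0 → t.1 = 0) ∧ (β = 0 → t.2.1 = 0) ∧ (γ = 0 → t.2.2 = 0) ∧
      rep Q c.D (d * e) (f t : c.ι → ZMod 2) =
        c.F.sm α (P.sv p) + c.F.sm β (P.sv p1) + c.F.sm γ (P.sv p2) := by
    intro t
    obtain ⟨α, hα0, hα⟩ := P.rep_sm (d * e) t.1
    obtain ⟨β, hβ0, hβ⟩ := P.rep_sm (d * e) t.2.1
    obtain ⟨γ, hγ0, hγ⟩ := P.rep_sm (d * e) t.2.2
    refine ⟨α, β, γ, hα0, hβ0, hγ0, ?_⟩
    show rep Q c.D (d * e) (_ + _ + _) = _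
    rw [rep_add, rep_add, hα, hβ, hγ, hex, hea, heb]
  have hfi : Function.Injective f := (injective_iff_map_eq_zero f).mpr fun t ht => by
    obtain ⟨α, β, γ, h1, h2, h3, h⟩ := himg t
    rw [ht, ZeroMemClass.coe_zero, rep_zero] at h
    obtain ⟨a0, b0, g0⟩ := hcomb α β γ h.symm
    exact Prod.ext (h1 a0) (Prod.ext (h2 b0) (h3 g0))
  have hfb : Function.Bijective f := (Nat.bijective_iff_injective_and_card _).mpr ⟨hfi, by
    rw [P.SA_card, Nat.card_prod, Nat.card_prod, Nat.card_eq_fintype_card, card_F4]⟩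
  obtain ⟨t, ht⟩ := hfb.2 ⟨u, hu⟩
  obtain ⟨α, β, γ, -, -, -, h⟩ := himg t
  rw [show u = (f t : c.ι → ZMod 2) from (congrArg Subtype.val ht).symm, h]
  exact add_mem (add_mem (P.SA_sm (P.sv_mem _) _) (P.SA_sm (P.sv_mem _) _)) (P.SA_sm (P.sv_mem _) _)

theorem exists_map {p : F4 × F4 × F4} (hp0 : p ≠ 0) (hp : ¬ Sh6 P.tau (pv6 p)) :
    ∃ m ∈ c.M, rep Q c.D m (c.pt P.x) = P.sv p := by
  have hne : P.sv p ≠ 0 := fun e => hp0 (P.sv_inj (e.trans (P.rc_ext fun i => by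
    rw [P.rc_sv, P.rc_zero]; fin_cases i <;> rfl)))
  have hnot : P.sv p ∉ c.F.orb c.F.v0 := fun h => hp (P.sv_short.mp h)
  have h1701 := (c.orbits_split 1).2 _ (P.SA_q (P.sv_mem p)) hne hnot
  have hsame : c.F.orb (P.sv p) = c.F.orb (c.pt P.x) := by
    rw [c.F.orb_long ⟨P.SA_q (P.sv_mem p), hne⟩ h1701, c.F.orb_long ⟨P.hq, P.v_ne⟩ P.orb1701]
  obtain ⟨⟨_, m, rfl⟩, hm⟩ := hsame ▸ c.F.orb_self (P.sv p)
  rw [c.Fρ] at hm
  exact ⟨m, m.2, hm⟩

/-- An element outside the subgroup of index two that fixes the point and stabilises the plane. -/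
theorem exists_outer_stab : ∃ d ∈ P.Stab, d ∉ c.M ∧ rep Q c.D d (c.pt P.x) = c.pt P.x := by
  haveI := c.Mn
  obtain ⟨d0, hd0⟩ : ∃ d : ↥(centralizer ({z} : Set G)), d ∉ c.M := by
    by_contra h
    push Not at h
    have := c.Mi
    rw [(eq_top_iff' c.M).mpr h, index_top] at this
    norm_num at this
  set w := rep Q c.D d0 (c.pt P.x) with hw
  have hwq : c.F.q w = 0 := by rw [hw, c.Fq, rep_q, ← c.Fq]; exact P.hq
  have hw0 : w ≠ 0 := fun e => P.v_ne ((rep Q c.D d0).injective (e.trans (rep_zero d0).symm))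
  have hnot : w ∉ c.F.orb c.F.v0 := fun h => by
    have h2 := rep_short d0⁻¹ h
    rw [hw, map_inv, Equiv.Perm.coe_inv, Equiv.symm_apply_apply] at h2
    have h3 := P.orb1701
    rw [c.F.orb_eq h2, c.F.v0_card] at h3
    norm_num at h3
  have hsame : c.F.orb (c.pt P.x) = c.F.orb w := by
    rw [c.F.orb_long ⟨hwq, hw0⟩ ((c.orbits_split 1).2 _ hwq hw0 hnot), c.F.orb_long ⟨P.hq, P.v_ne⟩ P.orb1701]
  obtain ⟨⟨_, m, rfl⟩, hm⟩ := hsame ▸ c.F.orb_self (c.pt P.x)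
  rw [c.Fρ] at hm
  have hone : P.sv (1, 1, 1) = c.pt P.x := P.rc_ext fun i => by
    rw [P.rc_sv, P.rc_pt]; fin_cases i <;> rfl
  have hns : ¬ Sh6 P.tau (pv6 (1, 1, 1)) := by
    have : ∀ τ : ZMod 3, τ ≠ 0 → ¬ Sh6 τ (pv6 (1, 1, 1)) := by decide +kernel
    exact this _ P.tau_ne
  have hd : rep Q c.D ((m : ↥(centralizer ({z} : Set G))) * d0) (c.pt P.x) = P.sv (1, 1, 1) := by
    rw [map_mul, Equiv.Perm.mul_apply, hone]; exact hm
  obtain ⟨e, heM, hS, hfix⟩ := P.exists_move (by decide) hns hd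
  refine ⟨_, hS, fun h => hd0 ?_, hfix.trans hone⟩
  rw [Subgroup.mul_mem_cancel_right _ heM, Subgroup.mul_mem_cancel_left _ m.2] at h
  exact h

theorem rep_fix_Q {h : ↥(centralizer ({z} : Set G))} (hh : h ∈ Q) : rep Q c.D h = 1 := c.rep_Q hh

/-- The order of the stabiliser. -/
theorem Stab_card : 138240 * 2048 ≤ Nat.card ↥P.Stab := by
  classical
  haveI := c.Mn
  letI : MulAction ↥P.Stab (c.ι → ZMod 2) := MulAction.compHom _ ((rep Q c.D).comp P.Stab.subtype)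
  have horb : 45 ≤ (MulAction.orbit ↥P.Stab (c.pt P.x)).ncard := by
    set S := (Finset.univ.filter fun p : F4 × F4 × F4 => p ≠ 0 ∧ ¬ Sh6 P.tau (pv6 p)) with hS
    have hc : S.card = 45 := by
      have : ∀ τ : ZMod 3, τ ≠ 0 →
          (Finset.univ.filter fun p : F4 × F4 × F4 => p ≠ 0 ∧ ¬ Sh6 τ (pv6 p)).card = 45 := by decide +kernel
      exact this _ P.tau_ne
    rw [← hc, ← Set.ncard_coe_finset]
    refine Set.ncard_le_ncard_of_injOn P.sv (fun p hp => ?_) (P.sv_inj.injOn) (Set.toFinite _)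
    obtain ⟨h0, hs⟩ := (Finset.mem_filter.mp hp).2
    obtain ⟨m, -, hm⟩ := P.exists_map h0 hs
    obtain ⟨e, -, heS, hfix⟩ := P.exists_move h0 hs hm
    exact ⟨⟨_, heS⟩, hfix⟩
  set K : Subgroup ↥(centralizer ({z} : Set G)) :=
    P.Stab ⊓ (MulAction.stabilizer (Equiv.Perm (c.ι → ZMod 2)) (c.pt P.x)).comap (rep Q c.D) with hK
  have hst : Nat.card ↥(MulAction.stabilizer ↥P.Stab (c.pt P.x)) = Nat.card ↥K := by
    have e : MulAction.stabilizer ↥P.Stab (c.pt P.x) = K.subgroupOf P.Stab := by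
      ext h
      rw [MulAction.mem_stabilizer_iff, mem_subgroupOf]
      exact ⟨fun e => ⟨h.2, e⟩, fun e => e.2⟩
    rw [e, Nat.card_congr (subgroupOfEquivOfLe (inf_le_left : K ≤ P.Stab)).toEquiv]
  have hKQ : K ⊓ c.M ⊓ Q = Q := inf_eq_right.mpr fun q hq => by
    refine ⟨⟨P.mem_Stab.mpr fun u hu => ?_, ?_⟩, c.QM hq⟩
    · rw [c.rep_Q hq]; exact hu
    · show rep Q c.D q (c.pt P.x) = c.pt P.x
      rw [c.rep_Q hq]; rfl
  have h384 : 384 ≤ Nat.card ↥((K ⊓ c.M).map (rep Q c.D)) := by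
    let f : (Fin 4 → ZMod 2) × Equiv.Perm (Fin 3) × ZMod 2 × ZMod 2 → ↥((K ⊓ c.M).map (rep Q c.D)) := fun t =>
      ⟨P.rr (evn t.1) * P.gp (pairPerm t.2.1 t.2.2.1 t.2.2.2), by
        obtain ⟨r, hrM, hr⟩ := P.lift_RB (P.rr_mem (evn t.1))
        obtain ⟨m, hmM, hm⟩ := P.lift_gp (pairPerm_alt t.2.1 t.2.2.1 t.2.2.2)
        refine ⟨r * m, ⟨⟨P.mem_Stab.mpr fun u hu => ?_, ?_⟩, mul_mem hrM hmM⟩, by rw [map_mul, hr, hm]⟩
        · rw [map_mul, hr, hm]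
          exact P.rr_SA (evn_sum _) (P.gp_pair_SA _ _ _ hu)
        · show rep Q c.D (r * m) (c.pt P.x) = c.pt P.x
          rw [map_mul, hr, hm, Equiv.Perm.mul_apply, P.gp_pt (pairPerm_alt _ _ _), P.RB_pt (P.rr_mem _)]⟩
    have hf : Function.Injective f := by
      rintro ⟨b, s, u, v⟩ ⟨b', s', u', v'⟩ e
      have e' : P.rr (evn b) * P.gp (pairPerm s u v) = P.rr (evn b') * P.gp (pairPerm s' u' v') := congrArg Subtype.val e
      have hmem : P.rr (evn b) * P.gp (pairPerm s u v) ∈ P.St :=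
        mul_mem (P.RB_le_St (P.rr_mem _)) (P.gp_St (pairPerm_alt _ _ _))
      have h1 := P.pr6_eq (σ := ⟨_, hmem⟩) (pairPerm_alt s u v) rfl
      have h2 := P.pr6_eq (σ := ⟨_, hmem⟩) (pairPerm_alt s' u' v') e'
      obtain ⟨rfl, rfl, rfl⟩ := pairPerm_inj _ _ _ _ _ _ (congrArg Subtype.val (h1.symm.trans h2))
      obtain rfl := P.rr_evn_inj (mul_right_cancel e')
      rfl
    refine le_trans (le_of_eq ?_) (Nat.card_le_card_of_injective f hf)
    rw [Nat.card_prod, Nat.card_prod, Nat.card_prod, Nat.card_perm, Nat.card_zmod]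
    simp [Nat.factorial]
  have hKM : 384 * 2 ^ 13 ≤ Nat.card ↥(K ⊓ c.M) := by
    rw [c.card_map_rep, hKQ, c.card]
    exact Nat.mul_le_mul_right _ h384
  have h2 : 2 * Nat.card ↥(K ⊓ c.M) ≤ Nat.card ↥K := by
    have h := Subgroup.card_mul_index ((K ⊓ c.M).subgroupOf K)
    rw [Nat.card_congr (subgroupOfEquivOfLe (inf_le_left : K ⊓ c.M ≤ K)).toEquiv] at h
    have hi : 2 ≤ ((K ⊓ c.M).subgroupOf K).index := by
      have h0 : ((K ⊓ c.M).subgroupOf K).index ≠ 0 := Subgroup.index_ne_zero_of_finite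
      have h1 : ((K ⊓ c.M).subgroupOf K).index ≠ 1 := fun e => by
        obtain ⟨d, hdS, hdM, hdx⟩ := P.exists_outer_stab
        exact hdM ((Subgroup.subgroupOf_eq_top.mp (index_eq_one.mp e)) ⟨hdS, hdx⟩).2
      omega
    rw [← h, mul_comm]
    exact Nat.mul_le_mul_left _ hi
  have h := (MulAction.stabilizer ↥P.Stab (c.pt P.x)).card_mul_index
  rw [MulAction.index_stabilizer, hst] at h
  have h3 := Nat.mul_le_mul (hKM.trans (Nat.le_refl _)) horb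
  have h4 := Nat.mul_le_mul_right (MulAction.orbit ↥P.Stab (c.pt P.x)).ncard h2
  rw [h, mul_assoc] at h4
  calc 138240 * 2048 = 2 * (384 * 2 ^ 13 * 45) * 1 := by norm_num
    _ ≤ _ := by rw [mul_one]; exact (Nat.mul_le_mul_left 2 h3).trans h4

/-- Elements fixing the plane pointwise. -/
theorem fixed_AB {h : ↥(centralizer ({z} : Set G))} (hh : ∀ u ∈ P.SA, rep Q c.D h u = u) : rep Q c.D h ∈ P.AB := by
  have hM : h ∈ c.M := by
    by_contra hd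
    have h1 := hh _ (P.SA_sm P.pt_SA w4)
    rw [c.F.sm_w, P.om_outside hd, hh _ P.pt_SA, ← c.F.sm_w, ← c.F.sm_w, c.F.sm_sm] at h1
    have h2 : c.F.sm (w4 * w4 + w4) (c.pt P.x) = 0 := by rw [c.F.sm_add_left, h1, c.F.dbl]
    exact absurd (c.F.sm_injective P.v_ne h2) (by decide +kernel)
  obtain ⟨b, π, hπ, e⟩ := P.stab_form (mem_XM hM) (hh _ P.pt_SA)
  set n3 : Fin 3 → F4 × F4 × F4 := ![(1, 0, 0), (0, 1, 0), (0, 0, 1)] with hn3
  have hact : ∀ n i, pv6 (n3 n) (π.symm i) + P.sc * ∑ j, pv6 (n3 n) (π.symm j) * bf (evn b j) = pv6 (n3 n) i := by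
    intro n i
    have h1 := congrArg (fun y => P.rc y i) (hh _ (P.sv_mem (n3 n)))
    simp only [e, Equiv.Perm.mul_apply] at h1
    rw [P.rr_act (evn_sum b) (P.gp_perp hπ (P.SA_perp (P.sv_mem _)))] at h1
    simp only [P.gp_rc' hπ, P.rc_sv] at h1
    exact h1
  obtain ⟨a, a', rfl⟩ := pairs_fix π (Equiv.Perm.mem_alternatingGroup.mp hπ) fun n => ⟨_, hact n⟩
  have hY : InY (evn b) := pairs_even_fix b fun n => by
    have h1 := hact n 0
    simp only [pv6_kk, add_eq_left, mul_eq_zero, P.sc_ne, false_or] at h1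
    exact h1
  refine P.mem_AB.mpr ⟨![b 0, b 2, a, a'], ?_⟩
  rw [e, ← evn_yv b hY a a']
  rfl

/-- Conjugacy under the stabiliser. -/
def Rel (σ τ : Equiv.Perm (c.ι → ZMod 2)) : Prop :=
  ∃ h ∈ P.Stab, rep Q c.D h * σ * (rep Q c.D h)⁻¹ = τ

theorem Rel.symm {σ τ : Equiv.Perm (c.ι → ZMod 2)} (h : P.Rel σ τ) : P.Rel τ σ := by
  obtain ⟨g, hg, rfl⟩ := h
  exact ⟨g⁻¹, inv_mem hg, by rw [map_inv]; group⟩

theorem Rel.trans {σ τ υ : Equiv.Perm (c.ι → ZMod 2)} (h : P.Rel σ τ) (h' : P.Rel τ υ) : P.Rel σ υ := by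
  obtain ⟨g, hg, rfl⟩ := h
  obtain ⟨g', hg', rfl⟩ := h'
  exact ⟨g' * g, mul_mem hg' hg, by rw [map_mul]; group⟩

theorem Rel_pair (s : Equiv.Perm (Fin 3)) (σ : Equiv.Perm (c.ι → ZMod 2)) :
    P.Rel σ (P.gp (pairPerm s 0 0) * σ * (P.gp (pairPerm s 0 0))⁻¹) := by
  obtain ⟨m, -, hm⟩ := P.lift_gp (pairPerm_alt s 0 0)
  exact ⟨m, P.mem_Stab.mpr fun u hu => by rw [hm]; exact P.gp_pair_SA _ _ _ hu, by rw [hm]⟩

theorem Rel_pure {p q : ZMod 2} (h : p ≠ 0 ∨ q ≠ 0) :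
    P.Rel (P.rr (yv ![1, 0, 0, 0])) (P.rr (yv ![p, q, 0, 0])) := by
  obtain ⟨s, hs⟩ := pure_conj p q h
  have h1 := P.Rel_pair s (P.rr (yv ![1, 0, 0, 0]))
  rw [P.rr_conj (pairPerm_alt s 0 0) (yv_sum _),
    P.rr_congr (f' := yv ![p, q, 0, 0]) (by rw [Equiv.sum_comp (pairPerm s 0 0).symm (yv ![1, 0, 0, 0])]; exact yv_sum _)
      (yv_sum _) hs] at h1
  exact h1

theorem Rel_mixed {q : Fin 4 → ZMod 2} (h : q 2 ≠ 0 ∨ q 3 ≠ 0) :
    P.Rel (P.gp kap) (P.rr (yv q) * P.gp (kk (q 2) (q 3))) := by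
  obtain ⟨s, hs⟩ := mixed_conj (q 2) (q 3) h
  have h1 := P.Rel_pair s (P.gp kap)
  have hκ : kap ∈ alternatingGroup (Fin 6) := d8_mem 1
  have hsA := pairPerm_alt s 0 0
  rw [P.gp_inv hsA, P.gp_mul hsA hκ, P.gp_mul (mul_mem hsA hκ) (inv_mem hsA), hs] at h1
  refine Rel.trans P h1 (Rel.symm P ?_)
  obtain ⟨e, he⟩ := kk_half (q 2) (q 3) (q 0) (q 1) h
  obtain ⟨r, -, hr⟩ := P.lift_RB (P.rr_mem (evn e))
  refine ⟨r, P.mem_Stab.mpr fun u hu => by rw [hr]; exact P.rr_SA (evn_sum e) hu, ?_⟩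
  have hsum : ∑ i, evn e ((kk (q 2) (q 3)).symm i) = 0 := by
    rw [Equiv.sum_comp (kk (q 2) (q 3)).symm (evn e), evn_sum]
  rw [hr, inv_eq_of_mul_eq_one_right (P.RB_sq (P.rr_mem (evn e))), mul_assoc, mul_assoc (P.rr (yv q)),
    P.gp_rr (kk_mem _ _) (evn_sum e), ← mul_assoc, ← mul_assoc, P.rr_mul (evn_sum e) (yv_sum q),
    P.rr_mul (by simp [Finset.sum_add_distrib, evn_sum, yv_sum]) hsum,
    (P.rr_eq_one (by simp [Finset.sum_add_distrib, evn_sum, yv_sum, hsum])).mpr fun i => ?_, one_mul]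
  simp only [Pi.add_apply]
  have h2 := he i
  show evn e i + yv q i + evn e ((kk (q 2) (q 3)).symm i) =
    evn e 0 + yv q 0 + evn e ((kk (q 2) (q 3)).symm 0)
  rw [add_right_comm, add_right_comm (evn e 0)]
  exact h2

theorem stab_AB {h : ↥(centralizer ({z} : Set G))} (hh : h ∈ P.Stab) {σ : Equiv.Perm (c.ι → ZMod 2)} (hσ : σ ∈ P.AB) :
    rep Q c.D h * σ * (rep Q c.D h)⁻¹ ∈ P.AB := by
  obtain ⟨hX, -⟩ := P.mem_St.mp (P.AB_le hσ)
  obtain ⟨m, hm⟩ := hX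
  have e : rep Q c.D h * σ * (rep Q c.D h)⁻¹ = rep Q c.D (h * (m : ↥(centralizer ({z} : Set G))) * h⁻¹) := by
    rw [map_mul, map_mul, map_inv, show rep Q c.D (m : ↥(centralizer ({z} : Set G))) = σ from hm]
  rw [e]
  refine P.fixed_AB fun u hu => ?_
  rw [← e, Equiv.Perm.mul_apply, Equiv.Perm.mul_apply]
  have hu' : (rep Q c.D h)⁻¹ u ∈ P.SA := by
    rw [← map_inv]; exact P.Stab_apply (inv_mem hh) hu
  rw [P.AB_fix hσ hu', Equiv.Perm.coe_inv, Equiv.apply_symm_apply]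

/-- Some element of the radical is conjugate to one outside it. -/
theorem link : P.Rel (P.rr (yv ![1, 0, 0, 0])) (P.gp kap) := by
  by_contra hno
  have hns : ∀ τ : ZMod 3, τ ≠ 0 → ¬ Sh6 τ (pv6 (1, 1, 0)) := by decide +kernel
  obtain ⟨m, -, hm⟩ := P.exists_map (p := (1, 1, 0)) (by decide) (hns _ P.tau_ne)
  obtain ⟨e, -, hS, hfix⟩ := P.exists_move (p := (1, 1, 0)) (by decide) (hns _ P.tau_ne) hm
  set h := m * e with hh
  -- images of the radical part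
  have himg : ∀ p q : ZMod 2, (p ≠ 0 ∨ q ≠ 0) → ∃ p' q' : ZMod 2, (p' ≠ 0 ∨ q' ≠ 0) ∧
      rep Q c.D h * P.rr (yv ![p, q, 0, 0]) * (rep Q c.D h)⁻¹ = P.rr (yv ![p', q', 0, 0]) := by
    intro p q hpq
    have hmemAB : P.rr (yv ![p, q, 0, 0]) ∈ P.AB := P.mem_AB.mpr ⟨![p, q, 0, 0], by
      rw [show kk ((![p, q, 0, 0] : Fin 4 → ZMod 2) 2) ((![p, q, 0, 0] : Fin 4 → ZMod 2) 3) = 1 from
        (show kk 0 0 = 1 by decide +kernel), P.gp_one, mul_one]⟩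
    have hR : P.Rel (P.rr (yv ![1, 0, 0, 0])) (rep Q c.D h * P.rr (yv ![p, q, 0, 0]) * (rep Q c.D h)⁻¹) :=
      Rel.trans P (P.Rel_pure hpq) ⟨h, hS, rfl⟩
    obtain ⟨t, ht⟩ := P.mem_AB.mp (P.stab_AB hS hmemAB)
    by_cases h23 : t 2 ≠ 0 ∨ t 3 ≠ 0
    · exact absurd (Rel.trans P hR (Rel.symm P (by rw [← ht]; exact P.Rel_mixed h23))) hno
    push Not at h23
    rw [h23.1, h23.2, show kk 0 0 = 1 by decide +kernel, P.gp_one, mul_one,
      show yv t = yv ![t 0, t 1, 0, 0] from rfl] at ht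
    refine ⟨t 0, t 1, ?_, ht.symm⟩
    by_contra h01
    push Not at h01
    rw [h01.1, h01.2] at ht
    have h1 : P.rr (yv ![p, q, 0, 0]) = 1 := by
      have : P.rr (yv ![0, 0, 0, 0]) = 1 := (P.rr_eq_one (yv_sum _)).mpr (by decide +kernel)
      rw [this] at ht
      have h2 := ht.symm
      rw [mul_inv_eq_one] at h2
      exact mul_left_cancel (h2.trans (mul_one _).symm)
    obtain ⟨h3, h4⟩ := yv_const _ ((P.rr_eq_one (yv_sum _)).mp h1)
    rcases hpq with h5 | h5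
    exacts [h5 h3, h5 h4]
  -- the image of the point lies in the image of a commutator space
  have key : ∀ p q : ZMod 2, (p ≠ 0 ∨ q ≠ 0) →
      rep Q c.D h * P.rr (yv ![p, q, 0, 0]) * (rep Q c.D h)⁻¹ = P.rr (yv ![1, 1, 0, 0]) := by
    intro p q hpq
    obtain ⟨p', q', hpq', e1⟩ := himg p q hpq
    by_cases hb : p' = 1 ∧ q' = 1
    · rw [e1, hb.1, hb.2]
    exfalso
    obtain ⟨i, j, hij, hfixv, hne⟩ := pure_witness p' q' hpq' hb
    set σ := P.rr (yv ![p, q, 0, 0]) with hσ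
    set τ := P.rr (yv ![p', q', 0, 0]) with hτ
    -- the point is a commutator
    obtain ⟨k, l, hkl, hkl'⟩ : ∃ k l : Fin 6, k ≠ l ∧
        ∑ n, bf (pr k l n) * bf (yv ![p, q, 0, 0] n) ≠ 0 := by
      have : ∀ p q : ZMod 2, (p ≠ 0 ∨ q ≠ 0) → ∃ k l : Fin 6, k ≠ l ∧
          ∑ n, bf (pr k l n) * bf (yv ![p, q, 0, 0] n) ≠ 0 := by decide +kernel
      exact this p q hpq
    set v0' := P.vec (fun n => bf (pr k l n)) with hv0'
    have hv0p : v0' ∈ P.perp := P.vec_pair_mem k l hkl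
    set s := P.sc * ∑ n, bf (pr k l n) * bf (yv ![p, q, 0, 0] n) with hs
    have hs0 : s ≠ 0 := mul_ne_zero P.sc_ne hkl'
    have hσv : σ v0' = v0' + c.F.sm s (c.pt P.x) := P.rc_ext fun n => by
      rw [hσ, P.rr_act (yv_sum _) hv0p, P.rc_add, P.rc_sm, P.rc_pt, mul_one]
      simp only [hv0', P.rc_vec, hs]
    obtain ⟨β, hβ0, hβ⟩ := P.rep_sm h s
    set w := rep Q c.D h v0' with hw
    have hτw : τ w = w + c.F.sm β (P.sv (1, 1, 0)) := by
      rw [← e1, Equiv.Perm.mul_apply, Equiv.Perm.mul_apply, hw, Equiv.Perm.coe_inv, Equiv.symm_apply_apply, hσv,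
        rep_add, hβ, hfix]
    set v := P.vec (fun n => bf (pr i j n)) with hv
    have hvp : v ∈ P.perp := P.vec_pair_mem i j hij.ne
    have hvfix : ∀ a : F4, τ (c.F.sm a v) = c.F.sm a v := fun a => P.rc_ext fun n => by
      have hp' : c.F.sm a v ∈ P.perp := by rw [P.mem_perp, c.F.herm_sm, P.mem_perp.mp hvp, mul_zero]
      rw [hτ, P.rr_act (yv_sum _) hp']
      simp only [P.rc_sm, hv, P.rc_vec, mul_assoc, ← Finset.mul_sum, hfixv, mul_zero, add_zero]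
    have hτX : τ ∈ c.XM := P.RB_le (P.rr_mem _)
    have hB : ∀ a : F4, c.F.B (c.F.sm β (P.sv (1, 1, 0))) (c.F.sm a v) = 0 := fun a => by
      have h1 := Ctx.XM_B hτX w (c.F.sm a v)
      rw [hτw, hvfix, c.F.B_add, add_eq_left] at h1
      exact h1
    have h2 := c.F.herm_eq_zero (by simpa [c.F.sm_one] using hB 1) (by rw [← c.F.sm_w]; exact hB w4)
    rw [c.F.herm_sm, mul_eq_zero] at h2
    refine h2.elim (fun hb0 => hs0 (hβ0 hb0)) fun h3 => hne ?_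
    rw [P.herm_rc] at h3
    simpa only [P.rc_sv, hv, P.rc_vec] using h3
  have h3 := (key 1 0 (Or.inl one_ne_zero)).trans (key 0 1 (Or.inr one_ne_zero)).symm
  have h4 := mul_left_cancel (mul_right_cancel h3)
  have h5 := P.RB_sq (P.rr_mem (yv ![1, 0, 0, 0]))
  nth_rw 2 [h4] at h5
  rw [P.rr_mul (yv_sum _) (yv_sum _), P.rr_eq_one (by simp [Finset.sum_add_distrib, yv_sum])] at h5
  exact absurd (h5 4) (by decide +kernel)

/-- The stabiliser is transitive on the non-trivial elements fixing the plane pointwise. -/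
theorem AB_trans {σ τ : Equiv.Perm (c.ι → ZMod 2)} (hσ : σ ∈ P.AB) (hσ1 : σ ≠ 1) (hτ : τ ∈ P.AB) (hτ1 : τ ≠ 1) :
    P.Rel σ τ := by
  have hall : ∀ υ ∈ P.AB, υ ≠ 1 → P.Rel (P.rr (yv ![1, 0, 0, 0])) υ := by
    intro υ hυ hυ1
    obtain ⟨q, rfl⟩ := P.mem_AB.mp hυ
    by_cases h : q 2 ≠ 0 ∨ q 3 ≠ 0
    · exact Rel.trans P P.link (P.Rel_mixed h)
    push Not at h
    rw [h.1, h.2, show kk 0 0 = 1 by decide +kernel, P.gp_one, mul_one,
      show yv q = yv ![q 0, q 1, 0, 0] from rfl] at hυ1 ⊢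
    refine P.Rel_pure ?_
    by_contra h01
    push Not at h01
    rw [h01.1, h01.2] at hυ1
    exact hυ1 ((P.rr_eq_one (yv_sum _)).mpr (by decide +kernel))
  exact Rel.trans P (Rel.symm P (hall σ hσ hσ1)) (hall τ hτ hτ1)

end LinePt

end Ctx

end Cfsg.Lib.LargeFischer
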