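import Cfsg.Agent.LargeFischer.Intersections
import Cfsg.Agent.LargeFischer.OuterSym
import Cfsg.Agent.ThreeTransposition.M22Count.Pair.OrthSix

/-!
The stabiliser of a non-central involution of the extraspecial subgroup in a group of large Fischer type.
-/

set_option autoImplicit false
set_option maxRecDepth 100000
set_option maxHeartbeats 1000000
set_option linter.unusedSectionVars false
set_option linter.style.haveILetI false

namespace Cfsg.Lib.LargeFischer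

open Subgroup QuadraticMap
open Cfsg.Lib.LargeExtra (X2)
open Cfsg.Lib.LargeExtra.OutExtra

universe u

variable {G : Type u} [Group G] [Finite G] {z : G} {Q : Subgroup (centralizer ({z} : Set G))} [Q.Normal]

/-- A two-group of permutations of six points normalised by the even ones is trivial. -/
theorem perm_two_trivial (P : Subgroup (Equiv.Perm (Fin 6))) (h2 : IsPGroup 2 ↥P)
    (hn : ∀ τ ∈ alternatingGroup (Fin 6), ∀ σ ∈ P, τ * σ * τ⁻¹ ∈ P) : P = ⊥ := by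
  have hA : P ⊓ alternatingGroup (Fin 6) = ⊥ := by
    refine (disjoint_alt P (alternatingGroup (Fin 6)) h2 ⟨MulEquiv.refl _⟩ ?_).1
    intro τ hτ
    exact Cfsg.Lib.Coprime.mem_normalizer_of_conj_mem (hn τ hτ) (fun σ hσ => hn τ⁻¹ ((alternatingGroup (Fin 6)).inv_mem hτ) σ hσ)
  refine (eq_bot_iff_forall P).mpr fun σ hσ => ?_
  have hc : ∀ τ ∈ alternatingGroup (Fin 6), σ * τ = τ * σ := fun τ hτ => by
    have h1 : τ * σ * τ⁻¹ * σ⁻¹ ∈ P ⊓ alternatingGroup (Fin 6) := by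
      refine Subgroup.mem_inf.mpr ⟨mul_mem (hn τ hτ σ hσ) (inv_mem hσ), ?_⟩
      show τ * σ * τ⁻¹ * σ⁻¹ ∈ alternatingGroup (Fin 6)
      rw [show τ * σ * τ⁻¹ * σ⁻¹ = τ * (σ * τ⁻¹ * σ⁻¹) by group]
      exact mul_mem hτ ((inferInstance : (alternatingGroup (Fin 6)).Normal).conj_mem _ (inv_mem hτ) σ)
    rw [hA, mem_bot, mul_inv_eq_one, mul_inv_eq_iff_eq_mul] at h1
    exact h1.symm
  have hm : ∀ a b c d : Fin 6, a ≠ b → c ≠ d → Equiv.swap a b * Equiv.swap c d ∈ alternatingGroup (Fin 6) := by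
    intro a b c d hab hcd
    rw [Equiv.Perm.mem_alternatingGroup, map_mul, Equiv.Perm.sign_swap hab, Equiv.Perm.sign_swap hcd]
    rfl
  exact perm_six_central σ (hc _ (hm _ _ _ _ (by decide) (by decide))) (hc _ (hm _ _ _ _ (by decide) (by decide)))
    (hc _ (hm _ _ _ _ (by decide) (by decide))) (hc _ (hm _ _ _ _ (by decide) (by decide)))

namespace Ctx

variable (c : Ctx z Q)

/-- Conjugates of `z` in `Q` are exactly in the large orbit. -/
theorem big_conj (hz : ∃ g : G, (∃ hq : g * z * g⁻¹ ∈ centralizer ({z} : Set G),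
      (⟨g * z * g⁻¹, hq⟩ : centralizer ({z} : Set G)) ∈ Q) ∧ g * z * g⁻¹ ≠ z)
    {x : ↥Q} (hx2 : orderOf (x : ↥(centralizer ({z} : Set G))) = 2)
    (hxz : ((x : ↥(centralizer ({z} : Set G))) : G) ≠ z) (hnot : c.pt x ∉ c.F.orb c.F.v0) :
    IsConj z ((x : ↥(centralizer ({z} : Set G))) : G) := by
  obtain ⟨s, t, -, hs2, ht2, hsz, htz, -, hconj, hns, h1701, -, -, hall, -⟩ := c.exists_points
  obtain ⟨g, ⟨hq, hgQ⟩, hgne⟩ := hz
  have hgo : orderOf (⟨g * z * g⁻¹, hq⟩ : ↥(centralizer ({z} : Set G))) = 2 := by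
    rw [← Subgroup.orderOf_coe]
    exact (orderOf_injective (MulAut.conj g).toMonoidHom (MulAut.conj g).injective z).trans
      (orderOf_eq_prime (by rw [pow_two]; exact c.X2g.zz) c.X2g.ne)
  have htconj : IsConj z ((t : ↥(centralizer ({z} : Set G))) : G) := by
    rcases hconj _ hgQ hgo hgne with ⟨h, hh⟩ | ⟨h, hh⟩
    · exact absurd ((isConj_iff.mpr ⟨g, rfl⟩).trans (isConj_iff.mpr ⟨(h : G), congrArg Subtype.val hh⟩).symm) hns
    · exact (isConj_iff.mpr ⟨g, rfl⟩).trans (isConj_iff.mpr ⟨(h : G), congrArg Subtype.val hh⟩).symm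
  obtain ⟨hq0, hne0⟩ := c.sing x.2 hx2 hxz
  have hv0 : c.F.v0 ∈ c.F.orb (c.pt s) := by
    have hs : c.F.q c.F.v0 = 0 ∧ c.F.v0 ≠ 0 := (c.F.sing_iff _).mpr (show Sing6 (fun i => code4 (FSetting.v0c i)) by decide +kernel)
    refine (hall _ hs.1 hs.2).resolve_right fun h => ?_
    have h2 := c.F.v0_card
    rw [c.F.orb_eq h, h1701] at h2
    norm_num at h2
  have hxt : c.pt x ∈ c.F.orb (c.pt t) := (hall _ hq0 hne0).resolve_left fun h => hnot (by rwa [c.F.orb_eq hv0])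
  obtain ⟨h, hh⟩ := c.conj_of_orb hxt htz (fun e => by rw [e, orderOf_one] at ht2; norm_num at ht2)
  exact htconj.trans (isConj_iff.mpr ⟨(h : G), congrArg Subtype.val hh⟩)

/-- The exchange of two planes is not induced by the centraliser. -/
theorem no_swap (hz : ∃ g : G, (∃ hq : g * z * g⁻¹ ∈ centralizer ({z} : Set G),
      (⟨g * z * g⁻¹, hq⟩ : centralizer ({z} : Set G)) ∈ Q) ∧ g * z * g⁻¹ ≠ z)
    (d : ↥(centralizer ({z} : Set G)))
    (hd : ∀ v, rep Q c.D d v = c.F.mk6 (fun i => c.F.co (Equiv.swap (0 : Fin 6) 1 i) v)) : False := by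
  classical
  haveI : Fact (Nat.Prime 2) := ⟨Nat.prime_two⟩
  obtain ⟨f, hu, hfs, hout, hfix⟩ := c.F.exists_outside
  obtain ⟨hq0, hne0⟩ := (c.F.sing_iff f).mpr hfs
  obtain ⟨x, hx, hx2, hxz⟩ := c.lift _ hq0 hne0
  obtain ⟨g, hg⟩ := isConj_iff.mp (c.big_conj hz hx2 hxz (hx ▸ hout))
  have hx1 : (x : ↥(centralizer ({z} : Set G))) ≠ 1 := fun e => by rw [e, orderOf_one] at hx2; norm_num at hx2
  obtain ⟨L, hL, hLA, hLmono, hLall⟩ := c.F.stab_vec hu
  rw [← hx] at hL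
  obtain ⟨h32, h2, hbot, hdvd⟩ := c.local_bound hg hxz hx1 L hL hLA
  obtain ⟨s, t, Lt, hs2, ht2, hsz, htz, -, -, -, h1701, -, -, hall, hsep⟩ := c.exists_points
  have hxt : c.pt x ∈ c.F.orb (c.pt t) := by
    refine (hall _ (hx ▸ hq0) (hx ▸ hne0)).resolve_left fun h => hout ?_
    have hv0 : c.F.v0 ∈ c.F.orb (c.pt s) := by
      have hsv : c.F.q c.F.v0 = 0 ∧ c.F.v0 ≠ 0 :=
        (c.F.sing_iff _).mpr (show Sing6 (fun i => code4 (FSetting.v0c i)) by decide +kernel)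
      refine (hall _ hsv.1 hsv.2).resolve_right fun h => ?_
      have h2 := c.F.v0_card
      rw [c.F.orb_eq h, h1701] at h2
      norm_num at h2
    rw [c.F.orb_eq hv0, ← hx]
    exact h
  have horb : Nat.card ↥(c.F.orb (c.pt x)) = 1701 := by rw [c.F.orb_eq hxt, h1701]
  rw [horb] at hdvd
  set RB := (c.RC g).map (rep Q c.D) with hRB
  set LP := L.map ((rep Q c.D).comp c.M.subtype).range.subtype with hLP
  have h16 : Nat.card ↥((c.RC g ⊓ c.M).map (rep Q c.D)) ≤ 16 := by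
    refine Nat.le_of_dvd (by norm_num) (Nat.dvd_of_mul_dvd_mul_right (by norm_num : 0 < 360 * 1701) ?_)
    rw [← mul_assoc, show (16 : ℕ) * (360 * 1701) = 9797760 by norm_num]
    exact hdvd
  have hRB32 : Nat.card ↥RB = 32 := by omega
  have hP : IsPGroup 2 ↥RB := (c.RC_isP g).map _
  have hLP' : Nonempty (↥LP ≃* alternatingGroup (Fin 6)) := by
    obtain ⟨e⟩ := hLA
    exact ⟨(L.equivMapOfInjective _ (Subgroup.subtype_injective _)).symm.trans e⟩
  have hLPfix : ∀ y ∈ LP, ∃ m : ↥(centralizer ({z} : Set G)), m ∈ c.M ∧ rep Q c.D m = y ∧ rep Q c.D m (c.pt x) = c.pt x := by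
    rintro _ ⟨⟨_, m, rfl⟩, hl, rfl⟩
    have h := hL _ hl
    rw [c.Fρ] at h
    exact ⟨(m : ↥(centralizer ({z} : Set G))), m.2, rfl, h⟩
  have hnorm : LP ≤ normalizer (RB : Set (Equiv.Perm (c.ι → ZMod 2))) := fun y hy => by
    obtain ⟨m, hm, rfl, hf⟩ := hLPfix y hy
    exact (c.normalises hg hxz hx1 hm hf).1
  obtain ⟨-, hsupcard⟩ := disjoint_alt RB LP hP hLP' hnorm
  set PC := (pairCent z ((x : ↥(centralizer ({z} : Set G))) : G)).map (rep Q c.D) with hPC
  have hst := c.stab_map x hxz hx1 (fun v => ⟨fun ⟨⟨_, m, rfl⟩, hm⟩ => ⟨(m : ↥(centralizer ({z} : Set G))),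
      by rw [c.Fρ] at hm; exact hm⟩, fun ⟨d', hd'⟩ => by
    subst hd'
    have hq : c.F.q (rep Q c.D d' (c.pt x)) = 0 := by rw [c.Fq, rep_q, ← c.Fq, hx]; exact hq0
    have hz0 : rep Q c.D d' (c.pt x) ≠ 0 := fun e => (hx ▸ hne0) ((rep Q c.D d').injective
      (e.trans (map_zero (c.D.lin (MulAut.conjNormal d'))).symm))
    rw [c.F.orb_eq hxt]
    refine (hall _ hq hz0).resolve_left ?_
    rintro ⟨⟨_, m, rfl⟩, hm⟩
    rw [c.Fρ] at hm
    obtain ⟨⟨_, k, rfl⟩, hk⟩ := hxt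
    rw [c.Fρ] at hk
    refine hsep ((k : ↥(centralizer ({z} : Set G)))⁻¹ * d'⁻¹ * (m : ↥(centralizer ({z} : Set G)))) ?_
    rw [map_mul, map_mul, Equiv.Perm.mul_apply, Equiv.Perm.mul_apply,
      show rep Q c.D (m : ↥(centralizer ({z} : Set G))) (c.pt s) = rep Q c.D d' (c.pt x) from hm, map_inv, map_inv,
      Equiv.Perm.coe_inv, Equiv.Perm.coe_inv, Equiv.symm_apply_apply, ← show rep Q c.D (k : ↥(centralizer ({z} : Set G))) (c.pt t) = c.pt x from hk,
      Equiv.symm_apply_apply]⟩) 1701 horb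
  have hPCc : Nat.card ↥PC = 11520 :=
    Nat.eq_of_mul_eq_mul_left (by norm_num : (0 : ℕ) < 1701) (hst.trans (by norm_num))
  have hsup : RB ⊔ LP = PC := by
    refine eq_of_le_of_card_ge (sup_le (map_mono fun r hr => mem_pairCent.mpr (c.RC_fix hg hr)) ?_) ?_
    · intro y hy
      obtain ⟨m, hm, rfl, hf⟩ := hLPfix y hy
      obtain ⟨h, hh, hρ, -⟩ := c.conj_of_rep m x x hf hxz hx1
      exact ⟨h, mem_pairCent.mpr hh, hρ⟩
    · rw [hsupcard, hRB32, hPCc]
  -- the exchange lies in the stabiliser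
  have hdPC : rep Q c.D d ∈ PC := by
    obtain ⟨h, hh, hρ, -⟩ := c.conj_of_rep d x x (by rw [hd, hx]; exact hfix) hxz hx1
    exact ⟨h, mem_pairCent.mpr hh, hρ⟩
  rw [← hsup, sup_comm, ← SetLike.mem_coe, coe_mul_of_left_le_normalizer_right LP RB hnorm] at hdPC
  obtain ⟨l, hl, r, hr, hlr⟩ := hdPC
  -- supports
  have hmonoLP : ∀ y ∈ LP, ∃ σ ∈ alternatingGroup (Fin 6), c.F.Mono σ ⇑y := by
    rintro _ ⟨l', hl', rfl⟩
    obtain ⟨n, hn, hne⟩ := hLmono l' hl'
    refine ⟨c.F.π n, hne, ?_⟩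
    have h := FSetting.Mono.nh c.F n
    rw [hn, c.Fρ] at h
    exact h
  let P : Subgroup (Equiv.Perm (Fin 6)) :=
    { carrier := {σ | ∃ y ∈ RB, c.F.Mono σ ⇑y}
      one_mem' := ⟨1, one_mem _, FSetting.Mono.one c.F⟩
      mul_mem' := by
        rintro σ τ ⟨y, hy, hσ⟩ ⟨y', hy', hτ⟩
        exact ⟨y * y', mul_mem hy hy', FSetting.Mono.mul c.F hσ hτ⟩
      inv_mem' := by
        rintro σ ⟨y, hy, hσ⟩
        exact ⟨y⁻¹, inv_mem hy, hσ.symm c.F⟩ }
  have hP2 : IsPGroup 2 ↥P := by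
    rintro ⟨σ, y, hy, hσ⟩
    obtain ⟨k, hk⟩ := hP ⟨y, hy⟩
    refine ⟨k, Subtype.ext ?_⟩
    have hpow : ∀ n : ℕ, c.F.Mono (σ ^ n) ⇑(y ^ n) := by
      intro n
      induction n with
      | zero => rw [pow_zero, pow_zero]; exact FSetting.Mono.one c.F
      | succ n ih => rw [pow_succ, pow_succ]; exact FSetting.Mono.mul c.F ih hσ
    have h := hpow (2 ^ k)
    rw [show y ^ 2 ^ k = 1 from congrArg Subtype.val hk] at h
    exact FSetting.Mono.unique c.F h (FSetting.Mono.one c.F)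
  have hPn : ∀ τ ∈ alternatingGroup (Fin 6), ∀ σ ∈ P, τ * σ * τ⁻¹ ∈ P := by
    rintro τ hτ σ ⟨y, hy, hσ⟩
    obtain ⟨n, hn, hnτ⟩ := hLall τ hτ
    have hm := FSetting.Mono.nh c.F n
    rw [c.Fρ, hnτ] at hm
    set p : Equiv.Perm (c.ι → ZMod 2) := ((n : ↥((rep Q c.D).comp c.M.subtype).range) : Equiv.Perm (c.ι → ZMod 2))
    refine ⟨p * y * p⁻¹, (mem_normalizer_iff.mp (hnorm ⟨_, hn, rfl⟩) y).mp hy, ?_⟩
    exact FSetting.Mono.mul c.F (FSetting.Mono.mul c.F hm hσ) (FSetting.Mono.symm c.F hm)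
  have hbotP := perm_two_trivial P hP2 hPn
  obtain ⟨σl, hσl, hml⟩ := hmonoLP l hl
  have hr' : r = l⁻¹ * rep Q c.D d := by rw [← hlr]; group
  have hmr : σl⁻¹ * Equiv.swap (0 : Fin 6) 1 ∈ P := ⟨r, hr, by
    rw [hr']
    exact FSetting.Mono.mul c.F (FSetting.Mono.symm c.F hml) (FSetting.Mono.swap c.F hd)⟩
  rw [hbotP, mem_bot, inv_mul_eq_one] at hmr
  rw [hmr, Equiv.Perm.mem_alternatingGroup, Equiv.Perm.sign_swap (by decide : (0 : Fin 6) ≠ 1)] at hσl
  exact absurd hσl (by decide)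

/-- The centre of the image of the normal subgroup of index two. -/
theorem center_image (hS : IsSimpleGroup c.S) (hSc : ¬ IsMulCommutative c.S) :
    ∀ g ∈ center ↥((rep Q c.D).comp c.M.subtype).range, ∃ j, g = pw3 c.F.E.ω j := fun g hg => by
  haveI := hS
  refine c.F.E.ω_onto ?_
  have h1 : c.F.E.ψ g ∈ center c.S := mem_center_iff.mpr fun y => by
    obtain ⟨y', rfl⟩ := c.F.E.surj y
    rw [← map_mul, ← map_mul, mem_center_iff.mp hg y']
  rcases IsSimpleGroup.eq_bot_or_eq_top_of_normal (center c.S) inferInstance with h | h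
  · rwa [h, mem_bot] at h1
  · exact absurd ⟨⟨fun a b => (mem_center_iff.mp (h ▸ mem_top b : b ∈ center c.S) a)⟩⟩ hSc

/-- The stabiliser of the base point. -/
theorem stab_iso (hz : ∃ g : G, (∃ hq : g * z * g⁻¹ ∈ centralizer ({z} : Set G),
      (⟨g * z * g⁻¹, hq⟩ : centralizer ({z} : Set G)) ∈ Q) ∧ g * z * g⁻¹ ≠ z)
    (hS : IsSimpleGroup c.S) (hSc : ¬ IsMulCommutative c.S) :
    Nonempty (↥((rep Q c.D).range ⊓ MulAction.stabilizer (Equiv.Perm (c.ι → ZMod 2)) c.F.v0) ≃*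
      Cfsg.isometryGroup (ZMod 2) (Cfsg.quadFormMinus 2 (ZMod 2) 1 1)) := by
  classical
  haveI := c.Mn
  set St := (rep Q c.D).range ⊓ MulAction.stabilizer (Equiv.Perm (c.ι → ZMod 2)) c.F.v0 with hSt
  set K := c.F.K0.map ((rep Q c.D).comp c.M.subtype).range.subtype with hK
  have hXnorm : ∀ y ∈ (rep Q c.D).range, ∀ k ∈ ((rep Q c.D).comp c.M.subtype).range,
      y * k * y⁻¹ ∈ ((rep Q c.D).comp c.M.subtype).range := by
    rintro _ ⟨d, rfl⟩ _ ⟨m, rfl⟩
    exact ⟨⟨d * m * d⁻¹, c.Mn.conj_mem _ m.2 d⟩, by simp⟩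
  have hmemK : ∀ k, k ∈ K ↔ k ∈ ((rep Q c.D).comp c.M.subtype).range ∧ k c.F.v0 = c.F.v0 := by
    intro k
    constructor
    · rintro ⟨k', hk', rfl⟩
      refine ⟨k'.2, ?_⟩
      have h : c.F.ρ k' c.F.v0 = c.F.v0 := hk'
      rw [c.Fρ] at h
      exact h
    · rintro ⟨h1, h2⟩
      refine ⟨⟨k, h1⟩, ?_, rfl⟩
      show c.F.ρ ⟨k, h1⟩ c.F.v0 = c.F.v0
      rw [c.Fρ]
      exact h2
  have hKle : K ≤ St := fun k hk => by
    obtain ⟨⟨m, rfl⟩, hk2⟩ := (hmemK k).mp hk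
    exact ⟨⟨(m : ↥(centralizer ({z} : Set G))), rfl⟩, hk2⟩
  haveI hKn : (K.subgroupOf St).Normal := ⟨fun a ha b => by
    rw [mem_subgroupOf] at ha ⊢
    obtain ⟨h1, h2⟩ := (hmemK _).mp ha
    refine (hmemK _).mpr ⟨hXnorm _ b.2.1 _ h1, ?_⟩
    have h := ((b * a * b⁻¹ : ↥St)).2.2
    exact h⟩
  let φ : ↥St →* MulAut ↥(K.subgroupOf St) := MulAut.conjNormal
  have eK : ↥c.F.K0 ≃* ↥(K.subgroupOf St) :=
    (c.F.K0.equivMapOfInjective _ (Subgroup.subtype_injective _)).trans (subgroupOfEquivOfLe hKle).symm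
  let eP : ↥(K.subgroupOf St) ≃* Cfsg.PSU 4 F4 2 := eK.symm.trans ((MulEquiv.ofBijective _ c.F.toSU_bijective).trans
    (QuotientGroup.quotientBot.symm.trans (QuotientGroup.quotientMulEquivOfEq center_su_four.symm)))
  obtain ⟨eI⟩ := Cfsg.Lib.ThreeTr.OrthSix.isometry_equiv_mulAut (F := F4) card_F4
  let ψ : ↥St →* Cfsg.isometryGroup (ZMod 2) (Cfsg.quadFormMinus 2 (ZMod 2) 1 1) :=
    eI.toMonoidHom.comp ((MulAut.congr eP).toMonoidHom.comp φ)
  have hinjφ : Function.Injective φ := by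
    refine (injective_iff_map_eq_one φ).mpr fun y hy => ?_
    obtain ⟨d, hd⟩ := y.2.1
    have hfix : (y : Equiv.Perm (c.ι → ZMod 2)) c.F.v0 = c.F.v0 := y.2.2
    have hcomm : ∀ k ∈ K, (y : Equiv.Perm (c.ι → ZMod 2)) * k = k * y := fun k hk => by
      have h := congrArg (fun e : MulAut ↥(K.subgroupOf St) => ((e ⟨⟨k, hKle hk⟩, hk⟩ : ↥(K.subgroupOf St)) : ↥St)) hy
      simp only [φ, MulAut.conjNormal_apply, MulAut.one_apply] at h
      exact mul_inv_eq_iff_eq_mul.mp (congrArg Subtype.val h)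
    set ω := c.F.E.ω with hω
    let ω' : ↥((rep Q c.D).comp c.M.subtype).range :=
      ⟨(y : Equiv.Perm (c.ι → ZMod 2)) * (ω : Equiv.Perm (c.ι → ZMod 2)) * (y : Equiv.Perm (c.ι → ZMod 2))⁻¹,
        hXnorm _ y.2.1 _ ω.2⟩
    have hω'c : ω' ∈ center _ := mem_center_iff.mpr fun k => Subtype.ext (by
      have hk := hXnorm _ (inv_mem y.2.1) _ k.2
      have hc := congrArg Subtype.val (mem_center_iff.mp (c.F.E.central c.F.E.ω_mem) ⟨_, hk⟩)
      simp only [Subgroup.coe_mul, inv_inv] at hc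
      show (k : Equiv.Perm (c.ι → ZMod 2)) * ((y : Equiv.Perm (c.ι → ZMod 2)) * (ω : Equiv.Perm (c.ι → ZMod 2)) * (y : Equiv.Perm (c.ι → ZMod 2))⁻¹) =
        (y : Equiv.Perm (c.ι → ZMod 2)) * (ω : Equiv.Perm (c.ι → ZMod 2)) * (y : Equiv.Perm (c.ι → ZMod 2))⁻¹ * k
      calc _ = (y : Equiv.Perm (c.ι → ZMod 2)) * ((y : Equiv.Perm (c.ι → ZMod 2))⁻¹ * k * y * ω) * (y : Equiv.Perm (c.ι → ZMod 2))⁻¹ := by group
        _ = _ := by rw [hc, ← hω]; group)
    obtain ⟨j, hj⟩ := c.center_image hS hSc ω' hω'c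
    have hom : ∀ a, (y : Equiv.Perm (c.ι → ZMod 2)) (c.F.om a) = c.F.W.t (j • Pi.single 0 1) ((y : Equiv.Perm (c.ι → ZMod 2)) a) := by
      intro a
      rw [FSetting.W_t, show (j • (Pi.single 0 1 : C5)) = Pi.single 0 j by rw [← Pi.single_smul', smul_eq_mul, mul_one],
        c.F.E.α_e, ← hj, show c.F.om a = c.F.ρ ω a from by rw [FSetting.om, FSetting.W_t, c.F.E.α_e, pw3_one], c.Fρ]
      show (y : Equiv.Perm (c.ι → ZMod 2)) ((ω : Equiv.Perm (c.ι → ZMod 2)) a) =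
        ((y : Equiv.Perm (c.ι → ZMod 2)) * (ω : Equiv.Perm (c.ι → ZMod 2)) * (y : Equiv.Perm (c.ι → ZMod 2))⁻¹) ((y : Equiv.Perm (c.ι → ZMod 2)) a)
      rw [Equiv.Perm.mul_apply, Equiv.Perm.mul_apply, Equiv.Perm.coe_inv, Equiv.symm_apply_apply]
    have hsq : ∃ g : ↥((rep Q c.D).comp c.M.subtype).range, ∀ a,
        (y : Equiv.Perm (c.ι → ZMod 2)) ((y : Equiv.Perm (c.ι → ZMod 2)) a) = c.F.ρ g a := by
      refine ⟨⟨rep Q c.D (d * d), ⟨d * d, by
        simpa [pow_two] using Subgroup.sq_mem_of_index_two c.Mi d⟩, rfl⟩, fun a => ?_⟩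
      rw [c.Fρ]
      show _ = rep Q c.D (d * d) a
      rw [map_mul, hd]
      rfl
    rcases c.F.centralizing (c := ⇑(y : Equiv.Perm (c.ι → ZMod 2))) (fun a b => by rw [← hd]; exact rep_add Q c.D d a b)
        (fun a => by rw [← hd, c.Fq]; exact rep_q Q c.D d a) (y : Equiv.Perm (c.ι → ZMod 2)).injective hom hfix
        (fun g hg a => by
          have h := congrArg (fun e : Equiv.Perm (c.ι → ZMod 2) => e a) (hcomm _ (mem_map_of_mem _ hg))
          rw [c.Fρ]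
          exact h) hsq with h | h
    · exact Subtype.ext (Equiv.ext h)
    · exact (c.no_swap hz d fun v => by rw [hd]; exact h v).elim
  refine ⟨MulEquiv.ofBijective ψ ((Nat.bijective_iff_injective_and_card _).mpr
    ⟨eI.injective.comp ((MulAut.congr eP).injective.comp hinjφ), ?_⟩)⟩
  have hO : Nat.card ↥(Cfsg.isometryGroup (ZMod 2) (Cfsg.quadFormMinus 2 (ZMod 2) 1 1)) = 51840 := by
    have := Cfsg.Lib.Classical.OrthCard.card_minus (F := ZMod 2) Cfsg.Lib.ThreeTr.OrthSix.aniso 2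
    rw [Nat.card_zmod] at this
    rw [this]
    norm_num [Cfsg.Lib.Classical.OrthCard.prodQ, Finset.prod_range_succ]
  rw [hO]
  letI : MulAction ↥(centralizer ({z} : Set G)) (c.ι → ZMod 2) := MulAction.compHom _ (rep Q c.D)
  have hmap : St = (MulAction.stabilizer ↥(centralizer ({z} : Set G)) c.F.v0).map (rep Q c.D) := by
    ext k
    constructor
    · rintro ⟨⟨d, rfl⟩, hk⟩; exact ⟨d, hk, rfl⟩
    · rintro ⟨d, hd, rfl⟩; exact ⟨⟨d, rfl⟩, hd⟩
  obtain ⟨s, t, -, hs2, ht2, hsz, htz, -, -, -, h1701, -, -, hall, hsep⟩ := c.exists_points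
  have hsv : c.F.q c.F.v0 = 0 ∧ c.F.v0 ≠ 0 :=
    (c.F.sing_iff _).mpr (show Sing6 (fun i => code4 (FSetting.v0c i)) by decide +kernel)
  have hv0 : c.F.v0 ∈ c.F.orb (c.pt s) := by
    refine (hall _ hsv.1 hsv.2).resolve_right fun h => ?_
    have h2 := c.F.v0_card
    rw [c.F.orb_eq h, h1701] at h2
    norm_num at h2
  have horb : MulAction.orbit ↥(centralizer ({z} : Set G)) c.F.v0 = c.F.orb c.F.v0 := by
    ext v
    constructor
    · rintro ⟨d, rfl⟩
      show rep Q c.D d c.F.v0 ∈ _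
      have hq : c.F.q (rep Q c.D d c.F.v0) = 0 := by rw [c.Fq, rep_q, ← c.Fq]; exact hsv.1
      have hne : rep Q c.D d c.F.v0 ≠ 0 := fun e => hsv.2 ((rep Q c.D d).injective
        (e.trans (map_zero (c.D.lin (MulAut.conjNormal d))).symm))
      rw [c.F.orb_eq hv0]
      refine (hall _ hq hne).resolve_right ?_
      rintro ⟨⟨_, m, rfl⟩, hm⟩
      rw [c.Fρ] at hm
      obtain ⟨⟨_, k, rfl⟩, hk⟩ := hv0
      rw [c.Fρ] at hk
      refine hsep ((m : ↥(centralizer ({z} : Set G)))⁻¹ * d * (k : ↥(centralizer ({z} : Set G)))) ?_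
      rw [map_mul, map_mul, Equiv.Perm.mul_apply, Equiv.Perm.mul_apply,
        show rep Q c.D (k : ↥(centralizer ({z} : Set G))) (c.pt s) = c.F.v0 from hk, map_inv,
        ← show rep Q c.D (m : ↥(centralizer ({z} : Set G))) (c.pt t) = rep Q c.D d c.F.v0 from hm,
        Equiv.Perm.coe_inv, Equiv.symm_apply_apply]
    · rintro ⟨⟨_, m, rfl⟩, hm⟩
      rw [c.Fρ] at hm
      exact ⟨(m : ↥(centralizer ({z} : Set G))), hm⟩
  have h := card_eq_card_quotient_mul_card_subgroup (MulAction.stabilizer ↥(centralizer ({z} : Set G)) c.F.v0)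
  rw [← Nat.card_congr (MulAction.orbitEquivQuotientStabilizer ↥(centralizer ({z} : Set G)) c.F.v0), horb, c.F.v0_card,
    c.card_map_rep (MulAction.stabilizer ↥(centralizer ({z} : Set G)) c.F.v0), ← hmap,
    show MulAction.stabilizer ↥(centralizer ({z} : Set G)) c.F.v0 ⊓ Q = Q from inf_of_le_right (fun q hq =>
      show rep Q c.D q c.F.v0 = c.F.v0 by rw [MonoidHom.mem_ker.mp (c.ker.symm ▸ hq : q ∈ (rep Q c.D).ker)]; rfl),
    ← c.M.card_mul_index, c.Mi, c.Mcard, c.card, ← mul_assoc] at h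
  have h' : 3 * 3265920 * 2 = 378 * Nat.card ↥St :=
    Nat.eq_of_mul_eq_mul_right (Nat.two_pow_pos 13) ((by norm_num : _ = _).trans h)
  omega

theorem not_comm : ¬ IsMulCommutative c.S := fun h => by
  haveI := h
  haveI := c.Ssimple
  haveI : Nontrivial c.S := c.Ssimple.toNontrivial
  letI : CommGroup c.S := { (inferInstance : Group c.S) with mul_comm := fun a b => h.is_comm.comm a b }
  have hp := IsSimpleGroup.prime_card (α := c.S)
  rw [c.Scard] at hp
  exact absurd (hp.eq_one_or_self_of_dvd 2 (by norm_num)) (by norm_num)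

include c in
/-- The stabiliser of a non-central involution. -/
theorem stabilizer_iso (hz : ∃ g : G, (∃ hq : g * z * g⁻¹ ∈ centralizer ({z} : Set G),
      (⟨g * z * g⁻¹, hq⟩ : centralizer ({z} : Set G)) ∈ Q) ∧ g * z * g⁻¹ ≠ z)
    {t : ↥(centralizer ({z} : Set G))} (htQ : t ∈ Q) (ht2 : orderOf t = 2) (ht : ¬ IsConj z (t : G))
    (S : Subgroup ↥(centralizer ({z} : Set G)))
    (hS : ∀ h : ↥(centralizer ({z} : Set G)), h ∈ S ↔
      (h * t * h⁻¹ = t ∨ ((h * t * h⁻¹ : ↥(centralizer ({z} : Set G))) : G) = t * z)) :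
    Nonempty (↥(S.map (QuotientGroup.mk' Q)) ≃* Cfsg.isometryGroup (ZMod 2) (Cfsg.quadFormMinus 2 (ZMod 2) 1 1)) := by
  classical
  obtain ⟨e0⟩ := c.stab_iso hz c.Ssimple c.not_comm
  have htz : (t : G) ≠ z := fun e => ht (by rw [e])
  have ht1 : t ≠ 1 := fun e => by rw [e, orderOf_one] at ht2; norm_num at ht2
  set x : ↥Q := ⟨t, htQ⟩ with hx
  have hxorb : c.pt x ∈ c.F.orb c.F.v0 := by_contra fun h => ht (c.big_conj hz (x := x) ht2 htz h)
  obtain ⟨⟨_, m, rfl⟩, hm⟩ := hxorb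
  rw [c.Fρ] at hm
  set d : ↥(centralizer ({z} : Set G)) := (m : ↥(centralizer ({z} : Set G)))
  have hd : rep Q c.D d c.F.v0 = c.pt x := hm
  have hpt : ∀ h, h ∈ S ↔ rep Q c.D h (c.pt x) = c.pt x := by
    intro h
    rw [hS, c.act]
    constructor
    · intro hh
      refine c.D.eq_iff.mpr ?_
      rcases hh with hh | hh
      · rw [show MulAut.conjNormal h x = x from Subtype.ext (by rw [MulAut.conjNormal_apply]; exact hh), inv_mul_cancel]
        exact one_mem _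
      · rw [show MulAut.conjNormal h x = x * c.zq from Subtype.ext (Subtype.ext (by
          rw [MulAut.conjNormal_apply, hh, Subgroup.coe_mul, Subgroup.coe_mul, c.zv])), mul_inv_rev, inv_mul_cancel_right]
        exact inv_mem (c.D.es.cen.symm ▸ mem_zpowers c.zq)
    · intro hh
      rcases center_cases c.D.es (c.D.eq_iff.mp hh) with e | e
      · left
        have := congrArg Subtype.val (inv_mul_eq_one.mp e)
        rw [MulAut.conjNormal_apply] at this
        exact this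
      · right
        rw [inv_mul_eq_iff_eq_mul] at e
        have := congrArg (fun w : ↥Q => ((w : ↥(centralizer ({z} : Set G))) : G)) e
        simp only [MulAut.conjNormal_apply, Subgroup.coe_mul, c.zv] at this ⊢
        have e2 := congrArg (· * z) this
        simp only [mul_assoc, c.X2g.zz, mul_one] at e2 ⊢
        exact e2.symm
  have hmap : S.map (rep Q c.D) = ((rep Q c.D).range ⊓ MulAction.stabilizer (Equiv.Perm (c.ι → ZMod 2)) c.F.v0).map
      (MulAut.conj (rep Q c.D d)).toMonoidHom := by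
    ext k
    constructor
    · rintro ⟨h, hh, rfl⟩
      refine ⟨rep Q c.D (d⁻¹ * h * d), ⟨⟨_, rfl⟩, ?_⟩, by simp [map_mul, mul_assoc]⟩
      show rep Q c.D (d⁻¹ * h * d) c.F.v0 = c.F.v0
      rw [map_mul, map_mul, Equiv.Perm.mul_apply, Equiv.Perm.mul_apply, hd, (hpt h).mp hh, ← hd, map_inv,
        Equiv.Perm.coe_inv, Equiv.symm_apply_apply]
    · rintro ⟨_, ⟨⟨h, rfl⟩, hk⟩, rfl⟩
      refine ⟨d * h * d⁻¹, (hpt _).mpr ?_, by simp [map_mul]⟩
      rw [map_mul, map_mul, Equiv.Perm.mul_apply, Equiv.Perm.mul_apply, map_inv, ← hd, Equiv.Perm.coe_inv,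
        Equiv.symm_apply_apply, show rep Q c.D h c.F.v0 = c.F.v0 from hk]
  let θ := QuotientGroup.lift Q (rep Q c.D) c.ker.ge
  have hθ : Function.Injective θ := by
    refine (injective_iff_map_eq_one θ).mpr fun a => ?_
    induction a using QuotientGroup.induction_on with
    | _ a => exact fun ha => (QuotientGroup.eq_one_iff a).mpr (c.ker ▸ (ha : rep Q c.D a = 1))
  refine ⟨((S.map (QuotientGroup.mk' Q)).equivMapOfInjective θ hθ).trans ((MulEquiv.subgroupCongr ?_).trans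
    (((equivMapOfInjective _ (MulAut.conj (rep Q c.D d)).toMonoidHom (MulAut.conj (rep Q c.D d)).injective).symm).trans e0))⟩
  rw [map_map]
  exact hmap

end Ctx

end Cfsg.Lib.LargeFischer
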