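import Cfsg.Agent.LargeFischer.Orbits
import Mathlib.Algebra.QuadraticAlgebra.Basic

/-!
The six planes as lines over the field with four elements.
-/

set_option autoImplicit false
set_option maxRecDepth 100000
set_option maxHeartbeats 1000000
set_option linter.unusedSectionVars false
set_option linter.style.haveILetI false

namespace Cfsg.Lib.LargeFischer

open Matrix Finset

universe u v w

/-- The field with four elements. -/
abbrev F4 : Type := QuadraticAlgebra (ZMod 2) 1 1

instance fact_four : Fact (∀ r : ZMod 2, r ^ 2 ≠ 1 + 1 * r) := ⟨by decide⟩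

instance fintype_four : Fintype F4 := Fintype.ofEquiv _ (QuadraticAlgebra.equivProd (1 : ZMod 2) 1).symm

theorem card_F4 : Fintype.card F4 = 4 := by
  rw [Fintype.card_congr (QuadraticAlgebra.equivProd (1 : ZMod 2) 1), Fintype.card_prod, ZMod.card]

/-- The primitive cube root of unity. -/
def w4 : F4 := ⟨0, 1⟩

theorem f4_two : ∀ a : F4, a + a = 0 := by decide +kernel

theorem f4_cases : ∀ a : F4, a = 0 ∨ a = 1 ∨ a = w4 ∨ a = 1 + w4 := by decide +kernel

theorem f4_cube : ∀ a : F4, a ≠ 0 → a ^ 3 = 1 := by decide +kernel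

/-- The code of a plane vector. -/
def code4 (a : F4) : Option (ZMod 3) :=
  if a = 0 then none else if a = 1 then some 0 else if a = w4 then some 1 else some 2

theorem code4_bijective : Function.Bijective code4 :=
  (Fintype.bijective_iff_injective_and_card _).mpr ⟨by
    intro a b h
    revert a b
    decide +kernel, by rw [card_F4]; rfl⟩

/-- Powers of the cube root with exponents modulo three. -/
def wp (k : ZMod 3) : F4 := w4 ^ k.val

theorem wp_mul : ∀ (k : ZMod 3) (a : F4), code4 (wp k * a) = (code4 a).map (· + k) := by decide +kernel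

namespace FSetting

variable {X : Type u} [Group X] {S : Type w} [Group S] {V : Type v} [AddCommGroup V] [Finite V]
  (F : FSetting X S V)

/-- Multiplication by the cube root. -/
noncomputable def om : V →+ V := F.W.t (Pi.single 0 1)

theorem Φ_e0 (i : Fin 6) : F.Φ (Pi.single 0 1) i = 1 := F.cs_e0 i

theorem om_pl (i : Fin 6) (k : ZMod 3) : F.om (F.pl i (some k)) = F.pl i (some (k + 1)) := by
  show F.W.t _ (F.W.t (k • Pi.single 0 1) _) = F.W.t ((k + 1) • Pi.single 0 1) _
  rw [← F.W.t_comp, add_smul, one_smul, add_comm]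

theorem om_comm (g : X) (a : V) : F.ρ g (F.om a) = F.om (F.ρ g a) := by
  show F.ρ g (F.ρ (F.E.α _) a) = F.ρ (F.E.α _) (F.ρ g a)
  rw [F.E.α_e, ← Equiv.Perm.mul_apply, ← map_mul, F.E.pw_comm, map_mul, Equiv.Perm.mul_apply]

theorem pl_sum (i : Fin 6) : F.pl i (some 0) + F.pl i (some 1) = F.pl i (some 2) := by
  obtain ⟨o, ho⟩ := F.pl_surj i (add_mem (F.pl_mem i (some 0)) (F.pl_mem i (some 1)))
  have hne : ∀ j k : ZMod 3, j ≠ k → F.pl i (some j) + F.pl i (some k) ≠ 0 := fun j k h e => h
    (Option.some.inj (F.pl_injective i ((eq_neg_of_add_eq_zero_left e).trans (F.W.neg_eq _))))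
  rcases o with _ | k
  · exact absurd ho.symm (hne 0 1 (by decide))
  · rcases (show ∀ r : ZMod 3, r = 0 ∨ r = 1 ∨ r = 2 by decide) k with rfl | rfl | rfl
    · have h := F.pl_injective i (show F.pl i (some 1) = F.pl i none from (left_eq_add.mp ho))
      exact absurd h (by simp)
    · have h := F.pl_injective i (show F.pl i (some 0) = F.pl i none from (right_eq_add.mp ho))
      exact absurd h (by simp)
    · exact ho.symm

/-- The vector of a scalar in a plane. -/
noncomputable def emb (i : Fin 6) (a : F4) : V := F.pl i (code4 a)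

theorem emb_eq (i : Fin 6) (a : F4) : F.emb i a = a.re.val • F.pl i (some 0) + a.im.val • F.pl i (some 1) := by
  rcases f4_cases a with rfl | rfl | rfl | rfl
  · show F.pl i none = (0 : ZMod 2).val • _ + (0 : ZMod 2).val • _
    simp; rfl
  · show F.pl i (some 0) = (1 : ZMod 2).val • _ + (0 : ZMod 2).val • _
    simp [ZMod.val_one]
  · show F.pl i (some 1) = (0 : ZMod 2).val • _ + (1 : ZMod 2).val • _
    simp [ZMod.val_one]
  · show F.pl i (some 2) = (1 : ZMod 2).val • _ + (1 : ZMod 2).val • _
    simp [ZMod.val_one, pl_sum]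

include F in
theorem zs_add (v : V) (a b : ZMod 2) : (a + b).val • v = a.val • v + b.val • v := by
  rcases (show ∀ r : ZMod 2, r = 0 ∨ r = 1 by decide) a with rfl | rfl <;>
    rcases (show ∀ r : ZMod 2, r = 0 ∨ r = 1 by decide) b with rfl | rfl <;> simp [ZMod.val_one, F.dbl, show (1 : ZMod 2) + 1 = 0 from rfl]

theorem emb_add (i : Fin 6) (a b : F4) : F.emb i (a + b) = F.emb i a + F.emb i b := by
  simp only [emb_eq, QuadraticAlgebra.re_add, QuadraticAlgebra.im_add, zs_add F]
  abel

theorem emb_zero (i : Fin 6) : F.emb i 0 = 0 := rfl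

theorem emb_injective (i : Fin 6) : Function.Injective (F.emb i) :=
  (F.pl_injective i).comp code4_bijective.1

theorem emb_mem (i : Fin 6) (a : F4) : F.emb i a ∈ F.W.space (F.cs i) := F.pl_mem i _

theorem emb_surj (i : Fin 6) {a : V} (ha : a ∈ F.W.space (F.cs i)) : ∃ x, F.emb i x = a := by
  obtain ⟨o, ho⟩ := F.pl_surj i ha
  obtain ⟨x, hx⟩ := code4_bijective.2 o
  exact ⟨x, by rw [emb, hx, ho]⟩

theorem exists_co (i : Fin 6) (v : V) : ∃ x, F.emb i x = F.W.proj (F.cs i) v := F.emb_surj i ⟨v, rfl⟩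

/-- The coordinate. -/
noncomputable def co (i : Fin 6) (v : V) : F4 := (F.exists_co i v).choose

theorem co_spec (i : Fin 6) (v : V) : F.emb i (F.co i v) = F.W.proj (F.cs i) v := (F.exists_co i v).choose_spec

theorem co_add (i : Fin 6) (a b : V) : F.co i (a + b) = F.co i a + F.co i b :=
  F.emb_injective i (by rw [F.emb_add, co_spec, co_spec, co_spec, map_add])

/-- The vector with given coordinates. -/
noncomputable def mk6 (x : Fin 6 → F4) : V := ∑ i, F.emb i (x i)

theorem co_mk6 (x : Fin 6 → F4) (i : Fin 6) : F.co i (F.mk6 x) = x i :=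
  F.emb_injective i (by rw [co_spec]; exact F.proj_dec (fun j => code4 (x j)) i)

theorem mk6_co (v : V) : F.mk6 (fun i => F.co i v) = v := by
  conv_rhs => rw [F.decompose_six v]
  exact Finset.sum_congr rfl fun i _ => F.co_spec i v

theorem co_ext {a b : V} (h : ∀ i, F.co i a = F.co i b) : a = b := by
  rw [← F.mk6_co a, ← F.mk6_co b]
  exact congrArg F.mk6 (funext h)

theorem co_zero (i : Fin 6) : F.co i 0 = 0 := F.emb_injective i (by rw [co_spec, map_zero, emb_zero])

theorem mk6_add (x y : Fin 6 → F4) : F.mk6 (x + y) = F.mk6 x + F.mk6 y :=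
  F.co_ext fun i => by rw [co_add, co_mk6, co_mk6, co_mk6, Pi.add_apply]

theorem co_t (z : C5) (i : Fin 6) (v : V) : F.co i (F.W.t z v) = wp (F.Φ z i) * F.co i v := by
  refine F.emb_injective i ?_
  rw [co_spec, ← F.W.t_proj, ← co_spec, emb, emb, wp_mul, F.W.t_space_eq (F.cs_e0 i) z (F.pl_mem i _)]
  cases code4 (F.co i v) with
  | none => simp [pl]
  | some k =>
    show F.W.t _ (F.W.t (k • Pi.single 0 1) (F.base i)) = F.W.t ((k + F.Φ z i) • Pi.single 0 1) (F.base i)
    rw [← F.W.t_comp, ← add_smul, add_comm]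
    rfl

theorem co_om (i : Fin 6) (v : V) : F.co i (F.om v) = w4 * F.co i v := by
  rw [om, co_t, Φ_e0]
  rfl

theorem B_emb (i : Fin 6) (a b : F4) : F.B (F.emb i a) (F.emb i b) = (a * b ^ 2).im := by
  have hq : ∀ o, F.q (F.pl i (some o)) = 1 := fun o => F.q_pl i (some o)
  have h01 : F.B (F.pl i (some 0)) (F.pl i (some 1)) = 1 := by
    have h := F.q_add (F.pl i (some 0)) (F.pl i (some 1))
    rw [pl_sum, hq, hq, hq] at h
    generalize F.B (F.pl i (some 0)) (F.pl i (some 1)) = r at h ⊢
    revert r; decide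
  have hd : ∀ u : V, F.B u u = 0 := fun u => by
    have h := F.q_add u u
    rw [F.dbl, F.q_zero] at h
    generalize F.q u = r, F.B u u = s at h ⊢
    revert r s; decide
  have h10 : F.B (F.pl i (some 1)) (F.pl i (some 0)) = 1 := (F.B_symm _ _).trans h01
  have hB : ∀ (n : ZMod 2) (u v : V), F.B (n.val • u) v = n * F.B u v := fun n u v => by
    rcases (show ∀ r : ZMod 2, r = 0 ∨ r = 1 by decide) n with rfl | rfl <;> simp [ZMod.val_one, F.B_zero]
  have hB' : ∀ (n : ZMod 2) (u v : V), F.B u (n.val • v) = n * F.B u v := fun n u v => by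
    rw [F.B_symm, hB, F.B_symm]
  have hBr : ∀ u v x : V, F.B u (v + x) = F.B u v + F.B u x := fun u v x => by
    rw [F.B_symm, F.B_add, F.B_symm v, F.B_symm x]
  simp only [emb_eq, F.B_add, hBr, hB, hB', hd, h01, h10, mul_zero, mul_one, add_zero, zero_add]
  revert a b
  decide +kernel

theorem B_co (u v : V) : F.B u v = (∑ i, F.co i u * F.co i v ^ 2).im := by
  conv_lhs => rw [← F.mk6_co u]
  rw [mk6, B_sum]
  let imH : F4 →+ ZMod 2 := AddMonoidHom.mk' (fun a => a.im) fun a b => QuadraticAlgebra.im_add a b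
  rw [show (∑ i, F.co i u * F.co i v ^ 2).im = ∑ i, (F.co i u * F.co i v ^ 2).im from
    map_sum imH (fun i => F.co i u * F.co i v ^ 2) Finset.univ]
  refine Finset.sum_congr rfl fun i _ => ?_
  conv_lhs => rw [← F.mk6_co v]
  rw [mk6, F.B_symm, B_sum, Finset.sum_eq_single i]
  · rw [F.B_symm, B_emb]
  · exact fun j _ hj => F.orth hj (F.emb_mem j _) (F.emb_mem i _)
  · simp

theorem dec_code (x : Fin 6 → F4) : F.dec (fun i => code4 (x i)) = F.mk6 x := rfl

end FSetting

end Cfsg.Lib.LargeFischer
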