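import Cfsg.Agent.LargeFischer.Setting
import Cfsg.Agent.LargeFischer.SextetGraph
import Cfsg.Prelude.Def_Transfer

/-!
An elementary abelian subgroup of order `2 ^ 11` of the centraliser of the central involution, unique in the Sylow
subgroups containing it, gives a sextet setting and the structure of its normaliser.
-/

set_option autoImplicit false
set_option maxRecDepth 100000
set_option maxHeartbeats 1000000
set_option linter.unusedSectionVars false
set_option linter.style.haveILetI false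

namespace Cfsg.Lib.LargeFischer

open Subgroup
open Cfsg.Lib.LargeExtra (X2)
open Cfsg.Lib.LargeExtra.OutExtra (center_cases)
open scoped commutatorElement Pointwise

universe u w

variable {G : Type u} [Group G] [Finite G]

namespace Ctx

variable {z : G} {Q : Subgroup ↥(centralizer ({z} : Set G))} [Q.Normal] (c : Ctx z Q)

/-- The elementary abelian subgroup and its plane data. -/
structure Plane (_ : Ctx z Q) where
  A : Subgroup ↥(centralizer ({z} : Set G))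
  sq : ∀ a ∈ A, a * a = 1
  card : Nat.card ↥A = 2048
  card0 : Nat.card ↥(A ⊓ Q) = 128
  uniq : ∀ P : Sylow 2 ↥(centralizer ({z} : Set G)), A ≤ (P : Subgroup ↥(centralizer ({z} : Set G))) →
    ∀ B : Subgroup ↥(centralizer ({z} : Set G)), B ≤ (P : Subgroup ↥(centralizer ({z} : Set G))) →
      (∀ b ∈ B, b * b = 1) → 2048 ≤ Nat.card ↥B → B = A
  fixW : ∀ h : ↥(centralizer ({z} : Set G)), (∀ a ∈ A ⊓ Q, h * a = a * h) → h ∈ A ⊔ Q
  fixBound : ∀ a ∈ A, a ∉ Q → Nat.card ↥(Q ⊓ centralizer ({a} : Set ↥(centralizer ({z} : Set G)))) ≤ 2 ^ 9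
  inner : {a : ↥(centralizer ({z} : Set G)) | a ∈ A ⊓ Q ∧ a ≠ 1 ∧ ¬ IsConj z (a : G)}.ncard = 36
  line : ∀ t ∈ A ⊓ Q, t ≠ 1 → ¬ IsConj z (t : G) →
    {v : ↥(centralizer ({z} : Set G)) | v ∈ A ⊓ Q ∧ v ≠ 1 ∧ ¬ IsConj z (v : G) ∧ t * v ≠ 1 ∧
      ¬ IsConj z ((t * v : ↥(centralizer ({z} : Set G))) : G)}.ncard = 4
  coset : ∀ a ∈ A, a ∉ Q → ∀ b ∈ A, b ∉ Q →
    ∃ h ∈ normalizer (A : Set ↥(centralizer ({z} : Set G))), (h * a * h⁻¹) * b ∈ Q
  large : 138240 * 2048 ≤ Nat.card ↥(normalizer (A : Set ↥(centralizer ({z} : Set G))))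

namespace Plane

variable {c} (P : c.Plane)

/-- The subgroup inside the whole group. -/
def AG : Subgroup G := P.A.map (centralizer ({z} : Set G)).subtype

theorem commA {a b : ↥(centralizer ({z} : Set G))} (ha : a ∈ P.A) (hb : b ∈ P.A) : a * b = b * a := by
  have hi : ∀ x ∈ P.A, x⁻¹ = x := fun x hx => inv_eq_of_mul_eq_one_right (P.sq x hx)
  rw [← hi (a * b) (mul_mem ha hb), mul_inv_rev, hi a ha, hi b hb]

theorem bound_mem {y : ↥(centralizer ({z} : Set G))} (hy : y ∈ Q) (hc : ∀ a ∈ P.A ⊓ Q, y * a = a * y) :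
    y ∈ P.A ⊓ Q := by
  set D := (P.A ⊓ Q) ⊔ zpowers y with hD
  have hle : D ≤ Q := sup_le inf_le_right (zpowers_le.mpr hy)
  have h1 : D ≤ centralizer (D : Set ↥(centralizer ({z} : Set G))) := by
    refine sup_le ?_ ?_
    · intro a ha
      refine mem_centralizer_iff.mpr fun b hb => ?_
      have : D ≤ centralizer ({a} : Set ↥(centralizer ({z} : Set G))) :=
        sup_le (fun x hx => mem_centralizer_singleton_iff.mpr (P.commA hx.1 ha.1))
          (zpowers_le.mpr (mem_centralizer_singleton_iff.mpr (hc a ha)))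
      exact mem_centralizer_singleton_iff.mp (this hb)
    · refine zpowers_le.mpr (mem_centralizer_iff.mpr fun b hb => ?_)
      have : D ≤ centralizer ({y} : Set ↥(centralizer ({z} : Set G))) :=
        sup_le (fun x hx => mem_centralizer_singleton_iff.mpr (hc x hx).symm)
          (zpowers_le.mpr (mem_centralizer_singleton_iff.mpr rfl))
      exact mem_centralizer_singleton_iff.mp (this hb)
  have h2 := abelian_bound c.hE c.card hle fun a ha b hb => (mem_centralizer_iff.mp (h1 ha) b hb).symm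
  have h3 : P.A ⊓ Q = D := eq_of_le_of_card_ge le_sup_left (by rw [P.card0]; exact h2.trans (by norm_num))
  rw [h3]
  exact mem_sup_right (mem_zpowers y)

theorem zq_mem : (c.zq : ↥(centralizer ({z} : Set G))) ∈ P.A ⊓ Q := by
  refine P.bound_mem c.zq.2 fun a ha => Subtype.ext ?_
  show ((c.zq : ↥(centralizer ({z} : Set G))) : G) * (a : G) = (a : G) * _
  rw [c.zv]
  exact ((mem_centralizer_singleton_iff.mp a.2)).symm

theorem mem_of_fix {h : ↥(centralizer ({z} : Set G))} (hh : ∀ a ∈ P.A ⊓ Q, h * a = a * h) : h ∈ P.A := by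
  have h1 := P.fixW h hh
  rw [← SetLike.mem_coe, Subgroup.mul_normal, Set.mem_mul] at h1
  obtain ⟨a, ha, y, hy, rfl⟩ := h1
  refine mul_mem ha (P.bound_mem hy fun w hw => ?_).1
  have e := hh w hw
  rw [mul_assoc, ← mul_assoc w a y, P.commA hw.1 ha, mul_assoc a w y] at e
  exact mul_left_cancel e

theorem q_inner {q w : ↥(centralizer ({z} : Set G))} (hq : q ∈ Q) (hw : w ∈ P.A ⊓ Q) : q * w * q⁻¹ ∈ P.A ⊓ Q := by
  have h := c.X2g.comm _ ⟨q, hq, rfl⟩ _ ⟨w, hw.2, rfl⟩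
  rcases h with h | h
  · rw [show q * w * q⁻¹ = w from Subtype.ext (by
      show (q : G) * w * (q : G)⁻¹ = w
      exact mul_inv_eq_iff_eq_mul.mpr (commutatorElement_eq_one_iff_mul_comm.mp h))]
    exact hw
  · rw [show q * w * q⁻¹ = (c.zq : ↥(centralizer ({z} : Set G))) * w from Subtype.ext (by
      show (q : G) * w * (q : G)⁻¹ = ((c.zq : ↥(centralizer ({z} : Set G))) : G) * w
      rw [c.zv]
      simp only [commutatorElement_def, Subgroup.coe_subtype] at h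
      calc (q : G) * w * (q : G)⁻¹ = (q : G) * w * (q : G)⁻¹ * (w : G)⁻¹ * w := by group
        _ = z * (w : G) := congrArg (fun y => y * (w : G)) h)]
    exact mul_mem P.zq_mem hw

theorem q_conj {q a : ↥(centralizer ({z} : Set G))} (hq : q ∈ Q) (ha : a ∈ P.A) : q * a * q⁻¹ ∈ P.A := by
  refine P.mem_of_fix fun w hw => ?_
  have h := P.q_inner (inv_mem hq) hw
  rw [inv_inv] at h
  have e := P.commA ha h.1
  calc q * a * q⁻¹ * w = q * (a * (q⁻¹ * w * q)) * q⁻¹ := by group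
    _ = q * (q⁻¹ * w * q * a) * q⁻¹ := by rw [e]
    _ = w * (q * a * q⁻¹) := by group

theorem Q_le : Q ≤ normalizer (P.A : Set ↥(centralizer ({z} : Set G))) := fun q hq =>
  mem_normalizer_iff.mpr fun a => ⟨fun ha => P.q_conj hq ha, fun ha => by
    have := P.q_conj (inv_mem hq) ha
    rwa [show q⁻¹ * (q * a * q⁻¹) * q⁻¹⁻¹ = a by group] at this⟩

theorem mem_AG {a : G} : a ∈ P.AG ↔ ∃ b ∈ P.A, (b : G) = a := Iff.rfl

theorem normalizer_map {h : ↥(centralizer ({z} : Set G))} :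
    (h : G) ∈ normalizer (P.AG : Set G) ↔ h ∈ normalizer (P.A : Set ↥(centralizer ({z} : Set G))) := by
  rw [mem_normalizer_iff, mem_normalizer_iff]
  have key : ∀ b : ↥(centralizer ({z} : Set G)), (b : G) ∈ P.AG ↔ b ∈ P.A := fun b =>
    ⟨fun ⟨b', hb', e⟩ => Subtype.ext e ▸ hb', fun hb => ⟨b, hb, rfl⟩⟩
  constructor
  · intro H a
    rw [← key a, ← key (h * a * h⁻¹)]
    exact H (a : G)
  · intro H a
    constructor
    · rintro ⟨b, hb, rfl⟩
      exact (key (h * b * h⁻¹)).mpr ((H b).mp hb)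
    · rintro ⟨b, hb, e⟩
      refine ⟨h⁻¹ * b * h, (H _).mpr ?_, ?_⟩
      · rwa [show h * (h⁻¹ * b * h) * h⁻¹ = b by group]
      · show (h : G)⁻¹ * (b : G) * (h : G) = a
        rw [show (b : G) = (h : G) * a * (h : G)⁻¹ from e]
        group

theorem swap {a : ↥(centralizer ({z} : Set G))} (ha : a ∈ P.A ⊓ Q) (h1 : a ≠ 1) (hz : (a : G) ≠ z) :
    IsConj (a : G) ((a : G) * z) := by
  obtain ⟨q, -, e⟩ := c.X2g.exists_swap (x := (a : G)) ⟨a, ha.2, rfl⟩ fun hx => by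
    rcases (Cfsg.Lib.LargeExtra.mem_zpowers_two c.X2g.zz).mp hx with e | e
    · exact h1 (Subtype.ext e)
    · exact hz e
  refine isConj_iff.mpr ⟨q, ?_⟩
  rw [e, (mem_centralizer_singleton_iff.mp a.2)]

theorem orbit_card {a : ↥(centralizer ({z} : Set G))} (ha : a ∈ P.A) (ha0 : a ∉ Q) :
    16 ∣ {x : G | ∃ q ∈ Q.map (centralizer ({z} : Set G)).subtype, q * (a : G) * q⁻¹ = x}.ncard := by
  letI : MulAction ↥Q ↥(centralizer ({z} : Set G)) :=
    MulAction.compHom _ ((ConjAct.toConjAct : ↥(centralizer ({z} : Set G)) ≃* ConjAct _).toMonoidHom.comp Q.subtype)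
  have hsm : ∀ (q : ↥Q) (x : ↥(centralizer ({z} : Set G))), q • x = (q : ↥(centralizer ({z} : Set G))) * x * (q : ↥(centralizer ({z} : Set G)))⁻¹ := fun q x => rfl
  have hset : {x : G | ∃ q ∈ Q.map (centralizer ({z} : Set G)).subtype, q * (a : G) * q⁻¹ = x}.ncard =
      (MulAction.orbit ↥Q a).ncard := by
    rw [← Set.ncard_image_of_injective (MulAction.orbit ↥Q a) (f := fun y : ↥(centralizer ({z} : Set G)) => (y : G))
      Subtype.val_injective]
    congr 1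
    ext x
    constructor
    · rintro ⟨_, ⟨q, hq, rfl⟩, rfl⟩
      exact ⟨_, ⟨⟨q, hq⟩, rfl⟩, rfl⟩
    · rintro ⟨_, ⟨q, rfl⟩, rfl⟩
      exact ⟨_, ⟨q, q.2, rfl⟩, rfl⟩
  have hst : MulAction.stabilizer ↥Q a = (Q ⊓ centralizer ({a} : Set ↥(centralizer ({z} : Set G)))).subgroupOf Q := by
    ext q
    rw [MulAction.mem_stabilizer_iff, hsm, mem_subgroupOf, mem_inf, mem_centralizer_singleton_iff, mul_inv_eq_iff_eq_mul]
    exact ⟨fun h => ⟨q.2, h⟩, fun h => h.2⟩
  have h := (MulAction.stabilizer ↥Q a).card_mul_index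
  rw [MulAction.index_stabilizer, c.card, hst, Nat.card_congr (subgroupOfEquivOfLe inf_le_left).toEquiv] at h
  rw [hset]
  have hd : (MulAction.orbit ↥Q a).ncard ∣ 2 ^ 13 := Dvd.intro_left _ h
  obtain ⟨n, -, hn⟩ := (Nat.dvd_prime_pow Nat.prime_two).mp hd
  have hb := Nat.mul_le_mul_right (2 ^ n) (P.fixBound a ha ha0)
  rw [← hn, h, hn, ← pow_add] at hb
  rw [hn, show (16 : ℕ) = 2 ^ 4 by norm_num]
  exact pow_dvd_pow 2 (by have := (Nat.pow_le_pow_iff_right (by norm_num : 1 < 2)).mp hb; omega)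

theorem exists_sylow : ∃ S : Sylow 2 ↥(centralizer ({z} : Set G)), P.A ≤ (S : Subgroup ↥(centralizer ({z} : Set G))) :=
  IsPGroup.exists_le_sylow (fun a => ⟨1, Subtype.ext (by
    show ((a : ↥(centralizer ({z} : Set G))) ^ 2 ^ 1) = 1
    rw [pow_one, pow_two, P.sq _ a.2])⟩)

/-- Conjugates of the central involution in the subgroup are conjugate in its normaliser. -/
theorem fuse {a : G} (ha : a ∈ P.AG) (hc : IsConj z a) : ∃ m ∈ normalizer (P.AG : Set G), m * z * m⁻¹ = a := by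
  obtain ⟨g, rfl⟩ := isConj_iff.mp hc
  obtain ⟨a₀, ha₀, e₀⟩ := ha
  have hcen : ∀ b ∈ P.A, g⁻¹ * (b : G) * g ∈ centralizer ({z} : Set G) := fun b hb => by
    rw [mem_centralizer_singleton_iff]
    have h1 : (a₀ : G) * (b : G) = (b : G) * (a₀ : G) := congrArg Subtype.val (P.commA ha₀ hb)
    have e : z = g⁻¹ * (a₀ : G) * g := by
      rw [show ((a₀ : ↥(centralizer ({z} : Set G))) : G) = g * z * g⁻¹ from e₀]; group
    calc g⁻¹ * (b : G) * g * z = g⁻¹ * (b : G) * g * (g⁻¹ * (a₀ : G) * g) := congrArg (fun y => g⁻¹ * (b : G) * g * y) e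
      _ = g⁻¹ * ((b : G) * (a₀ : G)) * g := by group
      _ = g⁻¹ * ((a₀ : G) * (b : G)) * g := by rw [h1]
      _ = g⁻¹ * (a₀ : G) * g * (g⁻¹ * (b : G) * g) := by group
      _ = z * (g⁻¹ * (b : G) * g) := congrArg (fun y => y * (g⁻¹ * (b : G) * g)) e.symm
  let f : ↥P.A →* ↥(centralizer ({z} : Set G)) :=
    { toFun := fun b => ⟨g⁻¹ * ((b : ↥(centralizer ({z} : Set G))) : G) * g, hcen b b.2⟩
      map_one' := Subtype.ext (by simp)
      map_mul' := fun x y => Subtype.ext (by push_cast; group) }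
  have hinj : Function.Injective f := fun x y h => by
    have := congrArg Subtype.val h
    simp [f] at this
    exact this
  have hBcard : Nat.card ↥f.range = 2048 := by
    rw [← P.card]; exact Nat.card_congr (MonoidHom.ofInjective hinj).toEquiv.symm
  have hBsq : ∀ b ∈ f.range, b * b = 1 := by
    rintro _ ⟨x, rfl⟩
    rw [← map_mul, show x * x = 1 from Subtype.ext (P.sq _ x.2), map_one]
  obtain ⟨S, hS⟩ := P.exists_sylow
  obtain ⟨S', hS'⟩ := IsPGroup.exists_le_sylow (P := f.range) (p := 2) (fun b => ⟨1, Subtype.ext (by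
    show ((b : ↥(centralizer ({z} : Set G))) ^ 2 ^ 1) = 1
    rw [pow_one, pow_two, hBsq _ b.2])⟩)
  obtain ⟨h, hh⟩ := MulAction.exists_smul_eq ↥(centralizer ({z} : Set G)) S' S
  have hB : f.range.map (MulAut.conj h).toMonoidHom = P.A := by
    refine P.uniq S hS _ ?_ ?_ ?_
    · rintro _ ⟨b, hb, rfl⟩
      have : (MulAut.conj h • (S' : Subgroup ↥(centralizer ({z} : Set G)))) = (S : Subgroup ↥(centralizer ({z} : Set G))) := by
        rw [← hh]; rfl
      rw [← this]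
      exact Subgroup.smul_mem_pointwise_smul b _ _ (hS' hb)
    · rintro _ ⟨b, hb, rfl⟩
      rw [← map_mul, hBsq b hb, map_one]
    · rw [card_map_of_injective (MulAut.conj h).injective, hBcard]
  refine ⟨g * (h : G)⁻¹, ?_, ?_⟩
  · have h1 : ∀ b ∈ P.AG, (h : G) * g⁻¹ * b * ((h : G) * g⁻¹)⁻¹ ∈ P.AG := by
      rintro _ ⟨b, hb, rfl⟩
      have hmem : MulAut.conj h (f ⟨b, hb⟩) ∈ P.A := hB.le ⟨f ⟨b, hb⟩, ⟨⟨b, hb⟩, rfl⟩, rfl⟩
      refine ⟨MulAut.conj h (f ⟨b, hb⟩), hmem, ?_⟩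
      show (h : G) * (g⁻¹ * (b : G) * g) * (h : G)⁻¹ = _
      simp only [Subgroup.coe_subtype]
      group
    have h2 : (h : G) * g⁻¹ ∈ normalizer (P.AG : Set G) := by
      refine mem_normalizer_iff.mpr fun b => ⟨h1 b, fun hb => ?_⟩
      have him : (fun x => (h : G) * g⁻¹ * x * ((h : G) * g⁻¹)⁻¹) '' (P.AG : Set G) = (P.AG : Set G) :=
        Set.eq_of_subset_of_ncard_le (Set.image_subset_iff.mpr h1)
          (by rw [Set.ncard_image_of_injective _ fun x y e => by simpa using e]) (Set.toFinite _)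
      rw [← SetLike.mem_coe, ← him] at hb
      obtain ⟨x, hx, e⟩ := hb
      have : x = b := by simpa using e
      exact this ▸ hx
    have h3 := inv_mem h2
    rwa [show ((h : G) * g⁻¹)⁻¹ = g * (h : G)⁻¹ by group] at h3
  · have : (h : G)⁻¹ * z * (h : G)⁻¹⁻¹ = z := by
      rw [mul_inv_eq_iff_eq_mul]
      exact mem_centralizer_singleton_iff.mp (inv_mem h.2)
    calc g * (h : G)⁻¹ * z * (g * (h : G)⁻¹)⁻¹ = g * ((h : G)⁻¹ * z * (h : G)⁻¹⁻¹) * g⁻¹ := by group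
      _ = g * z * g⁻¹ := by rw [this]

/-- The sextet setting. -/
def sextet : Sextet G z where
  A := P.AG
  A0 := (P.A ⊓ Q).map (centralizer ({z} : Set G)).subtype
  Q := Q.map (centralizer ({z} : Set G)).subtype
  sq := by rintro _ ⟨a, ha, rfl⟩; exact congrArg Subtype.val (P.sq a ha)
  cardA := by rw [AG, card_map_of_injective (Subgroup.subtype_injective _), P.card]
  le0 := map_mono inf_le_left
  mem0 := ⟨_, P.zq_mem, c.zv⟩
  ne1 := c.X2g.ne
  card0 := by rw [card_map_of_injective (Subgroup.subtype_injective _), P.card0]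
  fuse := fun a ha hc => P.fuse ha hc
  inner := by
    rw [← P.inner, ← Set.ncard_image_of_injective
      {a : ↥(centralizer ({z} : Set G)) | a ∈ P.A ⊓ Q ∧ a ≠ 1 ∧ ¬ IsConj z (a : G)} Subtype.val_injective]
    congr 1
    ext x
    constructor
    · rintro ⟨⟨a, ha, rfl⟩, h1, hc⟩
      exact ⟨a, ⟨ha, fun e => h1 (congrArg Subtype.val e), hc⟩, rfl⟩
    · rintro ⟨a, ⟨ha, h1, hc⟩, rfl⟩
      exact ⟨⟨a, ha, rfl⟩, fun e => h1 (Subtype.ext e), hc⟩
  swap := by
    rintro _ ⟨a, ha, rfl⟩ h1 hz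
    exact P.swap ha (fun e => h1 (congrArg Subtype.val e)) hz
  line := by
    rintro _ ⟨t, ht, rfl⟩ h1 hc
    rw [← P.line t ht (fun e => h1 (congrArg Subtype.val e)) hc, ← Set.ncard_image_of_injective
      {v : ↥(centralizer ({z} : Set G)) | v ∈ P.A ⊓ Q ∧ v ≠ 1 ∧ ¬ IsConj z (v : G) ∧ t * v ≠ 1 ∧
        ¬ IsConj z ((t * v : ↥(centralizer ({z} : Set G))) : G)} Subtype.val_injective]
    congr 1
    ext x
    constructor
    · rintro ⟨⟨v, hv, rfl⟩, g1, g2, g3, g4⟩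
      exact ⟨v, ⟨hv, fun e => g1 (congrArg Subtype.val e), g2, fun e => g3 (congrArg Subtype.val e), g4⟩, rfl⟩
    · rintro ⟨v, ⟨hv, g1, g2, g3, g4⟩, rfl⟩
      exact ⟨⟨v, hv, rfl⟩, fun e => g1 (Subtype.ext e), g2, fun e => g3 (Subtype.ext e), g4⟩
  self := fun g hg => by
    have hz : g ∈ centralizer ({z} : Set G) := mem_centralizer_singleton_iff.mpr
      (mul_inv_eq_iff_eq_mul.mp (hg z ⟨_, P.zq_mem.1, c.zv⟩))
    exact ⟨⟨g, hz⟩, P.mem_of_fix fun a ha => Subtype.ext (mul_inv_eq_iff_eq_mul.mp (hg (a : G) ⟨a, ha.1, rfl⟩)), rfl⟩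
  inv0 := by
    rintro m hm hmz _ ⟨a, ha, rfl⟩
    have hmH : m ∈ centralizer ({z} : Set G) := mem_centralizer_singleton_iff.mpr hmz
    have hN : (⟨m, hmH⟩ : ↥(centralizer ({z} : Set G))) ∈ normalizer (P.A : Set ↥(centralizer ({z} : Set G))) :=
      P.normalizer_map.mp hm
    exact ⟨⟨m, hmH⟩ * a * ⟨m, hmH⟩⁻¹, ⟨(mem_normalizer_iff.mp hN a).mp ha.1, ‹Q.Normal›.conj_mem a ha.2 _⟩, rfl⟩
  coset := by
    rintro _ ⟨a, ha, rfl⟩ ha0 _ ⟨b, hb, rfl⟩ hb0
    obtain ⟨h, hh, hab⟩ := P.coset a ha (fun e => ha0 ⟨a, ⟨ha, e⟩, rfl⟩) b hb (fun e => hb0 ⟨b, ⟨hb, e⟩, rfl⟩)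
    exact ⟨h, P.normalizer_map.mpr hh, mem_centralizer_singleton_iff.mp h.2,
      ⟨h * a * h⁻¹ * b, ⟨mul_mem ((mem_normalizer_iff.mp hh a).mp ha) hb, hab⟩, rfl⟩⟩
  qN := by
    rintro _ ⟨q, hq, rfl⟩
    exact ⟨P.normalizer_map.mpr (P.Q_le hq), mem_centralizer_singleton_iff.mp q.2⟩
  qcoset := by
    rintro _ ⟨q, hq, rfl⟩ _ ⟨a, ha, rfl⟩
    refine ⟨q * a * q⁻¹ * a, ⟨mul_mem (P.q_conj hq ha) ha, ?_⟩, rfl⟩
    rw [show q * a * q⁻¹ * a = q * (a * q⁻¹ * a⁻¹) by
      rw [inv_eq_of_mul_eq_one_right (P.sq a ha)]; group]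
    exact mul_mem hq (‹Q.Normal›.conj_mem _ (inv_mem hq) a)
  big := by
    rintro _ ⟨a, ha, rfl⟩ ha0
    exact P.orbit_card ha fun e => ha0 ⟨a, ⟨ha, e⟩, rfl⟩

theorem large_sextet : 138240 * 2048 ≤ Nat.card ↥(normalizer (P.AG : Set G) ⊓ centralizer ({z} : Set G)) := by
  refine P.large.trans (le_of_eq ?_)
  rw [← card_map_of_injective (centralizer ({z} : Set G)).subtype_injective]
  congr 2
  ext m
  constructor
  · rintro ⟨h, hh, rfl⟩
    exact ⟨P.normalizer_map.mpr hh, h.2⟩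
  · rintro ⟨hm, hz⟩
    exact ⟨⟨m, hz⟩, P.normalizer_map.mp hm, rfl⟩

end Plane

end Ctx

end Cfsg.Lib.LargeFischer
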