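import Cfsg.Agent.LargeFischer.Support

/-!
Exactly six weights occur, with every even permutation induced.
-/

set_option autoImplicit false
set_option maxRecDepth 100000
set_option maxHeartbeats 1000000
set_option linter.unusedSectionVars false
set_option linter.style.haveILetI false

namespace Cfsg.Lib.LargeFischer

open Matrix Finset
open Cfsg.Lib.UFourThreeCover (K)

universe u v w

theorem exists_dot_zero : ∀ c : C5, ∃ x : C5, x ≠ 0 ∧ c ⬝ᵥ x = 0 := by decide +kernel

theorem four_distinct : ∀ k : Fin 6 → ZMod 3, (∃ i j, k i ≠ k j) →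
    ∃ i j, k i ≠ k j ∧ ∃ a b, a ≠ b ∧ k a = k b ∧ a ≠ i ∧ a ≠ j ∧ b ≠ i ∧ b ≠ j := by
  decide +kernel

theorem card_sum_zero : Nat.card {d : Fin 6 → ZMod 3 // ∑ i, d i = 0} = 243 := by
  rw [Nat.card_eq_fintype_card, Fintype.card_subtype]
  decide +kernel

namespace FSetting

variable {X : Type u} [Group X] {S : Type w} [Group S] {V : Type v} [AddCommGroup V] [Finite V]
  (F : FSetting X S V)

/-- The action of the Levi preimage on the occurring functionals. -/
noncomputable def σL : F.Lhat →* Equiv.Perm F.Supp := F.σ.comp (Subgroup.inclusion F.Lhat_le)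

/-- The projection of the Levi preimage. -/
def ψL : F.Lhat →* F.E.R.l.range :=
  (F.E.ψ.comp F.Lhat.subtype).codRestrict _ fun g => g.2

theorem ψL_surjective : Function.Surjective F.ψL := fun k => by
  obtain ⟨n, hn⟩ := F.E.surj k.1
  exact ⟨⟨n, show F.E.ψ n ∈ F.E.R.l.range by rw [hn]; exact k.2⟩, Subtype.ext hn⟩

theorem ψL_ker_le : F.ψL.ker ≤ F.σL.ker := fun g hg => by
  have h1 : F.E.ψ (g : X) = 1 := congrArg Subtype.val hg
  have hc := Subgroup.mem_center_iff.mp (F.E.central h1)
  refine Equiv.ext fun c => Subtype.ext ?_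
  exact F.Tc_of_central (g := (Subgroup.inclusion F.Lhat_le g)⁻¹) (fun x => by
    rw [Subgroup.coe_inv]
    show (g : X)⁻¹ * F.E.α x = F.E.α x * (g : X)⁻¹
    rw [eq_mul_inv_iff_mul_eq, mul_assoc, hc, inv_mul_cancel_left]) c

theorem not_trivial : ∃ g : F.Lhat, F.σL g ≠ 1 := by
  by_contra hall
  push Not at hall
  have hsub : ∀ c ∈ F.Supp, ∀ c' ∈ F.Supp, c = c' := by
    intro c hc c' hc'
    by_contra hne
    obtain ⟨d, hd⟩ : ∃ d : A4, c - c' = vecCons 0 d :=
      ⟨fun i => (c - c') i.succ, funext fun i => Fin.cases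
        (by rw [Pi.sub_apply, (F.mem_Supp.mp hc).1, (F.mem_Supp.mp hc').1, sub_self]; rfl) (fun _ => rfl) i⟩
    have hd0 : d ≠ 0 := fun e => hne (by
      rw [← sub_eq_zero, hd, e]
      funext i; exact Fin.cases rfl (fun _ => rfl) i)
    have hfix : ∀ i, tact (seven i) d = d := fun i => by
      obtain ⟨g, hg, hgk⟩ := F.exists_lift ⟨seven i, seven_det i⟩
      have hT : ∀ b ∈ F.Supp, F.Tc g b = b := fun b hb => by
        have h := hall ⟨(g : X), hg⟩
        have h2 : (F.σ g).symm ⟨b, hb⟩ = ⟨b, hb⟩ := by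
          rw [show F.σ g = 1 from h]; rfl
        exact congrArg Subtype.val h2
      have h3 : F.Tc g (vecCons 0 d) = vecCons 0 d := by
        rw [← hd]
        funext m
        show (c - c') ⬝ᵥ F.T g (Pi.single m 1) = _
        rw [sub_dotProduct, Pi.sub_apply]
        exact congrArg₂ _ (congrFun (hT c hc) m) (congrFun (hT c' hc') m)
      rw [F.Tc_tail hgk] at h3
      exact funext fun m => congrFun h3 m.succ
    exact (tact_seven d hd0 0 1 (by decide)).1 ((hfix 0).trans (hfix 1).symm)
  obtain ⟨c, hc⟩ : ∃ c : C5, ∀ v, v = F.W.avg 0 v + F.W.proj c v ∨ v = F.W.avg 0 v := by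
    rcases F.Supp.eq_empty_or_nonempty with he | ⟨c, hc⟩
    · exact ⟨0, fun v => Or.inr (by conv_lhs => rw [F.decompose v, he, Finset.sum_empty, add_zero])⟩
    · refine ⟨c, fun v => Or.inl ?_⟩
      conv_lhs => rw [F.decompose v]
      rw [Finset.sum_eq_single_of_mem c hc fun b hb hbc => absurd (hsub b hb c hc) hbc]
  obtain ⟨x, hx0, hx⟩ := exists_dot_zero c
  refine hx0 (F.faithful5 fun v => ?_)
  rcases hc v with e | e <;> rw [e]
  · rw [map_add, F.W.t_avg_zero, F.W.t_space hx ⟨v, rfl⟩]
  · rw [F.W.t_avg_zero]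

/-- The induced map from the simple group. -/
noncomputable def τ : F.E.R.l.range →* Equiv.Perm F.Supp :=
  F.ψL.liftOfSurjective F.ψL_surjective ⟨F.σL, F.ψL_ker_le⟩

theorem τ_apply (g : F.Lhat) : F.τ (F.ψL g) = F.σL g :=
  F.ψL.liftOfRightInverse_comp_apply _ _ _ g

theorem τ_injective : Function.Injective F.τ := by
  haveI := F.E.R.simple
  refine (MonoidHom.ker_eq_bot_iff _).mp ((IsSimpleGroup.eq_bot_or_eq_top_of_normal _ inferInstance).resolve_right ?_)
  intro ht
  obtain ⟨g, hg⟩ := F.not_trivial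
  exact hg ((F.τ_apply g).symm.trans (MonoidHom.mem_ker.mp (ht ▸ Subgroup.mem_top _)))

theorem card_Supp : F.Supp.card = 6 := by
  haveI : Finite F.E.R.l.range := Nat.finite_of_card_ne_zero (by rw [F.E.R.card]; decide)
  have h := Nat.card_le_card_of_injective _ F.τ_injective
  rw [Nat.card_perm, Nat.card_eq_fintype_card (α := F.Supp), Fintype.card_coe, F.E.R.card] at h
  have h6 := F.supp_count
  interval_cases hk : F.Supp.card <;> first | rfl | (norm_num [Nat.factorial] at h)

/-- Labels of the six functionals. -/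
noncomputable def label : Fin 6 ≃ F.Supp := (finCongr F.card_Supp.symm).trans F.Supp.equivFin.symm

/-- The six functionals. -/
noncomputable def cs (i : Fin 6) : C5 := (F.label i : C5)

theorem cs_mem (i : Fin 6) : F.cs i ∈ F.Supp := (F.label i).2

theorem cs_zero (i : Fin 6) : F.cs i 0 = 1 := (F.mem_Supp.mp (F.cs_mem i)).1

theorem cs_injective : Function.Injective F.cs := fun _ _ h => F.label.injective (Subtype.ext h)

/-- The permutation of labels. -/
noncomputable def π : F.Nh →* Equiv.Perm (Fin 6) := F.label.symm.permCongrHom.toMonoidHom.comp F.σ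

theorem π_eq (g : F.Nh) (i : Fin 6) : F.π g i = F.label.symm (F.σ g (F.label i)) := rfl

theorem cs_π (g : F.Nh) (i : Fin 6) : F.Tc g (F.cs (F.π g i)) = F.cs i := by
  show F.Tc g ((F.label (F.π g i) : F.Supp) : C5) = _
  rw [← σ_symm_apply F g (F.label (F.π g i)), π_eq, Equiv.apply_symm_apply, Equiv.symm_apply_apply]
  rfl

/-- The permutations induced by the Levi preimage. -/
noncomputable def πL : F.Lhat →* Equiv.Perm (Fin 6) := F.π.comp (Subgroup.inclusion F.Lhat_le)

theorem πL_range : F.πL.range = alternatingGroup (Fin 6) := by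
  have e : F.πL = (F.label.symm.permCongrHom.toMonoidHom.comp F.τ).comp F.ψL := MonoidHom.ext fun g => by
    show _ = F.label.symm.permCongrHom (F.τ (F.ψL g))
    rw [τ_apply]; rfl
  have hinj : Function.Injective (F.label.symm.permCongrHom.toMonoidHom.comp F.τ) :=
    F.label.symm.permCongrHom.injective.comp F.τ_injective
  refine Equiv.Perm.eq_alternatingGroup_of_index_eq_two ?_
  rw [e, MonoidHom.range_comp, MonoidHom.range_eq_top.mpr F.ψL_surjective, ← MonoidHom.range_eq_map]
  have h := (F.label.symm.permCongrHom.toMonoidHom.comp F.τ).range.card_mul_index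
  rw [← Nat.card_congr (MonoidHom.ofInjective hinj).toEquiv, F.E.R.card, Nat.card_perm, Nat.card_fin] at h
  norm_num [Nat.factorial] at h
  exact Nat.eq_of_mul_eq_mul_left (by norm_num : (0:ℕ) < 360) (h.trans (by norm_num))

theorem exists_even (π : Equiv.Perm (Fin 6)) (hπ : π ∈ alternatingGroup (Fin 6)) :
    ∃ g : F.Lhat, F.πL g = π := by
  rw [← F.πL_range] at hπ
  exact MonoidHom.mem_range.mp hπ

theorem bijective : Function.Bijective (F.W.toPi F.cs) ∧ ∀ i, Nat.card (F.W.space (F.cs i)) = 4 := by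
  obtain ⟨h0, hsep⟩ := F.supp_sep F.cs_mem F.cs_injective
  have hsurj := F.W.toPi_surjective h0 hsep
  have hle : ∀ i, 4 ≤ Nat.card (F.W.space (F.cs i)) := fun i =>
    F.W.four_le (h0 i) (F.mem_Supp.mp (F.cs_mem i)).2
  have hcard := Nat.card_le_card_of_surjective _ hsurj
  rw [F.cardV, Nat.card_pi] at hcard
  have heq : ∀ i, Nat.card (F.W.space (F.cs i)) = 4 := by
    intro i
    refine le_antisymm ?_ (hle i)
    by_contra hgt
    have : ∏ j, (4 : ℕ) < ∏ j, Nat.card (F.W.space (F.cs j)) :=
      prod_lt_prod (fun _ _ => by norm_num) (fun j _ => hle j) ⟨i, mem_univ i, by omega⟩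
    norm_num at this
    omega
  refine ⟨(Nat.bijective_iff_surjective_and_card _).mpr ⟨hsurj, ?_⟩, heq⟩
  simp only [Nat.card_pi, heq, F.cardV]
  norm_num

theorem avg_zero_eq (v : V) : F.W.avg 0 v = 0 := by
  refine F.bijective.1.1 (funext fun i => Subtype.ext ?_)
  show F.W.proj _ (F.W.avg 0 v) = F.W.proj _ 0
  rw [map_zero, WAct.proj_apply, F.W.avg_avg_zero, F.W.avg_avg_self, F.dbl]

theorem decompose_six (v : V) : v = ∑ i, F.W.proj (F.cs i) v := by
  conv_lhs => rw [F.decompose v, avg_zero_eq, zero_add]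
  refine (Finset.sum_bij (fun i _ => F.cs i) (fun i _ => F.cs_mem i) (fun i _ j _ h => F.cs_injective h)
    (fun c hc => ⟨F.label.symm ⟨c, hc⟩, mem_univ _, ?_⟩) fun _ _ => rfl).symm
  show ((F.label (F.label.symm ⟨c, hc⟩) : F.Supp) : C5) = c
  rw [Equiv.apply_symm_apply]

/-- The image of the lifted radical in coordinates. -/
noncomputable def Φ (x : C5) (i : Fin 6) : ZMod 3 := F.cs i ⬝ᵥ x

theorem Φ_injective : Function.Injective F.Φ := fun x y h => by
  rw [← sub_eq_zero]
  refine F.faithful5 fun v => ?_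
  conv_lhs => rw [F.decompose_six v]
  conv_rhs => rw [F.decompose_six v]
  rw [map_sum]
  exact Finset.sum_congr rfl fun i _ => F.W.t_space
    (by rw [dotProduct_sub, show F.cs i ⬝ᵥ x = F.cs i ⬝ᵥ y from congrFun h i, sub_self]) ⟨v, rfl⟩

theorem sum_cs : ∑ i, F.cs i = 0 := by
  classical
  let f : (Fin 6 → ZMod 3) → C5 := fun k => ∑ i, k i • F.cs i
  obtain ⟨k₁, k₂, hk, hne⟩ : ∃ k₁ k₂, f k₁ = f k₂ ∧ k₁ ≠ k₂ := by
    by_contra h
    push Not at h
    have h2 := Fintype.card_le_of_injective f h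
    simp at h2
  set k := k₁ - k₂ with hkdef
  have hk0 : ∑ i, k i • F.cs i = 0 := by
    simp only [hkdef, Pi.sub_apply, sub_smul, sum_sub_distrib]
    exact sub_eq_zero.mpr hk
  have hconst : ∀ i j, k i = k j := by
    by_contra h
    push Not at h
    obtain ⟨i, j, hij, a, b, hab, hkab, hai, haj, hbi, hbj⟩ := four_distinct k h
    have hne' : i ≠ j := fun e => hij (by rw [e])
    set π := Equiv.swap i j * Equiv.swap a b with hπdef
    obtain ⟨g, hg⟩ := F.exists_even π (by
      rw [Equiv.Perm.mem_alternatingGroup, map_mul, Equiv.Perm.sign_swap hne', Equiv.Perm.sign_swap hab]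
      rfl)
    have h1 : ∑ m, k (π m) • F.cs m = 0 := by
      have e : ∑ m, k m • F.Tc (Subgroup.inclusion F.Lhat_le g) (F.cs m) = 0 := by
        funext r
        simp only [Finset.sum_apply, Pi.smul_apply, Tc, ← smul_dotProduct, Pi.zero_apply]
        rw [← sum_dotProduct, hk0, zero_dotProduct]
      rw [← Equiv.sum_comp π] at e
      refine Eq.trans (Finset.sum_congr rfl fun m _ => ?_) e
      congr 1
      conv_lhs => rw [← F.cs_π (Subgroup.inclusion F.Lhat_le g) m]
      rw [show F.π (Subgroup.inclusion F.Lhat_le g) = π from hg]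
    have h2 : ∑ m, (k m - k (π m)) • F.cs m = 0 := by
      simp only [sub_smul, sum_sub_distrib]
      rw [hk0, h1, sub_self]
    have hπi : π i = j := by
      rw [hπdef, Equiv.Perm.mul_apply, Equiv.swap_apply_of_ne_of_ne hai.symm hbi.symm, Equiv.swap_apply_left]
    have hπj : π j = i := by
      rw [hπdef, Equiv.Perm.mul_apply, Equiv.swap_apply_of_ne_of_ne haj.symm hbj.symm, Equiv.swap_apply_right]
    rw [← Finset.sum_subset (subset_univ {i, j}) fun m _ hm => ?_, Finset.sum_pair hne', hπi, hπj,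
      show k j - k i = -(k i - k j) by ring, neg_smul, ← sub_eq_add_neg, ← smul_sub, smul_eq_zero] at h2
    · rcases h2 with e | e
      · exact hij (sub_eq_zero.mp e)
      · exact hne' (F.cs_injective (sub_eq_zero.mp e))
    · simp only [mem_insert, mem_singleton, not_or] at hm
      by_cases hma : m = a
      · rw [hma, hπdef, Equiv.Perm.mul_apply, Equiv.swap_apply_left, Equiv.swap_apply_of_ne_of_ne hbi hbj, hkab,
          sub_self, zero_smul]
      · by_cases hmb : m = b
        · rw [hmb, hπdef, Equiv.Perm.mul_apply, Equiv.swap_apply_right, Equiv.swap_apply_of_ne_of_ne hai haj, hkab,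
            sub_self, zero_smul]
        · rw [hπdef, Equiv.Perm.mul_apply, Equiv.swap_apply_of_ne_of_ne hma hmb,
            Equiv.swap_apply_of_ne_of_ne hm.1 hm.2, sub_self, zero_smul]
  have hk00 : k 0 ≠ 0 := fun e => hne (sub_eq_zero.mp (funext fun i => (hconst i 0).trans e))
  rw [Finset.sum_congr rfl (fun i _ => by rw [hconst i 0]), ← smul_sum, smul_eq_zero] at hk0
  exact hk0.resolve_left hk00

theorem exists_radical_coord {d : Fin 6 → ZMod 3} (hd : ∑ i, d i = 0) : ∃ x : C5, F.Φ x = d := by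
  classical
  have hs : ∀ x, ∑ i, F.Φ x i = 0 := fun x => by
    simp only [Φ, ← sum_dotProduct, sum_cs, zero_dotProduct]
  let f : C5 → {d : Fin 6 → ZMod 3 // ∑ i, d i = 0} := fun x => ⟨F.Φ x, hs x⟩
  have hb : Function.Bijective f := (Nat.bijective_iff_injective_and_card f).mpr
    ⟨fun x y e => F.Φ_injective (congrArg Subtype.val e), by rw [card_sum_zero]; simp⟩
  obtain ⟨x, hx⟩ := hb.2 ⟨d, hd⟩
  exact ⟨x, congrArg Subtype.val hx⟩

end FSetting

end Cfsg.Lib.LargeFischer
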