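import Cfsg.Agent.LargeFischer.EightRadical
import Cfsg.Agent.LargeFischer.StabInvariant

/-!
Explicit coordinates for the stabiliser of a vector of the long orbit.
-/

set_option autoImplicit false
set_option maxRecDepth 100000
set_option maxHeartbeats 1000000
set_option linter.unusedSectionVars false
set_option linter.style.haveILetI false

namespace Cfsg.Lib.LargeFischer

open Subgroup QuadraticMap
open Cfsg.Lib.LargeExtra.OutExtra
open Cfsg.Lib.LargeExtra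

universe u

/-- The prime field inside the field of four elements. -/
def bf (r : ZMod 2) : F4 := ⟨r, 0⟩

theorem bf_add : ∀ r s : ZMod 2, bf (r + s) = bf r + bf s := by decide +kernel

theorem bf_inj : ∀ r s : ZMod 2, bf r = bf s → r = s := by decide +kernel

theorem f4_rel : ∀ a b : F4, a ≠ 0 → a * b ^ 2 * b = if b = 0 then 0 else a := by decide +kernel

theorem f4_rel' : ∀ a b : F4, b ≠ 0 → a * b * b ^ 2 = a := by decide +kernel

theorem wp_cancel : ∀ (e : ZMod 3) (a b : F4), wp e * a * (wp e * b) ^ 2 = a * b ^ 2 := by decide +kernel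

/-- The indicator of a pair. -/
def pr (i j : Fin 6) : Fin 6 → ZMod 2 := fun k => if k = i ∨ k = j then 1 else 0

theorem two_swaps {a b c d : Fin 6} (hab : a ≠ b) (hcd : c ≠ d) :
    Equiv.swap a b * Equiv.swap c d ∈ alternatingGroup (Fin 6) := by
  rw [Equiv.Perm.mem_alternatingGroup, map_mul, Equiv.Perm.sign_swap hab, Equiv.Perm.sign_swap hcd]; rfl

theorem swaps_pair : ∀ i j : Fin 6, i ≠ j → ∃ a b c d : Fin 6, a ≠ b ∧ c ≠ d ∧
    Equiv.swap a b (Equiv.swap c d 0) = i ∧ Equiv.swap a b (Equiv.swap c d 2) = j := by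
  decide +kernel

theorem swaps_four : ∀ i : Fin 6, i ≠ 0 → ∃ a b c d : Fin 6, a ≠ b ∧ c ≠ d ∧
    Equiv.swap a b (Equiv.swap c d 3) = i ∧ Equiv.swap a b (Equiv.swap c d 0) ≠ 0 ∧
    Equiv.swap a b (Equiv.swap c d 1) ≠ 0 ∧ Equiv.swap a b (Equiv.swap c d 2) ≠ 0 := by
  decide +kernel

theorem alt_two_trans (i j : Fin 6) (h : i ≠ j) :
    ∃ π : Equiv.Perm (Fin 6), π ∈ alternatingGroup (Fin 6) ∧ π 0 = i ∧ π 2 = j := by
  obtain ⟨a, b, c, d, hab, hcd, h1, h2⟩ := swaps_pair i j h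
  exact ⟨_, two_swaps hab hcd, h1, h2⟩

theorem avoid_four : ∀ a b c d : Fin 6, ∃ m, m ≠ a ∧ m ≠ b ∧ m ≠ c ∧ m ≠ d := by decide +kernel

variable {G : Type u} [Group G] [Finite G] {z : G} {Q : Subgroup (centralizer ({z} : Set G))} [Q.Normal]

namespace Ctx

variable (c : Ctx z Q)

/-- The image of the subgroup of index two. -/
noncomputable def XM : Subgroup (Equiv.Perm (c.ι → ZMod 2)) := ((rep Q c.D).comp c.M.subtype).range

variable {c}

theorem mem_XM {m : ↥(centralizer ({z} : Set G))} (hm : m ∈ c.M) : rep Q c.D m ∈ c.XM := ⟨⟨m, hm⟩, rfl⟩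

theorem XM_add {σ : Equiv.Perm (c.ι → ZMod 2)} (h : σ ∈ c.XM) (a b : c.ι → ZMod 2) : σ (a + b) = σ a + σ b := by
  obtain ⟨m, rfl⟩ := h
  exact rep_add Q c.D _ a b

theorem XM_om {σ : Equiv.Perm (c.ι → ZMod 2)} (h : σ ∈ c.XM) (a : c.ι → ZMod 2) : σ (c.F.om a) = c.F.om (σ a) := by
  obtain ⟨m, rfl⟩ := h
  exact LinePt.om_comm_M m.2 a

theorem XM_sm {σ : Equiv.Perm (c.ι → ZMod 2)} (h : σ ∈ c.XM) (a : F4) (u : c.ι → ZMod 2) :
    σ (c.F.sm a u) = c.F.sm a (σ u) := c.F.map_sm (XM_add h) (XM_om h) a u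

theorem XM_B {σ : Equiv.Perm (c.ι → ZMod 2)} (h : σ ∈ c.XM) (a b : c.ι → ZMod 2) :
    c.F.B (σ a) (σ b) = c.F.B a b := by
  have h' := c.F.B_inv ⟨σ, h⟩ a b
  rwa [c.Fρ] at h'

theorem XM_perp {σ : Equiv.Perm (c.ι → ZMod 2)} (h : σ ∈ c.XM) {a b : c.ι → ZMod 2} (hab : c.F.herm a b = 0) :
    c.F.herm (σ a) (σ b) = 0 := by
  obtain ⟨h1, h2⟩ := (c.F.perp_iff a b).mp hab
  exact c.F.herm_eq_zero (by rw [XM_B h, h1]) (by rw [← XM_om h, XM_B h, h2])

namespace LinePt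

variable (P : c.LinePt)

/-- Coordinates relative to the point. -/
noncomputable def rc (u : c.ι → ZMod 2) (i : Fin 6) : F4 := c.F.co i u * c.F.co i (c.pt P.x) ^ 2

/-- The vector with given relative coordinates. -/
noncomputable def vec (r : Fin 6 → F4) : c.ι → ZMod 2 := c.F.mk6 fun i => r i * c.F.co i (c.pt P.x)

theorem rc_vec (r : Fin 6 → F4) (i : Fin 6) : P.rc (P.vec r) i = r i := by
  rw [rc, vec, c.F.co_mk6]; exact f4_rel' _ _ (P.full i)

theorem rc_add (u w : c.ι → ZMod 2) (i : Fin 6) : P.rc (u + w) i = P.rc u i + P.rc w i := by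
  rw [rc, rc, rc, c.F.co_add, add_mul]

theorem rc_zero (i : Fin 6) : P.rc 0 i = 0 := by rw [rc, c.F.co_zero, zero_mul]

theorem rc_sm (a : F4) (u : c.ι → ZMod 2) (i : Fin 6) : P.rc (c.F.sm a u) i = a * P.rc u i := by
  rw [rc, rc, c.F.co_sm, mul_assoc]

theorem rc_pt (i : Fin 6) : P.rc (c.pt P.x) i = 1 := by
  rw [rc, ← pow_succ', f4_cube _ (P.full i)]

theorem rc_ext {u w : c.ι → ZMod 2} (h : ∀ i, P.rc u i = P.rc w i) : u = w :=
  c.F.co_ext fun i => mul_right_cancel₀ (pow_ne_zero 2 (P.full i)) (h i)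

theorem herm_rc (u w : c.ι → ZMod 2) : c.F.herm u w = ∑ i, P.rc u i * P.rc w i ^ 2 := by
  refine Finset.sum_congr rfl fun i _ => ?_
  rw [rc, rc]
  have h := f4_cube _ (P.full i)
  linear_combination (-(c.F.co i u * c.F.co i w ^ 2) * (1 + c.F.co i (c.pt P.x) ^ 3)) * h

theorem herm_pt (u : c.ι → ZMod 2) : c.F.herm u (c.pt P.x) = ∑ i, P.rc u i := by
  rw [P.herm_rc]
  exact Finset.sum_congr rfl fun i _ => by rw [P.rc_pt, one_pow, mul_one]

theorem mem_perp_rc {u : c.ι → ZMod 2} : u ∈ P.perp ↔ ∑ i, P.rc u i = 0 := by rw [P.mem_perp, P.herm_pt]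

theorem vec_pair_mem (i j : Fin 6) (hij : i ≠ j) : P.vec (fun k => bf (pr i j k)) ∈ P.perp := by
  rw [P.mem_perp_rc]
  simp only [P.rc_vec]
  revert hij; revert i j; decide +kernel

/-- Every even permutation of the coordinates lies in the image. -/
theorem exists_gp (π : Equiv.Perm (Fin 6)) (hπ : π ∈ alternatingGroup (Fin 6)) :
    ∃ σ ∈ c.XM, ∀ u i, P.rc (σ u) (π i) = P.rc u i := by
  classical
  let f : Cd := fun i => code4 (c.F.co i (c.pt P.x))
  have hf : c.F.dec f = c.pt P.x := by rw [c.F.dec_code, c.F.mk6_co]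
  have hu : supp6 f = Finset.univ := Finset.eq_univ_iff_forall.mpr fun i => mem_supp6.mpr fun h => P.full i
    (code4_bijective.1 (h.trans (show none = code4 0 by decide +kernel)))
  obtain ⟨g, hg, hgπ⟩ := c.F.exists_mono hu hπ
  obtain ⟨e, he⟩ := c.F.co_nh g
  rw [hgπ] at he
  rw [hf] at hg
  refine ⟨((g : ↥((rep Q c.D).comp c.M.subtype).range) : Equiv.Perm (c.ι → ZMod 2)), (g : ↥((rep Q c.D).comp c.M.subtype).range).2,
    fun u i => ?_⟩
  have hv := he (c.pt P.x) i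
  rw [hg] at hv
  have hu' := he u i
  rw [c.Fρ] at hu'
  rw [rc, rc]
  refine (congrArg₂ (fun a b => a * b ^ 2) hu' hv).trans (wp_cancel _ _ _)

theorem exists_gp' (π : Equiv.Perm (Fin 6)) : ∃ σ : Equiv.Perm (c.ι → ZMod 2),
    π ∈ alternatingGroup (Fin 6) → σ ∈ c.XM ∧ ∀ u i, P.rc (σ u) (π i) = P.rc u i := by
  by_cases h : π ∈ alternatingGroup (Fin 6)
  · obtain ⟨σ, h1, h2⟩ := P.exists_gp π h
    exact ⟨σ, fun _ => ⟨h1, h2⟩⟩
  · exact ⟨1, fun h' => absurd h' h⟩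

/-- The permutation of the relative coordinates. -/
noncomputable def gp (π : Equiv.Perm (Fin 6)) : Equiv.Perm (c.ι → ZMod 2) := (P.exists_gp' π).choose

variable {π π' : Equiv.Perm (Fin 6)}

theorem gp_XM (hπ : π ∈ alternatingGroup (Fin 6)) : P.gp π ∈ c.XM :=
  ((P.exists_gp' π).choose_spec hπ).1

theorem gp_rc (hπ : π ∈ alternatingGroup (Fin 6)) (u : c.ι → ZMod 2) (i : Fin 6) :
    P.rc (P.gp π u) (π i) = P.rc u i :=
  ((P.exists_gp' π).choose_spec hπ).2 u i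

theorem gp_rc' (hπ : π ∈ alternatingGroup (Fin 6)) (u : c.ι → ZMod 2) (i : Fin 6) :
    P.rc (P.gp π u) i = P.rc u (π.symm i) := by
  rw [← P.gp_rc hπ u (π.symm i), Equiv.apply_symm_apply]

theorem gp_unique (hπ : π ∈ alternatingGroup (Fin 6)) {σ : Equiv.Perm (c.ι → ZMod 2)}
    (h : ∀ u i, P.rc (σ u) (π i) = P.rc u i) : σ = P.gp π :=
  Equiv.ext fun u => P.rc_ext fun i => by
    rw [P.gp_rc' hπ, ← h u (π.symm i), Equiv.apply_symm_apply]

theorem gp_mul (hπ : π ∈ alternatingGroup (Fin 6)) (hπ' : π' ∈ alternatingGroup (Fin 6)) :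
    P.gp π * P.gp π' = P.gp (π * π') :=
  P.gp_unique (mul_mem hπ hπ') fun u i => by
    rw [Equiv.Perm.mul_apply, Equiv.Perm.mul_apply, P.gp_rc hπ, P.gp_rc hπ']

theorem gp_one : P.gp 1 = 1 :=
  (P.gp_unique (one_mem _) (σ := 1) fun u i => by rw [Equiv.Perm.one_apply, Equiv.Perm.one_apply]).symm

theorem gp_inv (hπ : π ∈ alternatingGroup (Fin 6)) : (P.gp π)⁻¹ = P.gp π⁻¹ :=
  inv_eq_of_mul_eq_one_right (by rw [P.gp_mul hπ (inv_mem hπ), mul_inv_cancel, P.gp_one])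

theorem gp_pt (hπ : π ∈ alternatingGroup (Fin 6)) : P.gp π (c.pt P.x) = c.pt P.x :=
  P.rc_ext fun i => by rw [P.gp_rc' hπ, P.rc_pt, P.rc_pt]

theorem gp_perp (hπ : π ∈ alternatingGroup (Fin 6)) {u : c.ι → ZMod 2} (hu : u ∈ P.perp) : P.gp π u ∈ P.perp := by
  rw [P.mem_perp] at hu ⊢
  have h := XM_perp (P.gp_XM hπ) hu
  rwa [P.gp_pt hπ] at h

/-- The image of the radical. -/
noncomputable def RB : Subgroup (Equiv.Perm (c.ι → ZMod 2)) := (c.RC P.g ⊓ c.M).map (rep Q c.D)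

theorem RB_le : P.RB ≤ c.XM := by
  rintro _ ⟨r, hr, rfl⟩
  exact mem_XM hr.2

theorem RB_card : Nat.card ↥P.RB = 16 := P.RB_cards.2.1

theorem RB_pt {σ : Equiv.Perm (c.ι → ZMod 2)} (hσ : σ ∈ P.RB) : σ (c.pt P.x) = c.pt P.x := by
  obtain ⟨r, hr, rfl⟩ := hσ
  rw [c.act]
  refine congrArg c.pt (Subtype.ext ?_)
  rw [MulAut.conjNormal_apply]
  exact c.RC_fix P.hg hr.1

theorem RB_sq {σ : Equiv.Perm (c.ι → ZMod 2)} (hσ : σ ∈ P.RB) : σ * σ = 1 := by
  rw [RB, ← P.R_map] at hσ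
  obtain ⟨r, hr, rfl⟩ := hσ
  rw [← map_mul]
  exact MonoidHom.mem_ker.mp (c.ker.symm ▸ (P.Vh_le (P.R_elementary.1 r hr)).2)

theorem RB_conj (hπ : π ∈ alternatingGroup (Fin 6)) {σ : Equiv.Perm (c.ι → ZMod 2)} (hσ : σ ∈ P.RB) :
    P.gp π * σ * (P.gp π)⁻¹ ∈ P.RB := by
  haveI := c.Mn
  obtain ⟨m, hm⟩ := P.gp_XM hπ
  have hfix : (rep Q c.D) (m : ↥(centralizer ({z} : Set G))) (c.pt P.x) = c.pt P.x := by
    rw [show rep Q c.D (m : ↥(centralizer ({z} : Set G))) = P.gp π from hm]; exact P.gp_pt hπ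
  have hn := (c.normalises P.hg P.hxz P.hx1 m.2 hfix).1
  obtain ⟨r, hr, rfl⟩ := hσ
  rw [show rep Q c.D (m : ↥(centralizer ({z} : Set G))) = P.gp π from hm] at hn
  obtain ⟨r', hr', he⟩ := (mem_normalizer_iff.mp hn _).mp (mem_map_of_mem (rep Q c.D) hr.1)
  refine ⟨r', ⟨hr', ?_⟩, he⟩
  have hk : r' * ((m : ↥(centralizer ({z} : Set G))) * r * (m : ↥(centralizer ({z} : Set G)))⁻¹)⁻¹ ∈ (rep Q c.D).ker := by
    rw [MonoidHom.mem_ker, map_mul, map_inv, map_mul, map_mul, map_inv,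
      show rep Q c.D (m : ↥(centralizer ({z} : Set G))) = P.gp π from hm, he, mul_inv_cancel]
  rw [c.ker] at hk
  have h := mul_mem (c.QM hk) (c.Mn.conj_mem r hr.2 (m : ↥(centralizer ({z} : Set G))))
  rwa [inv_mul_cancel_right] at h

/-- A shift of the perpendicular space along the point. -/
def Sh (σ : Equiv.Perm (c.ι → ZMod 2)) (l : Fin 6 → F4) : Prop :=
  ∀ u ∈ P.perp, σ u = u + c.F.sm (∑ i, P.rc u i * l i) (c.pt P.x)

variable {P}

theorem Sh.eq_one {σ : Equiv.Perm (c.ι → ZMod 2)} {l : Fin 6 → F4} (hσ : σ ∈ c.XM) (h : P.Sh σ l)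
    (hl : ∀ i, l i = l 0) : σ = 1 := by
  obtain ⟨m, rfl⟩ := hσ
  refine P.perm_id (om_comm_M m.2) fun u hu => ?_
  refine (h u (P.mem_perp.mpr hu)).trans ?_
  rw [show ∑ i, P.rc u i * l i = (∑ i, P.rc u i) * l 0 by rw [Finset.sum_mul]; exact Finset.sum_congr rfl fun i _ => by rw [hl i],
    ← P.herm_pt, hu, zero_mul, c.F.sm_zero_left, add_zero]

theorem Sh.mul {σ σ' : Equiv.Perm (c.ι → ZMod 2)} {l l' : Fin 6 → F4} (hσ : σ ∈ P.RB) (h : P.Sh σ l)
    (h' : P.Sh σ' l') : P.Sh (σ * σ') (l + l') := fun u hu => by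
  rw [Equiv.Perm.mul_apply, h' u hu, XM_add (P.RB_le hσ), XM_sm (P.RB_le hσ), P.RB_pt hσ, h u hu, add_assoc,
    ← c.F.sm_add_left, ← Finset.sum_add_distrib]
  exact congrArg (fun a => u + c.F.sm a (c.pt P.x)) (Finset.sum_congr rfl fun i _ => (mul_add _ _ _).symm)

theorem Sh.conj {σ : Equiv.Perm (c.ι → ZMod 2)} {l : Fin 6 → F4} (hπ : π ∈ alternatingGroup (Fin 6))
    (h : P.Sh σ l) : P.Sh (P.gp π * σ * (P.gp π)⁻¹) (fun i => l (π.symm i)) := fun u hu => by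
  have hu' : (P.gp π)⁻¹ u ∈ P.perp := by rw [P.gp_inv hπ]; exact P.gp_perp (inv_mem hπ) hu
  have hrc : ∀ i, P.rc ((P.gp π)⁻¹ u) i = P.rc u (π i) := fun i => by
    rw [P.gp_inv hπ, P.gp_rc' (inv_mem hπ)]; rfl
  rw [Equiv.Perm.mul_apply, Equiv.Perm.mul_apply, h _ hu', XM_add (P.gp_XM hπ), XM_sm (P.gp_XM hπ), P.gp_pt hπ,
    Equiv.Perm.coe_inv, Equiv.apply_symm_apply]
  refine congrArg (fun a => u + c.F.sm a (c.pt P.x)) ?_
  refine Fintype.sum_equiv π _ _ fun i => ?_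
  simp only [← hrc, Equiv.symm_apply_apply]
  rfl

variable (P)

theorem exists_sh {σ : Equiv.Perm (c.ι → ZMod 2)} (hσ : σ ∈ P.RB) : ∃ l, P.Sh σ l := by
  obtain ⟨r, hr, rfl⟩ := hσ
  have key : ∀ j : Fin 6, ∃ a, rep Q c.D r (P.vec fun k => bf (pr 0 j k)) =
      P.vec (fun k => bf (pr 0 j k)) + c.F.sm a (c.pt P.x) ∨ j = 0 := fun j => by
    by_cases hj : j = 0
    · exact ⟨0, Or.inr hj⟩
    · obtain ⟨a, ha⟩ := P.shift_perp hr.1 (om_comm_M hr.2) (P.mem_perp.mp (P.vec_pair_mem 0 j (Ne.symm hj)))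
      exact ⟨a, Or.inl ha⟩
  choose a ha using key
  refine ⟨fun j => if j = 0 then 0 else a j, fun u hu => ?_⟩
  set e : Fin 6 → c.ι → ZMod 2 := fun j => P.vec fun k => bf (pr 0 j k) with he
  have hsum := P.mem_perp_rc.mp hu
  rw [Fin.sum_univ_six] at hsum
  have hdec : u = c.F.sm (P.rc u 1) (e 1) + c.F.sm (P.rc u 2) (e 2) + c.F.sm (P.rc u 3) (e 3) +
      c.F.sm (P.rc u 4) (e 4) + c.F.sm (P.rc u 5) (e 5) := P.rc_ext fun i => by
    simp only [P.rc_add, P.rc_sm, he, P.rc_vec]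
    have key0 : ∀ a b d e f g : F4, a + b + d + e + f + g = 0 → a = b + d + e + f + g := by decide +kernel
    fin_cases i <;> simp [pr, show bf 0 = 0 from rfl, show bf 1 = 1 from rfl]
    exact key0 _ _ _ _ _ _ hsum
  have hone : ∀ j : Fin 6, j ≠ 0 → rep Q c.D r (c.F.sm (P.rc u j) (e j)) =
      c.F.sm (P.rc u j) (e j) + c.F.sm (P.rc u j * a j) (c.pt P.x) := fun j hj => by
    rw [c.F.map_sm (rep_add Q c.D r) (om_comm_M hr.2), (ha j).resolve_right hj, c.F.sm_add, c.F.sm_sm]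
  conv_lhs => rw [hdec]
  rw [rep_add, rep_add, rep_add, rep_add, hone 1 (by decide), hone 2 (by decide), hone 3 (by decide),
    hone 4 (by decide), hone 5 (by decide)]
  conv_rhs => arg 1; rw [hdec]
  simp only [Fin.sum_univ_six, c.F.sm_add_left, ite_true, show ((1 : Fin 6) = 0) = False by decide,
    show ((2 : Fin 6) = 0) = False by decide, show ((3 : Fin 6) = 0) = False by decide,
    show ((4 : Fin 6) = 0) = False by decide, show ((5 : Fin 6) = 0) = False by decide, ite_false, mul_zero,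
    zero_add]
  abel

/-- The scalar of the radical. -/
theorem exists_base : ∃ α : F4, α ≠ 0 ∧ ∃ σ ∈ P.RB, P.Sh σ (fun i => α * bf (pr 0 2 i)) := by
  obtain ⟨σ, hσ, hne⟩ : ∃ σ ∈ P.RB, σ ≠ 1 := by
    by_contra h
    push Not at h
    have := P.RB_card
    rw [(eq_bot_iff_forall _).mpr h, card_bot] at this
    norm_num at this
  obtain ⟨l, hl⟩ := P.exists_sh hσ
  obtain ⟨π, hπ, hsum⟩ : ∃ π ∈ alternatingGroup (Fin 6),
      (fun i => l (Equiv.symm π i)) 0 + (fun i => l (Equiv.symm π i)) 1 + (fun i => l (Equiv.symm π i)) 2 +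
        (fun i => l (Equiv.symm π i)) 3 ≠ 0 := by
    by_contra h
    push Not at h
    refine hne (hl.eq_one (P.RB_le hσ) fun i => ?_)
    by_cases hi : i = 0
    · rw [hi]
    obtain ⟨a, b, c', d, hab, hcd, h3, h0, h1, h2⟩ := swaps_four i hi
    set p : Equiv.Perm (Fin 6) := (Equiv.swap a b * Equiv.swap c' d)⁻¹ with hp
    have hps : ∀ k, p.symm k = Equiv.swap a b (Equiv.swap c' d k) := fun k => by
      rw [hp]; rfl
    rw [← hps] at h0 h1 h2 h3
    have h01 : p.symm 0 ≠ p.symm 1 := fun e => absurd (p.symm.injective e) (by decide)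
    have hne3 : ∀ k, k ≠ 3 → p.symm k ≠ i := fun k hk e => hk (p.symm.injective (e.trans h3.symm))
    set τ := Equiv.swap 0 i * Equiv.swap (p.symm 0) (p.symm 1) with hτ
    have hA : p ∈ alternatingGroup (Fin 6) := inv_mem (two_swaps hab hcd)
    have e1 := h p hA
    have e2 := h (p * τ⁻¹) (mul_mem hA (inv_mem (two_swaps (Ne.symm hi) h01)))
    replace e2 : l (τ (p.symm 0)) + l (τ (p.symm 1)) + l (τ (p.symm 2)) + l (τ (p.symm 3)) = 0 := e2
    simp only [hτ, Equiv.Perm.mul_apply] at e2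
    rw [Equiv.swap_apply_left, Equiv.swap_apply_right, Equiv.swap_apply_of_ne_of_ne h1 (hne3 1 (by decide)),
      Equiv.swap_apply_of_ne_of_ne h0 (hne3 0 (by decide)),
      Equiv.swap_apply_of_ne_of_ne (fun e => absurd (p.symm.injective e) (by decide : (2 : Fin 6) ≠ 0))
        (fun e => absurd (p.symm.injective e) (by decide : (2 : Fin 6) ≠ 1)),
      Equiv.swap_apply_of_ne_of_ne h2 (hne3 2 (by decide)),
      Equiv.swap_apply_of_ne_of_ne (fun e => absurd (p.symm.injective e) (by decide : (3 : Fin 6) ≠ 0))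
        (fun e => absurd (p.symm.injective e) (by decide : (3 : Fin 6) ≠ 1)),
      h3, Equiv.swap_apply_right, add_comm (l (p.symm 1))] at e2
    simp only [h3] at e1
    exact add_left_cancel (e1.trans e2.symm)
  set m := fun i => l (Equiv.symm π i) with hm
  have hσ' := P.RB_conj hπ hσ
  have hm' : P.Sh (P.gp π * σ * (P.gp π)⁻¹) m := hl.conj hπ
  have hk1 : Equiv.swap (0 : Fin 6) 1 * Equiv.swap 2 3 ∈ alternatingGroup (Fin 6) := by
    rw [Equiv.Perm.mem_alternatingGroup]; decide +kernel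
  have hk2 : Equiv.swap (0 : Fin 6) 2 * Equiv.swap 4 5 ∈ alternatingGroup (Fin 6) := by
    rw [Equiv.Perm.mem_alternatingGroup]; decide +kernel
  have h1 := hm'.mul hσ' (hm'.conj hk1)
  have hσ1 := mul_mem hσ' (P.RB_conj hk1 hσ')
  have h2 := h1.mul hσ1 (h1.conj hk2)
  refine ⟨m 0 + m 1 + m 2 + m 3, hsum, _, mul_mem hσ1 (P.RB_conj hk2 hσ1), ?_⟩
  convert h2 using 2 with i
  have key : ∀ a b d e : F4, (a + b) + (d + e) = a + b + d + e := by decide +kernel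
  fin_cases i <;> simp [pr, Equiv.swap_apply_def, Equiv.Perm.mul_def, show bf 0 = 0 from rfl, show bf 1 = 1 from rfl, f4_two] <;>
    abel

/-- The scalar of the radical. -/
noncomputable def sc : F4 := P.exists_base.choose

theorem sc_ne : P.sc ≠ 0 := P.exists_base.choose_spec.1

theorem exists_rr (f : Fin 6 → ZMod 2) (hf : ∑ i, f i = 0) :
    ∃ σ ∈ P.RB, P.Sh σ (fun i => P.sc * bf (f i)) := by
  obtain ⟨σ, hσ, h⟩ := P.exists_base.choose_spec.2
  have hpair : ∀ j : Fin 6, ∀ t : ZMod 2, j ≠ 0 → ∃ τ ∈ P.RB, P.Sh τ (fun i => P.sc * bf (t * pr 0 j i)) := by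
    intro j t hj
    rcases (show ∀ r : ZMod 2, r = 0 ∨ r = 1 by decide) t with rfl | rfl
    · exact ⟨1, one_mem _, fun u _ => by simp [show bf 0 = 0 from rfl, c.F.sm_zero_left]⟩
    · obtain ⟨π, hπ, h0, h2⟩ := alt_two_trans 0 j (Ne.symm hj)
      refine ⟨_, P.RB_conj hπ hσ, ?_⟩
      convert h.conj hπ using 2 with i
      rw [one_mul]
      refine congrArg (fun r => P.sc * bf r) (if_congr ?_ rfl rfl)
      rw [Equiv.symm_apply_eq, Equiv.symm_apply_eq, h0, h2]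
  obtain ⟨t1, m1, s1⟩ := hpair 1 (f 1) (by decide)
  obtain ⟨t2, m2, s2⟩ := hpair 2 (f 2) (by decide)
  obtain ⟨t3, m3, s3⟩ := hpair 3 (f 3) (by decide)
  obtain ⟨t4, m4, s4⟩ := hpair 4 (f 4) (by decide)
  obtain ⟨t5, m5, s5⟩ := hpair 5 (f 5) (by decide)
  refine ⟨t1 * t2 * t3 * t4 * t5, mul_mem (mul_mem (mul_mem (mul_mem m1 m2) m3) m4) m5, ?_⟩
  have h5 := (((s1.mul m1 s2).mul (mul_mem m1 m2) s3).mul (mul_mem (mul_mem m1 m2) m3) s4).mul
    (mul_mem (mul_mem (mul_mem m1 m2) m3) m4) s5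
  convert h5 using 2 with i
  simp only [Pi.add_apply, ← mul_add, ← bf_add]
  refine congrArg (fun r => P.sc * bf r) ?_
  rw [Fin.sum_univ_six] at hf
  have key : ∀ a b d e g k : ZMod 2, a + b + d + e + g + k = 0 → a = b + d + e + g + k := by decide +kernel
  fin_cases i <;> simp [pr]
  exact key _ _ _ _ _ _ hf

theorem exists_rr' (f : Fin 6 → ZMod 2) : ∃ σ ∈ P.RB, ∑ i, f i = 0 → P.Sh σ (fun i => P.sc * bf (f i)) := by
  by_cases h : ∑ i, f i = 0
  · obtain ⟨σ, h1, h2⟩ := P.exists_rr f h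
    exact ⟨σ, h1, fun _ => h2⟩
  · exact ⟨1, one_mem _, fun h' => absurd h' h⟩

/-- The element of the radical with the given even subset. -/
noncomputable def rr (f : Fin 6 → ZMod 2) : Equiv.Perm (c.ι → ZMod 2) := (P.exists_rr' f).choose

variable {f f' : Fin 6 → ZMod 2}

theorem rr_mem (f : Fin 6 → ZMod 2) : P.rr f ∈ P.RB := (P.exists_rr' f).choose_spec.1

theorem rr_sh (hf : ∑ i, f i = 0) : P.Sh (P.rr f) (fun i => P.sc * bf (f i)) := (P.exists_rr' f).choose_spec.2 hf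

theorem RB_unique {σ σ' : Equiv.Perm (c.ι → ZMod 2)} (hσ : σ ∈ P.RB) (hσ' : σ' ∈ P.RB) {l l' : Fin 6 → F4}
    (h : P.Sh σ l) (h' : P.Sh σ' l') (he : ∀ i, l i + l' i = l 0 + l' 0) : σ = σ' := by
  have e := (h.mul hσ h').eq_one (P.RB_le (mul_mem hσ hσ')) he
  rw [mul_eq_one_iff_eq_inv] at e
  rw [e, inv_eq_of_mul_eq_one_right (P.RB_sq hσ')]

theorem rr_mul (hf : ∑ i, f i = 0) (hf' : ∑ i, f' i = 0) : P.rr f * P.rr f' = P.rr (f + f') := by
  have hs : ∑ i, (f + f') i = 0 := by simp [Finset.sum_add_distrib, hf, hf']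
  refine P.RB_unique (mul_mem (P.rr_mem _) (P.rr_mem _)) (P.rr_mem _) ((P.rr_sh hf).mul (P.rr_mem _) (P.rr_sh hf'))
    (P.rr_sh hs) fun i => ?_
  simp only [Pi.add_apply, bf_add, mul_add]
  rw [f4_two, f4_two]

theorem rr_conj (hπ : π ∈ alternatingGroup (Fin 6)) (hf : ∑ i, f i = 0) :
    P.gp π * P.rr f * (P.gp π)⁻¹ = P.rr (fun i => f (π.symm i)) := by
  have hs : ∑ i, f (π.symm i) = 0 := by rw [Equiv.sum_comp π.symm f, hf]
  refine P.RB_unique (P.RB_conj hπ (P.rr_mem _)) (P.rr_mem _) ((P.rr_sh hf).conj hπ) (P.rr_sh hs) fun i => ?_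
  rw [f4_two, f4_two]

theorem rr_act (hf : ∑ i, f i = 0) {u : c.ι → ZMod 2} (hu : u ∈ P.perp) (i : Fin 6) :
    P.rc (P.rr f u) i = P.rc u i + P.sc * ∑ j, P.rc u j * bf (f j) := by
  rw [P.rr_sh hf u hu, P.rc_add, P.rc_sm, P.rc_pt, mul_one, Finset.mul_sum]
  exact congrArg (_ + ·) (Finset.sum_congr rfl fun j _ => by ring)

theorem rr_eq_one (hf : ∑ i, f i = 0) : P.rr f = 1 ↔ ∀ i, f i = f 0 := by
  constructor
  · intro h i
    by_contra hne
    have hi : (0 : Fin 6) ≠ i := fun e => hne (by rw [← e])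
    have hu := P.vec_pair_mem 0 i hi
    have e := P.rr_act hf hu 0
    rw [h, Equiv.Perm.one_apply, left_eq_add, mul_eq_zero] at e
    have e' := e.resolve_left P.sc_ne
    simp only [P.rc_vec] at e'
    rw [Finset.sum_eq_add 0 i hi (fun j _ hj => by simp [pr, hj.1, hj.2, show bf 0 = 0 from rfl]) (by simp) (by simp)]
      at e'
    simp only [pr, show bf 1 = 1 from rfl, true_or, or_true, if_true, one_mul, ← bf_add] at e'
    exact hne ((show ∀ a b : ZMod 2, bf (a + b) = 0 → b = a by decide +kernel) _ _ e')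
  · intro h
    exact (P.rr_sh hf).eq_one (P.RB_le (P.rr_mem _)) fun i => by rw [h i]

/-- Representatives of the even subsets modulo complement. -/
def evn (b : Fin 4 → ZMod 2) : Fin 6 → ZMod 2 := ![b 0, b 1, b 2, b 3, b 0 + b 1 + b 2 + b 3, 0]

theorem evn_sum : ∀ b : Fin 4 → ZMod 2, ∑ i, evn b i = 0 := by decide +kernel

theorem evn_const : ∀ b : Fin 4 → ZMod 2, (∀ i, evn b i = evn b 0) → b = 0 := by decide +kernel

theorem evn_add : ∀ b b' : Fin 4 → ZMod 2, evn b + evn b' = evn (b + b') := by decide +kernel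

theorem rr_evn_inj {b b' : Fin 4 → ZMod 2} (e : P.rr (evn b) = P.rr (evn b')) : b = b' := by
  have h := P.RB_sq (P.rr_mem (evn b))
  nth_rw 2 [e] at h
  rw [P.rr_mul (evn_sum b) (evn_sum b'), evn_add, P.rr_eq_one (evn_sum _)] at h
  have h' := evn_const _ h
  funext i
  exact (show ∀ a b : ZMod 2, a + b = 0 → a = b by decide) _ _ (congrFun h' i)

theorem RB_onto {σ : Equiv.Perm (c.ι → ZMod 2)} (hσ : σ ∈ P.RB) : ∃ b, P.rr (evn b) = σ := by
  let g : (Fin 4 → ZMod 2) → ↥P.RB := fun b => ⟨_, P.rr_mem (evn b)⟩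
  have hg : Function.Bijective g := (Nat.bijective_iff_injective_and_card _).mpr
    ⟨fun a b e => P.rr_evn_inj (congrArg Subtype.val e), by rw [P.RB_card]; simp⟩
  obtain ⟨b, hb⟩ := hg.2 ⟨σ, hσ⟩
  exact ⟨b, congrArg Subtype.val hb⟩

/-- Only the trivial permutation moves perpendicular vectors along the line. -/
theorem gp_shift (hπ : π ∈ alternatingGroup (Fin 6))
    (h : ∀ u ∈ P.perp, ∃ t, ∀ i, P.rc (P.gp π u) i = P.rc u i + t) : π = 1 := by
  refine Equiv.ext fun k => ?_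
  by_contra hk
  change ¬ π k = k at hk
  obtain ⟨l, hlk, hlπ, -, -⟩ := avoid_four k (π k) k k
  obtain ⟨t, ht⟩ := h _ (P.vec_pair_mem k l hlk.symm)
  obtain ⟨m, hm1, hm2, hm3, hm4⟩ := avoid_four k l (π k) (π l)
  have e1 := ht m
  have e2 := ht (π k)
  rw [P.gp_rc' hπ, P.rc_vec, P.rc_vec] at e1
  rw [P.gp_rc hπ, P.rc_vec, P.rc_vec] at e2
  have hs : ∀ j, m ≠ π j → π.symm m ≠ j := fun j hj e => hj (by rw [← e, Equiv.apply_symm_apply])
  simp only [pr, hm1, hm2, hs k hm3, hs l hm4, or_self, if_false, show bf 0 = 0 from rfl, zero_add] at e1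
  simp only [pr, hk, hlπ.symm, true_or, or_self, if_true, if_false, ← e1, show bf 0 = 0 from rfl,
    show bf 1 = 1 from rfl, add_zero] at e2
  exact one_ne_zero e2

/-- The stabiliser of the point in the image. -/
theorem stab_form {σ : Equiv.Perm (c.ι → ZMod 2)} (hσ : σ ∈ c.XM) (hv : σ (c.pt P.x) = c.pt P.x) :
    ∃ b, ∃ π ∈ alternatingGroup (Fin 6), σ = P.rr (evn b) * P.gp π := by
  let g : (Fin 4 → ZMod 2) × ↥(alternatingGroup (Fin 6)) → ↥P.St := fun q =>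
    ⟨P.rr (evn q.1) * P.gp q.2, mul_mem (P.RB_le (P.rr_mem _)) (P.gp_XM q.2.2), by
      show (P.rr (evn q.1) * P.gp q.2) (c.pt P.x) = c.pt P.x
      rw [Equiv.Perm.mul_apply, P.gp_pt q.2.2, P.RB_pt (P.rr_mem _)]⟩
  have hg : Function.Bijective g := by
    refine (Nat.bijective_iff_injective_and_card _).mpr ⟨?_, ?_⟩
    · rintro ⟨b, p, hp⟩ ⟨b', p', hp'⟩ e
      have e' : P.rr (evn b) * P.gp p = P.rr (evn b') * P.gp p' := congrArg Subtype.val e
      have hgp : P.gp (p * p'⁻¹) ∈ P.RB := by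
        rw [← P.gp_mul hp (inv_mem hp'), ← P.gp_inv hp',
          show P.gp p = (P.rr (evn b))⁻¹ * (P.rr (evn b') * P.gp p') by rw [← e', inv_mul_cancel_left],
          mul_assoc, mul_inv_cancel_right]
        exact mul_mem (inv_mem (P.rr_mem _)) (P.rr_mem _)
      obtain ⟨d, hd⟩ := P.RB_onto hgp
      have hpp : p * p'⁻¹ = 1 := P.gp_shift (mul_mem hp (inv_mem hp')) fun u hu =>
        ⟨_, fun i => by rw [← hd]; exact P.rr_act (evn_sum d) hu i⟩
      obtain rfl := mul_inv_eq_one.mp hpp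
      obtain rfl := P.rr_evn_inj (mul_right_cancel e')
      rfl
    · rw [P.St_card, Nat.card_prod, nat_card_alternatingGroup]
      simp [Nat.factorial]
  obtain ⟨⟨b, π⟩, e⟩ := hg.2 ⟨σ, hσ, hv⟩
  exact ⟨b, π, π.2, (congrArg Subtype.val e).symm⟩

end LinePt

end Ctx

end Cfsg.Lib.LargeFischer
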