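import Cfsg.Agent.LargeFischer.Lift

/-!
The weights occurring in the module: six affine functionals permuted as the alternating group.
-/

set_option autoImplicit false
set_option maxRecDepth 100000
set_option maxHeartbeats 1000000
set_option linter.unusedSectionVars false
set_option linter.style.haveILetI false

namespace Cfsg.Lib.LargeFischer

open Matrix Finset
open Cfsg.Lib.UFourThreeCover (K)

universe u v w

/-- The abstract setting. -/
structure FSetting (X : Type u) [Group X] (S : Type w) [Group S] (V : Type v) [AddCommGroup V] where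
  E : CentralThree X S
  q : V → ZMod 2
  B : V → V → ZMod 2
  dbl : ∀ v : V, v + v = 0
  q_add : ∀ a b, q (a + b) = q a + q b + B a b
  B_add : ∀ a b c, B (a + b) c = B a c + B b c
  nondeg : ∀ a, (∀ b, B a b = 0) → a = 0
  ρ : X →* Equiv.Perm V
  ρ_add : ∀ g a b, ρ g (a + b) = ρ g a + ρ g b
  ρ_q : ∀ g a, q (ρ g a) = q a
  ρ_inj : Function.Injective ρ
  cardV : Nat.card V = 4096
  cardX : Nat.card X = 9797760

namespace FSetting

variable {X : Type u} [Group X] {S : Type w} [Group S] {V : Type v} [AddCommGroup V] (F : FSetting X S V)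

/-- Translation by the lifted radical. -/
noncomputable def act5 (x : C5) : V →+ V := AddMonoidHom.mk' (F.ρ (F.E.α x)) (F.ρ_add _)

theorem act5_apply (x : C5) (v : V) : F.act5 x v = F.ρ (F.E.α x) v := rfl

/-- The weight action. -/
noncomputable def W : WAct V where
  t := F.act5
  t_zero v := by rw [act5_apply, F.E.α_zero, map_one]; rfl
  t_comp x y v := by rw [act5_apply, F.E.α_add, map_mul]; rfl
  dbl := F.dbl

theorem W_t (x : C5) (v : V) : F.W.t x v = F.ρ (F.E.α x) v := rfl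

theorem faithful5 {x : C5} (h : ∀ v, F.W.t x v = v) : x = 0 :=
  F.E.α_injective (F.ρ_inj (Equiv.ext fun v => by rw [F.E.α_zero, map_one]; exact h v))

/-- The lifted radical as a subgroup. -/
noncomputable def Ahat : Subgroup X where
  carrier := Set.range F.E.α
  one_mem' := ⟨0, F.E.α_zero⟩
  mul_mem' := by rintro _ _ ⟨x, rfl⟩ ⟨y, rfl⟩; exact ⟨x + y, F.E.α_add x y⟩
  inv_mem' := by
    rintro _ ⟨x, rfl⟩
    exact ⟨-x, eq_inv_of_mul_eq_one_left (by rw [← F.E.α_add, neg_add_cancel, F.E.α_zero])⟩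

/-- Its normaliser. -/
noncomputable def Nh : Subgroup X := Subgroup.normalizer (F.Ahat : Set X)

theorem exists_T (g : F.Nh) (x : C5) : ∃ y, F.E.α y = (g : X) * F.E.α x * (g : X)⁻¹ :=
  (Subgroup.mem_normalizer_iff.mp g.2 _).mp ⟨x, rfl⟩

/-- The induced linear action. -/
noncomputable def T (g : F.Nh) (x : C5) : C5 := (F.exists_T g x).choose

theorem T_spec (g : F.Nh) (x : C5) : F.E.α (F.T g x) = (g : X) * F.E.α x * (g : X)⁻¹ :=
  (F.exists_T g x).choose_spec

theorem T_add (g : F.Nh) (x y : C5) : F.T g (x + y) = F.T g x + F.T g y :=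
  F.E.α_injective (by rw [T_spec, F.E.α_add, F.E.α_add, T_spec, T_spec]; group)

theorem T_e0 (g : F.Nh) : F.T g (Pi.single 0 1) = Pi.single 0 1 :=
  F.E.α_injective (by rw [T_spec, F.E.α_e, F.E.pw_comm, mul_inv_cancel_right])

theorem T_mul (g h : F.Nh) (x : C5) : F.T (g * h) x = F.T g (F.T h x) :=
  F.E.α_injective (by rw [T_spec, T_spec, T_spec, Subgroup.coe_mul]; group)

theorem T_one (x : C5) : F.T 1 x = x :=
  F.E.α_injective (by rw [T_spec, Subgroup.coe_one, one_mul, inv_one, mul_one])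

/-- The transposed action. -/
noncomputable def Tc (g : F.Nh) (c : C5) : C5 := fun i => c ⬝ᵥ F.T g (Pi.single i 1)

theorem Tc_spec (g : F.Nh) (c x : C5) : c ⬝ᵥ F.T g x = F.Tc g c ⬝ᵥ x := by
  let f : C5 →+ ZMod 3 := AddMonoidHom.mk' (fun y => c ⬝ᵥ F.T g y) fun a b => by
    rw [T_add, dotProduct_add]
  show f x = _
  conv_lhs => rw [pi_eq_sum_univ' x]
  rw [map_sum]
  exact Finset.sum_congr rfl fun i _ => (map_smul (f.toZModLinearMap 3) (x i) _).trans (mul_comm _ _)

theorem Tc_zero (g : F.Nh) (c : C5) : F.Tc g c 0 = c 0 := by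
  rw [show F.Tc g c 0 = c ⬝ᵥ F.T g (Pi.single 0 1) from rfl, T_e0, dotProduct_single, mul_one]

theorem Tc_mul (g h : F.Nh) (c : C5) : F.Tc (g * h) c = F.Tc h (F.Tc g c) := by
  funext i
  rw [show F.Tc (g * h) c i = c ⬝ᵥ F.T (g * h) (Pi.single i 1) from rfl, T_mul, Tc_spec]
  rfl

theorem Tc_one (c : C5) : F.Tc 1 c = c := by
  funext i
  rw [show F.Tc 1 c i = c ⬝ᵥ F.T 1 (Pi.single i 1) from rfl, T_one, dotProduct_single, mul_one]

theorem Tc_of_central {g : F.Nh} (hg : ∀ x, (g : X) * F.E.α x = F.E.α x * g) (c : C5) : F.Tc g c = c := by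
  funext i
  rw [show F.Tc g c i = c ⬝ᵥ F.T g (Pi.single i 1) from rfl,
    show F.T g (Pi.single i 1) = Pi.single i 1 from
      F.E.α_injective (by rw [T_spec, hg, mul_inv_cancel_right]), dotProduct_single, mul_one]

/-- The automorphism of `V` given by an element. -/
noncomputable def rho (g : X) : V →+ V := AddMonoidHom.mk' (F.ρ g) (F.ρ_add g)

theorem avg_transfer (g : F.Nh) (c : C5) (v : V) :
    F.ρ g (F.W.avg (F.Tc g c) v) = F.W.avg c (F.ρ g v) := by
  show F.rho g _ = _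
  rw [WAct.avg_apply, WAct.avg_apply, map_sum]
  refine Finset.sum_bij' (fun x _ => F.T g x) (fun x _ => F.T g⁻¹ x) ?_ ?_ ?_ ?_ ?_
  · intro x hx
    simp only [mem_filter, mem_univ, true_and] at hx ⊢
    rw [Tc_spec, hx]
  · intro x hx
    simp only [mem_filter, mem_univ, true_and] at hx ⊢
    rw [← Tc_spec, ← T_mul, mul_inv_cancel, T_one, hx]
  · intro x _; rw [← T_mul, inv_mul_cancel, T_one]
  · intro x _; rw [← T_mul, mul_inv_cancel, T_one]
  · intro x _
    show F.ρ g (F.ρ (F.E.α x) v) = F.ρ (F.E.α (F.T g x)) (F.ρ g v)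
    rw [T_spec, ← Equiv.Perm.mul_apply, ← map_mul, ← Equiv.Perm.mul_apply, ← map_mul, inv_mul_cancel_right]

theorem Tc_zero' (g : F.Nh) : F.Tc g 0 = 0 := funext fun _ => zero_dotProduct _

theorem proj_transfer (g : F.Nh) (c : C5) (v : V) :
    F.ρ g (F.W.proj (F.Tc g c) v) = F.W.proj c (F.ρ g v) := by
  rw [WAct.proj_apply, WAct.proj_apply, F.ρ_add, avg_transfer, ← F.avg_transfer g 0 v, Tc_zero']

theorem space_ne_bot (g : F.Nh) {c : C5} (h : F.W.space c ≠ ⊥) : F.W.space (F.Tc g c) ≠ ⊥ := by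
  intro hb
  refine h ((AddSubgroup.eq_bot_iff_forall _).mpr fun w hw => ?_)
  obtain ⟨v, rfl⟩ := hw
  obtain ⟨u, rfl⟩ := (F.ρ g).surjective v
  rw [← F.proj_transfer]
  have : F.W.proj (F.Tc g c) u = 0 := (AddSubgroup.eq_bot_iff_forall _).mp hb _ ⟨u, rfl⟩
  rw [this]
  exact map_zero (F.rho g)

/-- The preimage of the Levi complement. -/
def Lhat : Subgroup X := F.E.R.l.range.comap F.E.ψ

theorem conj_mem_Ahat {g : X} (hg : g ∈ F.Lhat) {h : X} (hh : h ∈ F.Ahat) : g * h * g⁻¹ ∈ F.Ahat := by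
  obtain ⟨x, rfl⟩ := hh
  obtain ⟨k, hk⟩ := Subgroup.mem_comap.mp hg
  obtain ⟨y, hy, -⟩ := F.E.α_conj hk.symm x
  exact ⟨y, hy.symm⟩

theorem Lhat_le : F.Lhat ≤ F.Nh := fun g hg => Subgroup.mem_normalizer_iff.mpr fun h => by
  refine ⟨F.conj_mem_Ahat hg, fun hh => ?_⟩
  have := F.conj_mem_Ahat (inv_mem hg) hh
  rwa [inv_inv, show g⁻¹ * (g * h * g⁻¹) * g = h by group] at this

theorem T_tail {g : F.Nh} {k : Matrix.SpecialLinearGroup (Fin 2) K} (hk : F.E.ψ g = F.E.R.l k) (x : C5) :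
    (fun i => F.T g x i.succ) = act k.1 (fun i => x i.succ) := by
  obtain ⟨y, hy, hy'⟩ := F.E.α_conj hk x
  rw [show F.T g x = y from F.E.α_injective ((F.T_spec g x).trans hy)]
  exact hy'

theorem Tc_tail {g : F.Nh} {k : Matrix.SpecialLinearGroup (Fin 2) K} (hk : F.E.ψ g = F.E.R.l k) (d : A4) :
    F.Tc g (vecCons 0 d) = vecCons 0 (tact k.1 d) := by
  funext i
  rw [show F.Tc g (vecCons 0 d) i = vecCons 0 d ⬝ᵥ F.T g (Pi.single i 1) from rfl, ← dot_tail, F.T_tail hk]
  refine Fin.cases ?_ (fun j => ?_) i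
  · rw [tact_spec, dot_tail]
    simp
  · rw [show (fun i : Fin 4 => (Pi.single j.succ 1 : C5) i.succ) = Pi.single j 1 from
      funext fun i => by simp [Pi.single_apply]]
    rfl

theorem exists_lift (k : Matrix.SpecialLinearGroup (Fin 2) K) :
    ∃ g : F.Nh, (g : X) ∈ F.Lhat ∧ F.E.ψ g = F.E.R.l k := by
  obtain ⟨n, hn⟩ := F.E.surj (F.E.R.l k)
  exact ⟨⟨n, F.Lhat_le ⟨k, hn.symm⟩⟩, ⟨k, hn.symm⟩, hn⟩

/-- Functionals vanishing on the centre do not occur. -/
theorem space_central [Finite V] {c : C5} (hc : c ≠ 0) (h0 : c 0 = 0) : F.W.space c = ⊥ := by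
  by_contra hne
  obtain ⟨d, rfl⟩ : ∃ d : A4, c = vecCons 0 d := ⟨fun i => c i.succ, funext fun i => Fin.cases h0 (fun _ => rfl) i⟩
  have hd : d ≠ 0 := fun e => hc (by subst e; funext i; exact Fin.cases rfl (fun _ => rfl) i)
  choose g hg hgk using fun i : Fin 7 => F.exists_lift ⟨seven i, seven_det i⟩
  have hcs : ∀ i, F.Tc (g i) (vecCons 0 d) = vecCons 0 (tact (seven i) d) := fun i => F.Tc_tail (hgk i) d
  have hinj : ∀ {d e : A4}, (vecCons 0 d : C5) = vecCons 0 e → d = e := fun h => funext fun i => congrFun h i.succ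
  have h := F.W.count (ι := Fin 7) (cs := fun i => F.Tc (g i) (vecCons 0 d)) (fun i e => ?_) (fun i j hij => ?_)
    (fun i => F.space_ne_bot (g i) hne)
  · rw [F.cardV, Fintype.card_fin] at h
    norm_num at h
  · rw [hcs, show (0 : C5) = vecCons 0 (0 : A4) by funext i; exact Fin.cases rfl (fun _ => rfl) i] at e
    have e' := hinj e
    exact hd (by
      have hfix := tact_spec (seven i) d
      obtain ⟨n, hn⟩ : ∃ n : Matrix.SpecialLinearGroup (Fin 2) K, n.1 = seven i := ⟨⟨_, seven_det i⟩, rfl⟩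
      funext m
      have := hfix (act (n⁻¹).1 (Pi.single m 1))
      rw [e', zero_dotProduct, ← hn, ← act_mul, ← Matrix.SpecialLinearGroup.coe_mul, mul_inv_cancel,
        Matrix.SpecialLinearGroup.coe_one, show act 1 (Pi.single m 1) = Pi.single m 1 by
          simp [act, star2, Matrix.map_one, sco_sk], dotProduct_single, mul_one] at this
      exact this)
  · simp only [hcs]
    obtain ⟨h1, h2⟩ := tact_seven d hd i j hij
    refine ⟨fun e => h1 (hinj e).symm, fun e => h2 ?_⟩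
    have e2 : tact (seven j) d = - tact (seven i) d :=
      funext fun m => congrFun e m.succ
    rw [e2, neg_neg]

/-- The occurring normalised functionals. -/
noncomputable def Supp : Finset C5 := by
  classical exact univ.filter fun c : C5 => c 0 = 1 ∧ F.W.space c ≠ ⊥

theorem mem_Supp {c : C5} : c ∈ F.Supp ↔ c 0 = 1 ∧ F.W.space c ≠ ⊥ := by
  classical simp [Supp]

theorem decompose [Finite V] (v : V) : v = F.W.avg 0 v + ∑ c ∈ F.Supp, F.W.proj c v := by
  conv_lhs => rw [← F.W.decompose v]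
  congr 1
  refine (Finset.sum_subset (fun c hc => ?_) fun c hc hc' => ?_).symm
  · exact mem_filter.mpr ⟨mem_univ _, Or.inl (F.mem_Supp.mp hc).1⟩
  · have hb : F.W.space c = ⊥ := by
      rcases (mem_filter.mp hc).2 with h1 | ⟨h0, -⟩
      · by_contra hne; exact hc' (F.mem_Supp.mpr ⟨h1, hne⟩)
      · exact F.space_central (fun e => norm5_zero (e ▸ (mem_filter.mp hc).2)) h0
    exact (AddSubgroup.eq_bot_iff_forall _).mp hb _ ⟨v, rfl⟩

theorem supp_sep {ι : Type*} {cs : ι → C5} (h : ∀ i, cs i ∈ F.Supp) (hinj : Function.Injective cs) :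
    (∀ i, cs i ≠ 0) ∧ ∀ i j, i ≠ j → cs j ≠ cs i ∧ cs j ≠ -cs i :=
  ⟨fun i e => absurd ((congrFun e 0).symm.trans (F.mem_Supp.mp (h i)).1) (by decide),
    fun i j hij => ⟨fun e => hij (hinj e).symm,
      norm5_ne _ _ (Or.inl (F.mem_Supp.mp (h i)).1) (Or.inl (F.mem_Supp.mp (h j)).1)⟩⟩

theorem supp_count [Finite V] : F.Supp.card ≤ 6 := by
  obtain ⟨h0, hsep⟩ := F.supp_sep (cs := fun c : F.Supp => (c : C5)) (fun c => c.2) Subtype.val_injective
  have h := F.W.count h0 hsep fun c => (F.mem_Supp.mp c.2).2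
  rw [F.cardV, Fintype.card_coe, show (4096 : ℕ) = 4 ^ 6 by norm_num] at h
  exact (Nat.pow_le_pow_iff_right (by norm_num)).mp h

/-- The permutation action on the occurring functionals. -/
noncomputable def σ : F.Nh →* Equiv.Perm F.Supp :=
  MonoidHom.mk' (fun g =>
    { toFun := fun c => ⟨F.Tc g⁻¹ c, F.mem_Supp.mpr
        ⟨(F.Tc_zero _ _).trans (F.mem_Supp.mp c.2).1, F.space_ne_bot _ (F.mem_Supp.mp c.2).2⟩⟩
      invFun := fun c => ⟨F.Tc g c, F.mem_Supp.mpr
        ⟨(F.Tc_zero _ _).trans (F.mem_Supp.mp c.2).1, F.space_ne_bot _ (F.mem_Supp.mp c.2).2⟩⟩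
      left_inv := fun c => Subtype.ext (by show F.Tc g (F.Tc g⁻¹ c) = _; rw [← Tc_mul, inv_mul_cancel, Tc_one])
      right_inv := fun c => Subtype.ext (by show F.Tc g⁻¹ (F.Tc g c) = _; rw [← Tc_mul, mul_inv_cancel, Tc_one]) })
    fun g h => Equiv.ext fun c => Subtype.ext (by
      show F.Tc (g * h)⁻¹ c = F.Tc g⁻¹ (F.Tc h⁻¹ c)
      rw [_root_.mul_inv_rev, Tc_mul])

theorem σ_symm_apply (g : F.Nh) (c : F.Supp) : (((F.σ g).symm c : F.Supp) : C5) = F.Tc g c := rfl

end FSetting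

end Cfsg.Lib.LargeFischer
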