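import Cfsg.Agent.LargeFischer.InvolutionClasses

/-!
The Thompson subgroup of a Sylow two-subgroup in a group of large Fischer type.
-/

set_option autoImplicit false
set_option maxRecDepth 100000
set_option maxHeartbeats 1000000
set_option linter.unusedSectionVars false
set_option linter.style.haveILetI false

namespace Cfsg.Lib.LargeFischer

open Subgroup

universe u

theorem map_elementary {H K : Type*} [Group H] [Group K] (f : H →* K) {A : Subgroup H}
    (h : Cfsg.IsElementaryAbelian 2 A) : Cfsg.IsElementaryAbelian 2 (A.map f) := by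
  refine ⟨⟨⟨?_⟩⟩, ?_⟩
  · rintro ⟨_, a, ha, rfl⟩ ⟨_, b, hb, rfl⟩
    refine Subtype.ext ?_
    show f a * f b = f b * f a
    have hab : a * b = b * a := congrArg Subtype.val (h.1.is_comm.comm ⟨a, ha⟩ ⟨b, hb⟩)
    rw [← map_mul, ← map_mul, hab]
  · rintro _ ⟨a, ha, rfl⟩
    rw [← map_pow, h.2 a ha, map_one]

theorem elementary_isPGroup {H : Type*} [Group H] {A : Subgroup H} (h : Cfsg.IsElementaryAbelian 2 A) :
    IsPGroup 2 ↥A := fun a => ⟨1, Subtype.ext (by rw [pow_one, SubmonoidClass.coe_pow]; exact h.2 _ a.2)⟩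

variable {G : Type u} [Group G] [Finite G] {z : G} {Q : Subgroup (centralizer ({z} : Set G))} [Q.Normal]

/-- A Sylow subgroup of the centralizer is one of the group. -/
theorem sylow_group (c : Ctx z Q) (S : Sylow 2 ↥(centralizer ({z} : Set G))) :
    ∃ S' : Sylow 2 G, (S' : Subgroup G) = (S : Subgroup ↥(centralizer ({z} : Set G))).map (centralizer ({z} : Set G)).subtype := by
  haveI : Fact (Nat.Prime 2) := ⟨Nat.prime_two⟩
  set S0 := (S : Subgroup ↥(centralizer ({z} : Set G))).map (centralizer ({z} : Set G)).subtype with hS0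
  obtain ⟨S', hle⟩ := (S.2.map (centralizer ({z} : Set G)).subtype).exists_le_sylow
  refine ⟨S', le_antisymm ?_ hle⟩
  have hQS : Q ≤ (S : Subgroup ↥(centralizer ({z} : Set G))) :=
    (IsPGroup.of_card (p := 2) (n := 13) c.card).le_sylow_of_normal S
  have hnorm : (S' : Subgroup G) ⊓ normalizer (S0 : Set G) ≤ S0 := by
    set K := (S' : Subgroup G) ⊓ normalizer (S0 : Set G) with hK
    have hKH : K ≤ centralizer ({z} : Set G) := by
      intro n hn
      have hzS : z ∈ S0 := ⟨c.zq, hQS c.zq.2, c.zv⟩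
      have hnz : n * z * n⁻¹ ∈ S0 := (mem_normalizer_iff.mp hn.2 z).mp hzS
      have hcomm : ∀ s ∈ S0, Commute s (n * z * n⁻¹) := by
        intro s hs
        have hs' : n⁻¹ * s * n ∈ S0 := (mem_normalizer_iff''.mp hn.2 s).mp hs
        obtain ⟨w, -, hw⟩ := hs'
        have hwz : Commute (n⁻¹ * s * n) z := by
          rw [← hw]; exact mem_centralizer_singleton_iff.mp w.2
        have h := hwz.map (MulAut.conj n).toMonoidHom
        have e : (MulAut.conj n).toMonoidHom (n⁻¹ * s * n) = s := by simp [mul_assoc]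
        rw [e] at h
        exact h
      have hQ : n * z * n⁻¹ ∈ Q.map (centralizer ({z} : Set G)).subtype := c.CQ (mem_centralizer_iff.mpr fun q hq =>
        (hcomm q (Subgroup.map_mono hQS hq)).eq)
      rcases c.X2g.cen _ hQ (fun a ha => hcomm a (Subgroup.map_mono hQS ha)) with e | e
      · exact absurd (conj_eq_one_iff.mp e) c.X2g.ne
      · exact mem_centralizer_singleton_iff.mpr (mul_inv_eq_iff_eq_mul.mp e)
    have hSK : (S : Subgroup ↥(centralizer ({z} : Set G))) ≤ K.subgroupOf (centralizer ({z} : Set G)) := fun s hs =>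
      mem_subgroupOf.mpr ⟨hle ⟨s, hs, rfl⟩, le_normalizer ⟨s, hs, rfl⟩⟩
    have he := S.3 ((S'.2.to_le inf_le_left : IsPGroup 2 ↥K).comap_subtype) hSK
    intro n hn
    exact ⟨⟨n, hKH hn⟩, he.le (mem_subgroupOf.mpr hn), rfl⟩
  haveI : Group.IsNilpotent ↥(S' : Subgroup G) := S'.2.isNilpotent
  by_contra hnot
  have hlt : S0.subgroupOf (S' : Subgroup G) < ⊤ := lt_top_iff_ne_top.mpr fun e => hnot (subgroupOf_eq_top.mp e)
  obtain ⟨n, hn, hn'⟩ := SetLike.exists_of_lt (Group.normalizerCondition_of_isNilpotent (G := ↥(S' : Subgroup G)) _ hlt)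
  refine hn' (mem_subgroupOf.mpr (hnorm ⟨n.2, mem_normalizer_iff.mpr fun s => ?_⟩))
  have hn2 := mem_normalizer_iff.mp hn
  constructor
  · intro hs
    exact mem_subgroupOf.mp ((hn2 ⟨s, hle hs⟩).mp (mem_subgroupOf.mpr hs))
  · intro hs
    have hsS : s ∈ (S' : Subgroup G) := by
      have h := mul_mem (mul_mem (inv_mem n.2) (hle hs)) n.2
      simpa [mul_assoc] using h
    exact mem_subgroupOf.mp ((hn2 ⟨s, hsS⟩).mpr (mem_subgroupOf.mpr hs))

/-- The largest elementary abelian subgroup of a Sylow two-subgroup of the group. -/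
theorem thompson_all (hF : Cfsg.IsOfLargeFischerTypeAt z Q) (T : Sylow 2 G) :
    ∃ A : Subgroup G, Cfsg.thompsonSubgroupOf 2 (T : Subgroup G) = A ∧ Cfsg.IsElementaryAbelian 2 A ∧
      Nat.card ↥A = 2 ^ 11 ∧ A ≤ T ∧
      (∀ B : Subgroup G, B ≤ T → Cfsg.IsElementaryAbelian 2 B → 2 ^ 11 ≤ Nat.card ↥B → B = A) ∧
      (∀ a ∈ A, ∃ y : ↥Q, IsConj a ((y : ↥(centralizer ({z} : Set G))) : G)) ∧
      (∃ a ∈ A, a ≠ 1 ∧ IsConj z a) ∧ ∃ a ∈ A, a ≠ 1 ∧ ¬ IsConj z a := by
  classical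
  haveI : Fact (Nat.Prime 2) := ⟨Nat.prime_two⟩
  obtain ⟨c⟩ := exists_ctx hF
  obtain ⟨g, x, hg, hxz⟩ := Ctx.exists_conj hF
  obtain ⟨P⟩ := c.exists_linePt ⟨g, ⟨hg ▸ (x : ↥(centralizer ({z} : Set G))).2, by
    convert x.2 using 1
    exact Subtype.ext hg⟩, hg ▸ hxz⟩
  obtain ⟨X, hX, hXQ⟩ := c.exists_order_three hF
  obtain ⟨T3⟩ := c.exists_three hF X hX hXQ
  have hA0 : Cfsg.IsElementaryAbelian 2 (Ctx.Three.A P) := Ctx.Three.A_elementary T3 P
  obtain ⟨S, hAS⟩ := (elementary_isPGroup hA0).exists_le_sylow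
  obtain ⟨A1, -, -, -, -, -, huniq⟩ := max_elementary hF S
  have hA1 : Ctx.Three.A P = A1 := (huniq _ hAS hA0).2 (Ctx.Three.A_card T3 P).ge
  obtain ⟨S', hS'⟩ := sylow_group c S
  obtain ⟨k, hk⟩ := MulAction.exists_smul_eq G S' T
  set ι := ((MulAut.conj k).toMonoidHom.comp (centralizer ({z} : Set G)).subtype) with hι
  have hinj : Function.Injective ι := (MulAut.conj k).injective.comp (centralizer ({z} : Set G)).subtype_injective
  have hTS : (T : Subgroup G) = (S : Subgroup ↥(centralizer ({z} : Set G))).map ι := by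
    rw [hι, ← Subgroup.map_map, ← hS', ← hk]
    rfl
  set A := (Ctx.Three.A P).map ι with hA
  have hAe : Cfsg.IsElementaryAbelian 2 A := map_elementary ι hA0
  have hAc : Nat.card ↥A = 2 ^ 11 := by rw [hA, card_map_of_injective hinj, Ctx.Three.A_card T3 P]
  have hAT : A ≤ (T : Subgroup G) := hTS ▸ Subgroup.map_mono hAS
  have hB : ∀ B : Subgroup G, B ≤ T → Cfsg.IsElementaryAbelian 2 B →
      Nat.card ↥B ≤ 2 ^ 11 ∧ (2 ^ 11 ≤ Nat.card ↥B → B = A) := by
    intro B hBT hBe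
    set B0 := B.comap ι with hB0
    have hmap : B0.map ι = B := by
      rw [hB0, map_comap_eq, inf_eq_right]
      intro b hb
      obtain ⟨s, -, hs⟩ := (hTS ▸ hBT hb : b ∈ (S : Subgroup ↥(centralizer ({z} : Set G))).map ι)
      exact ⟨s, hs⟩
    have hB0S : B0 ≤ (S : Subgroup ↥(centralizer ({z} : Set G))) := fun b hb => by
      obtain ⟨s, hs, hse⟩ := (hTS ▸ hBT hb : ι b ∈ (S : Subgroup ↥(centralizer ({z} : Set G))).map ι)
      rwa [← hinj hse]
    have hB0e : Cfsg.IsElementaryAbelian 2 B0 := by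
      refine ⟨⟨⟨fun a b => Subtype.ext (hinj ?_)⟩⟩, fun a ha => hinj ?_⟩
      · show ι ((a : ↥(centralizer ({z} : Set G))) * b) = ι ((b : ↥(centralizer ({z} : Set G))) * a)
        rw [map_mul, map_mul]
        exact congrArg Subtype.val (hBe.1.is_comm.comm ⟨_, a.2⟩ ⟨_, b.2⟩)
      · rw [map_pow, map_one]; exact hBe.2 _ ha
    obtain ⟨h1, h2⟩ := huniq B0 hB0S hB0e
    have hcard : Nat.card ↥B0 = Nat.card ↥B := by rw [← hmap, card_map_of_injective hinj]
    rw [hcard] at h1 h2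
    exact ⟨h1, fun h => by rw [← hmap, h2 h, hA, hA1]⟩
  refine ⟨A, ?_, hAe, hAc, hAT, fun B h1 h2 => (hB B h1 h2).2, ?_, ?_, ?_⟩
  · have hset : Cfsg.maxElementaryAbelianSubgroups 2 ↥(T : Subgroup G) = {A.subgroupOf (T : Subgroup G)} := by
      have hmapA : (A.subgroupOf (T : Subgroup G)).map (T : Subgroup G).subtype = A := by
        rw [subgroupOf_map_subtype, inf_of_le_left hAT]
      have hcardA : Nat.card ↥(A.subgroupOf (T : Subgroup G)) = 2 ^ 11 := by
        rw [Nat.card_congr (subgroupOfEquivOfLe hAT).toEquiv, hAc]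
      have hAel : Cfsg.IsElementaryAbelian 2 (A.subgroupOf (T : Subgroup G)) :=
        ⟨⟨⟨fun a b => Subtype.ext (Subtype.ext
          (congrArg Subtype.val (hAe.1.is_comm.comm ⟨_, a.2⟩ ⟨_, b.2⟩) :))⟩⟩, fun a ha => Subtype.ext (hAe.2 _ ha)⟩
      have hup : ∀ B : Subgroup ↥(T : Subgroup G), Cfsg.IsElementaryAbelian 2 B →
          Nat.card ↥B ≤ 2 ^ 11 ∧ (2 ^ 11 ≤ Nat.card ↥B → B = A.subgroupOf (T : Subgroup G)) := by
        intro B hBe
        obtain ⟨h1, h2⟩ := hB _ (Subgroup.map_subtype_le B) (map_elementary _ hBe)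
        rw [card_map_of_injective (T : Subgroup G).subtype_injective] at h1 h2
        refine ⟨h1, fun h => Subgroup.map_injective (T : Subgroup G).subtype_injective ?_⟩
        rw [h2 h, hmapA]
      refine Set.ext fun B => ⟨fun hB' => (hup B hB'.1).2 (hcardA ▸ hB'.2 _ hAel), ?_⟩
      rintro rfl
      exact ⟨hAel, fun B hB' => hcardA ▸ (hup B hB').1⟩
    rw [Cfsg.thompsonSubgroupOf, Cfsg.thompsonSubgroup, hset, sSup_singleton, subgroupOf_map_subtype,
      inf_of_le_left hAT]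
  · rintro _ ⟨a, ha, rfl⟩
    obtain ⟨y, hy⟩ := Ctx.Three.A_conj_Q T3 P ha
    exact ⟨y, (isConj_iff.mpr ⟨k, rfl⟩ : IsConj ((a : ↥(centralizer ({z} : Set G))) : G) (ι a)).symm.trans hy⟩
  · have hzA : c.zH ∈ Ctx.Three.A P := by
      have h : c.zH ∈ c.pre P.SA := c.mem_pre.mpr ⟨c.zH_mem, by
        rw [show (⟨c.zH, c.zH_mem⟩ : ↥Q) = c.zq from rfl, show c.pt c.zq = 0 from c.D.π_z]; exact zero_mem _⟩
      rw [← Ctx.Three.A_inter] at h
      exact h.1
    refine ⟨ι c.zH, mem_map_of_mem ι hzA, fun e => c.zH_ne (hinj (e.trans (map_one ι).symm)), ?_⟩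
    refine isConj_iff.mpr ⟨k, ?_⟩
    show k * z * k⁻¹ = k * (c.zH : G) * k⁻¹
    rw [c.zH_val]
  · obtain ⟨y, hy, hy2, hyn⟩ := P.exists_short
    rw [← Ctx.Three.A_inter] at hy
    refine ⟨ι (y : ↥(centralizer ({z} : Set G))), mem_map_of_mem ι hy.1, fun e => ?_, fun hc => hyn (hc.trans ?_)⟩
    · have h1 : (y : ↥(centralizer ({z} : Set G))) = 1 := hinj (e.trans (map_one ι).symm)
      rw [h1, OneMemClass.coe_one, orderOf_one] at hy2
      norm_num at hy2
    · exact (isConj_iff.mpr ⟨k, rfl⟩ : IsConj (((y : ↥(centralizer ({z} : Set G))) : G)) (ι y)).symm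

/-- Fusion control and the two classes. -/
theorem thompson_fusion (hF : Cfsg.IsOfLargeFischerTypeAt z Q) (T : Sylow 2 G) (A M : Subgroup G)
    (hA : A = Cfsg.thompsonSubgroupOf 2 (T : Subgroup G)) (hM : M = normalizer (A : Set G)) :
    (∀ a ∈ A, ∀ g : G, g * a * g⁻¹ ∈ A → ∃ m ∈ M, m * a * m⁻¹ = g * a * g⁻¹) ∧ (∃ a ∈ A, a ≠ 1 ∧ IsConj z a) ∧
      (∃ a ∈ A, a ≠ 1 ∧ ¬ IsConj z a) ∧
      ∀ a ∈ A, ∀ b ∈ A, a ≠ 1 → b ≠ 1 → (IsConj z a ↔ IsConj z b) → ∃ m ∈ M, m * a * m⁻¹ = b := by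
  classical
  haveI : Fact (Nat.Prime 2) := ⟨Nat.prime_two⟩
  obtain ⟨A', hA', hel, hcard, -, -, hQ, hcen, hnc⟩ := thompson_all hF T
  rw [hA'] at hA
  subst hA
  have hctrl : ∀ a ∈ A, ∀ g : G, g * a * g⁻¹ ∈ A → ∃ m ∈ M, m * a * m⁻¹ = g * a * g⁻¹ := by
    intro a ha g hga
    set b := g * a * g⁻¹ with hb
    set C := centralizer ({b} : Set G) with hC
    have hcA : ∀ w ∈ A, ∀ w' ∈ A, w * w' = w' * w := fun w hw w' hw' =>
      congrArg Subtype.val (hel.1.is_comm.comm ⟨w, hw⟩ ⟨w', hw'⟩)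
    set B := A.map (MulAut.conj g).toMonoidHom with hB
    have hBe : Cfsg.IsElementaryAbelian 2 B := map_elementary _ hel
    have hBC : B ≤ C := by
      rintro _ ⟨w, hw, rfl⟩
      refine mem_centralizer_singleton_iff.mpr ?_
      show g * w * g⁻¹ * b = b * (g * w * g⁻¹)
      rw [hb, show g * w * g⁻¹ * (g * a * g⁻¹) = g * (w * a) * g⁻¹ by group, hcA w hw a ha]
      group
    have hAC : A ≤ C := fun w hw => mem_centralizer_singleton_iff.mpr (hcA w hw b hga)
    obtain ⟨S1, hS1⟩ := ((elementary_isPGroup hel).comap_subtype (K := C)).exists_le_sylow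
    obtain ⟨S2, hS2⟩ := ((elementary_isPGroup hBe).comap_subtype (K := C)).exists_le_sylow
    obtain ⟨cc, hcc⟩ := MulAction.exists_smul_eq ↥C S2 S1
    obtain ⟨T', hT'⟩ := (S1.2.map C.subtype).exists_le_sylow
    obtain ⟨A2, -, -, -, -, huniq, -, -, -⟩ := thompson_all hF T'
    have h1 : A = A2 := huniq A (fun w hw => hT' ⟨⟨w, hAC hw⟩, hS1 (show (⟨w, hAC hw⟩ : ↥C) ∈ A.comap C.subtype from hw), rfl⟩)
      hel hcard.ge
    have h2 : B.map (MulAut.conj (cc : G)).toMonoidHom = A2 := huniq _ (by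
      rintro _ ⟨w, hw, rfl⟩
      have hm : MulAut.conj cc ⟨w, hBC hw⟩ ∈ (S1 : Subgroup ↥C) := by
        rw [← hcc]
        exact ⟨_, hS2 (show (⟨w, hBC hw⟩ : ↥C) ∈ B.comap C.subtype from hw), rfl⟩
      exact hT' ⟨_, hm, rfl⟩) (map_elementary _ hBe)
      (by rw [card_map_of_injective (MulAut.conj (cc : G)).injective, hB, card_map_of_injective (MulAut.conj g).injective, hcard])
    refine ⟨(cc : G) * g, ?_, ?_⟩
    · rw [hM]
      have hmap : A.map (MulAut.conj ((cc : G) * g)).toMonoidHom = A := by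
        rw [h1] at hB ⊢
        conv_rhs => rw [← h2, hB, Subgroup.map_map]
        congr 1
        exact MonoidHom.ext fun w => by simp [mul_assoc]
      refine mem_normalizer_iff.mpr fun w => ⟨fun hw => ?_, fun hw => ?_⟩
      · rw [← hmap]; exact ⟨w, hw, rfl⟩
      · rw [← hmap] at hw
        obtain ⟨w', hw', he⟩ := hw
        rwa [← (MulAut.conj ((cc : G) * g)).injective he]
    · have hcb : (cc : G) * b = b * (cc : G) := mem_centralizer_singleton_iff.mp cc.2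
      rw [show (cc : G) * g * a * ((cc : G) * g)⁻¹ = (cc : G) * b * (cc : G)⁻¹ by rw [hb]; group, hcb]
      group
  refine ⟨hctrl, hcen, hnc, fun a ha b hb ha1 hb1 hiff => ?_⟩
  suffices IsConj a b by
    obtain ⟨g, hg⟩ := isConj_iff.mp this
    obtain ⟨m, hm, hme⟩ := hctrl a ha g (hg.symm ▸ hb)
    exact ⟨m, hm, hme.trans hg⟩
  by_cases hz : IsConj z a
  · exact hz.symm.trans (hiff.mp hz)
  have hzb : ¬ IsConj z b := fun h => hz (hiff.mpr h)
  obtain ⟨c⟩ := exists_ctx hF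
  obtain ⟨g, x, hg, hxz⟩ := Ctx.exists_conj hF
  have hzc : ∃ g : G, (∃ hq : g * z * g⁻¹ ∈ centralizer ({z} : Set G),
      (⟨g * z * g⁻¹, hq⟩ : centralizer ({z} : Set G)) ∈ Q) ∧ g * z * g⁻¹ ≠ z :=
    ⟨g, ⟨hg ▸ (x : ↥(centralizer ({z} : Set G))).2, by convert x.2 using 1; exact Subtype.ext hg⟩, hg ▸ hxz⟩
  obtain ⟨P⟩ := c.exists_linePt hzc
  obtain ⟨ya, hya⟩ := hQ a ha
  obtain ⟨yb, hyb⟩ := hQ b hb
  have key : ∀ w ∈ A, w ≠ 1 → ∀ y : G, IsConj w y → orderOf y = 2 := fun w hw hw1 y hy => by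
    obtain ⟨k, rfl⟩ := isConj_iff.mp hy
    exact orderOf_eq_prime (by rw [conj_pow, hel.2 w hw, mul_one, mul_inv_cancel]) fun e => hw1 (conj_eq_one_iff.mp e)
  exact hya.trans ((P.short_conj hzc (key a ha ha1 _ hya) (key b hb hb1 _ hyb) (fun h => hz (h.trans hya.symm))
    (fun h => hzb (h.trans hyb.symm))).trans hyb.symm)

end Cfsg.Lib.LargeFischer
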