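import Cfsg.Agent.LargeFischer.Scalars
import Cfsg.Agent.S0280
import Cfsg.Agent.S0283
import Cfsg.Agent.Classical.Unitary.Matrix

/-!
The stabiliser of a vector in the small orbit is the unitary group of dimension four over four elements.
-/

set_option autoImplicit false
set_option maxRecDepth 100000
set_option maxHeartbeats 1000000
set_option linter.unusedSectionVars false
set_option linter.style.haveILetI false

namespace Cfsg.Lib.LargeFischer

open Matrix Finset

universe u v w

theorem f4_semilinear {α : Type*} (L : (α → F4) →+ (α → F4)) (h : ∀ x, L (w4 • x) = w4 • L x) (a : F4) (x : α → F4) :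
    L (a • x) = a • L x := by
  rcases f4_cases a with rfl | rfl | rfl | rfl
  · rw [zero_smul, zero_smul, map_zero]
  · rw [one_smul, one_smul]
  · exact h x
  · rw [add_smul, add_smul, one_smul, one_smul, map_add, h]

theorem f4_herm : ∀ a b : F4, a = b ↔ (a.im = b.im ∧ (w4 * a).im = (w4 * b).im) := by decide +kernel

theorem f4_perp : ∀ a b : F4, (a * 1 ^ 2 + b * 1 ^ 2).im = 0 → (a * w4 ^ 2 + b * w4 ^ 2).im = 0 → a = b := by
  decide +kernel

theorem f4_one_of_norm : ∀ a b : F4, (a * a ^ 2).re + (b * b ^ 2).re = 1 → (a + b).im = 0 → ((a + b) * w4 ^ 2).im = 1 →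
    (a = 1 ∧ b = 0) ∨ (a = 0 ∧ b = 1) := by
  decide +kernel

theorem f4_twist : ∀ (k : ZMod 3) (a : F4), a * wp k = wp k * a := fun _ _ => mul_comm _ _

theorem wp_ne : ∀ k : ZMod 3, k ≠ 0 → ∀ a : F4, a ≠ 0 → wp k * a ≠ a := by decide +kernel

theorem wp_inj_neg : ∀ k : ZMod 3, wp k * wp (-k) = 1 := by decide +kernel

theorem center_su_four : Subgroup.center ↥(Cfsg.SU 4 F4 2) = ⊥ := by
  rw [← Subgroup.card_eq_one, Cfsg.Lib.Classical.card_center_SU (F := F4) (q := 2) (by rw [card_F4]; norm_num)
    (by norm_num : 2 ≤ 4)]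
  rfl

theorem psu_four : IsSimpleGroup (Cfsg.PSU 4 F4 2) ∧ Nat.card (Cfsg.PSU 4 F4 2) = 25920 := by
  refine ⟨Cfsg.Agent.S0283.result (by rw [card_F4]; norm_num) 4 (by norm_num) (by simp), ?_⟩
  have h1 := Cfsg.Agent.S0280.result (F := F4) (q := 2) (by rw [card_F4]; norm_num) 4 (by norm_num)
  norm_num [Finset.prod_range_succ, Nat.even_iff] at h1
  omega

/-- The unitary group of dimension four over four elements has no small proper subgroup index. -/
theorem su_four_index (H : Subgroup ↥(Cfsg.SU 4 F4 2)) (h : H.index ≤ 7) : H = ⊤ := by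
  obtain ⟨hs, hc⟩ := psu_four
  haveI := hs
  let e : ↥(Cfsg.SU 4 F4 2) ≃* Cfsg.PSU 4 F4 2 :=
    QuotientGroup.quotientBot.symm.trans (QuotientGroup.quotientMulEquivOfEq center_su_four.symm)
  haveI : IsSimpleGroup ↥(Cfsg.SU 4 F4 2) := e.isSimpleGroup
  haveI := Fintype.ofFinite (↥(Cfsg.SU 4 F4 2) ⧸ H)
  rcases IsSimpleGroup.eq_bot_or_eq_top_of_normal H.normalCore inferInstance with hb | ht
  · exfalso
    have hinj : Function.Injective (MulAction.toPermHom ↥(Cfsg.SU 4 F4 2) (↥(Cfsg.SU 4 F4 2) ⧸ H)) := by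
      rw [← MonoidHom.ker_eq_bot_iff, ← Subgroup.normalCore_eq_ker, hb]
    have h1 := Nat.card_le_card_of_injective _ hinj
    rw [Nat.card_congr e.toEquiv, hc, Nat.card_perm] at h1
    have h2 := Nat.factorial_le h
    rw [Subgroup.index] at h2
    have := h1.trans h2
    norm_num [Nat.factorial] at this
  · exact top_le_iff.mp (ht.ge.trans H.normalCore_le)

namespace FSetting

variable {X : Type u} [Group X] {S : Type w} [Group S] {V : Type v} [AddCommGroup V] [Finite V]
  (F : FSetting X S V)

/-- Coordinates of the base point. -/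
def v0c : Fin 6 → F4 := ![1, 1, 0, 0, 0, 0]

/-- The base point. -/
noncomputable def v0 : V := F.mk6 v0c

theorem v0_small : ∃ k : Fin 5, F.orb F.v0 = F.orb (F.rep k) ∧ Nat.card (F.orb (F.rep k)) = 378 ∧
    ∀ f, Sing6 f → F.dec f ∈ F.orb (F.rep k) → cls f = 0 ∨ cls f = k := by
  classical
  obtain ⟨k, hk0, hk1, hnot, h378, hall, hcl⟩ := F.two_orbits
  let f₀ : Cd := fun i => code4 (v0c i)
  have hs0 : Sing6 f₀ ∧ cls f₀ = 0 := by
    simp only [f₀]
    decide +kernel
  have hmem : F.rep 0 ∈ F.orb (F.rep k) := by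
    by_contra hno
    have hsub : ∀ b : F.orb (F.rep k), ∃ f : Cd, F.dec f = b.1 ∧ Sing6 f ∧ cls f = k := fun b => by
      obtain ⟨f, hf⟩ := F.dec_bijective.2 b.1
      have hfs := (F.sing_iff f).mp (hf ▸ F.orb_sing (F.rep_sing k) b.2)
      refine ⟨f, hf, hfs, (hcl f hfs (hf ▸ b.2)).resolve_left fun h0 => hno ?_⟩
      have h := F.mem_orb_rep hfs
      rw [h0] at h
      rw [← F.orb_eq (hf ▸ b.2 : F.dec f ∈ F.orb (F.rep k)), F.orb_eq h]
      exact F.orb_self _
    choose f hf hfs using hsub
    have hle := Nat.card_le_card_of_injective (fun b => (⟨f b, hfs b⟩ : {f : Cd // Sing6 f ∧ cls f = k}))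
      fun a b e => Subtype.ext (by rw [← hf a, ← hf b]; exact congrArg (fun x : {f : Cd // Sing6 f ∧ cls f = k} => F.dec x.1) e)
    rw [h378, Nat.card_eq_fintype_card, Fintype.card_subtype, cls_card] at hle
    have := (show ∀ k : Fin 5, k ≠ 0 → k ≠ 1 → size5 k = 243 by decide) k hk0 hk1
    omega
  have h := F.mem_orb_rep hs0.1
  rw [hs0.2, F.orb_eq hmem] at h
  exact ⟨k, F.orb_eq h, h378, hcl⟩

theorem v0_card : Nat.card (F.orb F.v0) = 378 := by
  obtain ⟨k, he, h, -⟩ := F.v0_small
  rw [he, h]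

/-- The stabiliser of the base point. -/
def K0 : Subgroup X where
  carrier := {g | F.ρ g F.v0 = F.v0}
  one_mem' := by show F.ρ 1 _ = _; rw [map_one]; rfl
  mul_mem' := fun {a b} (ha : _ = _) (hb : _ = _) => by
    show F.ρ (a * b) _ = _; rw [map_mul, Equiv.Perm.mul_apply, hb, ha]
  inv_mem' := fun {a} (ha : _ = _) => by
    show F.ρ a⁻¹ _ = _
    apply (F.ρ a).injective
    rw [← Equiv.Perm.mul_apply, ← map_mul, mul_inv_cancel, map_one, ha]; rfl

theorem K0_card : Nat.card F.K0 = 25920 := by
  haveI := F.finiteX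
  letI : MulAction X V := MulAction.compHom V F.ρ
  have h := Subgroup.card_eq_card_quotient_mul_card_subgroup (MulAction.stabilizer X F.v0)
  rw [← Nat.card_congr (MulAction.orbitEquivQuotientStabilizer X F.v0),
    show MulAction.orbit X F.v0 = F.orb F.v0 from rfl, v0_card, F.cardX,
    show MulAction.stabilizer X F.v0 = F.K0 from rfl] at h
  exact Nat.eq_of_mul_eq_mul_left (by norm_num : (0 : ℕ) < 378) (h.symm.trans (by norm_num))

/-- A symmetry of the module: additive, form-preserving and commuting with the cube root. -/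
structure Sym (c : V → V) : Prop where
  add : ∀ a b, c (a + b) = c a + c b
  B : ∀ a b, F.B (c a) (c b) = F.B a b
  q : ∀ a, F.q (c a) = F.q a
  om : ∀ a, c (F.om a) = F.om (c a)

theorem sym_rho (g : X) : F.Sym (F.ρ g) := ⟨F.ρ_add g, F.B_inv g, F.ρ_q g, F.om_comm g⟩

/-- Vectors on the last four planes. -/
noncomputable def low (x : Fin 4 → F4) : V := F.mk6 (vecCons 0 (vecCons 0 x))

/-- Vectors on the line of the base point. -/
noncomputable def line (a : F4) : V := F.mk6 (vecCons a (vecCons a 0))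

theorem low_add (x y : Fin 4 → F4) : F.low (x + y) = F.low x + F.low y := by
  rw [low, low, low, ← F.mk6_add]
  congr 1
  funext i
  refine Fin.cases (by simp) (fun i => Fin.cases (by simp) (fun i => by simp) i) i

theorem line_add (a b : F4) : F.line (a + b) = F.line a + F.line b := by
  rw [line, line, line, ← F.mk6_add]
  congr 1
  funext i
  refine Fin.cases (by simp) (fun i => Fin.cases (by simp) (fun i => by simp) i) i

theorem om_low (x : Fin 4 → F4) : F.om (F.low x) = F.low (w4 • x) := F.co_ext fun i => by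
  rw [co_om, low, low, co_mk6, co_mk6]
  refine Fin.cases (by simp) (fun i => Fin.cases (by simp) (fun i => by simp) i) i

theorem om_line (a : F4) : F.om (F.line a) = F.line (w4 * a) := F.co_ext fun i => by
  rw [co_om, line, line, co_mk6, co_mk6]
  refine Fin.cases (by simp) (fun i => Fin.cases (by simp) (fun i => by simp) i) i

theorem line_one : F.line 1 = F.v0 := by
  rw [line, v0]
  congr 1
  funext i
  fin_cases i <;> rfl

theorem sym_line {c : V → V} (hc : F.Sym c) (h0 : c F.v0 = F.v0) (a : F4) : c (F.line a) = F.line a := by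
  have hw : c (F.line w4) = F.line w4 := by
    rw [← mul_one w4, ← om_line, line_one, hc.om, h0]
  have hz : c (F.line 0) = F.line 0 := by
    have e : F.line 0 = 0 := F.co_ext fun i => by
      rw [line, co_mk6, co_zero]
      refine Fin.cases rfl (fun i => Fin.cases rfl (fun i => rfl) i) i
    rw [e]
    have h := hc.add 0 0
    rw [add_zero] at h
    simpa using h
  rcases f4_cases a with rfl | rfl | rfl | rfl
  · exact hz
  · rwa [line_one]
  · exact hw
  · rw [line_add, hc.add, line_one, h0, hw]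

theorem co_low (x : Fin 4 → F4) (i : Fin 6) : F.co i (F.low x) = vecCons 0 (vecCons 0 x) i := F.co_mk6 _ _

theorem co_line (a : F4) (i : Fin 6) : F.co i (F.line a) = vecCons a (vecCons a 0) i := F.co_mk6 _ _

theorem co_v0 (i : Fin 6) : F.co i F.v0 = v0c i := F.co_mk6 _ _

theorem B_v0 (u : V) : F.B u F.v0 = (F.co 0 u + F.co 1 u).im := by
  rw [B_co]
  simp only [co_v0, Fin.sum_univ_six, v0c]
  simp

theorem B_wv0 (u : V) : F.B u (F.om F.v0) = ((F.co 0 u + F.co 1 u) * w4 ^ 2).im := by
  rw [B_co]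
  simp only [co_om, co_v0, Fin.sum_univ_six, v0c]
  simp [add_mul]

/-- The image of a vector of the last four planes. -/
theorem sym_low {c : V → V} (hc : F.Sym c) (h0 : c F.v0 = F.v0) (x : Fin 4 → F4) :
    c (F.low x) = F.low (fun i => F.co i.succ.succ (c (F.low x))) + F.line (F.co 0 (c (F.low x))) := by
  set u := c (F.low x) with hu
  have h1 : F.B u F.v0 = 0 := by
    conv_lhs => rw [hu, ← h0, hc.B, B_v0, co_low, co_low]
    simp
  have h2 : F.B u (F.om F.v0) = 0 := by
    conv_lhs => rw [hu, ← h0, ← hc.om, hc.B, B_wv0, co_low, co_low]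
    simp
  rw [B_v0] at h1
  rw [B_wv0] at h2
  have he := f4_perp (F.co 0 u) (F.co 1 u) (by simpa using h1) (by simpa [add_mul] using h2)
  refine F.co_ext fun i => ?_
  rw [co_add, co_low, co_line]
  refine Fin.cases (by simp) (fun i => Fin.cases (by simp [he]) (fun i => by simp) i) i

/-- A symmetry fixing the base point and the last four planes is trivial or the exchange of the first two. -/
theorem fix_or_swap {c : V → V} (hc : F.Sym c) (h0 : c F.v0 = F.v0) (hl : ∀ x, c (F.low x) = F.low x) :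
    (∀ v, c v = v) ∨ ∀ v, c v = F.mk6 (fun i => F.co (Equiv.swap 0 1 i) v) := by
  set e : V := F.mk6 ![1, 0, 0, 0, 0, 0] with he
  have hlow0 : ∀ i : Fin 4, F.co i.succ.succ (c e) = 0 := by
    intro i
    have hB : ∀ a : F4, F.B (c e) (F.low (Pi.single i a)) = 0 := fun a => by
      rw [← hl, hc.B, B_co]
      simp only [he, co_mk6, co_low, Fin.sum_univ_six]
      simp
    have h : ∀ a : F4, (F.co i.succ.succ (c e) * a ^ 2).im = 0 := fun a => by
      have h := hB a
      rw [B_co, Finset.sum_eq_single i.succ.succ] at h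
      · rw [co_low] at h
        simpa using h
      · intro j _ hj
        rw [co_low]
        revert hj
        refine Fin.cases (fun _ => by simp) (fun j => Fin.cases (fun _ => by simp) (fun j hj => ?_) j) j
        simp only [cons_val_succ]
        rw [Pi.single_eq_of_ne (fun e => hj (by rw [e]))]
        simp
      · simp
    have hh := (f4_herm (F.co i.succ.succ (c e)) 0).mpr
    refine hh ⟨by simpa using h 1, ?_⟩
    have h' := h (w4 * w4)
    rw [show (w4 * w4) ^ 2 = w4 by decide +kernel] at h'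
    rw [mul_comm]
    simpa using h'
  have hce : (F.co 0 (c e) = 1 ∧ F.co 1 (c e) = 0) ∨ (F.co 0 (c e) = 0 ∧ F.co 1 (c e) = 1) := by
    refine f4_one_of_norm _ _ ?_ ?_ ?_
    · have hq := F.B_co (c e) (F.om (c e))
      have hee : F.B e (F.om e) = 1 := by
        rw [B_co]
        simp only [he, co_om, co_mk6, Fin.sum_univ_six]
        decide +kernel
      rw [← hc.om, hc.B, hee, hc.om] at hq
      simp only [co_om, Fin.sum_univ_six] at hq
      have h2 := hlow0 0; have h3 := hlow0 1; have h4 := hlow0 2; have h5 := hlow0 3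
      rw [show (Fin.succ (Fin.succ (0 : Fin 4)) : Fin 6) = 2 from rfl] at h2
      rw [show (Fin.succ (Fin.succ (1 : Fin 4)) : Fin 6) = 3 from rfl] at h3
      rw [show (Fin.succ (Fin.succ (2 : Fin 4)) : Fin 6) = 4 from rfl] at h4
      rw [show (Fin.succ (Fin.succ (3 : Fin 4)) : Fin 6) = 5 from rfl] at h5
      simp only [h2, h3, h4, h5] at hq
      generalize F.co 0 (c e) = a, F.co 1 (c e) = b at hq ⊢
      revert a b
      decide +kernel
    · have h1 : F.B (c e) F.v0 = F.B e F.v0 := by conv_lhs => rw [← h0, hc.B]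
      simp only [B_v0, he, co_mk6] at h1
      rw [h1]; rfl
    · have h1 : F.B (c e) (F.om F.v0) = F.B e (F.om F.v0) := by conv_lhs => rw [← h0, ← hc.om, hc.B]
      simp only [B_wv0, he, co_mk6] at h1
      rw [h1]; decide +kernel
  have hdec : ∀ v, ∃ (a b : F4) (x : Fin 4 → F4), v = F.mk6 (vecCons a 0) + F.line b + F.low x ∧
      a + b = F.co 0 v ∧ b = F.co 1 v ∧ ∀ i, x i = F.co i.succ.succ v := fun v => by
    refine ⟨F.co 0 v + F.co 1 v, F.co 1 v, fun i => F.co i.succ.succ v, F.co_ext fun i => ?_, ?_, rfl, fun _ => rfl⟩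
    · rw [co_add, co_add, co_mk6, co_line, co_low]
      refine Fin.cases ?_ (fun i => Fin.cases (by simp) (fun i => by simp) i) i
      simp [add_assoc, f4_two]
    · rw [add_assoc, f4_two, add_zero]
  have hce' : ∀ a : F4, c (F.mk6 (vecCons a 0)) = F.mk6 (fun i => a * F.co i (c e)) := by
    have h1 : F.mk6 (vecCons 1 0) = e := by
      rw [he]; congr 1; funext i; fin_cases i <;> rfl
    have hw : c (F.mk6 (vecCons w4 0)) = F.mk6 (fun i => w4 * F.co i (c e)) := by
      have : F.mk6 (vecCons w4 0) = F.om e := F.co_ext fun i => by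
        rw [co_om, ← h1, co_mk6, co_mk6]
        refine Fin.cases (by simp) (fun i => by simp) i
      rw [this, hc.om]
      exact F.co_ext fun i => by rw [co_om, co_mk6]
    intro a
    rcases f4_cases a with rfl | rfl | rfl | rfl
    · have h := hc.add 0 0
      rw [add_zero] at h
      have h' : c 0 = 0 := by simpa using h
      have e0 : F.mk6 (vecCons (0 : F4) 0) = 0 := F.co_ext fun i => by
        rw [co_mk6, co_zero]; refine Fin.cases rfl (fun _ => rfl) i
      rw [e0, h']
      exact F.co_ext fun i => by rw [co_mk6, co_zero, zero_mul]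
    · rw [h1]; exact F.co_ext fun i => by rw [co_mk6, one_mul]
    · exact hw
    · have : F.mk6 (vecCons (1 + w4) 0) = F.mk6 (vecCons 1 0) + F.mk6 (vecCons w4 0) := by
        rw [← F.mk6_add]; congr 1; funext i; refine Fin.cases (by simp) (fun i => by simp) i
      rw [this, hc.add, h1, hw]
      exact F.co_ext fun i => by rw [co_add, co_mk6, co_mk6, add_mul, one_mul]
  rcases hce with ⟨ha, hb⟩ | ⟨ha, hb⟩
  · refine Or.inl fun v => ?_
    obtain ⟨a, b, x, hv, -, -, -⟩ := hdec v
    have : c (F.mk6 (vecCons a 0)) = F.mk6 (vecCons a 0) := by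
      rw [hce']
      congr 1
      funext i
      refine Fin.cases (by simp [ha]) (fun i => Fin.cases (by simp [hb]) (fun i => by simp [hlow0]) i) i
    rw [hv, hc.add, hc.add, this, F.sym_line hc h0, hl]
  · refine Or.inr fun v => ?_
    obtain ⟨a, b, x, hv, hab, hbv, hxv⟩ := hdec v
    have h1 : c v = F.mk6 (fun i => a * F.co i (c e)) + F.line b + F.low x := by
      conv_lhs => rw [hv]
      rw [hc.add, hc.add, hce', F.sym_line hc h0, hl]
    rw [h1]
    refine F.co_ext fun i => ?_
    rw [co_add, co_add, co_mk6, co_line, co_low, co_mk6]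
    refine Fin.cases ?_ (fun i => Fin.cases ?_ (fun i => ?_) i) i
    · simp [ha, hbv]
    · simp [hb, hab]
    · rw [Equiv.swap_apply_of_ne_of_ne (Fin.succ_ne_zero _) (Fin.succ_succ_ne_one i)]
      simp [hlow0, hxv]

/-- The four by four part. -/
noncomputable def part (g : X) : (Fin 4 → F4) →+ (Fin 4 → F4) :=
  AddMonoidHom.mk' (fun x i => F.co i.succ.succ (F.ρ g (F.low x))) fun x y => funext fun i => by
    rw [low_add, F.ρ_add, co_add]; rfl

theorem part_om (g : X) (x : Fin 4 → F4) : F.part g (w4 • x) = w4 • F.part g x := funext fun i => by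
  show F.co _ (F.ρ g (F.low (w4 • x))) = w4 * F.co _ _
  rw [← om_low, F.om_comm, co_om]

/-- The four by four matrix. -/
noncomputable def partMat (g : X) : Matrix (Fin 4) (Fin 4) F4 :=
  LinearMap.toMatrix' { toFun := F.part g, map_add' := map_add _, map_smul' := f4_semilinear _ (F.part_om g) }

theorem partMat_mulVec (g : X) (x : Fin 4 → F4) : F.partMat g *ᵥ x = F.part g x := by
  rw [partMat]; exact LinearMap.toMatrix'_mulVec _ x

theorem part_mul {g h : X} (hg : g ∈ F.K0) (hh : h ∈ F.K0) (x : Fin 4 → F4) :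
    F.part (g * h) x = F.part g (F.part h x) := funext fun i => by
  show F.co _ (F.ρ (g * h) (F.low x)) = F.co _ (F.ρ g (F.low (F.part h x)))
  have e := F.sym_low (F.sym_rho h) hh x
  rw [map_mul, Equiv.Perm.mul_apply, e, F.ρ_add, F.sym_line (F.sym_rho g) hg, co_add, co_line]
  simp
  rfl

theorem part_herm {g : X} (hg : g ∈ F.K0) (x y : Fin 4 → F4) :
    Cfsg.hermForm 4 F4 2 (F.part g x) (F.part g y) = Cfsg.hermForm 4 F4 2 x y := by
  have hB : ∀ a b : Fin 4 → F4, F.B (F.low a) (F.low b) = (Cfsg.hermForm 4 F4 2 a b).im := fun a b => by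
    rw [B_co, Cfsg.hermForm, Fin.sum_univ_succ, Fin.sum_univ_succ]
    simp [co_low]
  have key : ∀ a b, (Cfsg.hermForm 4 F4 2 (F.part g a) (F.part g b)).im = (Cfsg.hermForm 4 F4 2 a b).im := fun a b => by
    rw [← hB, ← hB, ← F.B_inv g (F.low a) (F.low b), F.sym_low (F.sym_rho g) hg a, F.sym_low (F.sym_rho g) hg b,
      F.B_co, F.B_co]
    congr 1
    simp only [co_add, co_low, co_line, Fin.sum_univ_succ]
    simp [part]
    rw [← add_assoc (F.co 0 _ * _), f4_two, zero_add]
  refine (f4_herm _ _).mpr ⟨key x y, ?_⟩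
  have h := key (w4 • x) y
  rw [F.part_om] at h
  simpa [Cfsg.hermForm, Finset.mul_sum, mul_assoc] using h

/-- The matrix representation. -/
noncomputable def partHom : F.K0 →* Matrix (Fin 4) (Fin 4) F4 where
  toFun g := F.partMat g
  map_one' := by
    refine Matrix.toLin'.injective (LinearMap.ext fun x => ?_)
    rw [Matrix.toLin'_apply, Matrix.toLin'_apply, one_mulVec, partMat_mulVec]
    funext i
    show F.co _ (F.ρ _ (F.low x)) = _
    rw [Subgroup.coe_one, map_one, Equiv.Perm.one_apply, co_low]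
    rfl
  map_mul' g h := by
    refine Matrix.toLin'.injective (LinearMap.ext fun x => ?_)
    rw [Matrix.toLin'_apply, Matrix.toLin'_apply, ← mulVec_mulVec, partMat_mulVec, partMat_mulVec, partMat_mulVec]
    exact F.part_mul g.2 h.2 x

theorem det_ne (g : F.K0) : (F.partHom g).det ≠ 0 := fun h0 => by
  have h := congrArg Matrix.det (map_mul F.partHom g g⁻¹)
  rw [mul_inv_cancel, map_one, det_one, det_mul, h0, zero_mul] at h
  exact one_ne_zero h

/-- The normalised matrix. -/
noncomputable def toSU : F.K0 →* ↥(Cfsg.SU 4 F4 2) where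
  toFun g := ⟨⟨(F.partHom g).det ^ 2 • F.partHom g, by
      rw [det_smul, Fintype.card_fin, ← pow_mul, ← pow_succ, show 2 * 4 + 1 = 3 * 3 from rfl, pow_mul,
        f4_cube _ (F.det_ne g), one_pow]⟩, fun u v => by
      show Cfsg.hermForm 4 F4 2 (((F.partHom g).det ^ 2 • F.partHom g) *ᵥ u) (((F.partHom g).det ^ 2 • F.partHom g) *ᵥ v) = _
      rw [smul_mulVec, smul_mulVec]
      show Cfsg.hermForm 4 F4 2 (_ • (F.partMat g *ᵥ u)) (_ • (F.partMat g *ᵥ v)) = _
      rw [partMat_mulVec, partMat_mulVec, ← F.part_herm g.2 u v]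
      have e : ((F.partHom g).det ^ 2) * ((F.partHom g).det ^ 2) ^ 2 = 1 := by
        rw [← pow_mul, ← pow_add, show 2 + 2 * 2 = 3 * 2 from rfl, pow_mul, f4_cube _ (F.det_ne g), one_pow]
      simp only [Cfsg.hermForm, Pi.smul_apply, smul_eq_mul, mul_pow]
      refine Finset.sum_congr rfl fun i _ => ?_
      linear_combination (F.part g u i * F.part g v i ^ 2) * e⟩
  map_one' := Subtype.ext (Subtype.ext (by
    show (F.partHom 1).det ^ 2 • F.partHom 1 = 1
    rw [map_one, det_one, one_pow, one_smul]))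
  map_mul' g h := Subtype.ext (Subtype.ext (by
    show (F.partHom (g * h)).det ^ 2 • F.partHom (g * h) =
      ((F.partHom g).det ^ 2 • F.partHom g) * ((F.partHom h).det ^ 2 • F.partHom h)
    rw [map_mul, det_mul, mul_pow, Matrix.smul_mul, Matrix.mul_smul, smul_smul]))

theorem scalar_of_ker {g : F.K0} (hg : g ∈ F.toSU.ker) : F.partHom g = (F.partHom g).det • (1 : Matrix (Fin 4) (Fin 4) F4) := by
  have h : (F.partHom g).det ^ 2 • F.partHom g = 1 :=
    congrArg (fun a : ↥(Cfsg.SU 4 F4 2) => a.1.1) (MonoidHom.mem_ker.mp hg)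
  conv_rhs => rw [← h, smul_smul, ← pow_succ', f4_cube _ (F.det_ne g), one_smul]

end FSetting

end Cfsg.Lib.LargeFischer
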