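import Cfsg.Agent.LargeFischer.UnitaryFour

/-!
The point stabiliser maps isomorphically onto the unitary group of dimension four.
-/

set_option autoImplicit false
set_option maxRecDepth 100000
set_option maxHeartbeats 1000000
set_option linter.unusedSectionVars false
set_option linter.style.haveILetI false

namespace Cfsg.Lib.LargeFischer

open Matrix Finset

universe u v w

theorem wp_add : ∀ a b : ZMod 3, wp (a + b) = wp a * wp b := by decide +kernel

theorem f4_span : ∀ c : F4, c ≠ 0 → ∀ y : F4, y = 0 ∨ ∃ k, y = wp k * c := by decide +kernel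

theorem one_add_wp : ∀ (k : ZMod 3) (c : F4), k ≠ 0 → c ≠ 0 → c + wp k * c ≠ 0 := by decide +kernel

theorem exists_third : ∀ i j : Fin 4, i ≠ j → ∃ l : Fin 4, l ≠ i ∧ l ≠ j := by decide

namespace FSetting

attribute [local irreducible] co emb mk6

variable {X : Type u} [Group X] {S : Type w} [Group S] {V : Type v} [AddCommGroup V] [Finite V]
  (F : FSetting X S V)

/-- The torus fixing the base point. -/
theorem exists_torus {d : Fin 4 → ZMod 3} (hd : ∑ i, d i = 0) :
    ∃ z : C5, F.E.α z ∈ F.K0 ∧ F.Φ z = vecCons 0 (vecCons 0 d) := by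
  obtain ⟨z, hz⟩ := F.exists_radical_coord (d := vecCons 0 (vecCons 0 d)) (by
    rw [Fin.sum_univ_succ, Fin.sum_univ_succ]; simpa using hd)
  refine ⟨z, F.co_ext (a := F.W.t z F.v0) fun i => ?_, hz⟩
  rw [co_t, hz, co_v0]
  refine Fin.cases (one_mul _) (fun i => Fin.cases (one_mul _) (fun i => ?_) i) i
  fin_cases i <;> simp [v0c]

/-- Monomial elements of the stabiliser exchanging two of the last four planes. -/
theorem exists_perm (a b : Fin 4) (hab : a ≠ b) : ∃ n ∈ F.K0, ∃ e : Fin 6 → ZMod 3, e 0 = 0 ∧ e 1 = 0 ∧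
    ∀ v i, F.co ((Equiv.swap (0 : Fin 6) 1 * Equiv.swap a.succ.succ b.succ.succ : Equiv.Perm (Fin 6)) i) (F.ρ n v) = wp (e i) * F.co i v := by
  have hne : a.succ.succ ≠ b.succ.succ := fun h => hab (Fin.succ_injective _ (Fin.succ_injective _ h))
  set σ : Equiv.Perm (Fin 6) := Equiv.swap 0 1 * Equiv.swap a.succ.succ b.succ.succ with hσ
  obtain ⟨g, hg⟩ := F.exists_even σ (by
    rw [Equiv.Perm.mem_alternatingGroup, hσ, map_mul, Equiv.Perm.sign_swap (by decide : (0 : Fin 6) ≠ 1),
      Equiv.Perm.sign_swap hne]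
    rfl)
  obtain ⟨e, he⟩ := F.monomial (Subgroup.inclusion F.Lhat_le g)
  have hco : ∀ v i, F.co (σ i) (F.ρ (g : X) v) = wp (e i) * F.co i v := fun v i => by
    refine code4_bijective.1 ?_
    rw [wp_mul]
    have h := he (fun j => code4 (F.co j v)) (fun j => code4 (F.co j (F.ρ (g : X) v))) (by
      rw [F.dec_code, F.dec_code, mk6_co, mk6_co]; rfl) i
    rw [show F.π (Subgroup.inclusion F.Lhat_le g) = σ from hg] at h
    exact h
  obtain ⟨z, hz⟩ := F.exists_radical_coord (d := ![- e 1, - e 0, e 0 + e 1, 0, 0, 0]) (by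
    simp [Fin.sum_univ_six])
  have hσ0 : σ 0 = 1 := by
    rw [hσ, Equiv.Perm.mul_apply, Equiv.swap_apply_of_ne_of_ne (Fin.succ_ne_zero _).symm (Fin.succ_ne_zero _).symm,
      Equiv.swap_apply_left]
  have hσ1 : σ 1 = 0 := by
    rw [hσ, Equiv.Perm.mul_apply, Equiv.swap_apply_of_ne_of_ne (Fin.succ_succ_ne_one a).symm (Fin.succ_succ_ne_one b).symm,
      Equiv.swap_apply_right]
  have hn : ∀ v i, F.co (σ i) (F.ρ (F.E.α z * g) v) = wp (e i + F.Φ z (σ i)) * F.co i v := fun v i => by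
    rw [map_mul]
    show F.co (σ i) (F.ρ (F.E.α z) (F.ρ (g : X) v)) = _
    rw [← F.W_t, co_t, hco, ← mul_assoc, ← wp_add, add_comm]
  have h0 : e 0 + F.Φ z (σ 0) = 0 := by rw [hσ0, hz]; simp
  have h1 : e 1 + F.Φ z (σ 1) = 0 := by rw [hσ1, hz]; simp
  refine ⟨F.E.α z * g, F.co_ext fun j => ?_, fun i => e i + F.Φ z (σ i), h0, h1, hn⟩
  obtain ⟨i, rfl⟩ := σ.surjective j
  rw [hn, co_v0, co_v0]
  refine Fin.cases ?_ (fun i => Fin.cases ?_ (fun i => ?_) i) i
  · rw [h0, hσ0]; exact one_mul _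
  · rw [show (Fin.succ (0 : Fin 5) : Fin 6) = 1 from rfl, h1, hσ1]; exact one_mul _
  · have hz' : ∀ j : Fin 4, v0c j.succ.succ = 0 := fun j => by fin_cases j <;> rfl
    rw [hz', mul_zero, hσ, Equiv.Perm.mul_apply]
    rcases eq_or_ne i a with rfl | hia
    · rw [Equiv.swap_apply_left, Equiv.swap_apply_of_ne_of_ne (Fin.succ_ne_zero _) (Fin.succ_succ_ne_one _), hz']
    rcases eq_or_ne i b with rfl | hib
    · rw [Equiv.swap_apply_right, Equiv.swap_apply_of_ne_of_ne (Fin.succ_ne_zero _) (Fin.succ_succ_ne_one _), hz']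
    rw [Equiv.swap_apply_of_ne_of_ne (a := a.succ.succ) (b := b.succ.succ)
      (fun h => hia (Fin.succ_injective _ (Fin.succ_injective _ h)))
      (fun h => hib (Fin.succ_injective _ (Fin.succ_injective _ h))),
      Equiv.swap_apply_of_ne_of_ne (Fin.succ_ne_zero _) (Fin.succ_succ_ne_one _), hz']

/-- The elements acting trivially on the four by four part. -/
noncomputable def U0 : Subgroup F.K0 := F.partHom.ker

theorem U0_conj (n : F.K0) {g : F.K0} (hg : g ∈ F.U0) : n * g * n⁻¹ ∈ F.U0 := by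
  unfold U0 at hg ⊢
  exact (MonoidHom.normal_ker F.partHom).conj_mem g hg n

/-- The shift of an element. -/
noncomputable def shiftOf (g : X) (i : Fin 4) : F4 := F.co 0 (F.ρ g (F.low (Pi.single i 1)))

theorem U0_low {g : F.K0} (hg : g ∈ F.U0) (x : Fin 4 → F4) :
    F.ρ (g : X) (F.low x) = F.low x + F.line (∑ i, x i * F.shiftOf g i) := by
  have h1 : ∀ y, F.part (g : X) y = y := fun y => by
    rw [← F.partMat_mulVec, show F.partMat (g : X) = 1 from MonoidHom.mem_ker.mp hg, one_mulVec]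
  rw [F.sym_low (F.sym_rho g) g.2 x]
  congr 1
  · congr 1
    exact h1 x
  · congr 1
    let L : (Fin 4 → F4) →+ F4 := AddMonoidHom.mk' (fun y => F.co 0 (F.ρ (g : X) (F.low y))) fun a b => by
      rw [low_add, F.ρ_add, co_add]
    have hL : ∀ y, L (w4 • y) = w4 * L y := fun y => by
      show F.co 0 _ = w4 * F.co 0 _
      rw [← om_low, F.om_comm, co_om]
    show L x = ∑ i, x i * L (Pi.single i 1)
    conv_lhs => rw [show x = ∑ i, x i • (Pi.single i 1 : Fin 4 → F4) from pi_eq_sum_univ' x]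
    rw [map_sum]
    refine Finset.sum_congr rfl fun i _ => ?_
    rcases f4_cases (x i) with h | h | h | h <;> rw [h]
    · simp
    · simp
    · exact hL _
    · rw [add_smul, map_add, hL, one_smul, add_mul, one_mul]

theorem low_single (i : Fin 4) (c : F4) (g : F.K0) (hg : g ∈ F.U0) :
    F.ρ (g : X) (F.low (Pi.single i c)) = F.low (Pi.single i c) + F.line (c * F.shiftOf g i) := by
  rw [F.U0_low hg]
  congr 2
  rw [Finset.sum_eq_single i (fun j _ hj => by rw [Pi.single_eq_of_ne hj, zero_mul]) (by simp), Pi.single_eq_same]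

theorem shift_mul (g h : F.K0) (hg : g ∈ F.U0) (hh : h ∈ F.U0) :
    F.shiftOf ((g * h : F.K0) : X) = F.shiftOf g + F.shiftOf h := funext fun i => by
  show F.co 0 _ = _
  rw [Subgroup.coe_mul, map_mul, Equiv.Perm.mul_apply, F.low_single i 1 h hh, F.ρ_add, F.low_single i 1 g hg,
    F.sym_line (F.sym_rho g) g.2, co_add, co_add, co_line, co_line, co_low]
  simp

/-- The set of shifts. -/
noncomputable def shiftHom : F.U0 →* Multiplicative (Fin 4 → F4) :=
  MonoidHom.mk' (fun g => Multiplicative.ofAdd (F.shiftOf ((g : F.K0) : X))) fun g h => by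
    rw [Subgroup.coe_mul, F.shift_mul _ _ g.2 h.2]; rfl

/-- The shifts form an additive subgroup. -/
noncomputable def shifts : AddSubgroup (Fin 4 → F4) := Subgroup.toAddSubgroup' F.shiftHom.range

theorem mem_shifts {y : Fin 4 → F4} : y ∈ F.shifts ↔ ∃ g ∈ F.U0, F.shiftOf (g : X) = y := by
  show Multiplicative.ofAdd y ∈ F.shiftHom.range ↔ _
  constructor
  · rintro ⟨g, hg⟩
    exact ⟨g.1, g.2, congrArg Multiplicative.toAdd hg⟩
  · rintro ⟨g, hg, h⟩
    exact ⟨⟨g, hg⟩, congrArg Multiplicative.ofAdd h⟩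

theorem shifts_torus {y : Fin 4 → F4} (hy : y ∈ F.shifts) {d : Fin 4 → ZMod 3} (hd : ∑ i, d i = 0) :
    (fun i => wp (d i) * y i) ∈ F.shifts := by
  obtain ⟨g, hg, rfl⟩ := F.mem_shifts.mp hy
  obtain ⟨z, hz, hΦ⟩ := F.exists_torus (d := -d) (by simp [hd])
  let n : F.K0 := ⟨F.E.α z, hz⟩
  refine F.mem_shifts.mpr ⟨n * g * n⁻¹, F.U0_conj n hg, ?_⟩
  funext i
  have e1 : F.ρ (F.E.α z)⁻¹ (F.low (Pi.single i 1)) = F.low (Pi.single i (wp (d i))) := by
    apply (F.ρ (F.E.α z)).injective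
    rw [← Equiv.Perm.mul_apply, ← map_mul, mul_inv_cancel, map_one]
    refine F.co_ext fun j => ?_
    show F.co j (F.low (Pi.single i 1)) = F.co j (F.W.t z (F.low (Pi.single i (wp (d i)))))
    rw [co_t, hΦ, co_low, co_low]
    refine Fin.cases (by simp) (fun j => Fin.cases (by simp) (fun j => ?_) j) j
    simp only [cons_val_succ]
    rcases eq_or_ne j i with rfl | hji
    · rw [Pi.single_eq_same, Pi.single_eq_same, Pi.neg_apply, mul_comm, wp_inj_neg]
    · rw [Pi.single_eq_of_ne hji, Pi.single_eq_of_ne hji, mul_zero]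
  show F.co 0 (F.ρ (F.E.α z * (g : X) * (F.E.α z)⁻¹) _) = _
  rw [map_mul, map_mul, Equiv.Perm.mul_apply, Equiv.Perm.mul_apply, e1, F.low_single i _ g hg, F.ρ_add, co_add,
    F.sym_line (F.sym_rho _) hz, co_line, ← F.W_t, co_t, co_low, hΦ]
  simp

theorem shifts_perm {a b : Fin 4} (hab : a ≠ b) {c : F4} (hy : Pi.single a c ∈ F.shifts) :
    ∃ k, (Pi.single b (wp k * c) : Fin 4 → F4) ∈ F.shifts := by
  obtain ⟨g, hg, hgc⟩ := F.mem_shifts.mp hy
  obtain ⟨n, hn, e, -, -, hco⟩ := F.exists_perm a b hab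
  let n' : F.K0 := ⟨n, hn⟩
  refine ⟨- e a.succ.succ, F.mem_shifts.mpr ⟨n' * g * n'⁻¹, F.U0_conj n' hg, ?_⟩⟩
  funext j
  have e1 : ∀ i : Fin 4, (Equiv.swap (0 : Fin 6) 1 * Equiv.swap a.succ.succ b.succ.succ) i.succ.succ =
      (Equiv.swap a b i).succ.succ := fun i => by
    rw [Equiv.Perm.mul_apply, (Fin.succ_injective 5).swap_apply, (Fin.succ_injective 4).swap_apply,
      Equiv.swap_apply_of_ne_of_ne (Fin.succ_ne_zero _) (Fin.succ_succ_ne_one _)]
  have hlow : ∀ i : Fin 4, F.ρ n (F.low (Pi.single i (wp (- e i.succ.succ)))) = F.low (Pi.single (Equiv.swap a b i) 1) := by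
    intro i
    refine F.co_ext fun y => ?_
    obtain ⟨m, rfl⟩ := (Equiv.swap (0 : Fin 6) 1 * Equiv.swap a.succ.succ b.succ.succ).surjective y
    rw [hco, co_low]
    refine Fin.cases ?_ (fun m => Fin.cases ?_ (fun m => ?_) m) m
    · rw [Equiv.Perm.mul_apply, Equiv.swap_apply_of_ne_of_ne (Fin.succ_ne_zero _).symm (Fin.succ_ne_zero _).symm,
        Equiv.swap_apply_left, co_low]
      simp
    · rw [Equiv.Perm.mul_apply, show (Fin.succ (0 : Fin 5) : Fin 6) = 1 from rfl,
        Equiv.swap_apply_of_ne_of_ne (Fin.succ_succ_ne_one a).symm (Fin.succ_succ_ne_one b).symm,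
        Equiv.swap_apply_right, co_low]
      simp
    · rw [e1, co_low]
      simp only [cons_val_succ]
      rcases eq_or_ne m i with rfl | hmi
      · rw [Pi.single_eq_same, Pi.single_eq_same, wp_inj_neg]
      · rw [Pi.single_eq_of_ne hmi, Pi.single_eq_of_ne (fun h => hmi ((Equiv.swap a b).injective h)), mul_zero]
  obtain ⟨i, rfl⟩ := (Equiv.swap a b).surjective j
  show F.co 0 (F.ρ (n * (g : X) * n⁻¹) _) = _
  rw [map_mul, map_mul, Equiv.Perm.mul_apply, Equiv.Perm.mul_apply, map_inv, ← hlow i, Equiv.Perm.coe_inv,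
    Equiv.symm_apply_apply, F.low_single i _ g hg, F.ρ_add, hlow, co_add, F.sym_line (F.sym_rho _) hn, co_line, co_low, hgc]
  rcases eq_or_ne i a with rfl | hia
  · rw [Equiv.swap_apply_left]; simp
  · rw [Pi.single_eq_of_ne hia, Pi.single_eq_of_ne (fun h => hia ((Equiv.swap a b).injective (h.trans (Equiv.swap_apply_left a b).symm)))]
    simp

theorem shifts_bot : F.shifts = ⊥ := by
  classical
  by_contra hne
  obtain ⟨⟨y, hy⟩, hy0⟩ := AddSubgroup.ne_bot_iff_exists_ne_zero.mp hne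
  obtain ⟨i, hi⟩ := Function.ne_iff.mp (fun e : y = 0 => hy0 (Subtype.ext e))
  have hi' : y i ≠ 0 := hi
  -- isolate one coordinate
  obtain ⟨c, hc, hci⟩ : ∃ c : F4, c ≠ 0 ∧ (Pi.single i c : Fin 4 → F4) ∈ F.shifts := by
    have hsplit : ∀ {y : Fin 4 → F4}, y ∈ F.shifts → ∀ j l : Fin 4, i ≠ j → i ≠ l → j ≠ l → y i ≠ 0 →
        ∃ y' : Fin 4 → F4, y' ∈ F.shifts ∧ y' i ≠ 0 ∧ (∀ m, m ≠ i → m ≠ j → y' m = 0) ∧ (y j = 0 → y' j = 0) := by
      intro y hy j l hij hil hjl hyi
      let d : Fin 4 → ZMod 3 := fun m => if m = i then 1 else if m = j then -1 else 0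
      have hd : ∑ m, d m = 0 := by
        rw [Finset.sum_eq_add i j hij (fun m _ hm => by simp [d, hm.1, hm.2]) (by simp) (by simp)]
        simp [d, hij.symm]
      refine ⟨y + fun m => wp (d m) * y m, add_mem hy (F.shifts_torus hy hd), ?_, fun m h1 h2 => ?_, fun h => ?_⟩
      · simp only [Pi.add_apply, d, if_true]
        exact one_add_wp _ _ (by decide) hyi
      · simp only [Pi.add_apply, d, if_neg h1, if_neg h2]
        rw [show wp 0 = 1 from rfl, one_mul, f4_two]
      · simp [h]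
    obtain ⟨j, hj⟩ : ∃ j : Fin 4, j ≠ i := exists_ne i
    obtain ⟨l, hli, hlj⟩ := exists_third i j hj.symm
    obtain ⟨y1, hy1, hy1i, hy1o, -⟩ := hsplit hy j l hj.symm hli.symm hlj.symm hi'
    obtain ⟨y2, hy2, hy2i, hy2o, hy2z⟩ := hsplit hy1 l j hli.symm hj.symm hlj hy1i
    refine ⟨y2 i, hy2i, ?_⟩
    convert hy2 using 1
    funext m
    rcases eq_or_ne m i with rfl | hm
    · rw [Pi.single_eq_same]
    · rw [Pi.single_eq_of_ne hm]
      rcases eq_or_ne m l with rfl | hml
      · exact (hy2z (hy1o m hm hlj)).symm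
      · exact (hy2o m hm hml).symm
  have hall : ∀ j, ∀ a : F4, (Pi.single j a : Fin 4 → F4) ∈ F.shifts := by
    intro j a
    obtain ⟨c', hc', hcj⟩ : ∃ c' : F4, c' ≠ 0 ∧ (Pi.single j c' : Fin 4 → F4) ∈ F.shifts := by
      rcases eq_or_ne i j with rfl | hij
      · exact ⟨c, hc, hci⟩
      · obtain ⟨k, hk⟩ := F.shifts_perm hij hci
        exact ⟨_, mul_ne_zero (fun h => by have := wp_inj_neg k; rw [h, zero_mul] at this; exact zero_ne_one this) hc, hk⟩
    rcases f4_span c' hc' a with rfl | ⟨k, rfl⟩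
    · rw [Pi.single_zero]; exact zero_mem _
    obtain ⟨l, hlj⟩ : ∃ l : Fin 4, l ≠ j := exists_ne j
    have h := F.shifts_torus hcj (d := fun m => if m = j then k else if m = l then -k else 0) (by
      rw [Finset.sum_eq_add j l hlj.symm (fun m _ hm => by simp [hm.1, hm.2]) (by simp) (by simp)]
      simp [hlj])
    convert h using 1
    funext m
    rcases eq_or_ne m j with rfl | hm
    · simp
    · simp [Pi.single_eq_of_ne hm]
  have htop : ∀ y : Fin 4 → F4, y ∈ F.shifts := fun y => by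
    rw [← Finset.univ_sum_single y]
    exact sum_mem fun j _ => hall j _
  have hs : Function.Surjective F.shiftHom := fun y => by
    obtain ⟨g, hg, h⟩ := F.mem_shifts.mp (htop y.toAdd)
    exact ⟨⟨g, hg⟩, congrArg Multiplicative.ofAdd h⟩
  haveI := F.finiteX
  have hd := (Subgroup.card_dvd_of_surjective _ hs).trans (Subgroup.card_subgroup_dvd_card F.U0)
  rw [F.K0_card, Nat.card_congr Multiplicative.toAdd, Nat.card_pi] at hd
  simp [card_F4] at hd

theorem U0_fix {g : F.K0} (hg : g ∈ F.U0) (x : Fin 4 → F4) : F.ρ (g : X) (F.low x) = F.low x := by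
  have h : F.shiftOf (g : X) = 0 := by
    have := F.mem_shifts.mpr ⟨g, hg, rfl⟩
    rwa [shifts_bot, AddSubgroup.mem_bot] at this
  rw [F.U0_low hg, h]
  simp only [Pi.zero_apply, mul_zero, Finset.sum_const_zero]
  rw [show F.line 0 = 0 from F.co_ext fun i => by
    rw [co_line, co_zero]; refine Fin.cases rfl (fun i => Fin.cases rfl (fun i => rfl) i) i, add_zero]

theorem U0_card : Nat.card F.U0 ≤ 2 := by
  classical
  haveI := F.finiteX
  let f : F.U0 → Bool := fun g => decide (∀ v, F.ρ ((g : F.K0) : X) v = v)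
  have hf : Function.Injective f := by
    intro g h e
    have hg := F.fix_or_swap (F.sym_rho ((g : F.K0) : X)) (g : F.K0).2 (F.U0_fix g.2)
    have hh := F.fix_or_swap (F.sym_rho ((h : F.K0) : X)) (h : F.K0).2 (F.U0_fix h.2)
    refine Subtype.ext (Subtype.ext (F.ρ_inj (Equiv.ext fun v => ?_)))
    simp only [f, decide_eq_decide] at e
    by_cases hgi : ∀ v, F.ρ ((g : F.K0) : X) v = v
    · rw [hgi, e.mp hgi]
    · rw [hg.resolve_left hgi, hh.resolve_left (fun h' => hgi (e.mpr h'))]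
  refine (Nat.card_le_card_of_injective f hf).trans ?_
  simp

theorem toSU_bijective : Function.Bijective F.toSU := by
  classical
  haveI := F.finiteX
  let dh : F.K0 →* F4 := (Matrix.detMonoidHom).comp F.partHom
  let du : F.toSU.ker →* F4ˣ := dh.toHomUnits.comp F.toSU.ker.subtype
  have hker : du.ker.map F.toSU.ker.subtype ≤ F.U0 := by
    rintro _ ⟨g, hg, rfl⟩
    have h0 : du g = 1 := MonoidHom.mem_ker.mp hg
    have h1 : (F.partHom (g : F.K0)).det = 1 := by
      have h := congrArg Units.val h0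
      rw [Units.val_one] at h
      simp only [du, MonoidHom.comp_apply, MonoidHom.coe_toHomUnits] at h
      exact h
    show F.partHom (g : F.K0) = 1
    rw [F.scalar_of_ker g.2, h1, one_smul]
  have hc : Nat.card F.toSU.ker ≤ 6 := by
    rw [← du.ker.card_mul_index, Nat.card_congr (du.ker.equivMapOfInjective F.toSU.ker.subtype (Subgroup.subtype_injective _)).toEquiv]
    refine le_trans (Nat.mul_le_mul ((Subgroup.card_le_of_le hker).trans F.U0_card) ?_) (by norm_num : 2 * 3 ≤ 6)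
    rw [Subgroup.index_ker]
    refine (Finite.card_subtype_le _).trans ?_
    rw [Nat.card_eq_fintype_card, Fintype.card_units, card_F4]
  have hidx : F.toSU.range.index = Nat.card F.toSU.ker := by
    have h1 := F.toSU.range.card_mul_index
    have h2 := F.toSU.ker.card_mul_index
    rw [Subgroup.index_ker] at h2
    have hs : Nat.card ↥(Cfsg.SU 4 F4 2) = 25920 := by
      rw [← Nat.card_congr ((QuotientGroup.quotientBot (G := ↥(Cfsg.SU 4 F4 2))).symm.trans
        (QuotientGroup.quotientMulEquivOfEq center_su_four.symm)).symm.toEquiv]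
      exact psu_four.2
    rw [F.K0_card] at h2
    rw [hs, ← h2, mul_comm (Nat.card F.toSU.ker)] at h1
    exact Nat.eq_of_mul_eq_mul_left Nat.card_pos h1
  have htop := su_four_index _ (by rw [hidx]; omega)
  rw [htop, Subgroup.index_top] at hidx
  exact ⟨(MonoidHom.ker_eq_bot_iff _).mp (Subgroup.card_eq_one.mp hidx.symm), MonoidHom.range_eq_top.mp htop⟩

end FSetting

end Cfsg.Lib.LargeFischer
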